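import Mathlib

/-! A quaternion Sylow 2-subgroup `S` of order at least 16: the centraliser and normaliser of
`D = [S,S]` and the trivial-intersection set attached to `D`. -/

set_option autoImplicit false

open scoped commutatorElement

namespace CfsgLib.Char.Exceptional

/-- In a cyclic subgroup, an element killed by the order of a subgroup lies in it. -/
theorem mem_of_pow_card_eq_one {G : Type*} [Group G] [Finite G] {A K : Subgroup G} [IsCyclic A]
    (hKA : K ≤ A) {x : G} (hx : x ∈ A) (h : x ^ Nat.card K = 1) : x ∈ K := by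
  classical
  haveI := Fintype.ofFinite G
  let s : Finset A := Finset.univ.filter fun a => a ^ Nat.card K = 1
  let t : Finset A := Finset.univ.filter fun a : A => (a : G) ∈ K
  have hts : t ⊆ s := fun a ha => by
    simp only [t, s, Finset.mem_filter, Finset.mem_univ, true_and] at ha ⊢
    exact Subtype.ext (by
      rw [Subgroup.coe_pow, Subgroup.coe_one]
      exact orderOf_dvd_iff_pow_eq_one.1 (Subgroup.orderOf_dvd_natCard _ ha))
  have htc : t.card = Nat.card K := by
    rw [← Fintype.card_subtype, ← Nat.card_eq_fintype_card]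
    exact Nat.card_congr
      { toFun := fun a => ⟨(a.1 : G), a.2⟩
        invFun := fun k => ⟨⟨(k : G), hKA k.2⟩, k.2⟩
        left_inv := fun _ => rfl
        right_inv := fun _ => rfl }
  have hst := Finset.eq_of_subset_of_card_le hts (htc ▸ IsCyclic.card_pow_eq_one_le Nat.card_pos)
  have : (⟨x, hx⟩ : A) ∈ s := by
    simp only [s, Finset.mem_filter, Finset.mem_univ, true_and]
    exact Subtype.ext h
  rw [← hst] at this
  exact (Finset.mem_filter.1 this).2

/-- A cyclic Sylow 2-subgroup has a normal complement, consisting of the elements of odd order. -/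
theorem exists_odd_complement_of_cyclic {G : Type*} [Group G] [Finite G] (P : Sylow 2 G)
    (hP : IsCyclic P) : ∃ K : Subgroup G, Odd (Nat.card K) ∧ K ⊔ (P : Subgroup G) = ⊤ ∧
      ∀ x : G, x ∈ K ↔ Odd (orderOf x) := by
  by_cases h2 : 2 ∣ Nat.card G
  · have hmin : (Nat.card G).minFac = 2 := (Nat.minFac_eq_two_iff _).2 h2
    set τ := MonoidHom.transferSylow P (hP.normalizer_le_centralizer hmin)
    have hc : τ.ker.IsComplement' P := IsCyclic.isComplement' hmin hP
    have hodd : Odd (Nat.card τ.ker) := by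
      rw [← Nat.not_even_iff_odd, even_iff_two_dvd]
      exact MonoidHom.not_dvd_card_ker_transferSylow P _
    refine ⟨τ.ker, hodd, hc.sup_eq_top, fun x => ⟨fun hx =>
      hodd.of_dvd_nat (Subgroup.orderOf_dvd_natCard _ hx), fun hx => ?_⟩⟩
    rw [MonoidHom.mem_ker, ← orderOf_eq_one_iff]
    obtain ⟨k, hk⟩ := P.2.exists_card_eq
    refine Nat.eq_one_of_dvd_coprimes ((Nat.coprime_two_right.2 hx).pow_right k) (orderOf_map_dvd _ x) ?_
    rw [← hk]
    exact orderOf_dvd_natCard _
  · refine ⟨⊤, ?_, by simp, fun x => ⟨fun _ => ?_, fun _ => trivial⟩⟩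
    · rwa [Subgroup.card_top, ← Nat.not_even_iff_odd, even_iff_two_dvd]
    · rw [← Nat.not_even_iff_odd, even_iff_two_dvd]
      exact fun h => h2 (h.trans (orderOf_dvd_natCard x))

variable {G : Type*} [Group G] [Finite G]

/-- Generators of a quaternion Sylow subgroup. -/
theorem quat_generators (S : Sylow 2 G) {n : ℕ} (e : (S : Subgroup G) ≃* QuaternionGroup (2 ^ (n + 2)))
    (D : Subgroup G) (hD : D = ⁅(S : Subgroup G), (S : Subgroup G)⁆) :
    ∃ α β : G, α ∈ (S : Subgroup G) ∧ β ∈ (S : Subgroup G) ∧ orderOf α = 2 ^ (n + 3) ∧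
      β * α * β⁻¹ = α⁻¹ ∧ β ^ 2 = α ^ (2 ^ (n + 2)) ∧ D = Subgroup.zpowers (α ^ 2) ∧
      (∀ s ∈ (S : Subgroup G), ∃ i : ℕ, s = α ^ i ∨ s = α ^ i * β) ∧
      Nat.card (S : Subgroup G) = 2 * 2 ^ (n + 3) := by
  set m := 2 ^ (n + 2) with hm
  haveI : NeZero m := ⟨by positivity⟩
  set f : QuaternionGroup m →* G := (S : Subgroup G).subtype.comp e.symm.toMonoidHom with hfdef
  have hfi : Function.Injective f := (Subgroup.subtype_injective _).comp e.symm.injective
  have hfS : ∀ q, f q ∈ (S : Subgroup G) := fun q => (e.symm q).2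
  have hrange : ∀ s ∈ (S : Subgroup G), ∃ q, f q = s := fun s hs => ⟨e ⟨s, hs⟩, by simp [hfdef]⟩
  have hq : ∀ q : QuaternionGroup m, ∃ i : ℕ,
      q = QuaternionGroup.a 1 ^ i ∨ q = QuaternionGroup.a 1 ^ i * QuaternionGroup.xa 0 := by
    rintro (i | i)
    · exact ⟨i.val, Or.inl (by rw [QuaternionGroup.a_one_pow]; simp)⟩
    · exact ⟨(-i).val, Or.inr (by rw [QuaternionGroup.a_one_pow, QuaternionGroup.a_mul_xa]; simp)⟩
  have hinv : QuaternionGroup.xa 0 * QuaternionGroup.a 1 * (QuaternionGroup.xa 0)⁻¹ =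
      (QuaternionGroup.a 1 : QuaternionGroup m)⁻¹ := by
    rw [mul_inv_eq_iff_eq_mul, eq_inv_mul_iff_mul_eq, QuaternionGroup.xa_mul_a,
      QuaternionGroup.a_mul_xa]
    simp
  refine ⟨f (QuaternionGroup.a 1), f (QuaternionGroup.xa 0), hfS _, hfS _, ?_, ?_, ?_, ?_, ?_, ?_⟩
  · rw [orderOf_injective f hfi, QuaternionGroup.orderOf_a_one, hm]; ring
  · rw [← map_inv, ← map_mul, ← map_mul, hinv, map_inv]
  · rw [← map_pow, ← map_pow, QuaternionGroup.xa_sq, QuaternionGroup.a_one_pow]
  · set α := f (QuaternionGroup.a 1) with hα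
    set β := f (QuaternionGroup.xa 0) with hβ
    have hba : β * α * β⁻¹ = α⁻¹ := by rw [hα, hβ, ← map_inv, ← map_mul, ← map_mul, hinv, map_inv]
    have hcomm : β⁻¹ * α * β = α⁻¹ := by
      calc β⁻¹ * α * β = (β⁻¹ * (β * α * β⁻¹) * β)⁻¹ := by rw [hba]; group
        _ = _ := by group
    rw [hD]
    refine le_antisymm ?_ ?_
    · rw [Subgroup.commutator_le]
      intro g hg h hh
      obtain ⟨p, rfl⟩ := hrange g hg
      obtain ⟨q, rfl⟩ := hrange h hh
      rw [← map_commutatorElement, Subgroup.mem_zpowers_iff]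
      have key : ∀ p q : QuaternionGroup m, ∃ j : ZMod (2 * m), ⁅p, q⁆ = QuaternionGroup.a (2 * j) := by
        have hxainv : ∀ i : ZMod (2 * m),
            (QuaternionGroup.xa i : QuaternionGroup m)⁻¹ = QuaternionGroup.xa ((m : ZMod (2 * m)) + i) := fun i => rfl
        have hainv : ∀ i : ZMod (2 * m),
            (QuaternionGroup.a i : QuaternionGroup m)⁻¹ = QuaternionGroup.a (-i) := fun i => rfl
        have h2m : (2 : ZMod (2 * m)) * (m : ZMod (2 * m)) = 0 := by
          exact_mod_cast ZMod.natCast_self (2 * m)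
        rintro (i | i) (j | j)
        · exact ⟨0, by simp [commutatorElement_def, hainv, QuaternionGroup.a_mul_a]⟩
        · refine ⟨i, ?_⟩
          simp only [commutatorElement_def, hainv, hxainv, QuaternionGroup.a_mul_xa,
            QuaternionGroup.xa_mul_a, QuaternionGroup.xa_mul_xa]
          congr 1; linear_combination h2m
        · refine ⟨-j, ?_⟩
          simp only [commutatorElement_def, hainv, hxainv, QuaternionGroup.xa_mul_a,
            QuaternionGroup.xa_mul_xa, QuaternionGroup.a_mul_a]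
          congr 1; linear_combination h2m
        · refine ⟨j - i, ?_⟩
          simp only [commutatorElement_def, hxainv, QuaternionGroup.xa_mul_xa, QuaternionGroup.a_mul_xa]
          congr 1; linear_combination h2m
      obtain ⟨j, hj⟩ := key p q
      refine ⟨(j.val : ℤ), ?_⟩
      rw [hj, zpow_natCast, ← pow_mul, hα, ← map_pow, QuaternionGroup.a_one_pow]
      simp
    · rw [Subgroup.zpowers_le]
      have hA : α ∈ (S : Subgroup G) := hfS _
      have hB : β ∈ (S : Subgroup G) := hfS _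
      have h := Subgroup.commutator_mem_commutator hA hB
      convert h using 1
      rw [commutatorElement_def, pow_two]
      calc α * α = α * (α⁻¹)⁻¹ := by rw [inv_inv]
        _ = α * (β * α * β⁻¹)⁻¹ := by rw [hba]
        _ = α * (β * α⁻¹ * β⁻¹) := by group
        _ = α * β * α⁻¹ * β⁻¹ := by group
  · intro s hs
    obtain ⟨q, rfl⟩ := hrange s hs
    obtain ⟨i, hi⟩ := hq q
    exact ⟨i, hi.imp (fun h => by rw [h, map_pow]) (fun h => by rw [h, map_mul, map_pow])⟩
  · rw [Nat.card_congr e.toEquiv, Nat.card_eq_fintype_card, QuaternionGroup.card, hm]; ring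

/-- The local structure around `D`. -/
structure QuatLocal (S : Sylow 2 G) (n : ℕ) (D : Subgroup G) (α β : G) (K : Subgroup G) : Prop where
  α_mem : α ∈ (S : Subgroup G)
  β_mem : β ∈ (S : Subgroup G)
  orderOf_α : orderOf α = 2 ^ (n + 3)
  β_conj : β * α * β⁻¹ = α⁻¹
  β_sq : β ^ 2 = α ^ (2 ^ (n + 2))
  eq_zpowers : D = Subgroup.zpowers (α ^ 2)
  mem_S : ∀ s ∈ (S : Subgroup G), ∃ i : ℕ, s = α ^ i ∨ s = α ^ i * β
  card_D : Nat.card D = 2 ^ (n + 2)
  inf_eq : (S : Subgroup G) ⊓ Subgroup.centralizer (D : Set G) = Subgroup.zpowers α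
  β_not_mem : β ∉ Subgroup.centralizer (D : Set G)
  odd_K : Odd (Nat.card K)
  K_le : K ≤ Subgroup.centralizer (D : Set G)
  N_le : Subgroup.normalizer (D : Set G) ≤ Subgroup.normalizer (K : Set G)
  mem_K : ∀ x ∈ Subgroup.centralizer (D : Set G), x ∈ K ↔ Odd (orderOf x)
  C_decomp : ∀ y ∈ Subgroup.centralizer (D : Set G), ∃ k ∈ K, ∃ i : ℕ, y = k * α ^ i
  N_decomp : ∀ y ∈ Subgroup.normalizer (D : Set G),
    y ∈ Subgroup.centralizer (D : Set G) ∨ y * β ∈ Subgroup.centralizer (D : Set G)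
  S_le : (S : Subgroup G) ≤ Subgroup.normalizer (D : Set G)

theorem quat_local (S : Sylow 2 G) {n : ℕ} (e : (S : Subgroup G) ≃* QuaternionGroup (2 ^ (n + 2)))
    (D : Subgroup G) (hD : D = ⁅(S : Subgroup G), (S : Subgroup G)⁆) :
    ∃ α β K, QuatLocal S n D α β K := by
  classical
  obtain ⟨α, β, hα, hβ, hoα, hba, hb2, hDz, hS, hcS⟩ := quat_generators S e D hD
  set C := Subgroup.centralizer (D : Set G) with hC
  set N := Subgroup.normalizer (D : Set G) with hN
  have hcardD : Nat.card D = 2 ^ (n + 2) := by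
    rw [hDz, Nat.card_zpowers, orderOf_pow' α two_ne_zero, hoα,
      Nat.gcd_eq_right (dvd_pow_self 2 (by omega))]
    rw [show n + 3 = n + 2 + 1 from rfl, pow_succ (n := n + 2), Nat.mul_div_cancel _ two_pos]
  haveI : IsCyclic D := by rw [hDz]; infer_instance
  have hmemC : ∀ x, x ∈ C ↔ α ^ 2 * x = x * α ^ 2 := by
    intro x
    rw [hC, hDz]
    constructor
    · exact fun h => h _ (Subgroup.mem_zpowers _)
    · rintro h _ ⟨i, rfl⟩
      exact (Commute.zpow_left h i).eq
  have hαC : α ∈ C := (hmemC α).2 (Commute.pow_self α 2).eq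
  have hβC : β ∉ C := by
    intro h
    rw [hmemC] at h
    have h1 : β * α ^ 2 * β⁻¹ = (α ^ 2)⁻¹ := by rw [← conj_pow, hba, inv_pow]
    rw [← h, mul_inv_cancel_right, eq_inv_iff_mul_eq_one, ← pow_add] at h1
    have := Nat.le_of_dvd (by norm_num) (orderOf_dvd_of_pow_eq_one h1)
    rw [hoα] at this
    have : 2 ^ 3 ≤ 2 ^ (n + 3) := Nat.pow_le_pow_right two_pos (by omega)
    omega
  have hinf : (S : Subgroup G) ⊓ C = Subgroup.zpowers α := by
    refine le_antisymm (fun x hx => ?_) (Subgroup.zpowers_le.2 ⟨hα, hαC⟩)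
    obtain ⟨i, rfl | rfl⟩ := hS x hx.1
    · exact Subgroup.pow_mem _ (Subgroup.mem_zpowers α) i
    · exact absurd ((C.mul_mem_cancel_left (C.pow_mem hαC i)).1 hx.2) hβC
  have hSN : (S : Subgroup G) ≤ N := by
    have hconj : ∀ s ∈ (S : Subgroup G), ∀ d, d ∈ D → s * d * s⁻¹ ∈ D := by
      intro s hs d hd
      have hgen : s * α ^ 2 * s⁻¹ ∈ D := by
        rw [hDz]
        obtain ⟨i, rfl | rfl⟩ := hS s hs
        · rw [(Commute.pow_pow_self α i 2).eq, mul_inv_cancel_right]; exact Subgroup.mem_zpowers _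
        · have : α ^ i * β * α ^ 2 * (α ^ i * β)⁻¹ = α ^ i * (β * α * β⁻¹) ^ 2 * (α ^ i)⁻¹ := by
            rw [conj_pow]; group
          rw [this, hba, inv_pow, ((Commute.pow_pow_self α i 2).inv_right).eq, mul_inv_cancel_right]
          exact Subgroup.inv_mem _ (Subgroup.mem_zpowers _)
      rw [hDz] at hd
      obtain ⟨j, rfl⟩ := hd
      rw [← conj_zpow]
      exact Subgroup.zpow_mem _ hgen j
    intro s hs
    refine Subgroup.mem_set_normalizer_iff.2 fun d => ⟨hconj s hs d, fun hd => ?_⟩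
    have := hconj s⁻¹ ((S : Subgroup G).inv_mem hs) _ hd
    simpa [mul_assoc] using this
  have hCN : C ≤ N := Subgroup.centralizer_le_normalizer _
  -- N / C is a 2-group
  have hidx : C.relIndex N ∣ 2 ^ (n + 1) := by
    have key := Subgroup.card_dvd_of_injective _ (QuotientGroup.kerLift_injective (Subgroup.normalizerMonoidHom D))
    rw [Subgroup.normalizerMonoidHom_ker, ← Subgroup.index, ← Subgroup.relIndex] at key
    refine key.trans ?_
    rw [IsCyclic.card_mulAut, hcardD, Nat.totient_prime_pow Nat.prime_two (by omega)]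
    simp
  obtain ⟨j, -, hj⟩ := (Nat.dvd_prime_pow Nat.prime_two).1 hidx
  have hmul : Nat.card N = Nat.card C * 2 ^ j := by
    rw [← hj, ← Nat.card_congr (Subgroup.subgroupOfEquivOfLe hCN).toEquiv]
    exact (Subgroup.card_mul_index (C.subgroupOf N)).symm
  have hAdvd : 2 ^ (n + 3) ∣ Nat.card C := hoα ▸ Subgroup.orderOf_dvd_natCard C hαC
  have hndN : ¬ 2 * (2 * 2 ^ (n + 3)) ∣ Nat.card N := by
    intro h
    have h' := h.trans (Subgroup.card_subgroup_dvd_card N)
    rw [← hcS] at h'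
    obtain ⟨c, hc⟩ := h'
    apply S.not_dvd_index
    refine ⟨c, ?_⟩
    have := (S : Subgroup G).card_mul_index
    rw [hc, mul_comm 2 (Nat.card (S : Subgroup G)), mul_assoc] at this
    exact Nat.eq_of_mul_eq_mul_left Nat.card_pos this
  have hj1 : j = 1 := by
    rcases Nat.lt_trichotomy j 1 with h | h | h
    · have h0 : j = 0 := by omega
      rw [h0, pow_zero] at hj
      exact absurd (Subgroup.relIndex_eq_one.1 hj (hSN hβ)) hβC
    · exact h
    · exfalso
      apply hndN
      rw [hmul, show 2 * (2 * 2 ^ (n + 3)) = 2 ^ (n + 3) * 2 ^ 2 by ring]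
      exact mul_dvd_mul hAdvd (Nat.pow_dvd_pow 2 h)
  rw [hj1, pow_one] at hmul hj
  haveI hCn : (C.subgroupOf N).Normal := by
    rw [← Subgroup.normalizerMonoidHom_ker]; infer_instance
  have hA : IsPGroup 2 (Subgroup.zpowers α) := IsPGroup.of_card (by rw [Nat.card_zpowers, hoα])
  set A' : Subgroup C := (Subgroup.zpowers α).subgroupOf C with hA'
  have hAC : Subgroup.zpowers α ≤ C := Subgroup.zpowers_le.2 hαC
  have hA'card : Nat.card A' = 2 ^ (n + 3) := by
    rw [Nat.card_congr (Subgroup.subgroupOfEquivOfLe hAC).toEquiv, Nat.card_zpowers, hoα]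
  obtain ⟨P, hP⟩ := (IsPGroup.of_card hA'card).exists_le_sylow
  have hPA : A' = P := by
    refine Subgroup.eq_of_le_of_card_ge hP ?_
    obtain ⟨k, hk⟩ := P.2.exists_card_eq
    rw [hA'card, hk]
    refine Nat.pow_le_pow_right two_pos ?_
    by_contra hlt
    push Not at hlt
    refine hndN ?_
    rw [hmul, mul_comm 2 (2 * _)]
    refine mul_dvd_mul ?_ dvd_rfl
    have h1 := Subgroup.card_subgroup_dvd_card (P : Subgroup C)
    rw [hk] at h1
    rw [show 2 * 2 ^ (n + 3) = 2 ^ (n + 4) by ring]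
    exact (Nat.pow_dvd_pow 2 hlt).trans h1
  haveI : IsCyclic (P : Subgroup C) := by
    rw [← hPA]
    exact (Subgroup.subgroupOfEquivOfLe hAC).isCyclic.2 inferInstance
  obtain ⟨K', hoddK, hsup, hmemK⟩ := exists_odd_complement_of_cyclic P inferInstance
  haveI hK'n : K'.Normal := ⟨fun k hk g => by
    rw [hmemK] at hk ⊢
    have : orderOf (g * k * g⁻¹) = orderOf k :=
      orderOf_injective (MulAut.conj g).toMonoidHom (MulAut.conj g).injective k
    rwa [this]⟩
  set K := K'.map C.subtype with hK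
  have hKle : K ≤ C := Subgroup.map_subtype_le _
  have hmemK' : ∀ x ∈ C, x ∈ K ↔ Odd (orderOf x) := by
    intro x hx
    rw [show orderOf x = orderOf (⟨x, hx⟩ : C) from Subgroup.orderOf_coe ⟨x, hx⟩, ← hmemK]
    constructor
    · rintro ⟨z, hz, hzx⟩
      rw [show (⟨x, hx⟩ : C) = z from Subtype.ext hzx.symm]
      exact hz
    · exact fun h => ⟨⟨x, hx⟩, h, rfl⟩
  have hKn : ∀ g ∈ N, ∀ k ∈ K, g * k * g⁻¹ ∈ K := by
    intro g hg k hk
    have hc : g * k * g⁻¹ ∈ C :=
      Subgroup.mem_subgroupOf.1 (hCn.conj_mem ⟨k, hCN (hKle hk)⟩ (Subgroup.mem_subgroupOf.2 (hKle hk)) ⟨g, hg⟩)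
    rw [hmemK' _ hc]
    have : orderOf (g * k * g⁻¹) = orderOf k :=
      orderOf_injective (MulAut.conj g).toMonoidHom (MulAut.conj g).injective k
    rw [this, ← hmemK' _ (hKle hk)]
    exact hk
  refine ⟨α, β, K, hα, hβ, hoα, hba, hb2, hDz, hS, hcardD, hinf, hβC, ?_, hKle, ?_, hmemK', ?_, ?_, hSN⟩
  · rw [hK, ← Nat.card_congr (Subgroup.equivMapOfInjective K' _ C.subtype_injective).toEquiv]; exact hoddK
  · intro g hg
    refine Subgroup.mem_set_normalizer_iff.2 fun k => ⟨hKn g hg k, fun hk => ?_⟩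
    have := hKn g⁻¹ (N.inv_mem hg) _ hk
    simpa [mul_assoc] using this
  · intro y hy
    have h : (⟨y, hy⟩ : C) ∈ K' ⊔ A' := by rw [hPA, hsup]; trivial
    rw [Subgroup.sup_eq_closure_mul] at h
    obtain ⟨k, hk, a, ha, hka⟩ : ∃ k ∈ K', ∃ a ∈ A', k * a = (⟨y, hy⟩ : C) := by
      have h' : (⟨y, hy⟩ : C) ∈ ((K' ⊔ A' : Subgroup C) : Set C) := by rw [hPA, hsup]; trivial
      rw [Subgroup.normal_mul] at h'
      exact h'
    obtain ⟨i, hi⟩ := mem_powers_iff_mem_zpowers.2 (Subgroup.mem_subgroupOf.1 ha)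
    exact ⟨k, ⟨k, hk, rfl⟩, i, by
      have := congrArg Subtype.val hka
      simp only [Subgroup.coe_mul] at this
      rw [← this, show (α ^ i = (a : G)) from hi]⟩
  · intro y hy
    by_cases h : y ∈ C
    · exact Or.inl h
    refine Or.inr ?_
    have hidx2 : (C.subgroupOf N).index = 2 := hj
    have := (Subgroup.mul_mem_iff_of_index_two hidx2 (a := ⟨y, hy⟩) (b := ⟨β, hSN hβ⟩)).2
      ⟨fun h' => absurd (Subgroup.mem_subgroupOf.1 h') h, fun h' => absurd (Subgroup.mem_subgroupOf.1 h') hβC⟩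
    exact Subgroup.mem_subgroupOf.1 this

end CfsgLib.Char.Exceptional
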