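import Mathlib
import Cfsg.Prelude.Def_OddOrderChar

/-! Basic structure of the Dade set-up: characterisation of `H a`, equivariance, fusion of the cosets
`a * H a`, and the counting formula over the support of the Dade map. -/

set_option autoImplicit false

open Cfsg Finset

namespace CfsgLib.Char.Exceptional

/-- A power that is the identity on exponents dividing `m` and kills exponents dividing `k`. -/
theorem exists_pow_select {m k : ℕ} (h : Nat.Coprime m k) (hm : m ≠ 0) (hk : k ≠ 0) :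
    ∃ n : ℕ, ∀ {G : Type*} [Group G] (a u : G), Commute a u → a ^ m = 1 → u ^ k = 1 → (a * u) ^ n = a := by
  obtain ⟨n, hn1, hn2⟩ := Nat.chineseRemainder h 1 0
  refine ⟨n, fun {G} _ a u hc ha hu => ?_⟩
  rw [hc.mul_pow, pow_eq_pow_mod n ha, hn1, ← pow_eq_pow_mod 1 ha, pow_one,
    pow_eq_pow_mod n hu, hn2, ← pow_eq_pow_mod 0 hu, pow_zero, mul_one]

variable {G : Type*} [Group G] {A : Set G} {L : Subgroup G} {H : G → Subgroup G}

theorem mem_centralizer_singleton {a g : G} :
    g ∈ Subgroup.centralizer ({a} : Set G) ↔ a * g = g * a := by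
  simp [Subgroup.mem_centralizer_iff]

theorem dade_mem_conj (hD : DadeHypothesis A L H) {a x : G} (hx : x ∈ L) :
    x * a * x⁻¹ ∈ A ↔ a ∈ A := by
  refine ⟨fun h => ?_, hD.conj_mem x hx a⟩
  have := hD.conj_mem x⁻¹ (L.inv_mem hx) _ h
  simpa [mul_assoc] using this

/-- Every element of the centraliser of `a` is a product from `H a` and the centraliser of `a` in `L`. -/
theorem dade_decomp (hD : DadeHypothesis A L H) {a : G} (ha : a ∈ A) {c : G}
    (hc : c ∈ Subgroup.centralizer ({a} : Set G)) :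
    ∃ u ∈ H a, ∃ l ∈ L ⊓ Subgroup.centralizer ({a} : Set G), u * l = c := by
  have hn : L ⊓ Subgroup.centralizer ({a} : Set G) ≤ Subgroup.normalizer (H a : Set G) := by
    intro l hl
    refine Subgroup.mem_set_normalizer_iff.2 fun h => ⟨hD.conj_mem_H a ha l hl.2 h, fun h' => ?_⟩
    have := hD.conj_mem_H a ha l⁻¹ (Subgroup.inv_mem _ hl.2) _ h'
    simpa [mul_assoc] using this
  have hc' : c ∈ ((H a ⊔ (L ⊓ Subgroup.centralizer ({a} : Set G)) : Subgroup G) : Set G) := by
    rw [hD.sup_eq a ha]; exact hc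
  rw [Subgroup.coe_mul_of_right_le_normalizer_left _ _ hn] at hc'
  obtain ⟨u, hu, l, hl, rfl⟩ := hc'
  exact ⟨u, hu, l, hl, rfl⟩

/-- `H a` is the set of elements of the centraliser of `a` of order prime to that in `L`. -/
theorem dade_mem_H_iff [Finite G] (hD : DadeHypothesis A L H) {a : G} (ha : a ∈ A) {c : G}
    (hc : c ∈ Subgroup.centralizer ({a} : Set G)) :
    c ∈ H a ↔ Nat.Coprime (orderOf c) (Nat.card ↥(L ⊓ Subgroup.centralizer ({a} : Set G))) := by
  refine ⟨fun h => Nat.Coprime.coprime_dvd_left (Subgroup.orderOf_dvd_natCard _ h) (hD.coprime a ha a ha),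
    fun h => ?_⟩
  obtain ⟨u, hu, l, hl, rfl⟩ := dade_decomp hD ha hc
  have hk : ∀ n : ℕ, ∃ v ∈ H a, (u * l) ^ n = v * l ^ n := by
    intro n
    induction n with
    | zero => exact ⟨1, (H a).one_mem, by simp⟩
    | succ n ih =>
      obtain ⟨v, hv, e⟩ := ih
      refine ⟨v * (l ^ n * u * (l ^ n)⁻¹), (H a).mul_mem hv
        (hD.conj_mem_H a ha _ (Subgroup.pow_mem _ hl.2 n) u hu), ?_⟩
      rw [pow_succ, e, pow_succ]; group
  obtain ⟨v, hv, e⟩ := hk (orderOf (u * l))
  rw [pow_orderOf_eq_one] at e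
  have hln : l ^ orderOf (u * l) ∈ H a := by
    have : l ^ orderOf (u * l) = v⁻¹ := eq_inv_of_mul_eq_one_right e.symm
    rw [this]; exact (H a).inv_mem hv
  have h1 : l ^ orderOf (u * l) = 1 := by
    have hmem : l ^ orderOf (u * l) ∈ H a ⊓ (L ⊓ Subgroup.centralizer ({a} : Set G)) :=
      ⟨hln, Subgroup.pow_mem _ hl _⟩
    rw [hD.inf_eq_bot a ha] at hmem
    exact hmem
  have hl1 : orderOf l = 1 :=
    Nat.eq_one_of_dvd_coprimes h (orderOf_dvd_of_pow_eq_one h1) (Subgroup.orderOf_dvd_natCard _ hl)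
  rw [orderOf_eq_one_iff.1 hl1, mul_one]
  exact hu

theorem dade_mem_centralizer_self (hD : DadeHypothesis A L H) {a : G} (ha : a ∈ A) :
    a ∈ L ⊓ Subgroup.centralizer ({a} : Set G) :=
  ⟨hD.subset ha, mem_centralizer_singleton.2 rfl⟩

/-- If `g` conjugates `a * u` to `b * v`, it conjugates `a` to `b` and `u` to `v`. -/
theorem dade_split_conj [Finite G] (hD : DadeHypothesis A L H) {a b u v g : G} (ha : a ∈ A) (hb : b ∈ A)
    (hu : u ∈ H a) (hv : v ∈ H b) (h : g * (a * u) * g⁻¹ = b * v) :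
    g * a * g⁻¹ = b ∧ g * u * g⁻¹ = v := by
  obtain ⟨n, hn⟩ := exists_pow_select
    (m := Nat.card ↥(L ⊓ Subgroup.centralizer ({a} : Set G)) * Nat.card ↥(L ⊓ Subgroup.centralizer ({b} : Set G)))
    (k := Nat.card (H a) * Nat.card (H b))
    (Nat.Coprime.mul_left
      (Nat.Coprime.mul_right (hD.coprime a ha a ha).symm (hD.coprime b hb a ha).symm)
      (Nat.Coprime.mul_right (hD.coprime a ha b hb).symm (hD.coprime b hb b hb).symm))
    (mul_ne_zero Nat.card_pos.ne' Nat.card_pos.ne') (mul_ne_zero Nat.card_pos.ne' Nat.card_pos.ne')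
  have h1 : (a * u) ^ n = a := hn a u (mem_centralizer_singleton.1 (hD.le_centralizer a ha hu))
    (orderOf_dvd_iff_pow_eq_one.1 ((Subgroup.orderOf_dvd_natCard _ (dade_mem_centralizer_self hD ha)).mul_right _))
    (orderOf_dvd_iff_pow_eq_one.1 ((Subgroup.orderOf_dvd_natCard _ hu).mul_right _))
  have h2 : (b * v) ^ n = b := hn b v (mem_centralizer_singleton.1 (hD.le_centralizer b hb hv))
    (orderOf_dvd_iff_pow_eq_one.1 ((Subgroup.orderOf_dvd_natCard _ (dade_mem_centralizer_self hD hb)).mul_left _))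
    (orderOf_dvd_iff_pow_eq_one.1 ((Subgroup.orderOf_dvd_natCard _ hv).mul_left _))
  have h3 : g * a * g⁻¹ = b := by
    conv_lhs => rw [← h1, ← conj_pow, h, h2]
  refine ⟨h3, ?_⟩
  have h4 : g * a * g⁻¹ * (g * u * g⁻¹) = b * v := by rw [← h]; group
  rw [h3] at h4
  exact mul_left_cancel h4

theorem orderOf_conj_eq (g u : G) : orderOf (g * u * g⁻¹) = orderOf u :=
  orderOf_injective (MulAut.conj g).toMonoidHom (MulAut.conj g).injective u

/-- Conjugation between members of `A` maps the one `H` into the other. -/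
theorem dade_conj_mem_H [Finite G] (hD : DadeHypothesis A L H) {a b g u : G} (ha : a ∈ A) (hb : b ∈ A)
    (h : g * a * g⁻¹ = b) (hu : u ∈ H a) : g * u * g⁻¹ ∈ H b := by
  have hc : g * u * g⁻¹ ∈ Subgroup.centralizer ({b} : Set G) := by
    rw [mem_centralizer_singleton, ← h]
    have := mem_centralizer_singleton.1 (hD.le_centralizer a ha hu)
    calc g * a * g⁻¹ * (g * u * g⁻¹) = g * (a * u) * g⁻¹ := by group
      _ = g * (u * a) * g⁻¹ := by rw [this]
      _ = _ := by group
  rw [dade_mem_H_iff hD hb hc, orderOf_conj_eq]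
  exact Nat.Coprime.coprime_dvd_left (Subgroup.orderOf_dvd_natCard _ hu) (hD.coprime a ha b hb)

theorem dade_H_conj [Finite G] (hD : DadeHypothesis A L H) {a b g : G} (ha : a ∈ A) (hb : b ∈ A)
    (h : g * a * g⁻¹ = b) : H b = (H a).map (MulAut.conj g).toMonoidHom := by
  ext v
  simp only [Subgroup.mem_map, MulEquiv.coe_toMonoidHom, MulAut.conj_apply]
  refine ⟨fun hv => ⟨g⁻¹ * v * g⁻¹⁻¹, dade_conj_mem_H hD hb ha ?_ hv, by group⟩, ?_⟩
  · rw [← h]; group
  · rintro ⟨u, hu, rfl⟩; exact dade_conj_mem_H hD ha hb h hu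

theorem dade_card_H_conj [Finite G] (hD : DadeHypothesis A L H) {a b g : G} (ha : a ∈ A) (hb : b ∈ A)
    (h : g * a * g⁻¹ = b) : Nat.card (H b) = Nat.card (H a) := by
  rw [dade_H_conj hD ha hb h]
  exact Nat.card_congr (Subgroup.equivMapOfInjective _ _ (MulAut.conj g).injective).symm.toEquiv

theorem dade_centralizer_conj_coset [Finite G] (hD : DadeHypothesis A L H) {a : G} (ha : a ∈ A) :
    Subgroup.normalizer ((fun u : G => a * u) '' (H a : Set G)) = Subgroup.centralizer ({a} : Set G) := by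
  ext g
  constructor
  · intro hg
    obtain ⟨v, hv, e⟩ := ((Subgroup.mem_set_normalizer_iff.1 hg) (a * 1)).1 ⟨1, (H a).one_mem, rfl⟩
    have := (dade_split_conj hD ha ha (H a).one_mem hv e.symm).1
    rw [mem_centralizer_singleton]
    nth_rewrite 1 [← this]
    group
  · intro hg
    have key : ∀ c ∈ Subgroup.centralizer ({a} : Set G), ∀ h : G, h ∈ (fun u : G => a * u) '' (H a : Set G) →
        c * h * c⁻¹ ∈ (fun u : G => a * u) '' (H a : Set G) := by
      rintro c hc _ ⟨u, hu, rfl⟩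
      refine ⟨c * u * c⁻¹, hD.conj_mem_H a ha c hc u hu, ?_⟩
      have := mem_centralizer_singleton.1 hc
      calc a * (c * u * c⁻¹) = (a * c) * u * c⁻¹ := by group
        _ = (c * a) * u * c⁻¹ := by rw [this]
        _ = _ := by group
    refine Subgroup.mem_set_normalizer_iff.2 fun h => ⟨key g hg h, fun h' => ?_⟩
    have := key g⁻¹ (Subgroup.inv_mem _ hg) _ h'
    simpa [mul_assoc] using this

end CfsgLib.Char.Exceptional
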