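import Mathlib
import Cfsg.Agent.Lib.Char.Basic
import Cfsg.Agent.Lib.Char.Induced
import Cfsg.Agent.Lib.Char.Exceptional.Dade
import Cfsg.Prelude.Def_Characters

/-! Induction from a trivial-intersection set `S ⊆ H`. -/

set_option autoImplicit false

open scoped ComplexConjugate
open Finset

namespace CfsgLib.Char.Exceptional

open CfsgLib.Char

variable {G : Type*} [Group G] [Fintype G] {H : Subgroup G} {S : Set G}

/-- A function supported on `S` induces to itself on `S`. -/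
theorem ti_indFun_eq (hTI : ∀ g : G, g ∉ H → ∀ s ∈ S, g * s * g⁻¹ ∉ S) {φ : H → ℂ}
    (hφ : Cfsg.IsClassFunction H φ) (hφS : ∀ x : H, (x : G) ∉ S → φ x = 0) {x : H} (hx : (x : G) ∈ S) :
    Cfsg.indFun H φ x = φ x := by
  classical
  have h : ∀ y : G, Cfsg.extendByZero H φ (y⁻¹ * x * y) = if y ∈ H then φ x else 0 := by
    intro y
    by_cases hy : y ∈ H
    · rw [if_pos hy, extendByZero_of_mem H φ (H.mul_mem (H.mul_mem (H.inv_mem hy) x.2) hy)]
      rw [← hφ x ⟨y⁻¹, H.inv_mem hy⟩]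
      congr 1
      exact Subtype.ext (by simp)
    · rw [if_neg hy]
      by_cases hm : y⁻¹ * x * y ∈ H
      · rw [extendByZero_of_mem H φ hm]
        refine hφS _ fun hs => ?_
        refine hTI y⁻¹ (fun hh => hy (by simpa using H.inv_mem hh)) x hx ?_
        simpa using hs
      · exact extendByZero_of_notMem H φ hm
  simp only [Cfsg.indFun, h, Finset.sum_ite, Finset.sum_const_zero, add_zero, Finset.sum_const,
    nsmul_eq_mul]
  rw [show (univ.filter fun y => y ∈ H).card = Nat.card H by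
      rw [Nat.card_eq_fintype_card, Fintype.card_subtype],
    ← mul_assoc, inv_mul_cancel₀ (Nat.cast_ne_zero.mpr Nat.card_pos.ne'), one_mul]

/-- The induced function vanishes off the conjugates of the support. -/
theorem indFun_eq_zero_of_support {φ : H → ℂ} (hφS : ∀ x : H, (x : G) ∉ S → φ x = 0) {g : G}
    (hg : ∀ y : G, y⁻¹ * g * y ∉ S) : Cfsg.indFun H φ g = 0 := by
  simp only [Cfsg.indFun]
  rw [Finset.sum_eq_zero, mul_zero]
  intro y _
  by_cases hm : y⁻¹ * g * y ∈ H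
  · rw [extendByZero_of_mem H φ hm]
    exact hφS _ (hg y)
  · exact extendByZero_of_notMem H φ hm

/-- Induction is an isometry on class functions supported on a TI set. -/
theorem ti_indFun_inner [Fintype H] (hTI : ∀ g : G, g ∉ H → ∀ s ∈ S, g * s * g⁻¹ ∉ S) {φ ψ : H → ℂ}
    (hφS : ∀ x : H, (x : G) ∉ S → φ x = 0)
    (hψ : Cfsg.IsClassFunction H ψ) (hψS : ∀ x : H, (x : G) ∉ S → ψ x = 0) :
    Cfsg.classInner (Cfsg.indFun H φ) (Cfsg.indFun H ψ) = Cfsg.classInner φ ψ := by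
  rw [frobenius_reciprocity H φ (isClassFunction_indFun H ψ)]
  simp only [Cfsg.classInner]
  congr 1
  refine Finset.sum_congr rfl fun h _ => ?_
  by_cases hh : (h : G) ∈ S
  · rw [ti_indFun_eq hTI hψ hψS hh]
  · rw [hφS h hh, zero_mul, zero_mul]

/-- Summing an induced class function over products from two classes. -/
theorem ti_involution_pair_sum (hTI : ∀ g : G, g ∉ H → ∀ s ∈ S, g * s * g⁻¹ ∉ S) (hSH : S ⊆ H)
    (hinv : ∀ s ∈ S, s⁻¹ ∈ S) {φ : H → ℂ} (hφS : ∀ x : H, (x : G) ∉ S → φ x = 0) {u v : G}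
    (hu : orderOf u = 2) (hv : orderOf v = 2) :
    ∑ᶠ p ∈ {p : G × G | IsConj u p.1 ∧ IsConj v p.2}, Cfsg.indFun H φ (p.1 * p.2) =
      (H.index : ℂ) * ∑ᶠ p ∈ {p : H × H | IsConj u (p.1 : G) ∧ IsConj v (p.2 : G)}, φ (p.1 * p.2) := by
  classical
  haveI := Fintype.ofFinite H
  rw [finsum_mem_eq_toFinset_sum, finsum_mem_eq_toFinset_sum]
  set P := {p : G × G | IsConj u p.1 ∧ IsConj v p.2}.toFinset
  set Q := {p : H × H | IsConj u (p.1 : G) ∧ IsConj v (p.2 : G)}.toFinset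
  have hconj : ∀ a b y : G, IsConj a b → IsConj a (y * b * y⁻¹) := fun a b y h =>
    h.trans (isConj_iff.2 ⟨y, rfl⟩)
  have hx : ∀ x : G, ∑ p ∈ P, Cfsg.extendByZero H φ (x⁻¹ * (p.1 * p.2) * x) =
      ∑ p ∈ P, Cfsg.extendByZero H φ (p.1 * p.2) := by
    intro x
    refine Finset.sum_nbij' (fun p => (x⁻¹ * p.1 * x, x⁻¹ * p.2 * x))
      (fun p => (x * p.1 * x⁻¹, x * p.2 * x⁻¹)) ?_ ?_ ?_ ?_ ?_
    · intro p hp
      simp only [P, Set.coe_toFinset, Set.mem_toFinset, Set.mem_ofPred_eq, Finset.mem_coe] at hp ⊢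
      exact ⟨by simpa using hconj u p.1 x⁻¹ hp.1, by simpa using hconj v p.2 x⁻¹ hp.2⟩
    · intro p hp
      simp only [P, Set.coe_toFinset, Set.mem_toFinset, Set.mem_ofPred_eq, Finset.mem_coe] at hp ⊢
      exact ⟨hconj u p.1 x hp.1, hconj v p.2 x hp.2⟩
    · intro p _; ext <;> simp [mul_assoc]
    · intro p _; ext <;> simp [mul_assoc]
    · intro p _; congr 1; group
  have hinvol : ∀ a b : G, orderOf a = 2 → IsConj a b → b * b = 1 := by
    intro a b ha hab
    obtain ⟨c, rfl⟩ := isConj_iff.1 hab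
    have : a * a = 1 := by rw [← pow_two, ← ha, pow_orderOf_eq_one]
    calc c * a * c⁻¹ * (c * a * c⁻¹) = c * (a * a) * c⁻¹ := by group
      _ = 1 := by rw [this]; group
  have hPQ : ∑ p ∈ P, Cfsg.extendByZero H φ (p.1 * p.2) = ∑ p ∈ Q, φ (p.1 * p.2) := by
    rw [← Finset.sum_filter_of_ne (p := fun p => p.1 ∈ H ∧ p.2 ∈ H) (fun p hp hne => ?_)]
    · refine Finset.sum_bij' (fun p hp => (⟨p.1, (Finset.mem_filter.1 hp).2.1⟩, ⟨p.2, (Finset.mem_filter.1 hp).2.2⟩))
        (fun p _ => ((p.1 : G), (p.2 : G))) ?_ ?_ ?_ ?_ ?_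
      · intro p hp
        simpa [P, Q] using (Finset.mem_filter.1 hp).1
      · intro p hp
        refine Finset.mem_filter.2 ⟨by simpa [P, Q] using hp, p.1.2, p.2.2⟩
      · intro p hp; rfl
      · intro p hp; rfl
      · intro p hp
        exact extendByZero_of_mem H φ (H.mul_mem (Finset.mem_filter.1 hp).2.1 (Finset.mem_filter.1 hp).2.2)
    · simp only [P, Set.mem_toFinset, Set.mem_ofPred_eq] at hp
      have hmH : p.1 * p.2 ∈ H := by
        by_contra h
        exact hne (extendByZero_of_notMem H φ h)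
      rw [extendByZero_of_mem H φ hmH] at hne
      have hs : p.1 * p.2 ∈ S := by
        by_contra h
        exact hne (hφS _ h)
      have h1 : p.1⁻¹ = p.1 := inv_eq_of_mul_eq_one_right (hinvol u p.1 hu hp.1)
      have h2 : p.2⁻¹ = p.2 := inv_eq_of_mul_eq_one_right (hinvol v p.2 hv hp.2)
      have hp1 : p.1 ∈ H := by
        by_contra h
        refine hTI p.1 h _ hs ?_
        have : p.1 * (p.1 * p.2) * p.1⁻¹ = (p.1 * p.2)⁻¹ := by
          rw [mul_inv_rev, ← mul_assoc, hinvol u p.1 hu hp.1, one_mul, h1, h2]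
        rw [this]; exact hinv _ hs
      exact ⟨hp1, (H.mul_mem_cancel_left hp1).1 hmH⟩
  simp only [Cfsg.indFun]
  rw [← Finset.mul_sum, Finset.sum_comm, Finset.sum_congr rfl (fun x _ => hx x), Finset.sum_const,
    Finset.card_univ, nsmul_eq_mul, hPQ, ← Nat.card_eq_fintype_card, ← H.card_mul_index,
    Nat.cast_mul, ← mul_assoc, ← mul_assoc, inv_mul_cancel₀ (Nat.cast_ne_zero.mpr Nat.card_pos.ne'),
    one_mul]

end CfsgLib.Char.Exceptional
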