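import Mathlib
import Cfsg.Agent.Lib.Char.Basic
import Cfsg.Agent.Lib.Char.Complete
import Cfsg.Agent.Lib.Char.Induced
import Cfsg.Prelude.Def_Characters

/-! Generalized characters: closure, integer coefficients, small norms. -/

set_option autoImplicit false

open scoped ComplexConjugate
open Finset

namespace CfsgLib.Char.Exceptional

open CfsgLib.Char

variable {G : Type*} [Group G] {θ φ : G → ℂ}

theorem IsGen.of_char (h : Cfsg.IsCharacter G θ) : Cfsg.IsGeneralizedCharacter G θ :=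
  ⟨θ, 0, h, isCharacter_zero, (sub_zero θ).symm⟩

theorem IsGen.of_irr (h : Cfsg.IsIrrCharacter G θ) : Cfsg.IsGeneralizedCharacter G θ :=
  IsGen.of_char (IsIrr.isCharacter h)

theorem isGen_one : Cfsg.IsGeneralizedCharacter G (fun _ => (1 : ℂ)) := IsGen.of_char isCharacter_one

theorem isGen_zero : Cfsg.IsGeneralizedCharacter G (0 : G → ℂ) := IsGen.of_char isCharacter_zero

theorem IsGen.neg (h : Cfsg.IsGeneralizedCharacter G θ) : Cfsg.IsGeneralizedCharacter G (-θ) := by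
  obtain ⟨a, b, ha, hb, rfl⟩ := h
  exact ⟨b, a, hb, ha, neg_sub a b⟩

theorem IsGen.add (h : Cfsg.IsGeneralizedCharacter G θ) (h' : Cfsg.IsGeneralizedCharacter G φ) :
    Cfsg.IsGeneralizedCharacter G (θ + φ) := by
  obtain ⟨a, b, ha, hb, rfl⟩ := h
  obtain ⟨c, d, hc, hd, rfl⟩ := h'
  exact ⟨a + c, b + d, IsChar.add ha hc, IsChar.add hb hd, by abel⟩

theorem IsGen.sub (h : Cfsg.IsGeneralizedCharacter G θ) (h' : Cfsg.IsGeneralizedCharacter G φ) :
    Cfsg.IsGeneralizedCharacter G (θ - φ) := by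
  rw [sub_eq_add_neg]; exact IsGen.add h (IsGen.neg h')

/-- The additive group of generalized characters. -/
def genGroup (G : Type*) [Group G] : AddSubgroup (G → ℂ) where
  carrier := {θ | Cfsg.IsGeneralizedCharacter G θ}
  add_mem' := IsGen.add
  zero_mem' := isGen_zero
  neg_mem' := IsGen.neg

theorem IsGen.zsmul (n : ℤ) (h : Cfsg.IsGeneralizedCharacter G θ) :
    Cfsg.IsGeneralizedCharacter G (n • θ) := (genGroup G).zsmul_mem h n

theorem IsGen.intCast_smul (n : ℤ) (h : Cfsg.IsGeneralizedCharacter G θ) :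
    Cfsg.IsGeneralizedCharacter G ((n : ℂ) • θ) := by
  rw [Int.cast_smul_eq_zsmul ℂ]; exact IsGen.zsmul n h

theorem IsGen.sum {ι : Type*} (s : Finset ι) {f : ι → G → ℂ}
    (h : ∀ i ∈ s, Cfsg.IsGeneralizedCharacter G (f i)) : Cfsg.IsGeneralizedCharacter G (∑ i ∈ s, f i) :=
  (genGroup G).sum_mem h

theorem IsGen.mul (h : Cfsg.IsGeneralizedCharacter G θ) (h' : Cfsg.IsGeneralizedCharacter G φ) :
    Cfsg.IsGeneralizedCharacter G (θ * φ) := by
  obtain ⟨a, b, ha, hb, rfl⟩ := h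
  obtain ⟨c, d, hc, hd, rfl⟩ := h'
  exact ⟨a * c + b * d, a * d + b * c, IsChar.add (IsChar.mul ha hc) (IsChar.mul hb hd),
    IsChar.add (IsChar.mul ha hd) (IsChar.mul hb hc), by ring⟩

theorem IsGen.comp {H : Type*} [Group H] (f : H →* G) (h : Cfsg.IsGeneralizedCharacter G θ) :
    Cfsg.IsGeneralizedCharacter H (fun x => θ (f x)) := by
  obtain ⟨a, b, ha, hb, rfl⟩ := h
  exact ⟨_, _, IsChar.comp f ha, IsChar.comp f hb, rfl⟩

theorem IsGen.restrict (K : Subgroup G) (h : Cfsg.IsGeneralizedCharacter G θ) :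
    Cfsg.IsGeneralizedCharacter K (fun x : K => θ x) := IsGen.comp K.subtype h

theorem IsGen.isClassFunction (h : Cfsg.IsGeneralizedCharacter G θ) : Cfsg.IsClassFunction G θ := by
  obtain ⟨a, b, ha, hb, rfl⟩ := h
  intro g x
  simp only [Pi.sub_apply, IsChar.isClassFunction ha g x, IsChar.isClassFunction hb g x]

theorem IsGen.map_inv [Finite G] (h : Cfsg.IsGeneralizedCharacter G θ) (g : G) :
    θ g⁻¹ = conj (θ g) := by
  obtain ⟨a, b, ha, hb, rfl⟩ := h
  simp only [Pi.sub_apply, IsChar.map_inv ha, IsChar.map_inv hb, map_sub]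

theorem IsGen.conjFun [Finite G] (h : Cfsg.IsGeneralizedCharacter G θ) :
    Cfsg.IsGeneralizedCharacter G (fun g => conj (θ g)) := by
  obtain ⟨a, b, ha, hb, rfl⟩ := h
  exact ⟨_, _, IsChar.conj ha, IsChar.conj hb, funext fun g => map_sub _ _ _⟩

theorem IsGen.isIntegral [Finite G] (h : Cfsg.IsGeneralizedCharacter G θ) (g : G) :
    IsIntegral ℤ (θ g) := by
  obtain ⟨a, b, ha, hb, rfl⟩ := h
  exact (IsChar.isIntegral ha g).sub (IsChar.isIntegral hb g)

theorem IsGen.exists_apply_one (h : Cfsg.IsGeneralizedCharacter G θ) : ∃ n : ℤ, θ 1 = n := by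
  obtain ⟨a, b, ha, hb, rfl⟩ := h
  obtain ⟨i, hi⟩ := IsChar.exists_degree ha
  obtain ⟨j, hj⟩ := IsChar.exists_degree hb
  exact ⟨(i : ℤ) - j, by simp [hi, hj]⟩

/-- The conjugate of an irreducible character is irreducible. -/
theorem IsIrr.conjFun [Fintype G] (h : Cfsg.IsIrrCharacter G θ) :
    Cfsg.IsIrrCharacter G (fun g => conj (θ g)) := by
  refine IsChar.isIrr_of_classInner_eq_one (IsChar.conj (IsIrr.isCharacter h)) ?_
  have h1 := (isIrr_iff_classInner_eq_one.1 h).2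
  have : Cfsg.classInner (fun g => conj (θ g)) (fun g => conj (θ g)) = conj (Cfsg.classInner θ θ) := by
    simp [Cfsg.classInner, map_sum]
  rw [this, h1, map_one]

variable [Fintype G]

theorem IsGen.classInner_eq_int (h : Cfsg.IsGeneralizedCharacter G θ)
    (h' : Cfsg.IsGeneralizedCharacter G φ) : ∃ n : ℤ, Cfsg.classInner θ φ = n := by
  obtain ⟨a, b, ha, hb, rfl⟩ := h
  obtain ⟨c, d, hc, hd, rfl⟩ := h'
  obtain ⟨n1, e1⟩ := IsChar.classInner_eq_natCast ha hc
  obtain ⟨n2, e2⟩ := IsChar.classInner_eq_natCast ha hd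
  obtain ⟨n3, e3⟩ := IsChar.classInner_eq_natCast hb hc
  obtain ⟨n4, e4⟩ := IsChar.classInner_eq_natCast hb hd
  refine ⟨((n1 : ℤ) - n2) - ((n3 : ℤ) - n4), ?_⟩
  rw [classInner_sub_left, classInner_sub_right, classInner_sub_right, e1, e2, e3, e4]
  push_cast; ring

theorem IsGen.exists_sum [Fintype (Cfsg.IrrCharacter G)] (h : Cfsg.IsGeneralizedCharacter G θ) :
    ∃ m : Cfsg.IrrCharacter G → ℤ, θ = ∑ ψ, (m ψ : ℂ) • (ψ : G → ℂ) := by
  have : ∀ ψ : Cfsg.IrrCharacter G, ∃ n : ℤ, Cfsg.classInner θ (ψ : G → ℂ) = n := fun ψ =>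
    IsGen.classInner_eq_int h (IsGen.of_irr ψ.2)
  choose m hm using this
  refine ⟨m, (classFunction_eq_sum (IsGen.isClassFunction h)).trans ?_⟩
  simp only [hm]

theorem isGen_intCast_sum [Fintype (Cfsg.IrrCharacter G)] (m : Cfsg.IrrCharacter G → ℤ) :
    Cfsg.IsGeneralizedCharacter G (∑ ψ, (m ψ : ℂ) • (ψ : G → ℂ)) :=
  IsGen.sum _ fun ψ _ => IsGen.intCast_smul _ (IsGen.of_irr ψ.2)

/-- A class function with integral inner products against all irreducibles is generalized. -/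
theorem isGen_of_classInner (h : Cfsg.IsClassFunction G θ)
    (h' : ∀ χ : G → ℂ, Cfsg.IsIrrCharacter G χ → ∃ n : ℤ, Cfsg.classInner θ χ = n) :
    Cfsg.IsGeneralizedCharacter G θ := by
  haveI := Fintype.ofFinite (Cfsg.IrrCharacter G)
  choose m hm using fun ψ : Cfsg.IrrCharacter G => h' ψ ψ.2
  rw [classFunction_eq_sum h]
  simp only [hm]
  exact isGen_intCast_sum m

theorem IsGen.indFun (H : Subgroup G) {ψ : H → ℂ} (h : Cfsg.IsGeneralizedCharacter H ψ) :
    Cfsg.IsGeneralizedCharacter G (Cfsg.indFun H ψ) := by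
  obtain ⟨a, b, ha, hb, rfl⟩ := h
  rw [indFun_sub]
  exact ⟨_, _, isCharacter_indFun H ha, isCharacter_indFun H hb, rfl⟩

theorem classInner_sum_self [Fintype (Cfsg.IrrCharacter G)] (m : Cfsg.IrrCharacter G → ℤ) :
    Cfsg.classInner (∑ ψ, (m ψ : ℂ) • (ψ : G → ℂ)) (∑ ψ, (m ψ : ℂ) • (ψ : G → ℂ)) =
      ((∑ ψ, m ψ * m ψ : ℤ) : ℂ) := by
  rw [IsChar.classInner_self]
  simp

theorem classInner_self_of_irr (h : Cfsg.IsIrrCharacter G θ) : Cfsg.classInner θ θ = 1 :=
  (isIrr_iff_classInner_eq_one.1 h).2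

open scoped Classical in
theorem classInner_of_irr (h : Cfsg.IsIrrCharacter G θ) (h' : Cfsg.IsIrrCharacter G φ) :
    Cfsg.classInner θ φ = if θ = φ then 1 else 0 := by
  split_ifs with e
  · subst e; exact classInner_self_of_irr h
  · exact classInner_irr_of_ne (χ := ⟨θ, h⟩) (ψ := ⟨φ, h'⟩) fun hh => e (congrArg Subtype.val hh)

theorem classInner_eq_zero_of_irr (h : Cfsg.IsIrrCharacter G θ) (h' : Cfsg.IsIrrCharacter G φ)
    (hne : θ ≠ φ) : Cfsg.classInner θ φ = 0 := by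
  classical
  rw [classInner_of_irr h h', if_neg hne]

theorem IsGen.classInner_self_eq (h : Cfsg.IsGeneralizedCharacter G θ) :
    ∃ n : ℕ, Cfsg.classInner θ θ = n := by
  haveI := Fintype.ofFinite (Cfsg.IrrCharacter G)
  obtain ⟨m, rfl⟩ := IsGen.exists_sum h
  refine ⟨(∑ ψ, m ψ * m ψ).toNat, ?_⟩
  rw [classInner_sum_self, ← Int.cast_natCast, Int.toNat_of_nonneg (sum_nonneg fun ψ _ => mul_self_nonneg _)]

theorem IsGen.eq_zero_of_norm (h : Cfsg.IsGeneralizedCharacter G θ)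
    (h0 : Cfsg.classInner θ θ = 0) : θ = 0 := by
  haveI := Fintype.ofFinite (Cfsg.IrrCharacter G)
  obtain ⟨m, rfl⟩ := IsGen.exists_sum h
  rw [classInner_sum_self, Int.cast_eq_zero,
    sum_eq_zero_iff_of_nonneg (fun ψ _ => mul_self_nonneg _)] at h0
  exact sum_eq_zero fun ψ hψ => by simp [mul_self_eq_zero.1 (h0 ψ hψ)]

/-- Split off one irreducible constituent of a generalized character. -/
theorem IsGen.exists_split (h : Cfsg.IsGeneralizedCharacter G θ) {k : ℕ}
    (hk : Cfsg.classInner θ θ = k) (hk0 : k ≠ 0) :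
    ∃ (χ : G → ℂ) (n : ℤ), Cfsg.IsIrrCharacter G χ ∧ n ≠ 0 ∧ Cfsg.classInner θ χ = n ∧
      Cfsg.classInner (θ - (n : ℂ) • χ) (θ - (n : ℂ) • χ) = (k : ℂ) - n * n ∧
      Cfsg.classInner (θ - (n : ℂ) • χ) χ = 0 := by
  classical
  haveI := Fintype.ofFinite (Cfsg.IrrCharacter G)
  obtain ⟨m, hm⟩ := IsGen.exists_sum h
  obtain ⟨ψ, hψ⟩ : ∃ ψ, m ψ ≠ 0 := by
    by_contra h0
    push Not at h0
    rw [hm, classInner_sum_self] at hk
    simp [h0] at hk
    exact hk0 (by exact_mod_cast hk.symm)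
  have hc : Cfsg.classInner θ (ψ : G → ℂ) = m ψ := by rw [hm, classInner_sum_irr]
  have hc' : Cfsg.classInner (ψ : G → ℂ) θ = m ψ := by
    rw [← classInner_conj_symm, hc]; simp
  refine ⟨ψ, m ψ, ψ.2, hψ, hc, ?_, ?_⟩
  · rw [classInner_sub_left, classInner_sub_right, classInner_sub_right, classInner_smul_left,
      classInner_smul_left, classInner_smul_right, classInner_smul_right, hk, hc, hc',
      classInner_self_of_irr ψ.2]
    simp only [map_intCast, mul_one]; ring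
  · rw [classInner_sub_left, classInner_smul_left, hc, classInner_self_of_irr ψ.2]; ring

theorem IsGen.norm_one (h : Cfsg.IsGeneralizedCharacter G θ) (h1 : Cfsg.classInner θ θ = 1) :
    ∃ χ : G → ℂ, ∃ ε : ℂ, (ε = 1 ∨ ε = -1) ∧ Cfsg.IsIrrCharacter G χ ∧ θ = ε • χ := by
  obtain ⟨χ, n, hχ, hn, -, hr, -⟩ := IsGen.exists_split h (k := 1) (by simpa using h1) one_ne_zero
  obtain ⟨r, hr'⟩ := IsGen.classInner_self_eq (IsGen.sub h (IsGen.intCast_smul n (IsGen.of_irr hχ)))
  rw [hr] at hr'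
  have e : (1 : ℤ) - n * n = r := by exact_mod_cast hr'
  have hn1 : n * n = 1 := by
    have : 0 < n * n := mul_self_pos.2 hn
    omega
  have h0 : θ - (n : ℂ) • χ = 0 := IsGen.eq_zero_of_norm
    (IsGen.sub h (IsGen.intCast_smul n (IsGen.of_irr hχ))) (by rw [hr, ← Int.cast_mul, hn1]; simp)
  refine ⟨χ, n, ?_, hχ, sub_eq_zero.1 h0⟩
  rcases mul_self_eq_one_iff.1 hn1 with rfl | rfl <;> simp

theorem IsGen.norm_one' (h : Cfsg.IsGeneralizedCharacter G θ) (h1 : Cfsg.classInner θ θ = 1) :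
    Cfsg.IsIrrCharacter G θ ∨ Cfsg.IsIrrCharacter G (-θ) := by
  obtain ⟨χ, ε, rfl | rfl, hχ, rfl⟩ := IsGen.norm_one h h1
  · exact Or.inl (by simpa using hχ)
  · exact Or.inr (by simpa using hχ)

theorem apply_one_re_pos (h : Cfsg.IsIrrCharacter G θ) : 0 < (θ 1).re := by
  obtain ⟨n, hn, e⟩ := IsIrr.exists_degree h
  rw [e]; simpa using hn

/-- A generalized character of norm two vanishing at the identity is a difference of irreducibles. -/
theorem IsGen.norm_two (h : Cfsg.IsGeneralizedCharacter G θ) (h2 : Cfsg.classInner θ θ = 2)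
    (h0 : θ 1 = 0) :
    ∃ a b : G → ℂ, Cfsg.IsIrrCharacter G a ∧ Cfsg.IsIrrCharacter G b ∧ a ≠ b ∧ θ = a - b := by
  obtain ⟨χ, n, hχ, hn, -, hr, ho⟩ := IsGen.exists_split h (k := 2) (by simpa using h2) two_ne_zero
  set ρ := θ - (n : ℂ) • χ with hρ
  have hg : Cfsg.IsGeneralizedCharacter G ρ := IsGen.sub h (IsGen.intCast_smul n (IsGen.of_irr hχ))
  obtain ⟨r, hr'⟩ := IsGen.classInner_self_eq hg
  rw [hr] at hr'
  have e : (2 : ℤ) - n * n = r := by exact_mod_cast hr'
  have hn1 : n * n = 1 := by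
    have h1 : 0 < n * n := mul_self_pos.2 hn
    rcases eq_or_ne (n.natAbs) 1 with h | h
    · rw [← Int.natAbs_mul_self, h]; norm_num
    · exfalso
      have : 4 ≤ n.natAbs * n.natAbs := by
        have : 2 ≤ n.natAbs := by omega
        exact Nat.mul_le_mul this this
      rw [← Int.natAbs_mul_self] at e
      omega
  obtain ⟨φ', ε, hε, hφ, hφe⟩ := IsGen.norm_one hg (by rw [hr, ← Int.cast_mul, hn1]; norm_num)
  have hne : χ ≠ φ' := by
    rintro rfl
    rw [hφe, classInner_smul_left, classInner_self_of_irr hφ, mul_one] at ho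
    rcases hε with h | h <;> norm_num [h] at ho
  have hθ : θ = (n : ℂ) • χ + ε • φ' := by rw [← hφe, hρ]; abel
  have p1 := apply_one_re_pos hχ
  have p2 := apply_one_re_pos hφ
  have h01 : ((n : ℂ) * χ 1 + ε * φ' 1).re = 0 := by
    have := congrFun hθ 1
    simp only [Pi.add_apply, Pi.smul_apply, smul_eq_mul] at this
    rw [← this, h0]; simp
  rcases mul_self_eq_one_iff.1 hn1 with rfl | rfl <;> rcases hε with rfl | rfl <;> simp at h01
  · linarith
  · exact ⟨χ, φ', hχ, hφ, hne, by rw [hθ]; funext g; simp; ring⟩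
  · exact ⟨φ', χ, hφ, hχ, hne.symm, by rw [hθ]; funext g; simp; ring⟩
  · linarith

theorem IsGen.norm_three (h : Cfsg.IsGeneralizedCharacter G θ) (h3 : Cfsg.classInner θ θ = 3)
    (hone : Cfsg.classInner θ (fun _ => 1) = 1) (h0 : θ 1 = 0) :
    ∃ a b : G → ℂ, Cfsg.IsIrrCharacter G a ∧ Cfsg.IsIrrCharacter G b ∧ a ≠ (fun _ => 1) ∧
      b ≠ (fun _ => 1) ∧ a 1 = b 1 + 1 ∧ θ = (fun _ => (1 : ℂ)) + b - a := by
  set ρ := θ - fun _ => (1 : ℂ) with hρ
  have h1self : Cfsg.classInner (fun _ : G => (1 : ℂ)) (fun _ => 1) = 1 :=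
    classInner_self_of_irr isIrrCharacter_one
  have hsymm : Cfsg.classInner (fun _ : G => (1 : ℂ)) θ = 1 := by
    rw [← classInner_conj_symm, hone, map_one]
  have hn : Cfsg.classInner ρ ρ = ((2 : ℕ) : ℂ) := by
    rw [hρ, classInner_sub_left, classInner_sub_right, classInner_sub_right, h3, hone, hsymm, h1self]
    norm_num
  have hρ1 : Cfsg.classInner ρ (fun _ => 1) = 0 := by
    rw [hρ, classInner_sub_left, hone, h1self, sub_self]
  have hg : Cfsg.IsGeneralizedCharacter G ρ := IsGen.sub h isGen_one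
  obtain ⟨χ, n, hχ, hn0, hc, hr, ho⟩ := IsGen.exists_split hg hn two_ne_zero
  set ρ' := ρ - (n : ℂ) • χ with hρ'
  have hg' : Cfsg.IsGeneralizedCharacter G ρ' := IsGen.sub hg (IsGen.intCast_smul n (IsGen.of_irr hχ))
  obtain ⟨r, hr'⟩ := IsGen.classInner_self_eq hg'
  rw [hr] at hr'
  have e : (2 : ℤ) - n * n = r := by exact_mod_cast hr'
  have hn1 : n * n = 1 := by
    have h1 : 0 < n * n := mul_self_pos.2 hn0
    rcases eq_or_ne (n.natAbs) 1 with h | h
    · rw [← Int.natAbs_mul_self, h]; norm_num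
    · exfalso
      have : 4 ≤ n.natAbs * n.natAbs := by
        have : 2 ≤ n.natAbs := by omega
        exact Nat.mul_le_mul this this
      rw [← Int.natAbs_mul_self] at e
      omega
  obtain ⟨φ', ε, hε, hφ, hφe⟩ := IsGen.norm_one hg' (by rw [hr, ← Int.cast_mul, hn1]; norm_num)
  have hθ : θ = (fun _ => (1 : ℂ)) + ((n : ℂ) • χ + ε • φ') := by rw [← hφe, hρ', hρ]; abel
  have hχne : χ ≠ fun _ => 1 := by
    rintro rfl
    rw [hρ1] at hc
    exact hn0 (by exact_mod_cast hc.symm)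
  have hφne : φ' ≠ fun _ => 1 := by
    rintro rfl
    have h' : Cfsg.classInner ρ' (fun _ : G => (1 : ℂ)) = 0 := by
      rw [hρ', classInner_sub_left, hρ1, classInner_smul_left,
        classInner_eq_zero_of_irr hχ isIrrCharacter_one hχne]
      ring
    rw [hφe, classInner_smul_left, h1self, mul_one] at h'
    rcases hε with h | h <;> norm_num [h] at h'
  obtain ⟨d1, hd1, hd1'⟩ := IsIrr.exists_degree hχ
  obtain ⟨d2, hd2, hd2'⟩ := IsIrr.exists_degree hφ
  have h01 : (1 : ℂ) + ((n : ℂ) * d1 + ε * d2) = 0 := by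
    have := congrFun hθ 1
    simp only [Pi.add_apply, Pi.smul_apply, smul_eq_mul, h0, hd1', hd2'] at this
    exact this.symm
  rcases mul_self_eq_one_iff.1 hn1 with rfl | rfl <;> rcases hε with rfl | rfl
  · exfalso
    have : ((1 + (d1 + d2) : ℕ) : ℂ) = 0 := by push_cast; push_cast at h01; linear_combination h01
    rw [Nat.cast_eq_zero] at this; omega
  · exact ⟨φ', χ, hφ, hχ, hφne, hχne, by rw [hd1', hd2']; push_cast at h01; linear_combination -h01,
      by rw [hθ]; funext g; simp; ring⟩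
  · exact ⟨χ, φ', hχ, hφ, hχne, hφne, by rw [hd1', hd2']; push_cast at h01; linear_combination -h01,
      by rw [hθ]; funext g; simp; ring⟩
  · exfalso
    have : ((d1 + d2 : ℕ) : ℂ) = ((1 : ℕ) : ℂ) := by push_cast; push_cast at h01; linear_combination -h01
    rw [Nat.cast_inj] at this; omega

end CfsgLib.Char.Exceptional
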