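import Mathlib
import Cfsg.Agent.Lib.Char.Exceptional.Quaternion
import Cfsg.Agent.Lib.Char.Exceptional.Virtual
import Cfsg.Agent.Lib.Char.Exceptional.TISet
import Cfsg.Agent.Lib.Char.TI
import Cfsg.Agent.Lib.CharAction.PGroup
import Cfsg.Agent.Lib.CharDegree.Basic

/-! The exceptional characters attached to a quaternion Sylow 2-subgroup and the Brauer-Suzuki
theorem for order at least 16. -/

set_option autoImplicit false

open scoped ComplexConjugate commutatorElement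
open Finset

namespace CfsgLib.Char.Exceptional

open CfsgLib.Char

namespace QuatLocal

variable {G : Type*} [Group G] [Finite G] {S : Sylow 2 G} {n : ℕ} {D : Subgroup G} {α β : G} {K : Subgroup G}

theorem α_mem_C (hQ : QuatLocal S n D α β K) : α ∈ Subgroup.centralizer (D : Set G) :=
  (hQ.inf_eq.symm.le (Subgroup.mem_zpowers α)).2

theorem centralizer_le_normalizer' (D : Subgroup G) :
    Subgroup.centralizer (D : Set G) ≤ Subgroup.normalizer (D : Set G) :=
  Subgroup.centralizer_le_normalizer _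

theorem conj_mem_K (hQ : QuatLocal S n D α β K) {g k : G} (hg : g ∈ Subgroup.normalizer (D : Set G))
    (hk : k ∈ K) : g * k * g⁻¹ ∈ K :=
  (Subgroup.mem_set_normalizer_iff.1 (hQ.N_le hg) k).1 hk

theorem conj_mem_C {g y : G} (hg : g ∈ Subgroup.normalizer (D : Set G))
    (hy : y ∈ Subgroup.centralizer (D : Set G)) : g * y * g⁻¹ ∈ Subgroup.centralizer (D : Set G) := by
  intro d hd
  have h1 : g⁻¹ * d * g ∈ D := (Subgroup.mem_set_normalizer_iff''.1 hg d).1 hd
  have h2 := hy _ h1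
  calc d * (g * y * g⁻¹) = g * (g⁻¹ * d * g * y) * g⁻¹ := by group
    _ = g * (y * (g⁻¹ * d * g)) * g⁻¹ := by rw [h2]
    _ = _ := by group

theorem pow_mem_K (hQ : QuatLocal S n D α β K) {i : ℕ} (h : α ^ i ∈ K) : α ^ i = 1 := by
  refine orderOf_eq_one_iff.1 (Nat.eq_one_of_dvd_coprimes (k := orderOf (α ^ i))
    ((Nat.coprime_two_right.2 hQ.odd_K).pow_right (n + 3)) (Subgroup.orderOf_dvd_natCard _ h) ?_)
  rw [← hQ.orderOf_α]
  exact orderOf_pow_dvd i

theorem exp_unique (hQ : QuatLocal S n D α β K) {k k' : G} (hk : k ∈ K) (hk' : k' ∈ K) {i j : ℕ}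
    (h : k * α ^ i = k' * α ^ j) : i ≡ j [MOD 2 ^ (n + 3)] := by
  set M := 2 ^ (n + 3) with hM
  have hαM : α ^ M = 1 := by rw [hM, ← hQ.orderOf_α, pow_orderOf_eq_one]
  have h1 : α ^ i * (α ^ j)⁻¹ ∈ K := by
    have : α ^ i * (α ^ j)⁻¹ = k⁻¹ * k' := by
      rw [mul_inv_eq_iff_eq_mul, mul_assoc, ← h, inv_mul_cancel_left]
    rw [this]; exact K.mul_mem (K.inv_mem hk) hk'
  have e : α ^ i * (α ^ j)⁻¹ = α ^ (i + j * (M - 1)) := by
    rw [pow_add]; congr 1
    refine inv_eq_of_mul_eq_one_right ?_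
    rw [← pow_add, show j + j * (M - 1) = M * j by
      have : 1 ≤ M := Nat.one_le_two_pow
      obtain ⟨c, hc⟩ := Nat.exists_eq_add_of_le this
      rw [hc]; simp; ring, pow_mul, hαM, one_pow]
  rw [e] at h1
  have h2 := hQ.pow_mem_K h1
  rw [← e, mul_inv_eq_one, pow_eq_pow_iff_modEq, hQ.orderOf_α] at h2
  exact h2

theorem mul_decomp (hQ : QuatLocal S n D α β K) {k k' : G} (hk : k ∈ K) (hk' : k' ∈ K) (i j : ℕ) :
    ∃ k'' ∈ K, k * α ^ i * (k' * α ^ j) = k'' * α ^ (i + j) := by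
  refine ⟨k * (α ^ i * k' * (α ^ i)⁻¹), K.mul_mem hk
    (hQ.conj_mem_K (centralizer_le_normalizer' D (Subgroup.pow_mem _ hQ.α_mem_C i)) hk'), ?_⟩
  rw [pow_add]; group

theorem pow_decomp (hQ : QuatLocal S n D α β K) {k : G} (hk : k ∈ K) (i t : ℕ) :
    ∃ k' ∈ K, (k * α ^ i) ^ t = k' * α ^ (i * t) := by
  induction t with
  | zero => exact ⟨1, K.one_mem, by simp⟩
  | succ t ih =>
    obtain ⟨k', hk', e⟩ := ih
    obtain ⟨k'', hk'', e'⟩ := hQ.mul_decomp hk' hk (i * t) i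
    exact ⟨k'', hk'', by rw [pow_succ, e, e', Nat.mul_succ]⟩

theorem dvd_orderOf_iff (hQ : QuatLocal S n D α β K) {k : G} (hk : k ∈ K) (i : ℕ) :
    Nat.card D ∣ orderOf (k * α ^ i) ↔ ¬ 4 ∣ i := by
  rw [hQ.card_D]
  constructor
  · rintro h ⟨c, rfl⟩
    obtain ⟨k', hk', e⟩ := hQ.pow_decomp hk (4 * c) (2 ^ (n + 1))
    have h1 : α ^ (4 * c * 2 ^ (n + 1)) = 1 := by
      rw [show 4 * c * 2 ^ (n + 1) = 2 ^ (n + 3) * c by ring, pow_mul, ← hQ.orderOf_α,
        pow_orderOf_eq_one, one_pow]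
    rw [h1, mul_one] at e
    have h2 : orderOf (k * α ^ (4 * c)) ∣ 2 ^ (n + 1) * Nat.card K := by
      refine orderOf_dvd_of_pow_eq_one ?_
      rw [pow_mul, e]
      exact orderOf_dvd_iff_pow_eq_one.1 (Subgroup.orderOf_dvd_natCard _ hk')
    have h3 := h.trans h2
    rw [show 2 ^ (n + 2) = 2 ^ (n + 1) * 2 from pow_succ _ _] at h3
    exact (Nat.not_even_iff_odd.2 hQ.odd_K)
      (even_iff_two_dvd.2 (Nat.dvd_of_mul_dvd_mul_left (by positivity) h3))
  · intro h4
    obtain ⟨k', hk', e⟩ := hQ.pow_decomp hk i (orderOf (k * α ^ i))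
    rw [pow_orderOf_eq_one] at e
    have := hQ.exp_unique K.one_mem hk' (i := 0) (j := i * orderOf (k * α ^ i)) (by simpa using e)
    have hdvd : 2 ^ (n + 3) ∣ i * orderOf (k * α ^ i) := Nat.modEq_zero_iff_dvd.1 this.symm
    rcases Nat.even_or_odd i with ⟨c, rfl⟩ | hodd
    · have hc : Odd c := by
        by_contra hc
        obtain ⟨d, rfl⟩ := Nat.not_odd_iff_even.1 hc
        exact h4 ⟨d, by ring⟩
      rw [show 2 ^ (n + 3) = 2 * 2 ^ (n + 2) by ring, show (c + c) * orderOf (k * α ^ (c + c)) =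
        2 * (c * orderOf (k * α ^ (c + c))) by ring] at hdvd
      exact ((Nat.coprime_two_left.2 hc).pow_left _).dvd_of_dvd_mul_left
        (Nat.dvd_of_mul_dvd_mul_left two_pos hdvd)
    · exact (pow_dvd_pow 2 (by omega)).trans
        (((Nat.coprime_two_left.2 hodd).pow_left _).dvd_of_dvd_mul_left hdvd)

theorem four_dvd (hQ : QuatLocal S n D α β K) {y : G} (h : Nat.card D ∣ orderOf y) : 4 ∣ orderOf y := by
  rw [hQ.card_D] at h
  exact (show 4 ∣ 2 ^ (n + 2) from ⟨2 ^ n, by ring⟩).trans h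

theorem D_le_zpowers (hQ : QuatLocal S n D α β K) {y : G} (hy : y ∈ Subgroup.centralizer (D : Set G))
    (hd : Nat.card D ∣ orderOf y) : D ≤ Subgroup.zpowers y := by
  set d := Nat.card D with hddef
  set z := y ^ (orderOf y / d) with hz
  have hzC : z ∈ Subgroup.centralizer (D : Set G) := Subgroup.pow_mem _ hy _
  have hzo : orderOf z = d := by
    rw [hz, orderOf_pow_of_dvd, Nat.div_div_self hd (orderOf_pos y).ne']
    · exact (Nat.div_pos (Nat.le_of_dvd (orderOf_pos y) hd) Nat.card_pos).ne'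
    · exact Nat.div_dvd_of_dvd hd
  obtain ⟨k, hk, i, e⟩ := hQ.C_decomp z hzC
  have h4 : ¬ 4 ∣ i := (hQ.dvd_orderOf_iff hk i).1 (by rw [← e, hzo])
  obtain ⟨s, hs⟩ : ∃ s, i * s ≡ 2 [MOD 2 ^ (n + 3)] := by
    rcases Nat.even_or_odd i with ⟨c, rfl⟩ | hodd
    · have hc : Odd c := by
        by_contra hc
        obtain ⟨d', rfl⟩ := Nat.not_odd_iff_even.1 hc
        exact h4 ⟨d', by ring⟩
      obtain ⟨s, -, hs⟩ := Nat.exists_mul_mod_eq_one_of_coprime
        ((Nat.coprime_two_right.2 hc).pow_right (n + 3)) (one_lt_pow₀ one_lt_two (by omega))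
      refine ⟨s, ?_⟩
      have : c * s ≡ 1 [MOD 2 ^ (n + 3)] := by
        rw [Nat.ModEq, hs, Nat.one_mod_eq_one.2 (by have := Nat.one_lt_two_pow (n := n + 3) (by omega); omega)]
      rw [show (c + c) * s = 2 * (c * s) by ring]
      simpa using this.mul_left 2
    · obtain ⟨s, -, hs⟩ := Nat.exists_mul_mod_eq_one_of_coprime
        ((Nat.coprime_two_right.2 hodd).pow_right (n + 3)) (one_lt_pow₀ one_lt_two (by omega))
      refine ⟨s * 2, ?_⟩
      have : i * s ≡ 1 [MOD 2 ^ (n + 3)] := by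
        rw [Nat.ModEq, hs, Nat.one_mod_eq_one.2 (by have := Nat.one_lt_two_pow (n := n + 3) (by omega); omega)]
      rw [show i * (s * 2) = i * s * 2 by ring]
      simpa using this.mul_right 2
  obtain ⟨k', hk', e'⟩ := hQ.pow_decomp hk i s
  have hα2 : α ^ (i * s) = α ^ 2 := by rw [pow_eq_pow_iff_modEq, hQ.orderOf_α]; exact hs
  rw [← e, hα2] at e'
  have hcomm : Commute (α ^ 2) (z ^ s) := by
    have : α ^ 2 ∈ D := by rw [hQ.eq_zpowers]; exact Subgroup.mem_zpowers _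
    exact (Subgroup.pow_mem _ hzC s) _ this
  have hk1 : k' = 1 := by
    have hk'' : k' = z ^ s * (α ^ 2)⁻¹ := by rw [e', mul_inv_cancel_right]
    refine orderOf_eq_one_iff.1 (Nat.eq_one_of_dvd_coprimes ((Nat.coprime_two_right.2 hQ.odd_K).pow_right (n + 3))
      (Subgroup.orderOf_dvd_natCard _ hk') (orderOf_dvd_of_pow_eq_one ?_))
    have h1 : (z ^ s) ^ 2 ^ (n + 3) = 1 := orderOf_dvd_iff_pow_eq_one.1 ((orderOf_pow_dvd s).trans
      (by rw [hzo, hddef, hQ.card_D]; exact pow_dvd_pow 2 (by omega)))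
    have h2 : (α ^ 2) ^ 2 ^ (n + 3) = 1 := orderOf_dvd_iff_pow_eq_one.1 ((orderOf_pow_dvd 2).trans
      (by rw [hQ.orderOf_α]))
    rw [hk'', (hcomm.symm.inv_right).mul_pow, h1, inv_pow, h2, inv_one, mul_one]
  rw [hk1, one_mul] at e'
  rw [hQ.eq_zpowers, Subgroup.zpowers_le, ← e', hz, ← pow_mul]
  exact Subgroup.pow_mem _ (Subgroup.mem_zpowers _) _

theorem mem_normalizer_of_conj (hQ : QuatLocal S n D α β K) {g y : G}
    (hy : y ∈ Subgroup.centralizer (D : Set G)) (hd : Nat.card D ∣ orderOf y)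
    (hgy : g * y * g⁻¹ ∈ Subgroup.centralizer (D : Set G)) : g ∈ Subgroup.normalizer (D : Set G) := by
  have h1 := hQ.D_le_zpowers hy hd
  have h2 := hQ.D_le_zpowers hgy (by rwa [orderOf_conj_eq])
  have h3 : D.map (MulAut.conj g).toMonoidHom ≤ Subgroup.zpowers (g * y * g⁻¹) := by
    refine (Subgroup.map_mono h1).trans ?_
    rw [MonoidHom.map_zpowers]
    simp
  rw [Subgroup.mem_normalizer_iff_map_conj_eq]
  refine Subgroup.eq_of_le_of_card_ge (fun x hx => mem_of_pow_card_eq_one h2 (h3 hx) ?_) ?_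
  · rw [← orderOf_dvd_iff_pow_eq_one,
      Nat.card_congr (Subgroup.equivMapOfInjective D (MulAut.conj g).toMonoidHom (MulAut.conj g).injective).toEquiv]
    exact Subgroup.orderOf_dvd_natCard _ hx
  · exact (Nat.card_congr (Subgroup.equivMapOfInjective D (MulAut.conj g).toMonoidHom (MulAut.conj g).injective).toEquiv).le

/-- No involution inverts an element of the exceptional set. -/
theorem not_inverted (hQ : QuatLocal S n D α β K) {t y : G} (ht : t * t = 1)
    (hy : y ∈ Subgroup.centralizer (D : Set G)) (hd : Nat.card D ∣ orderOf y) :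
    t * y * t⁻¹ ≠ y⁻¹ := by
  intro h
  have hgy : t * y * t⁻¹ ∈ Subgroup.centralizer (D : Set G) := by rw [h]; exact Subgroup.inv_mem _ hy
  have htN := hQ.mem_normalizer_of_conj hy hd hgy
  have hα2 : α ^ 2 ∈ D := by rw [hQ.eq_zpowers]; exact Subgroup.mem_zpowers _
  rcases hQ.N_decomp t htN with htC | htC
  · obtain ⟨z, hz⟩ := hQ.D_le_zpowers hy hd hα2
    have h1 : t * α ^ 2 * t⁻¹ = (α ^ 2)⁻¹ := by
      simp only at hz
      rw [← hz, ← conj_zpow, h, inv_zpow]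
    rw [← htC _ hα2, mul_inv_cancel_right, eq_inv_iff_mul_eq_one, ← pow_add] at h1
    have := Nat.le_of_dvd (by norm_num) (orderOf_dvd_of_pow_eq_one h1)
    rw [hQ.orderOf_α] at this
    have : 2 ^ 3 ≤ 2 ^ (n + 3) := Nat.pow_le_pow_right two_pos (by omega)
    omega
  · obtain ⟨k, hk, i, e⟩ := hQ.C_decomp _ htC
    have hβN := hQ.S_le hQ.β_mem
    set c := β⁻¹ * k * β⁻¹⁻¹ with hc
    have hcK : c ∈ K := hQ.conj_mem_K ((Subgroup.normalizer _).inv_mem hβN) hk
    have hβi : β⁻¹ * α ^ i * β = (α ^ i)⁻¹ := by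
      have := congrArg (fun x => x⁻¹) (show β * α ^ i * β⁻¹ = (α ^ i)⁻¹ by rw [← conj_pow, hQ.β_conj, inv_pow])
      calc β⁻¹ * α ^ i * β = β⁻¹ * ((α ^ i)⁻¹)⁻¹ * β := by rw [inv_inv]
        _ = β⁻¹ * (β * (α ^ i)⁻¹ * β⁻¹) * β := by rw [← this]; group
        _ = (α ^ i)⁻¹ := by group
    have htt : t * t = k * (α ^ i * c * (α ^ i)⁻¹) * (β ^ 2)⁻¹ := by
      have ht' : t = k * α ^ i * β⁻¹ := by rw [← e]; group
      calc t * t = k * α ^ i * c * (β⁻¹ * α ^ i * β) * (β ^ 2)⁻¹ := by rw [ht', hc, pow_two]; group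
        _ = _ := by rw [hβi]; group
    rw [ht, hQ.β_sq] at htt
    have := hQ.exp_unique K.one_mem (K.mul_mem hk (hQ.conj_mem_K
      (centralizer_le_normalizer' D (Subgroup.pow_mem _ hQ.α_mem_C i)) hcK)) (i := 2 ^ (n + 2)) (j := 0) (by
        rw [pow_zero, mul_one, one_mul]
        exact (mul_inv_eq_one.1 htt.symm).symm)
    have h2 := Nat.le_of_dvd (by positivity) (Nat.modEq_zero_iff_dvd.1 this)
    rw [pow_succ (n := n + 2)] at h2
    have : 0 < 2 ^ (n + 2) := by positivity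
    omega

/-- The linear character of order four of `C(D)` trivial on `K`. -/
theorem exists_lambda (hQ : QuatLocal S n D α β K) :
    ∃ l : ↥(Subgroup.centralizer (D : Set G)) →* ℂˣ,
      ∀ (y : ↥(Subgroup.centralizer (D : Set G))) (k : G) (i : ℕ), k ∈ K → (y : G) = k * α ^ i →
        (l y : ℂ) = Complex.I ^ i := by
  choose k hk i hi using fun y : ↥(Subgroup.centralizer (D : Set G)) => hQ.C_decomp y y.2
  let ι : ℂˣ := Units.mk0 Complex.I Complex.I_ne_zero
  have hwd : ∀ {a b : ℕ}, a ≡ b [MOD 2 ^ (n + 3)] → ι ^ a = ι ^ b := by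
    intro a b h
    have h4 : ι ^ 4 = 1 := Units.ext (by simp [ι, Complex.I_pow_four])
    rw [pow_eq_pow_mod a h4, pow_eq_pow_mod b h4]
    congr 1
    exact h.of_dvd ⟨2 ^ (n + 1), by ring⟩
  refine ⟨MonoidHom.mk' (fun y => ι ^ i y) fun a b => ?_, fun y k' j hk' e => ?_⟩
  · obtain ⟨k'', hk'', e⟩ := hQ.mul_decomp (hk a) (hk b) (i a) (i b)
    rw [← pow_add]
    refine hwd (hQ.exp_unique (hk (a * b)) hk'' ?_)
    rw [← e, ← hi, ← hi, ← hi]
    rfl
  · have := hwd (hQ.exp_unique (hk y) hk' ((hi y).symm.trans e))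
    simpa [ι] using congrArg Units.val this

end QuatLocal

variable {G : Type*} [Group G] [Fintype G]

/-- The exceptional pair, with the value of their difference on the element of index four. -/
theorem quat_exceptional_pair (S : Sylow 2 G) {n : ℕ} (e : (S : Subgroup G) ≃* QuaternionGroup (2 ^ (n + 2))) :
    ∃ χ₁ χ₂ : G → ℂ, Cfsg.IsIrrCharacter G χ₁ ∧ Cfsg.IsIrrCharacter G χ₂ ∧ χ₁ ≠ (fun _ => 1) ∧
      χ₂ ≠ (fun _ => 1) ∧ χ₁ 1 = χ₂ 1 + 1 ∧ (∀ g : G, ¬ 4 ∣ orderOf g → χ₁ g - χ₂ g = 1) ∧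
      (∀ t x : G, t * t = 1 → x * x = 1 → χ₁ (t * x) - χ₂ (t * x) = 1) ∧
      ∃ α β : G, α ∈ (S : Subgroup G) ∧ β * α * β⁻¹ = α⁻¹ ∧ β ∈ (S : Subgroup G) ∧
        orderOf α = 2 ^ (n + 3) ∧ (∀ s ∈ (S : Subgroup G), ∃ i : ℕ, s = α ^ i ∨ s = α ^ i * β) ∧
        ¬ (χ₁ (α ^ 2) = χ₁ 1 ∧ χ₂ (α ^ 2) = χ₂ 1) := by
  classical
  obtain ⟨α, β, K, hQ⟩ := quat_local S e _ rfl
  set D := ⁅(S : Subgroup G), (S : Subgroup G)⁆
  set N := Subgroup.normalizer (D : Set G) with hN
  set C := Subgroup.centralizer (D : Set G) with hC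
  have hCN : C ≤ N := QuatLocal.centralizer_le_normalizer' D
  have hβN : β ∈ N := hQ.S_le hQ.β_mem
  obtain ⟨l, hl⟩ := hQ.exists_lambda
  set A : Set G := {y | y ∈ C ∧ Nat.card D ∣ orderOf y} with hA
  have hTI : ∀ g : G, g ∉ N → ∀ s ∈ A, g * s * g⁻¹ ∉ A := fun g hg s hs h =>
    hg (hQ.mem_normalizer_of_conj hs.1 hs.2 h.1)
  have hAN : ∀ g ∈ N, ∀ s ∈ A, g * s * g⁻¹ ∈ A := fun g hg s hs =>
    ⟨QuatLocal.conj_mem_C hg hs.1, by rw [orderOf_conj_eq]; exact hs.2⟩
  set φ : C → ℂ := fun y => 1 - (l y : ℂ) with hφ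
  have hφA : ∀ y : C, (y : G) ∉ A → φ y = 0 := by
    intro y hy
    obtain ⟨k, hk, i, hi⟩ := hQ.C_decomp y y.2
    have h4 : 4 ∣ i := by
      by_contra h
      exact hy ⟨y.2, by rw [hi]; exact (hQ.dvd_orderOf_iff hk i).2 h⟩
    obtain ⟨c, rfl⟩ := h4
    simp only [hφ, hl y k _ hk hi, pow_mul, Complex.I_pow_four, one_pow, sub_self]
  set CN := C.subgroupOf N
  set φN : CN → ℂ := fun x => φ ⟨(x : N), Subgroup.mem_subgroupOf.mp x.2⟩ with hφN
  set ψ : N → ℂ := Cfsg.indFun CN φN with hψ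
  set Θ : G → ℂ := Cfsg.indFun C φ with hΘ
  have hΘψ : Θ = Cfsg.indFun N ψ := (indFun_indFun C N hCN φ).symm
  have hψA : ∀ x : N, (x : G) ∉ A → ψ x = 0 := by
    intro x hx
    refine indFun_eq_zero_of_support (S := {z : N | (z : G) ∈ A}) (fun z hz => hφA ⟨((z : N) : G), Subgroup.mem_subgroupOf.mp z.2⟩ hz) fun y hy => ?_
    refine hx ?_
    have := hAN y y.2 _ hy
    simpa [mul_assoc] using this
  have hψcl : Cfsg.IsClassFunction N ψ := isClassFunction_indFun CN φN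
  have hlinC : Cfsg.IsIrrCharacter C (fun y => (l y : ℂ)) := isIrrCharacter_linear l
  have hlinvC : Cfsg.IsIrrCharacter C (fun y => ((l y)⁻¹ : ℂˣ)) :=
    isIrrCharacter_linear (invMonoidHom.comp l)
  have hαC := hQ.α_mem_C
  have hlα : (l ⟨α, hαC⟩ : ℂ) = Complex.I := by
    rw [hl ⟨α, hαC⟩ 1 1 K.one_mem (by simp), pow_one]
  have hne1 : (fun _ : C => (1 : ℂ)) ≠ fun y => (l y : ℂ) := fun h => by
    have := congrFun h ⟨α, hαC⟩
    simp only [hlα] at this
    simpa using congrArg Complex.re this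
  have hne2 : (fun _ : C => (1 : ℂ)) ≠ fun y => (((l y)⁻¹ : ℂˣ) : ℂ) := fun h => by
    have := congrFun h ⟨α, hαC⟩
    simp only [Units.val_inv_eq_inv_val, hlα, Complex.inv_I] at this
    simpa using congrArg Complex.re this
  have hne3 : (fun y : C => (l y : ℂ)) ≠ fun y => (((l y)⁻¹ : ℂˣ) : ℂ) := fun h => by
    have := congrFun h ⟨α, hαC⟩
    simp only [Units.val_inv_eq_inv_val, hlα, Complex.inv_I] at this
    have := congrArg Complex.im this
    norm_num at this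
  have hβflip : ∀ y : C, ∀ h : β * (y : G) * β⁻¹ ∈ C, (l ⟨_, h⟩ : ℂ) = ((l y)⁻¹ : ℂˣ) := by
    intro y h
    obtain ⟨k, hk, i, hi⟩ := hQ.C_decomp y y.2
    have hM : α ^ (2 ^ (n + 3)) = 1 := by rw [← hQ.orderOf_α, pow_orderOf_eq_one]
    have h3 : 1 ≤ 2 ^ (n + 3) := Nat.one_le_two_pow
    have e1 : β * (y : G) * β⁻¹ = (β * k * β⁻¹) * α ^ (i * (2 ^ (n + 3) - 1)) := by
      have e2 : α ^ (i * (2 ^ (n + 3) - 1)) = (α ^ i)⁻¹ := by
        refine (inv_eq_of_mul_eq_one_left ?_).symm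
        rw [← pow_add, show i * (2 ^ (n + 3) - 1) + i = 2 ^ (n + 3) * i by
          rw [← Nat.mul_succ, mul_comm]; congr 1; omega, pow_mul, hM, one_pow]
      rw [e2, hi, ← inv_pow, ← hQ.β_conj, conj_pow]; group
    rw [hl ⟨_, h⟩ _ _ (hQ.conj_mem_K hβN hk) e1, Units.val_inv_eq_inv_val, hl y k i hk hi]
    refine eq_inv_of_mul_eq_one_left ?_
    rw [← pow_add, show i * (2 ^ (n + 3) - 1) + i = 4 * (2 ^ (n + 1) * i) by
      rw [← Nat.mul_succ, Nat.succ_eq_add_one, Nat.sub_add_cancel h3]; ring,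
      pow_mul, Complex.I_pow_four, one_pow]
  have hψres : ∀ y : C, ψ ⟨y, hCN y.2⟩ = (1 - (l y : ℂ)) + (1 - (((l y)⁻¹ : ℂˣ) : ℂ)) := by
    intro y
    have key : ∀ x : N, Cfsg.extendByZero CN φN (x⁻¹ * ⟨y, hCN y.2⟩ * x) =
        if (x : G) ∈ C then 1 - (l y : ℂ) else 1 - (((l y)⁻¹ : ℂˣ) : ℂ) := by
      intro x
      have hm : (x : G)⁻¹ * (y : G) * x ∈ C := by
        simpa using QuatLocal.conj_mem_C (N.inv_mem x.2) y.2
      rw [extendByZero_of_mem CN φN (show x⁻¹ * ⟨y, hCN y.2⟩ * x ∈ CN from Subgroup.mem_subgroupOf.2 hm)]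
      show φ ⟨(x : G)⁻¹ * (y : G) * x, hm⟩ = _
      by_cases hx : (x : G) ∈ C
      · rw [if_pos hx]
        have : (⟨(x : G)⁻¹ * (y : G) * x, hm⟩ : C) = (⟨x, hx⟩ : C)⁻¹ * y * ⟨x, hx⟩ := Subtype.ext rfl
        simp only [hφ, this, map_mul, map_inv, inv_mul_cancel_comm]
      · rw [if_neg hx]
        have hxβ : (x : G) * β ∈ C := (hQ.N_decomp x x.2).resolve_left hx
        set c : C := ⟨(x : G) * β, hxβ⟩
        have hm' : β * ((c⁻¹ * y * c : C) : G) * β⁻¹ ∈ C := QuatLocal.conj_mem_C hβN (c⁻¹ * y * c : C).2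
        have : (⟨(x : G)⁻¹ * (y : G) * x, hm⟩ : C) = ⟨_, hm'⟩ := by
          refine Subtype.ext ?_
          show (x : G)⁻¹ * (y : G) * x = β * (((x : G) * β)⁻¹ * y * ((x : G) * β)) * β⁻¹
          group
        simp only [hφ, this, hβflip, map_mul, map_inv, inv_mul_cancel_comm]
    simp only [hψ, Cfsg.indFun, key, Finset.sum_ite, Finset.sum_const, nsmul_eq_mul]
    have hc1 : ((univ : Finset N).filter fun x : N => (x : G) ∈ C).card = Nat.card C := by
      rw [← Fintype.card_subtype, ← Nat.card_eq_fintype_card]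
      exact Nat.card_congr (Subgroup.subgroupOfEquivOfLe hCN).toEquiv
    have hc2 : ((univ : Finset N).filter fun x : N => ¬ (x : G) ∈ C).card = Nat.card C := by
      rw [← hc1]
      refine Finset.card_bij' (fun x _ => x * ⟨β, hβN⟩) (fun x _ => x * ⟨β, hβN⟩⁻¹) ?_ ?_ ?_ ?_
      · intro x hx
        simp only [Finset.mem_filter, Finset.mem_univ, true_and, Subgroup.coe_mul] at hx ⊢
        exact (hQ.N_decomp x x.2).resolve_left hx
      · intro x hx
        simp only [Finset.mem_filter, Finset.mem_univ, true_and, Subgroup.coe_mul, Subgroup.coe_inv] at hx ⊢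
        exact fun h => hQ.β_not_mem (by simpa [mul_assoc] using C.mul_mem (C.inv_mem h) hx)
      · intro x _; simp
      · intro x _; simp
    rw [hc1, hc2, show Nat.card CN = Nat.card C from Nat.card_congr (Subgroup.subgroupOfEquivOfLe hCN).toEquiv]
    have : (Nat.card C : ℂ) ≠ 0 := Nat.cast_ne_zero.2 Nat.card_pos.ne'
    field_simp
  have hnorm : Cfsg.classInner Θ Θ = 3 := by
    rw [hΘψ, ti_indFun_inner hTI hψA hψcl hψA, ← ti_indFun_inner hTI hψA hψcl hψA, ← hΘψ]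
    conv_lhs => rw [hΘ, frobenius_reciprocity C φ (isClassFunction_indFun C φ)]
    have hres : (fun y : C => Cfsg.indFun C φ y) =
        (fun _ => (1 : ℂ)) - (fun y : C => (l y : ℂ)) + ((fun _ => (1 : ℂ)) - fun y : C => (((l y)⁻¹ : ℂˣ) : ℂ)) := by
      funext y
      rw [← hΘ, hΘψ]
      simp only [Pi.add_apply, Pi.sub_apply]
      by_cases hy : (y : G) ∈ A
      · rw [← hψres y]
        exact ti_indFun_eq hTI hψcl hψA (x := ⟨y, hCN y.2⟩) hy
      · have h0 : ψ ⟨y, hCN y.2⟩ = 0 := hψA _ hy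
        rw [hψres y] at h0
        rw [h0]
        refine indFun_eq_zero_of_support hψA fun x hx => hy ?_
        have hxy : x⁻¹ * (y : G) * x ∈ A := hx
        by_cases hxN : x ∈ N
        · have := hAN x hxN _ hxy
          simpa [mul_assoc] using this
        · obtain ⟨k, hk, i, hi⟩ := hQ.C_decomp y y.2
          exact ⟨y.2, by rw [← orderOf_conj_eq x⁻¹ (y : G), inv_inv]; exact hxy.2⟩
    rw [hres, show φ = (fun _ : C => (1 : ℂ)) - (fun y => (l y : ℂ)) from rfl]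
    rw [classInner_sub_left, classInner_add_right, classInner_sub_right, classInner_sub_right,
      classInner_add_right, classInner_sub_right, classInner_sub_right]
    erw [classInner_self_of_irr isIrrCharacter_one, classInner_self_of_irr hlinC,
      classInner_eq_zero_of_irr isIrrCharacter_one hlinC hne1,
      classInner_eq_zero_of_irr hlinC isIrrCharacter_one hne1.symm,
      classInner_eq_zero_of_irr isIrrCharacter_one hlinvC hne2,
      classInner_eq_zero_of_irr hlinC hlinvC hne3]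
    norm_num
  have hone : Cfsg.classInner Θ (fun _ => 1) = 1 := by
    rw [hΘ, frobenius_reciprocity C φ (IsIrr.isClassFunction isIrrCharacter_one),
      show φ = (fun _ : C => (1 : ℂ)) - (fun y => (l y : ℂ)) from rfl, classInner_sub_left,
      classInner_self_of_irr isIrrCharacter_one, classInner_eq_zero_of_irr hlinC isIrrCharacter_one hne1.symm,
      sub_zero]
  have h0 : Θ 1 = 0 := by rw [hΘ, indFun_apply_one]; simp [hφ]
  have hgen : Cfsg.IsGeneralizedCharacter G Θ :=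
    IsGen.indFun C (IsGen.sub isGen_one (IsGen.of_irr hlinC))
  obtain ⟨a, b, ha, hb, ha1, hb1, hab, hΘab⟩ := IsGen.norm_three hgen hnorm hone h0
  have hzero : ∀ g : G, (∀ x : G, x⁻¹ * g * x ∉ A) → a g - b g = 1 := by
    intro g hg
    have : Θ g = 0 := indFun_eq_zero_of_support hφA hg
    rw [hΘab] at this
    simp only [Pi.sub_apply, Pi.add_apply] at this
    linear_combination -this
  refine ⟨a, b, ha, hb, ha1, hb1, hab, fun g hg => hzero g fun x hx => hg ?_, fun t u ht hu => hzero _ ?_,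
    α, β, hQ.α_mem, hQ.β_conj, hQ.β_mem, hQ.orderOf_α, hQ.mem_S, ?_⟩
  · have := hQ.four_dvd hx.2
    simpa using (orderOf_conj_eq x⁻¹ g) ▸ (by simpa using this : 4 ∣ orderOf (x⁻¹ * g * x⁻¹⁻¹))
  · intro x hx
    refine hQ.not_inverted (t := x⁻¹ * t * x) ?_ hx.1 hx.2 ?_
    · rw [show x⁻¹ * t * x * (x⁻¹ * t * x) = x⁻¹ * (t * t) * x by group, ht]; group
    · have h1 : t⁻¹ = t := inv_eq_of_mul_eq_one_right ht
      have h2 : u⁻¹ = u := inv_eq_of_mul_eq_one_right hu
      calc x⁻¹ * t * x * (x⁻¹ * (t * u) * x) * (x⁻¹ * t * x)⁻¹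
          = x⁻¹ * (t * t) * u * t⁻¹ * x := by group
        _ = x⁻¹ * u⁻¹ * t⁻¹ * x := by rw [ht, h2]; group
        _ = _ := by group
  · rintro ⟨h1, h2⟩
    have hα2C : α ^ 2 ∈ C := C.pow_mem hαC 2
    have hA2 : α ^ 2 ∈ A := by
      refine ⟨hα2C, ?_⟩
      rw [← one_mul (α ^ 2)]
      exact (hQ.dvd_orderOf_iff K.one_mem 2).2 (by norm_num)
    have hv : Θ (α ^ 2) = 4 := by
      rw [hΘψ, ti_indFun_eq hTI hψcl hψA (x := ⟨α ^ 2, hCN hα2C⟩) hA2, hψres ⟨α ^ 2, hα2C⟩,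
        Units.val_inv_eq_inv_val, hl ⟨α ^ 2, hα2C⟩ 1 2 K.one_mem (by simp), Complex.I_sq]
      norm_num
    rw [hΘab] at hv
    simp only [Pi.sub_apply, Pi.add_apply] at hv
    rw [h1, h2, hab] at hv
    have : (4 : ℂ) = 0 := by linear_combination -hv
    norm_num at this

/-- Involutions lie in the kernels of the exceptional pair. -/
theorem quat_exceptional_ker {χ₁ χ₂ : G → ℂ} (h₁ : Cfsg.IsIrrCharacter G χ₁) (h₂ : Cfsg.IsIrrCharacter G χ₂)
    (hdeg : χ₁ 1 = χ₂ 1 + 1) (h4 : ∀ g : G, ¬ 4 ∣ orderOf g → χ₁ g - χ₂ g = 1)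
    (hprod : ∀ t x : G, t * t = 1 → x * x = 1 → χ₁ (t * x) - χ₂ (t * x) = 1) {t : G} (ht : orderOf t = 2) :
    χ₁ t = χ₁ 1 ∧ χ₂ t = χ₂ 1 := by
  have htt : t * t = 1 := by rw [← pow_two, ← ht, pow_orderOf_eq_one]
  have hdiff : χ₁ t = χ₂ t + 1 := by
    have := h4 t (by rw [ht]; norm_num)
    linear_combination this
  have s1 := CharAction.apply_mul_apply h₁ t t
  have s2 := CharAction.apply_mul_apply h₂ t t
  have hs : (∑ g : G, χ₁ (t * (g * t * g⁻¹))) - ∑ g : G, χ₂ (t * (g * t * g⁻¹)) = Nat.card G := by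
    rw [← Finset.sum_sub_distrib, Finset.sum_congr rfl (fun g _ => hprod t (g * t * g⁻¹) htt
      (by rw [show g * t * g⁻¹ * (g * t * g⁻¹) = g * (t * t) * g⁻¹ by group, htt]; group))]
    simp [Nat.card_eq_fintype_card]
  obtain ⟨f, hf, hf'⟩ := IsIrr.exists_degree h₂
  set u := ∑ g : G, χ₁ (t * (g * t * g⁻¹))
  set v := ∑ g : G, χ₂ (t * (g * t * g⁻¹))
  rw [hdeg, hdiff, hf'] at s1
  rw [hf'] at s2
  have hN : (Nat.card G : ℂ) ≠ 0 := Nat.cast_ne_zero.2 Nat.card_pos.ne'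
  have h0 : (Nat.card G : ℂ) * ((χ₂ t - f) * (χ₂ t - f)) = 0 := by
    linear_combination ((f : ℂ) + 1) * s2 - (f : ℂ) * s1 - ((f : ℂ) * ((f : ℂ) + 1)) * hs
  have : χ₂ t = f := by
    rcases mul_eq_zero.1 ((mul_eq_zero.1 h0).resolve_left hN) with h | h <;> linear_combination h
  exact ⟨by rw [hdiff, hdeg, hf', this], by rw [hf', this]⟩

theorem quat_normal_quotient (S : Sylow 2 G) {n : ℕ} (e : (S : Subgroup G) ≃* QuaternionGroup (2 ^ (n + 2))) :
    ∃ M : Subgroup G, M.Normal ∧ Even (Nat.card M) ∧ ¬ commutator G ≤ M := by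
  obtain ⟨a, b, ha, hb, -, -, hdeg, h4, hprod, α, β, -, -, -, hoα, -, -⟩ := quat_exceptional_pair S e
  obtain ⟨M, hM, hMem⟩ := CharDegree.exists_ker (IsIrr.isCharacter ha)
  have ht : orderOf (α ^ 2 ^ (n + 2)) = 2 := by
    rw [orderOf_pow_of_dvd (by positivity) (hoα ▸ pow_dvd_pow 2 (by omega)), hoα,
      pow_succ (n := n + 2), Nat.mul_div_cancel_left _ (by positivity)]
  refine ⟨M, hM, ?_, fun h => ?_⟩
  · refine even_iff_two_dvd.2 (ht ▸ Subgroup.orderOf_dvd_natCard _ ?_)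
    exact (hMem _).2 (quat_exceptional_ker ha hb hdeg h4 hprod ht).1
  · have h1 := (CharDegree.charDegree_eq_one_iff_commutator ⟨a, ha⟩).2 fun g hg => (hMem g).1 (h hg)
    have h2 := CharDegree.cast_charDegree (IsIrr.isCharacter ha)
    rw [h1, hdeg] at h2
    obtain ⟨f, hf, hf'⟩ := IsIrr.exists_degree hb
    rw [hf'] at h2
    have : ((1 : ℕ) : ℂ) = ((f + 1 : ℕ) : ℂ) := by push_cast; simpa using h2
    have := Nat.cast_injective this
    omega

/-- The involutions generate a subgroup whose intersection with `S` is cyclic. -/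
theorem quat_involution_inf (S : Sylow 2 G) {n : ℕ} (e : (S : Subgroup G) ≃* QuaternionGroup (2 ^ (n + 2))) :
    IsCyclic ↥((S : Subgroup G) ⊓ Subgroup.closure {g : G | orderOf g = 2}) := by
  obtain ⟨a, b, ha, hb, -, -, hdeg, h4, hprod, α, β, hαS, hba, hβS, -, hS, hnot⟩ := quat_exceptional_pair S e
  set I := Subgroup.closure {g : G | orderOf g = 2}
  obtain ⟨Ma, hMa, hMema⟩ := CharDegree.exists_ker (IsIrr.isCharacter ha)
  obtain ⟨Mb, hMb, hMemb⟩ := CharDegree.exists_ker (IsIrr.isCharacter hb)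
  have hle : I ≤ Ma ⊓ Mb := (Subgroup.closure_le _).2 fun t ht =>
    ⟨(hMema t).2 (quat_exceptional_ker ha hb hdeg h4 hprod ht).1,
      (hMemb t).2 (quat_exceptional_ker ha hb hdeg h4 hprod ht).2⟩
  haveI : IsCyclic (Subgroup.zpowers α) := inferInstance
  suffices h : (S : Subgroup G) ⊓ I ≤ Subgroup.zpowers α from
    isCyclic_of_injective _ (Subgroup.inclusion_injective h)
  intro x hx
  obtain ⟨i, rfl | rfl⟩ := hS x hx.1
  · exact Subgroup.pow_mem _ (Subgroup.mem_zpowers α) i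
  · exfalso
    refine hnot ?_
    have hm := hle hx.2
    haveI : (Ma ⊓ Mb).Normal := Subgroup.normal_inf_normal Ma Mb
    have h1 := (Ma ⊓ Mb).mul_mem (Subgroup.Normal.conj_mem (inferInstance : (Ma ⊓ Mb).Normal) _ hm α)
      ((Ma ⊓ Mb).inv_mem hm)
    have h2 : α * (α ^ i * β) * α⁻¹ * (α ^ i * β)⁻¹ = α ^ 2 := by
      calc α * (α ^ i * β) * α⁻¹ * (α ^ i * β)⁻¹
          = α * α ^ i * (β * α⁻¹ * β⁻¹) * (α ^ i)⁻¹ := by group
        _ = α * α ^ i * (β * α * β⁻¹)⁻¹ * (α ^ i)⁻¹ := by group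
        _ = α * (α ^ i * α) * (α ^ i)⁻¹ := by rw [hba, inv_inv]; group
        _ = α * (α * α ^ i) * (α ^ i)⁻¹ := by rw [(Commute.pow_self α i).eq]
        _ = α * α := by simp [mul_assoc]
        _ = _ := (pow_two α).symm
    rw [h2] at h1
    exact ⟨(hMema _).1 h1.1, (hMemb _).1 h1.2⟩

theorem sylow_cyclic_of_inf {I : Subgroup G} (hIn : I.Normal) (S : Sylow 2 G)
    (hc : IsCyclic ↥((S : Subgroup G) ⊓ I)) (Q : Sylow 2 I) : IsCyclic Q := by
  haveI := hc
  obtain ⟨P, hP⟩ := (Q.2.map I.subtype).exists_le_sylow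
  obtain ⟨g, hg⟩ := MulAction.exists_smul_eq G P S
  let f : (Q : Subgroup I) →* ↥((S : Subgroup G) ⊓ I) :=
    { toFun := fun q => ⟨g * ((q : I) : G) * g⁻¹,
        ⟨by
          rw [← hg, Sylow.coe_subgroup_smul]
          exact ⟨((q : I) : G), hP ⟨q, q.2, rfl⟩, rfl⟩, hIn.conj_mem _ (q : I).2 g⟩⟩
      map_one' := by simp
      map_mul' := fun x y => Subtype.ext (by simp [mul_assoc]) }
  refine isCyclic_of_injective f fun x y h => ?_
  have := congrArg Subtype.val h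
  simp only [f, MonoidHom.coe_mk, OneHom.coe_mk, mul_left_inj, mul_right_inj] at this
  exact Subtype.ext (Subtype.ext this)

theorem involutions_closure_normal : (Subgroup.closure {g : G | orderOf g = 2}).Normal := ⟨fun x hx g => by
  have hmap : (Subgroup.closure {g : G | orderOf g = 2}).map (MulAut.conj g).toMonoidHom ≤
      Subgroup.closure {g : G | orderOf g = 2} := by
    rw [MonoidHom.map_closure]
    refine (Subgroup.closure_le _).2 ?_
    rintro _ ⟨w, hw, rfl⟩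
    refine Subgroup.subset_closure ?_
    show orderOf (g * w * g⁻¹) = 2
    rwa [orderOf_conj_eq]
  exact hmap ⟨x, hx, rfl⟩⟩

theorem quat_sylow_cyclic (S : Sylow 2 G) {n : ℕ} (e : (S : Subgroup G) ≃* QuaternionGroup (2 ^ (n + 2)))
    (Q : Sylow 2 ↥(Subgroup.closure {g : G | orderOf g = 2})) : IsCyclic Q :=
  sylow_cyclic_of_inf involutions_closure_normal S (quat_involution_inf S e) Q

theorem quat_center_two (S : Sylow 2 G) {n : ℕ} (e : (S : Subgroup G) ≃* QuaternionGroup (2 ^ (n + 2)))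
    (hO : ∀ N : Subgroup G, N.Normal → Odd (Nat.card N) → N = ⊥) :
    Nat.card (Subgroup.center G) = 2 := by
  classical
  obtain ⟨α, β, K, hQ⟩ := quat_local S e _ rfl
  set t := α ^ 2 ^ (n + 2) with ht'
  have ht : orderOf t = 2 := by
    rw [ht', orderOf_pow_of_dvd (by positivity) (hQ.orderOf_α ▸ pow_dvd_pow 2 (by omega)), hQ.orderOf_α,
      pow_succ (n := n + 2), Nat.mul_div_cancel_left _ (by positivity)]
  set I := Subgroup.closure {g : G | orderOf g = 2} with hI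
  have htI : t ∈ I := Subgroup.subset_closure ht
  haveI hIn : I.Normal := ⟨fun x hx g => by
    have hmap : I.map (MulAut.conj g).toMonoidHom ≤ I := by
      rw [hI, MonoidHom.map_closure]
      refine (Subgroup.closure_le _).2 ?_
      rintro _ ⟨w, hw, rfl⟩
      refine Subgroup.subset_closure ?_
      show orderOf (g * w * g⁻¹) = 2
      rwa [orderOf_conj_eq]
    exact hmap ⟨x, hx, rfl⟩⟩
  obtain ⟨Q⟩ : Nonempty (Sylow 2 I) := inferInstance
  obtain ⟨K', hodd, hsup, hmem⟩ := exists_odd_complement_of_cyclic Q (quat_sylow_cyclic S e Q)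
  have hK' : K'.map I.subtype = ⊥ := by
    refine hO _ ⟨?_⟩ ?_
    · rintro _ ⟨k, hk, rfl⟩ g
      refine ⟨⟨g * k * g⁻¹, hIn.conj_mem _ k.2 g⟩, ?_, rfl⟩
      rw [SetLike.mem_coe, hmem] at hk ⊢
      rw [← Subgroup.orderOf_coe] at hk ⊢
      show Odd (orderOf (g * (k : G) * g⁻¹))
      rwa [orderOf_conj_eq]
    · rw [← Nat.card_congr (Subgroup.equivMapOfInjective K' _ I.subtype_injective).toEquiv]; exact hodd
  have hKbot : K' = ⊥ := (Subgroup.map_eq_bot_iff_of_injective _ I.subtype_injective).1 hK'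
  rw [hKbot, bot_sup_eq] at hsup
  haveI : IsCyclic I := by
    have := quat_sylow_cyclic S e Q
    haveI : IsCyclic (⊤ : Subgroup I) := hsup ▸ this
    exact Subgroup.topEquiv.isCyclic.1 inferInstance
  let _ := IsCyclic.commGroup (α := I)
  have hexp : ∀ x : I, x ^ 2 = 1 := by
    have hgen : I ≤ (MonoidHom.ker (powMonoidHom 2 : I →* I)).map I.subtype := by
      refine le_trans hI.le ((Subgroup.closure_le _).2 ?_)
      intro x hx
      refine ⟨⟨x, Subgroup.subset_closure hx⟩, ?_, rfl⟩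
      show (⟨x, _⟩ : I) ^ 2 = 1
      apply Subtype.ext
      show x ^ 2 = 1
      rw [← (show orderOf x = 2 from hx), pow_orderOf_eq_one]
    intro x
    obtain ⟨y, hy, hyx⟩ := hgen x.2
    rw [← I.subtype_injective hyx]
    exact hy
  have huniq : ∀ x : G, orderOf x = 2 → x = t := by
    intro x hx
    have hm : (⟨x, Subgroup.subset_closure hx⟩ : I) ∈ Subgroup.zpowers (⟨t, htI⟩ : I) := by
      refine mem_of_pow_card_eq_one (A := ⊤) le_top (Subgroup.mem_top _) ?_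
      rw [Nat.card_zpowers, ← Subgroup.orderOf_coe, ht]
      exact hexp _
    obtain ⟨z, hz⟩ := hm
    have hz' : t ^ z = x := congrArg Subtype.val hz
    have htt : t ^ (2 : ℤ) = 1 := by rw [zpow_ofNat, ← ht, pow_orderOf_eq_one]
    rcases Int.even_or_odd z with ⟨w, rfl⟩ | ⟨w, rfl⟩
    · rw [← two_mul, zpow_mul, htt, one_zpow] at hz'
      rw [← hz', orderOf_one] at hx; norm_num at hx
    · rw [zpow_add, zpow_mul, htt, one_zpow, one_mul, zpow_one] at hz'
      exact hz'.symm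
  have htc : t ∈ Subgroup.center G := Subgroup.mem_center_iff.2 fun g => by
    have := huniq (g * t * g⁻¹) (by rw [orderOf_conj_eq, ht])
    nth_rewrite 2 [← this]; group
  have hZ : ∀ z ∈ Subgroup.center G, z = 1 ∨ z = t := by
    intro z hz
    have hzn : ∀ w : G, w ∈ Subgroup.center G → (Subgroup.zpowers w).Normal := fun w hw => ⟨fun x hx g => by
      have hxc : x ∈ Subgroup.center G := Subgroup.zpowers_le.2 hw hx
      rw [Subgroup.mem_center_iff.1 hxc g, mul_inv_cancel_right]; exact hx⟩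
    obtain ⟨k, m, hm, hkm⟩ := Nat.exists_eq_pow_mul_and_not_dvd (orderOf_pos z).ne' 2 (by norm_num)
    have hw : z ^ (2 ^ k) = 1 := by
      have h1 := hO (Subgroup.zpowers (z ^ 2 ^ k)) (hzn _ (Subgroup.pow_mem _ hz _)) ?_
      · exact Subgroup.zpowers_eq_bot.1 h1
      · rw [Nat.card_zpowers, orderOf_pow_of_dvd (by positivity) (hkm ▸ dvd_mul_right _ _), hkm,
          Nat.mul_div_cancel_left _ (by positivity), ← Nat.not_even_iff_odd, even_iff_two_dvd]
        exact hm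
    haveI := hzn z hz
    have hp : IsPGroup 2 (Subgroup.zpowers z) := by
      obtain ⟨j, -, hj⟩ := (Nat.dvd_prime_pow Nat.prime_two).1 (orderOf_dvd_of_pow_eq_one hw)
      exact IsPGroup.of_card (n := j) (by rw [Nat.card_zpowers, hj])
    obtain ⟨P, hP⟩ := hp.exists_le_sylow
    obtain ⟨g, hg⟩ := MulAction.exists_smul_eq G P S
    have hzS : z ∈ (S : Subgroup G) := by
      rw [← hg, Sylow.coe_subgroup_smul]
      refine ⟨z, hP (Subgroup.mem_zpowers z), ?_⟩
      show g * z * g⁻¹ = z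
      rw [Subgroup.mem_center_iff.1 hz g, mul_inv_cancel_right]
    have hzA : z ∈ Subgroup.zpowers α := by
      rw [← hQ.inf_eq]
      exact ⟨hzS, fun d _ => Subgroup.mem_center_iff.1 hz d⟩
    obtain ⟨i, rfl⟩ := mem_powers_iff_mem_zpowers.2 hzA
    have h2 : (α ^ i) ^ 2 = 1 := by
      have := Subgroup.mem_center_iff.1 hz β
      simp only at this
      have h1 : β * α ^ i * β⁻¹ = (α ^ i)⁻¹ := by rw [← conj_pow, hQ.β_conj, inv_pow]
      rw [this, mul_inv_cancel_right] at h1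
      rw [pow_two]
      exact mul_eq_one_iff_eq_inv.2 h1
    rcases eq_or_ne (α ^ i) 1 with h | h
    · exact Or.inl h
    · exact Or.inr (huniq _ (orderOf_eq_prime h2 h))
  have : Subgroup.center G = Subgroup.zpowers t := le_antisymm (fun z hz => by
      rcases hZ z hz with rfl | rfl
      exacts [Subgroup.one_mem _, Subgroup.mem_zpowers _]) (Subgroup.zpowers_le.2 htc)
  rw [this, Nat.card_zpowers, ht]

end CfsgLib.Char.Exceptional
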