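import Mathlib
import Cfsg.Agent.Lib.Char.Exceptional.Virtual
import Cfsg.Prelude.Def_OddOrderChar

/-! Linear isometries on spans of irreducible characters and the basic coherence lemmas. -/

set_option autoImplicit false

open scoped ComplexConjugate
open Finset

namespace CfsgLib.Char.Exceptional

open CfsgLib.Char

variable {L : Type*} [Group L] [Fintype L] {G : Type*} [Group G] [Fintype G]

section Zspan

variable {X : Type*}

theorem zspan_subset {S T : Set (X → ℂ)} (h : S ⊆ T) : Cfsg.zspan S ⊆ Cfsg.zspan T :=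
  SetLike.coe_subset_coe.2 (Submodule.span_mono h)

theorem zspanOn_subset {S T : Set (X → ℂ)} (A : Set X) (h : S ⊆ T) :
    Cfsg.zspanOn S A ⊆ Cfsg.zspanOn T A := fun _ hα => ⟨zspan_subset h hα.1, hα.2⟩

theorem mem_zspan_self {S : Set (X → ℂ)} {f : X → ℂ} (h : f ∈ S) : f ∈ Cfsg.zspan S :=
  Submodule.subset_span h

theorem natCast_smul_mem_zspan {S : Set (X → ℂ)} (n : ℕ) {f : X → ℂ} (h : f ∈ Cfsg.zspan S) :
    (n : ℂ) • f ∈ Cfsg.zspan S := by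
  rw [Nat.cast_smul_eq_nsmul ℂ]
  exact (Submodule.span ℤ S).toAddSubgroup.nsmul_mem h n

theorem mem_zspan_iff_sum {S : Finset (X → ℂ)} {f : X → ℂ} :
    f ∈ Cfsg.zspan (↑S : Set (X → ℂ)) ↔ ∃ n : (X → ℂ) → ℤ, f = ∑ ξ ∈ S, (n ξ : ℂ) • ξ := by
  classical
  constructor
  · intro h
    obtain ⟨n, -, hn⟩ := Submodule.mem_span_finset.1 h
    exact ⟨n, by rw [← hn]; simp only [Int.cast_smul_eq_zsmul]⟩
  · rintro ⟨n, rfl⟩
    refine Submodule.sum_mem _ fun ξ hξ => ?_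
    rw [Int.cast_smul_eq_zsmul]
    exact Submodule.smul_mem _ _ (Submodule.subset_span hξ)

theorem combo_mem_zspanOn_one {X : Type*} [One X] {S : Set (X → ℂ)} {ξ η : X → ℂ} (hξ : ξ ∈ S) (hη : η ∈ S)
    {a b : ℕ} (ha : ξ 1 = a) (hb : η 1 = b) :
    (b : ℂ) • ξ - (a : ℂ) • η ∈ Cfsg.zspanOn S ({1}ᶜ : Set X) := by
  refine ⟨(Submodule.span ℤ S).sub_mem (natCast_smul_mem_zspan b (mem_zspan_self hξ))
    (natCast_smul_mem_zspan a (mem_zspan_self hη)), fun x hx => ?_⟩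
  simp only [Set.mem_compl_iff, Set.mem_singleton_iff, not_not] at hx
  subst hx
  simp [ha, hb, mul_comm]

end Zspan

omit [Fintype L] [Fintype G] in
theorem sub_mem_zspanOn_one {S : Set (L → ℂ)} {ξ η : L → ℂ} (hξ : ξ ∈ S) (hη : η ∈ S) (h : ξ 1 = η 1) :
    ξ - η ∈ Cfsg.zspanOn S ({1}ᶜ : Set L) := by
  refine ⟨(Submodule.span ℤ S).sub_mem (mem_zspan_self hξ) (mem_zspan_self hη), fun x hx => ?_⟩
  simp only [Set.mem_compl_iff, Set.mem_singleton_iff, not_not] at hx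
  subst hx
  simp [h]

omit [Fintype L] [Fintype G] in
/-- A set of irreducible characters is finite. -/
theorem finite_of_irr [Finite L] {S : Set (L → ℂ)} (h : ∀ χ ∈ S, Cfsg.IsIrrCharacter L χ) : S.Finite :=
  (Set.finite_range (fun χ : Cfsg.IrrCharacter L => (χ : L → ℂ))).subset fun χ hχ => ⟨⟨χ, h χ hχ⟩, rfl⟩

theorem IsLinearIsometryOn.mono {E E' : Set (L → ℂ)} {τ : (L → ℂ) → (G → ℂ)}
    (h : Cfsg.IsLinearIsometryOn E τ) (hE : E' ⊆ E) : Cfsg.IsLinearIsometryOn E' τ :=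
  ⟨fun α hα β hβ => h.1 α (hE hα) β (hE hβ), fun α hα => h.2.1 α (hE hα),
    fun α hα β hβ => h.2.2.1 α (hE hα) β (hE hβ), fun α hα => h.2.2.2 α (hE hα)⟩

theorem iso_map_natCast_smul {E : Set (L → ℂ)} {τ : (L → ℂ) → (G → ℂ)}
    (h : Cfsg.IsLinearIsometryOn E τ) {α : L → ℂ} (hα : α ∈ E) (n : ℕ) :
    τ ((n : ℂ) • α) = (n : ℂ) • τ α := by
  have := h.2.1 α hα (n : ℤ)
  simpa only [natCast_zsmul, ← Nat.cast_smul_eq_nsmul ℂ] using this

theorem iso_map_sub {S : Set (L → ℂ)} {τ : (L → ℂ) → (G → ℂ)}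
    (h : Cfsg.IsLinearIsometryOn (Cfsg.zspan S) τ) {α β : L → ℂ} (hα : α ∈ Cfsg.zspan S)
    (hβ : β ∈ Cfsg.zspan S) : τ (α - β) = τ α - τ β := by
  have h1 := h.1 (α - β) ((Submodule.span ℤ S).sub_mem hα hβ) β hβ
  rw [sub_add_cancel] at h1
  rw [h1, add_sub_cancel_right]

theorem isoOn_map_sub {S : Set (L → ℂ)} {A : Set L} {τ : (L → ℂ) → (G → ℂ)}
    (h : Cfsg.IsLinearIsometryOn (Cfsg.zspanOn S A) τ) {α β : L → ℂ} (hα : α ∈ Cfsg.zspanOn S A)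
    (hβ : β ∈ Cfsg.zspanOn S A) : τ (α - β) = τ α - τ β := by
  have h1 := h.1 (α - β) ⟨(Submodule.span ℤ S).sub_mem hα.1 hβ.1,
    fun x hx => by simp [hα.2 x hx, hβ.2 x hx]⟩ β hβ
  rw [sub_add_cancel] at h1
  rw [h1, add_sub_cancel_right]

/-- The linear map with prescribed values on an orthonormal family of irreducible characters. -/
noncomputable def extMap (S : Finset (L → ℂ)) (v : (L → ℂ) → (G → ℂ)) : (L → ℂ) → (G → ℂ) :=
  fun f => ∑ ξ ∈ S, Cfsg.classInner f ξ • v ξ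

variable {S : Finset (L → ℂ)} {v : (L → ℂ) → (G → ℂ)}

omit [Fintype G] in
theorem extMap_add (f g : L → ℂ) : extMap S v (f + g) = extMap S v f + extMap S v g := by
  simp only [extMap, classInner_add_left, add_smul, Finset.sum_add_distrib]

omit [Fintype G] in
theorem extMap_smul (c : ℂ) (f : L → ℂ) : extMap S v (c • f) = c • extMap S v f := by
  simp only [extMap, classInner_smul_left, mul_smul, ← Finset.smul_sum]

omit [Fintype G] in
theorem extMap_sub (f g : L → ℂ) : extMap S v (f - g) = extMap S v f - extMap S v g := by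
  simp only [extMap, classInner_sub_left, sub_smul, Finset.sum_sub_distrib]

omit [Fintype G] in
theorem extMap_apply_mem (hS : ∀ ξ ∈ S, Cfsg.IsIrrCharacter L ξ) {ξ : L → ℂ} (hξ : ξ ∈ S) :
    extMap S v ξ = v ξ := by
  classical
  simp only [extMap]
  rw [Finset.sum_eq_single ξ (fun η hη hne => ?_) (fun h => absurd hξ h),
    classInner_self_of_irr (hS ξ hξ), one_smul]
  rw [classInner_eq_zero_of_irr (hS ξ hξ) (hS η hη) (Ne.symm hne), zero_smul]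

omit [Fintype G] in
theorem extMap_sum (hS : ∀ ξ ∈ S, Cfsg.IsIrrCharacter L ξ) (n : (L → ℂ) → ℂ) :
    extMap S v (∑ ξ ∈ S, n ξ • ξ) = ∑ ξ ∈ S, n ξ • v ξ := by
  classical
  simp only [extMap]
  refine Finset.sum_congr rfl fun ξ hξ => ?_
  rw [classInner_sum_left, Finset.sum_eq_single ξ (fun η hη hne => ?_) (fun h => absurd hξ h),
    classInner_smul_left, classInner_self_of_irr (hS ξ hξ), mul_one]
  rw [classInner_smul_left, classInner_eq_zero_of_irr (hS η hη) (hS ξ hξ) hne, mul_zero]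

open scoped Classical in
theorem extMap_isometry (hS : ∀ ξ ∈ S, Cfsg.IsIrrCharacter L ξ)
    (hv : ∀ ξ ∈ S, ∀ η ∈ S, Cfsg.classInner (v ξ) (v η) = if ξ = η then 1 else 0)
    (hgen : ∀ ξ ∈ S, Cfsg.IsGeneralizedCharacter G (v ξ)) :
    Cfsg.IsLinearIsometryOn (Cfsg.zspan (↑S : Set (L → ℂ))) (extMap S v) := by
  refine ⟨fun α _ β _ => extMap_add α β, fun α _ n => ?_, ?_, ?_⟩
  · rw [← Int.cast_smul_eq_zsmul ℂ, extMap_smul, Int.cast_smul_eq_zsmul]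
  · intro α hα β hβ
    obtain ⟨a, rfl⟩ := mem_zspan_iff_sum.1 hα
    obtain ⟨b, rfl⟩ := mem_zspan_iff_sum.1 hβ
    rw [extMap_sum hS, extMap_sum hS]
    simp only [classInner_sum_left, classInner_sum_right, classInner_smul_left, classInner_smul_right]
    refine Finset.sum_congr rfl fun ξ hξ => ?_
    congr 1
    refine Finset.sum_congr rfl fun η hη => ?_
    rw [hv η hη ξ hξ, classInner_of_irr (hS η hη) (hS ξ hξ)]
  · intro α hα
    obtain ⟨a, rfl⟩ := mem_zspan_iff_sum.1 hα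
    rw [extMap_sum hS]
    exact IsGen.sum _ fun ξ hξ => IsGen.intCast_smul _ (hgen ξ hξ)

/-- The images of irreducible characters under a coherent extension are irreducible up to one sign. -/
theorem iso_signs {S : Set (L → ℂ)} (hirr : ∀ χ ∈ S, Cfsg.IsIrrCharacter L χ)
    (htwo : ∃ χ ∈ S, ∃ ψ ∈ S, χ ≠ ψ) {τ₁ : (L → ℂ) → (G → ℂ)}
    (hτ₁ : Cfsg.IsLinearIsometryOn (Cfsg.zspan S) τ₁) (h0 : ∀ α ∈ Cfsg.zspan S, α 1 = 0 → τ₁ α 1 = 0) :
    ∃ ε : ℂ, (ε = 1 ∨ ε = -1) ∧ (∀ χ ∈ S, Cfsg.IsIrrCharacter G (ε • τ₁ χ)) ∧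
      (∀ χ ∈ S, ∀ ψ ∈ S, τ₁ χ = τ₁ ψ → χ = ψ) := by
  obtain ⟨χ₀, hχ₀, -⟩ := htwo
  have hnorm : ∀ χ ∈ S, Cfsg.classInner (τ₁ χ) (τ₁ χ) = 1 := fun χ hχ => by
    rw [hτ₁.2.2.1 χ (mem_zspan_self hχ) χ (mem_zspan_self hχ)]
    exact classInner_self_of_irr (hirr χ hχ)
  choose! a e he ha hae using fun χ (hχ : χ ∈ S) =>
    IsGen.norm_one (hτ₁.2.2.2 χ (mem_zspan_self hχ)) (hnorm χ hχ)
  have hsame : ∀ χ ∈ S, e χ = e χ₀ := by
    intro χ hχ
    obtain ⟨i, hi, hi'⟩ := IsIrr.exists_degree (hirr χ hχ)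
    obtain ⟨j, hj, hj'⟩ := IsIrr.exists_degree (hirr χ₀ hχ₀)
    obtain ⟨k, hk, hk'⟩ := IsIrr.exists_degree (ha χ hχ)
    obtain ⟨l, hl, hl'⟩ := IsIrr.exists_degree (ha χ₀ hχ₀)
    have hmem : (j : ℂ) • χ - (i : ℂ) • χ₀ ∈ Cfsg.zspanOn S ({1}ᶜ : Set L) :=
      combo_mem_zspanOn_one hχ hχ₀ hi' hj'
    have h1 := h0 _ hmem.1 (hmem.2 1 (by simp))
    rw [iso_map_sub hτ₁ (natCast_smul_mem_zspan _ (mem_zspan_self hχ))
      (natCast_smul_mem_zspan _ (mem_zspan_self hχ₀)), iso_map_natCast_smul hτ₁ (mem_zspan_self hχ),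
      iso_map_natCast_smul hτ₁ (mem_zspan_self hχ₀), hae χ hχ, hae χ₀ hχ₀] at h1
    simp only [Pi.sub_apply, Pi.smul_apply, smul_eq_mul, hk', hl'] at h1
    rcases he χ hχ with h | h <;> rcases he χ₀ hχ₀ with h' | h' <;> rw [h, h'] at h1 ⊢ <;> exfalso
    · have : ((j * k + i * l : ℕ) : ℂ) = 0 := by push_cast; linear_combination h1
      rw [Nat.cast_eq_zero] at this
      have := Nat.mul_pos hj hk
      omega
    · have : ((j * k + i * l : ℕ) : ℂ) = 0 := by push_cast; linear_combination -h1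
      rw [Nat.cast_eq_zero] at this
      have := Nat.mul_pos hj hk
      omega
  refine ⟨e χ₀, he χ₀ hχ₀, fun χ hχ => ?_, fun χ hχ ψ hψ h => ?_⟩
  · rw [hae χ hχ, hsame χ hχ, smul_smul]
    rcases he χ₀ hχ₀ with h | h <;> simpa [h] using ha χ hχ
  · by_contra hne
    have h1 := hτ₁.2.2.1 χ (mem_zspan_self hχ) ψ (mem_zspan_self hψ)
    rw [classInner_eq_zero_of_irr (hirr χ hχ) (hirr ψ hψ) hne, ← h, hnorm χ hχ] at h1
    exact one_ne_zero h1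

/-- Two differences of irreducibles with inner product one share exactly one end. -/
theorem share_one {a b c d : G → ℂ} (ha : Cfsg.IsIrrCharacter G a) (hb : Cfsg.IsIrrCharacter G b)
    (hc : Cfsg.IsIrrCharacter G c) (hd : Cfsg.IsIrrCharacter G d) (hab : a ≠ b) (hcd : c ≠ d)
    (h : Cfsg.classInner (a - b) (c - d) = 1) : (a = c ∧ b ≠ d) ∨ (a ≠ c ∧ b = d) := by
  classical
  rw [classInner_sub_left, classInner_sub_right, classInner_sub_right, classInner_of_irr ha hc,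
    classInner_of_irr ha hd, classInner_of_irr hb hc, classInner_of_irr hb hd] at h
  by_cases h1 : a = c <;> by_cases h2 : b = d
  · exfalso
    subst h1 h2
    rw [if_pos rfl, if_pos rfl, if_neg hab, if_neg hab.symm] at h
    norm_num at h
  · exact Or.inl ⟨h1, h2⟩
  · exact Or.inr ⟨h1, h2⟩
  · exfalso
    rw [if_neg h1, if_neg h2] at h
    split_ifs at h <;> norm_num at h

/-- Coherence of irreducible characters of one degree, as a sign and a family of irreducibles. -/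
theorem const_degree_family {S : Set (L → ℂ)} (hirr : ∀ χ ∈ S, Cfsg.IsIrrCharacter L χ)
    (hdeg : ∀ χ ∈ S, ∀ ψ ∈ S, χ 1 = ψ 1) (htwo : ∃ χ ∈ S, ∃ ψ ∈ S, χ ≠ ψ) {τ : (L → ℂ) → (G → ℂ)}
    (hτ : Cfsg.IsLinearIsometryOn (Cfsg.zspanOn S ({1}ᶜ : Set L)) τ)
    (hτ1 : ∀ α ∈ Cfsg.zspanOn S ({1}ᶜ : Set L), τ α 1 = 0) :
    ∃ (ε : ℂ) (f : (L → ℂ) → (G → ℂ)), (ε = 1 ∨ ε = -1) ∧ (∀ χ ∈ S, Cfsg.IsIrrCharacter G (f χ)) ∧
      (∀ χ ∈ S, ∀ ψ ∈ S, f χ = f ψ → χ = ψ) ∧ ∀ χ ∈ S, ∀ ψ ∈ S, τ (χ - ψ) = ε • (f χ - f ψ) := by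
  classical
  obtain ⟨χ₀, h₀, χ₁, h₁, h01⟩ := htwo
  have hmem : ∀ χ ∈ S, χ₀ - χ ∈ Cfsg.zspanOn S ({1}ᶜ : Set L) := fun χ hχ =>
    sub_mem_zspanOn_one h₀ hχ (hdeg _ h₀ _ hχ)
  have hII : ∀ χ ∈ S, ∀ ψ ∈ S, χ ≠ χ₀ → ψ ≠ χ₀ →
      Cfsg.classInner (τ (χ₀ - χ)) (τ (χ₀ - ψ)) = if χ = ψ then 2 else 1 := by
    intro χ hχ ψ hψ hne hne'
    rw [hτ.2.2.1 _ (hmem χ hχ) _ (hmem ψ hψ), classInner_sub_left, classInner_sub_right, classInner_sub_right,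
      classInner_self_of_irr (hirr _ h₀), classInner_eq_zero_of_irr (hirr _ h₀) (hirr _ hψ) (Ne.symm hne'),
      classInner_eq_zero_of_irr (hirr _ hχ) (hirr _ h₀) hne, classInner_of_irr (hirr _ hχ) (hirr _ hψ)]
    split_ifs <;> norm_num
  choose! a b ha hb hab hD using fun χ (h : χ ∈ S ∧ χ ≠ χ₀) =>
    IsGen.norm_two (hτ.2.2.2 _ (hmem χ h.1)) ((hII χ h.1 χ h.1 h.2 h.2).trans (if_pos rfl)) (hτ1 _ (hmem χ h.1))
  have hsh : ∀ χ ψ : L → ℂ, χ ∈ S → χ ≠ χ₀ → ψ ∈ S → ψ ≠ χ₀ → χ ≠ ψ →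
      (a χ = a ψ ∧ b χ ≠ b ψ) ∨ (a χ ≠ a ψ ∧ b χ = b ψ) := by
    intro χ ψ hχ hne hψ hne' hcp
    refine share_one (ha χ ⟨hχ, hne⟩) (hb χ ⟨hχ, hne⟩) (ha ψ ⟨hψ, hne'⟩) (hb ψ ⟨hψ, hne'⟩)
      (hab χ ⟨hχ, hne⟩) (hab ψ ⟨hψ, hne'⟩) ?_
    rw [← hD χ ⟨hχ, hne⟩, ← hD ψ ⟨hψ, hne'⟩, hII χ hχ ψ hψ hne hne', if_neg hcp]
  -- either all share the positive end, or all share the negative end
  have halt : (∀ χ ∈ S, χ ≠ χ₀ → a χ = a χ₁) ∨ (∀ χ ∈ S, χ ≠ χ₀ → b χ = b χ₁) := by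
    by_cases h : ∀ χ ∈ S, χ ≠ χ₀ → a χ = a χ₁
    · exact Or.inl h
    · push Not at h
      obtain ⟨χ, hχ, hne, hane⟩ := h
      have hc1 : χ ≠ χ₁ := fun e => hane (by rw [e])
      have hbc : b χ = b χ₁ := (hsh χ χ₁ hχ hne h₁ h01.symm hc1).elim (fun h => absurd h.1 hane) And.right
      refine Or.inr fun ψ hψ hne' => ?_
      by_contra hbne
      have hp1 : ψ ≠ χ₁ := fun e => hbne (by rw [e])
      have hap : a ψ = a χ₁ := (hsh ψ χ₁ hψ hne' h₁ h01.symm hp1).elim And.left (fun h => absurd h.2 hbne)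
      have hpc : ψ ≠ χ := fun e => hane (by rw [← e]; exact hap)
      rcases hsh ψ χ hψ hne' hχ hne hpc with h | h
      · exact hane (h.1.symm.trans hap)
      · exact hbne (h.2.trans hbc)
  have hext : ∀ (ε : ℂ) (f : (L → ℂ) → (G → ℂ)),
      (∀ χ ∈ S, χ ≠ χ₀ → τ (χ₀ - χ) = ε • (f χ₀ - f χ)) →
      ∀ χ ∈ S, ∀ ψ ∈ S, τ (χ - ψ) = ε • (f χ - f ψ) := by
    intro ε f h χ hχ ψ hψ
    have hz : τ (χ₀ - χ₀) = 0 := by
      have := isoOn_map_sub hτ (hmem _ h₀) (hmem _ h₀)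
      simpa using this
    have h' : ∀ χ ∈ S, τ (χ₀ - χ) = ε • (f χ₀ - f χ) := by
      intro χ hχ
      by_cases e : χ = χ₀
      · subst e; rw [hz, sub_self, smul_zero]
      · exact h χ hχ e
    have he : χ - ψ = (χ₀ - ψ) - (χ₀ - χ) := by abel
    rw [he, isoOn_map_sub hτ (hmem ψ hψ) (hmem χ hχ), h' ψ hψ, h' χ hχ, ← smul_sub]
    congr 1; abel
  rcases halt with h | h
  · refine ⟨1, fun χ => if χ = χ₀ then a χ₁ else b χ, Or.inl rfl, fun χ hχ => ?_, ?_, hext _ _ fun χ hχ hne => ?_⟩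
    · show Cfsg.IsIrrCharacter G (if χ = χ₀ then a χ₁ else b χ)
      split_ifs with e
      · exact ha χ₁ ⟨h₁, h01.symm⟩
      · exact hb χ ⟨hχ, e⟩
    · intro χ hχ ψ hψ e
      by_contra hne
      by_cases e1 : χ = χ₀
      · have e2 : ψ ≠ χ₀ := fun e2 => hne (e1.trans e2.symm)
        simp only [if_pos e1, if_neg e2, ← h ψ hψ e2] at e
        exact hab ψ ⟨hψ, e2⟩ e
      · by_cases e2 : ψ = χ₀
        · simp only [if_neg e1, if_pos e2, ← h χ hχ e1] at e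
          exact hab χ ⟨hχ, e1⟩ e.symm
        · simp only [if_neg e1, if_neg e2] at e
          exact (hsh χ ψ hχ e1 hψ e2 hne).elim (fun h' => h'.2 e)
            (fun h' => h'.1 ((h χ hχ e1).trans (h ψ hψ e2).symm))
    · simp only [if_pos, if_neg hne, one_smul, hD χ ⟨hχ, hne⟩, h χ hχ hne]
  · refine ⟨-1, fun χ => if χ = χ₀ then b χ₁ else a χ, Or.inr rfl, fun χ hχ => ?_, ?_, hext _ _ fun χ hχ hne => ?_⟩
    · show Cfsg.IsIrrCharacter G (if χ = χ₀ then b χ₁ else a χ)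
      split_ifs with e
      · exact hb χ₁ ⟨h₁, h01.symm⟩
      · exact ha χ ⟨hχ, e⟩
    · intro χ hχ ψ hψ e
      by_contra hne
      by_cases e1 : χ = χ₀
      · have e2 : ψ ≠ χ₀ := fun e2 => hne (e1.trans e2.symm)
        simp only [if_pos e1, if_neg e2, ← h ψ hψ e2] at e
        exact hab ψ ⟨hψ, e2⟩ e.symm
      · by_cases e2 : ψ = χ₀
        · simp only [if_neg e1, if_pos e2, ← h χ hχ e1] at e
          exact hab χ ⟨hχ, e1⟩ e
        · simp only [if_neg e1, if_neg e2] at e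
          exact (hsh χ ψ hχ e1 hψ e2 hne).elim (fun h' => h'.2 ((h χ hχ e1).trans (h ψ hψ e2).symm))
            (fun h' => h'.1 e)
    · simp only [if_pos, if_neg hne, hD χ ⟨hχ, hne⟩, h χ hχ hne, neg_smul, one_smul, neg_sub]

/-- Constant degree gives coherence. -/
theorem coherent_of_const_degree_irr {S : Set (L → ℂ)} (hirr : ∀ χ ∈ S, Cfsg.IsIrrCharacter L χ)
    (hdeg : ∀ χ ∈ S, ∀ ψ ∈ S, χ 1 = ψ 1) (htwo : ∃ χ ∈ S, ∃ ψ ∈ S, χ ≠ ψ) {τ : (L → ℂ) → (G → ℂ)}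
    (hτ : Cfsg.IsLinearIsometryOn (Cfsg.zspanOn S ({1}ᶜ : Set L)) τ)
    (hτ1 : ∀ α ∈ Cfsg.zspanOn S ({1}ᶜ : Set L), τ α 1 = 0) :
    Cfsg.IsCoherent S ({1}ᶜ : Set L) τ := by
  classical
  obtain ⟨χ₀, h₀, χ₁, h₁, h01⟩ := id htwo
  obtain ⟨ε, f, hε, hf, hinj, hdiff⟩ := const_degree_family hirr hdeg htwo hτ hτ1
  obtain ⟨T, rfl⟩ := (finite_of_irr hirr).exists_finset_coe
  refine ⟨⟨χ₀ - χ₁, sub_mem_zspanOn_one h₀ h₁ (hdeg _ h₀ _ h₁), sub_ne_zero.2 h01⟩,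
    extMap T (fun ξ => ε • f ξ), extMap_isometry hirr ?_ ?_, ?_⟩
  · intro ξ hξ η hη
    rw [classInner_smul_left, classInner_smul_right, classInner_of_irr (hf ξ hξ) (hf η hη)]
    have : ε * (starRingEnd ℂ) ε = 1 := by rcases hε with rfl | rfl <;> simp
    rw [← mul_assoc, this, one_mul]
    by_cases e : ξ = η
    · subst e; simp
    · rw [if_neg e, if_neg (fun h => e (hinj ξ hξ η hη h))]
  · intro ξ hξ
    rcases hε with rfl | rfl
    · simpa using IsGen.of_irr (hf ξ hξ)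
    · simpa using IsGen.neg (IsGen.of_irr (hf ξ hξ))
  · intro α hα
    obtain ⟨n, hn⟩ := mem_zspan_iff_sum.1 hα.1
    have h1 : ∑ ξ ∈ T, (n ξ : ℂ) = 0 := by
      have h0 := hα.2 1 (by simp)
      rw [hn] at h0
      simp only [Finset.sum_apply, Pi.smul_apply, smul_eq_mul] at h0
      rw [Finset.sum_congr rfl (fun ξ hξ => by rw [hdeg ξ hξ χ₀ h₀]), ← Finset.sum_mul] at h0
      exact (mul_eq_zero.1 h0).resolve_right (IsIrr.apply_one_ne_zero (hirr _ h₀))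
    have hkey : ∀ U ⊆ T, τ (∑ ξ ∈ U, (n ξ : ℂ) • (ξ - χ₀)) = ∑ ξ ∈ U, (n ξ : ℂ) • τ (ξ - χ₀) ∧
        ∑ ξ ∈ U, (n ξ : ℂ) • (ξ - χ₀) ∈ Cfsg.zspanOn (↑T : Set (L → ℂ)) ({1}ᶜ : Set L) := by
      intro U hU
      induction U using Finset.induction_on with
      | empty =>
        have hm : (0 : L → ℂ) ∈ Cfsg.zspanOn (↑T : Set (L → ℂ)) ({1}ᶜ : Set L) :=
          ⟨zero_mem (Submodule.span ℤ (↑T : Set (L → ℂ))), fun _ _ => rfl⟩
        have h2 := isoOn_map_sub hτ hm hm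
        rw [sub_self, sub_self] at h2
        simp only [Finset.sum_empty]
        exact ⟨h2, hm⟩
      | insert x U hx ih =>
        obtain ⟨ih1, ih2⟩ := ih ((Finset.subset_insert _ _).trans hU)
        have hx' := sub_mem_zspanOn_one (S := (↑T : Set (L → ℂ))) (hU (Finset.mem_insert_self _ _)) h₀
          (hdeg _ (hU (Finset.mem_insert_self _ _)) _ h₀)
        have hm : (n x : ℂ) • (x - χ₀) ∈ Cfsg.zspanOn (↑T : Set (L → ℂ)) ({1}ᶜ : Set L) := by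
          rw [Int.cast_smul_eq_zsmul]
          exact ⟨(Submodule.span ℤ (↑T : Set (L → ℂ))).smul_mem _ hx'.1,
            fun y hy => by simp [hx'.2 y hy]⟩
        rw [Finset.sum_insert hx, Finset.sum_insert hx, hτ.1 _ hm _ ih2, ih1]
        refine ⟨?_, ⟨(Submodule.span ℤ (↑T : Set (L → ℂ))).add_mem hm.1 ih2.1,
          fun y hy => by rw [Pi.add_apply, hm.2 y hy, ih2.2 y hy, add_zero]⟩⟩
        rw [Int.cast_smul_eq_zsmul, hτ.2.1 _ hx', ← Int.cast_smul_eq_zsmul ℂ]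
    have he : α = ∑ ξ ∈ T, (n ξ : ℂ) • (ξ - χ₀) := by
      simp only [smul_sub, Finset.sum_sub_distrib, ← Finset.sum_smul, h1, zero_smul, sub_zero]
      exact hn
    conv_rhs => rw [he, (hkey T subset_rfl).1]
    rw [hn, extMap_sum hirr]
    rw [Finset.sum_congr rfl (g := fun ξ => (n ξ : ℂ) • (ε • f ξ) - (n ξ : ℂ) • (ε • f χ₀))
        (fun ξ hξ => show (n ξ : ℂ) • τ (ξ - χ₀) = _ by rw [hdiff ξ hξ χ₀ h₀, smul_sub, smul_sub]),
      Finset.sum_sub_distrib, ← Finset.sum_smul, h1, zero_smul, sub_zero]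

end CfsgLib.Char.Exceptional
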