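import Mathlib
import Cfsg.Agent.Lib.Char.Exceptional.Coherence

/-! Gluing coherent pieces, Feit's criterion, and coherence systems. -/

set_option autoImplicit false

open scoped ComplexConjugate
open Finset

namespace CfsgLib.Char.Exceptional

open CfsgLib.Char

variable {L : Type*} [Group L] [Fintype L] {G : Type*} [Group G] [Fintype G]

omit [Fintype L] [Fintype G] in
theorem zsmul_mem_zspanOn {S : Set (L → ℂ)} {A : Set L} {f : L → ℂ} (h : f ∈ Cfsg.zspanOn S A) (n : ℤ) :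
    (n : ℂ) • f ∈ Cfsg.zspanOn S A := by
  rw [Int.cast_smul_eq_zsmul]
  exact ⟨(Submodule.span ℤ S).smul_mem n h.1, fun x hx => by simp [h.2 x hx]⟩

theorem iso_map_zero {E : Set (L → ℂ)} {τ : (L → ℂ) → (G → ℂ)}
    (h : Cfsg.IsLinearIsometryOn E τ) (h0 : (0 : L → ℂ) ∈ E) : τ 0 = 0 := by
  have := h.1 0 h0 0 h0
  rw [add_zero] at this
  exact left_eq_add.1 this

theorem iso_eq_extMap {T : Finset (L → ℂ)} (hirr : ∀ ξ ∈ T, Cfsg.IsIrrCharacter L ξ)
    {τ₁ : (L → ℂ) → (G → ℂ)} (h : Cfsg.IsLinearIsometryOn (Cfsg.zspan (↑T : Set (L → ℂ))) τ₁)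
    {f : L → ℂ} (hf : f ∈ Cfsg.zspan (↑T : Set (L → ℂ))) : extMap T τ₁ f = τ₁ f := by
  induction hf using Submodule.span_induction with
  | mem x hx => exact extMap_apply_mem hirr hx
  | zero =>
    rw [iso_map_zero h (Submodule.zero_mem _)]
    simp [extMap]
  | add x y hx hy ihx ihy => rw [extMap_add, ihx, ihy, h.1 x hx y hy]
  | smul n x hx ih => rw [← Int.cast_smul_eq_zsmul ℂ, extMap_smul, ih, Int.cast_smul_eq_zsmul,
      Int.cast_smul_eq_zsmul, h.2.1 x hx n]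

omit [Fintype G] in
theorem extMap_congr {T X : Finset (L → ℂ)} (hirr : ∀ ξ ∈ T, Cfsg.IsIrrCharacter L ξ) (hX : X ⊆ T)
    {v w : (L → ℂ) → (G → ℂ)} (hvw : ∀ ξ ∈ X, v ξ = w ξ) {f : L → ℂ}
    (hf : f ∈ Cfsg.zspan (↑X : Set (L → ℂ))) : extMap T v f = extMap X w f := by
  induction hf using Submodule.span_induction with
  | mem x hx =>
    rw [extMap_apply_mem hirr (hX hx), extMap_apply_mem (fun ξ hξ => hirr ξ (hX hξ)) hx, hvw x hx]
  | zero => simp [extMap]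
  | add x y hx hy ihx ihy => rw [extMap_add, extMap_add, ihx, ihy]
  | smul n x hx ih => rw [← Int.cast_smul_eq_zsmul ℂ, extMap_smul, extMap_smul, ih]

omit [Fintype L] in
theorem mem_zspanOn_zero {S : Set (L → ℂ)} {A : Set L} : (0 : L → ℂ) ∈ Cfsg.zspanOn S A :=
  ⟨Submodule.zero_mem _, fun _ _ => rfl⟩

omit [Fintype G] in
theorem exists_int_apply_one {S : Set (L → ℂ)} (hirr : ∀ ξ ∈ S, Cfsg.IsIrrCharacter L ξ) {f : L → ℂ}
    (hf : f ∈ Cfsg.zspan S) : ∃ t : ℤ, f 1 = t := by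
  induction hf using Submodule.span_induction with
  | mem x hx => exact IsGen.exists_apply_one (IsGen.of_irr (hirr x hx))
  | zero => exact ⟨0, by simp⟩
  | add x y _ _ ihx ihy =>
    obtain ⟨a, ha⟩ := ihx
    obtain ⟨b, hb⟩ := ihy
    exact ⟨a + b, by simp [ha, hb]⟩
  | smul n x _ ih =>
    obtain ⟨a, ha⟩ := ih
    exact ⟨n * a, by simp [ha]⟩

open scoped Classical in
/-- Two coherent pieces glue as soon as their images are orthonormal and one cross relation holds. -/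
theorem coherent_glue {X Y : Finset (L → ℂ)} (hirr : ∀ ξ ∈ X ∪ Y, Cfsg.IsIrrCharacter L ξ)
    {α v : (L → ℂ) → (G → ℂ)}
    (hα : Cfsg.IsLinearIsometryOn (Cfsg.zspanOn (↑(X ∪ Y) : Set (L → ℂ)) ({1}ᶜ : Set L)) α)
    (hv : ∀ ξ ∈ X ∪ Y, ∀ η ∈ X ∪ Y, Cfsg.classInner (v ξ) (v η) = if ξ = η then 1 else 0)
    (hgen : ∀ ξ ∈ X ∪ Y, Cfsg.IsGeneralizedCharacter G (v ξ))
    (hX : ∀ θ ∈ Cfsg.zspanOn (↑X : Set (L → ℂ)) ({1}ᶜ : Set L), extMap X v θ = α θ)
    (hY : ∀ θ ∈ Cfsg.zspanOn (↑Y : Set (L → ℂ)) ({1}ᶜ : Set L), extMap Y v θ = α θ)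
    {χ₀ η₀ : L → ℂ} (hχ₀ : χ₀ ∈ X) (hη₀ : η₀ ∈ Y) (hne : χ₀ ≠ η₀) {p q : ℕ} (hp : χ₀ 1 = p) (hq : η₀ 1 = q)
    (hcross : α ((p : ℂ) • η₀ - (q : ℂ) • χ₀) = (p : ℂ) • v η₀ - (q : ℂ) • v χ₀) :
    Cfsg.IsCoherent (↑(X ∪ Y) : Set (L → ℂ)) ({1}ᶜ : Set L) α := by
  have hmX : χ₀ ∈ X ∪ Y := Finset.mem_union_left _ hχ₀
  have hmY : η₀ ∈ X ∪ Y := Finset.mem_union_right _ hη₀
  have hp0 : (p : ℂ) ≠ 0 := hp ▸ IsIrr.apply_one_ne_zero (hirr _ hmX)
  have hq0 : (q : ℂ) ≠ 0 := hq ▸ IsIrr.apply_one_ne_zero (hirr _ hmY)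
  set β := (p : ℂ) • η₀ - (q : ℂ) • χ₀ with hβ
  have hβmem : β ∈ Cfsg.zspanOn (↑(X ∪ Y) : Set (L → ℂ)) ({1}ᶜ : Set L) :=
    combo_mem_zspanOn_one hmY hmX hq hp
  refine ⟨⟨β, hβmem, fun h => ?_⟩, extMap (X ∪ Y) v, extMap_isometry hirr hv hgen, ?_⟩
  · have h1 : Cfsg.classInner β η₀ = 0 := by rw [h, classInner_zero_left]
    rw [hβ, classInner_sub_left, classInner_smul_left, classInner_smul_left,
      classInner_self_of_irr (hirr _ hmY), classInner_eq_zero_of_irr (hirr _ hmX) (hirr _ hmY) hne] at h1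
    simp at h1
    exact hp0 (by simp [h1])
  intro θ hθ
  have hspan : θ ∈ Submodule.span ℤ (↑X ∪ ↑Y : Set (L → ℂ)) := by
    rw [← Finset.coe_union]; exact hθ.1
  rw [Submodule.span_union, Submodule.mem_sup] at hspan
  obtain ⟨a, ha, b, hb, rfl⟩ := hspan
  obtain ⟨t, ht⟩ := exists_int_apply_one (S := (↑X : Set (L → ℂ)))
    (fun ξ hξ => hirr ξ (Finset.mem_union_left _ hξ)) ha
  have ht' : b 1 = -(t : ℂ) := by
    have := hθ.2 1 (by simp)
    rw [Pi.add_apply, ht] at this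
    linear_combination this
  set u := (p : ℂ) • a - (t : ℂ) • χ₀ with hu
  set w := (q : ℂ) • b + (t : ℂ) • η₀ with hw
  have hu' : u ∈ Cfsg.zspanOn (↑X : Set (L → ℂ)) ({1}ᶜ : Set L) := by
    refine ⟨(Submodule.span ℤ (↑X : Set (L → ℂ))).sub_mem (natCast_smul_mem_zspan p ha) ?_, ?_⟩
    · rw [Int.cast_smul_eq_zsmul]
      exact (Submodule.span ℤ (↑X : Set (L → ℂ))).smul_mem _ (Submodule.subset_span hχ₀)
    · intro x hx
      simp only [Set.mem_compl_iff, Set.mem_singleton_iff, not_not] at hx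
      subst hx
      simp [hu, ht, hp]; ring
  have hw' : w ∈ Cfsg.zspanOn (↑Y : Set (L → ℂ)) ({1}ᶜ : Set L) := by
    refine ⟨(Submodule.span ℤ (↑Y : Set (L → ℂ))).add_mem (natCast_smul_mem_zspan q hb) ?_, ?_⟩
    · rw [Int.cast_smul_eq_zsmul]
      exact (Submodule.span ℤ (↑Y : Set (L → ℂ))).smul_mem _ (Submodule.subset_span hη₀)
    · intro x hx
      simp only [Set.mem_compl_iff, Set.mem_singleton_iff, not_not] at hx
      subst hx
      simp [hw, ht', hq]; ring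
  have hsX : (↑X : Set (L → ℂ)) ⊆ ↑(X ∪ Y) := by simp
  have hsY : (↑Y : Set (L → ℂ)) ⊆ ↑(X ∪ Y) := by simp
  have hu2 := zspanOn_subset ({1}ᶜ : Set L) hsX hu'
  have hw2 := zspanOn_subset ({1}ᶜ : Set L) hsY hw'
  have hagree : ∀ x ∈ Cfsg.zspanOn (↑X : Set (L → ℂ)) ({1}ᶜ : Set L), extMap (X ∪ Y) v x = α x :=
    fun x hx => (extMap_congr hirr Finset.subset_union_left (fun _ _ => rfl) hx.1).trans (hX x hx)
  have hagree' : ∀ x ∈ Cfsg.zspanOn (↑Y : Set (L → ℂ)) ({1}ᶜ : Set L), extMap (X ∪ Y) v x = α x :=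
    fun x hx => (extMap_congr hirr Finset.subset_union_right (fun _ _ => rfl) hx.1).trans (hY x hx)
  have hagreeβ : extMap (X ∪ Y) v β = α β := by
    rw [hcross, hβ, extMap_sub, extMap_smul, extMap_smul, extMap_apply_mem hirr hmX, extMap_apply_mem hirr hmY]
  have hid : ((p * q : ℕ) : ℂ) • (a + b) = ((q : ℤ) : ℂ) • u + (((p : ℤ) : ℂ) • w + ((-t : ℤ) : ℂ) • β) := by
    ext x; simp [hu, hw, hβ]; ring
  have m1 := zsmul_mem_zspanOn hu2 (q : ℤ)
  have m2 := zsmul_mem_zspanOn hw2 (p : ℤ)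
  have m3 := zsmul_mem_zspanOn hβmem (-t)
  have m23 : ((p : ℤ) : ℂ) • w + ((-t : ℤ) : ℂ) • β ∈ Cfsg.zspanOn (↑(X ∪ Y) : Set (L → ℂ)) ({1}ᶜ : Set L) :=
    ⟨(Submodule.span ℤ (↑(X ∪ Y) : Set (L → ℂ))).add_mem m2.1 m3.1,
      fun x hx => by rw [Pi.add_apply, m2.2 x hx, m3.2 x hx, add_zero]⟩
  have hlin : ∀ (n : ℤ) (x : L → ℂ), x ∈ Cfsg.zspanOn (↑(X ∪ Y) : Set (L → ℂ)) ({1}ᶜ : Set L) →
      α ((n : ℂ) • x) = (n : ℂ) • α x := fun n x hx => by
    rw [Int.cast_smul_eq_zsmul, hα.2.1 x hx n, Int.cast_smul_eq_zsmul]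
  have hfin : ((p * q : ℕ) : ℂ) • extMap (X ∪ Y) v (a + b) = ((p * q : ℕ) : ℂ) • α (a + b) := by
    rw [← extMap_smul, ← iso_map_natCast_smul hα hθ, hid, hα.1 _ m1 _ m23, hα.1 _ m2 _ m3,
      hlin _ _ hu2, hlin _ _ hw2, hlin _ _ hβmem, extMap_add, extMap_add, extMap_smul, extMap_smul, extMap_smul,
      hagree u hu', hagree' w hw', hagreeβ]
  exact smul_right_injective (G → ℂ) (show ((p * q : ℕ) : ℂ) ≠ 0 by push_cast; exact mul_ne_zero hp0 hq0) hfin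

/-- Coherent extensions of two disjoint families have orthogonal images. -/
theorem coherent_pieces_orth {S X Y : Set (L → ℂ)} (hirr : ∀ ξ ∈ S, Cfsg.IsIrrCharacter L ξ) (hXS : X ⊆ S)
    (hYS : Y ⊆ S) (hXY : Disjoint X Y) (hX2 : ∃ a ∈ X, ∃ b ∈ X, a ≠ b) (hY2 : ∃ a ∈ Y, ∃ b ∈ Y, a ≠ b)
    {α σ τ : (L → ℂ) → (G → ℂ)} (hα : Cfsg.IsLinearIsometryOn (Cfsg.zspanOn S ({1}ᶜ : Set L)) α)
    (hα1 : ∀ θ ∈ Cfsg.zspanOn S ({1}ᶜ : Set L), α θ 1 = 0)
    (hσ : Cfsg.IsLinearIsometryOn (Cfsg.zspan X) σ)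
    (hσα : ∀ θ ∈ Cfsg.zspanOn X ({1}ᶜ : Set L), σ θ = α θ)
    (hτ : Cfsg.IsLinearIsometryOn (Cfsg.zspan Y) τ)
    (hτα : ∀ θ ∈ Cfsg.zspanOn Y ({1}ᶜ : Set L), τ θ = α θ) :
    ∀ χ ∈ X, ∀ η ∈ Y, Cfsg.classInner (σ χ) (τ η) = 0 := by
  classical
  have h0 : ∀ {Z : Set (L → ℂ)}, Z ⊆ S → ∀ {ρ : (L → ℂ) → (G → ℂ)},
      (∀ θ ∈ Cfsg.zspanOn Z ({1}ᶜ : Set L), ρ θ = α θ) → ∀ θ ∈ Cfsg.zspan Z, θ 1 = 0 → ρ θ 1 = 0 := by
    intro Z hZ ρ hρ θ hθ h1
    have hm : θ ∈ Cfsg.zspanOn Z ({1}ᶜ : Set L) := ⟨hθ, fun x hx => by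
      simp only [Set.mem_compl_iff, Set.mem_singleton_iff, not_not] at hx
      rw [hx, h1]⟩
    rw [hρ θ hm]
    exact hα1 θ (zspanOn_subset _ hZ hm)
  obtain ⟨ε, hε, hf, hfi⟩ := iso_signs (fun ξ hξ => hirr ξ (hXS hξ)) hX2 hσ (h0 hXS hσα)
  obtain ⟨δ, hδ, hg, hgi⟩ := iso_signs (fun ξ hξ => hirr ξ (hYS hξ)) hY2 hτ (h0 hYS hτα)
  obtain ⟨ε', hε', hεs⟩ : ∃ ε' : ℂ, ε' * ε = 1 ∧ ∀ z : G → ℂ, z = ε' • (ε • z) := by
    refine ⟨ε, by rcases hε with rfl | rfl <;> norm_num, fun z => ?_⟩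
    rcases hε with rfl | rfl <;> simp
  obtain ⟨δ', hδ', hδs⟩ : ∃ δ' : ℂ, δ' * δ = 1 ∧ ∀ z : G → ℂ, z = δ' • (δ • z) := by
    refine ⟨δ, by rcases hδ with rfl | rfl <;> norm_num, fun z => ?_⟩
    rcases hδ with rfl | rfl <;> simp
  have hin : ∀ ξ η, ξ ∈ X → η ∈ Y → Cfsg.classInner (σ ξ) (τ η) =
      ε' * conj δ' * if ε • σ ξ = δ • τ η then 1 else 0 := by
    intro ξ η hξ hη
    conv_lhs => rw [hεs (σ ξ), hδs (τ η)]
    rw [classInner_smul_left (c := ε'), classInner_smul_right (c := δ'), classInner_of_irr (hf ξ hξ) (hg η hη),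
      mul_assoc]
  intro χ hχ η hη
  rw [hin χ η hχ hη]
  by_contra hne
  have heq : ε • σ χ = δ • τ η := by
    by_contra h
    exact hne (by rw [if_neg h, mul_zero])
  obtain ⟨χ', hχ', hχne⟩ : ∃ χ' ∈ X, χ' ≠ χ := by
    obtain ⟨a, ha, b, hb, hab⟩ := hX2
    by_cases h : a = χ
    · exact ⟨b, hb, fun e => hab (h.trans e.symm)⟩
    · exact ⟨a, ha, h⟩
  obtain ⟨η', hη', hηne⟩ : ∃ η' ∈ Y, η' ≠ η := by
    obtain ⟨a, ha, b, hb, hab⟩ := hY2
    by_cases h : a = η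
    · exact ⟨b, hb, fun e => hab (h.trans e.symm)⟩
    · exact ⟨a, ha, h⟩
  obtain ⟨i, hi, hi'⟩ := IsIrr.exists_degree (hirr _ (hXS hχ))
  obtain ⟨j, hj, hj'⟩ := IsIrr.exists_degree (hirr _ (hXS hχ'))
  obtain ⟨k, hk, hk'⟩ := IsIrr.exists_degree (hirr _ (hYS hη))
  obtain ⟨l, hl, hl'⟩ := IsIrr.exists_degree (hirr _ (hYS hη'))
  have hu := combo_mem_zspanOn_one hχ hχ' hi' hj'
  have hw := combo_mem_zspanOn_one hη hη' hk' hl'
  have hdisj : ∀ x ∈ X, ∀ y ∈ Y, Cfsg.classInner x y = 0 := fun x hx y hy =>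
    classInner_eq_zero_of_irr (hirr _ (hXS hx)) (hirr _ (hYS hy))
      (fun e => Set.disjoint_left.1 hXY hx (e ▸ hy))
  have hz := hα.2.2.1 _ (zspanOn_subset _ hXS hu) _ (zspanOn_subset _ hYS hw)
  rw [← hσα _ hu, ← hτα _ hw,
    iso_map_sub hσ (natCast_smul_mem_zspan _ (mem_zspan_self hχ)) (natCast_smul_mem_zspan _ (mem_zspan_self hχ')),
    iso_map_sub hτ (natCast_smul_mem_zspan _ (mem_zspan_self hη)) (natCast_smul_mem_zspan _ (mem_zspan_self hη')),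
    iso_map_natCast_smul hσ (mem_zspan_self hχ), iso_map_natCast_smul hσ (mem_zspan_self hχ'),
    iso_map_natCast_smul hτ (mem_zspan_self hη), iso_map_natCast_smul hτ (mem_zspan_self hη')] at hz
  simp only [classInner_sub_left, classInner_sub_right, classInner_smul_left, classInner_smul_right,
    map_natCast, hin _ _ hχ hη, hin _ _ hχ hη', hin _ _ hχ' hη, hin _ _ hχ' hη', hdisj _ hχ _ hη,
    hdisj _ hχ _ hη', hdisj _ hχ' _ hη, hdisj _ hχ' _ hη', mul_zero, sub_zero] at hz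
  have hδinj : ∀ y ∈ Y, δ • τ η = δ • τ y → η = y := fun y hy e =>
    hgi η hη y hy (smul_right_injective (G → ℂ) (right_ne_zero_of_mul (hδ'.trans_ne one_ne_zero)) e)
  have hεinj : ∀ x ∈ X, ε • σ χ = ε • σ x → χ = x := fun x hx e =>
    hfi χ hχ x hx (smul_right_injective (G → ℂ) (right_ne_zero_of_mul (hε'.trans_ne one_ne_zero)) e)
  rw [if_pos heq, if_neg (fun e : ε • σ χ = δ • τ η' => hηne (hδinj η' hη' (heq.symm.trans e)).symm),
    if_neg (fun e : ε • σ χ' = δ • τ η => hχne (hεinj χ' hχ' (heq.trans e.symm)).symm)] at hz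
  have hcoef : ε' * conj δ' ≠ 0 :=
    mul_ne_zero (left_ne_zero_of_mul (hε'.trans_ne one_ne_zero))
      (by simpa using left_ne_zero_of_mul (hδ'.trans_ne one_ne_zero))
  by_cases hc : ε • σ χ' = δ • τ η'
  · rw [if_pos hc] at hz
    have h2 : ((j * l + i * k : ℕ) : ℂ) = 0 := by
      refine (mul_eq_zero.1 (show ε' * conj δ' * ((j * l + i * k : ℕ) : ℂ) = 0 from ?_)).resolve_left hcoef
      push_cast; linear_combination hz
    rw [Nat.cast_eq_zero] at h2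
    have := Nat.mul_pos hi hk
    omega
  · rw [if_neg hc] at hz
    have h2 : ((j * l : ℕ) : ℂ) = 0 := by
      refine (mul_eq_zero.1 (show ε' * conj δ' * ((j * l : ℕ) : ℂ) = 0 from ?_)).resolve_left hcoef
      push_cast; linear_combination hz
    rw [Nat.cast_eq_zero] at h2
    have := Nat.mul_pos hj hl
    omega

/-- A family of irreducible characters closed under a fixed-point-free conjugation is a coherence system. -/
theorem coherenceSystem_of_irr {S : Set (L → ℂ)} (hS : S.Nonempty)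
    (hirr : ∀ χ ∈ S, Cfsg.IsIrrCharacter L χ)
    (hconj : ∀ χ ∈ S, Cfsg.conjFun χ ∈ S ∧ Cfsg.conjFun χ ≠ χ) {τ : (L → ℂ) → (G → ℂ)}
    (hτ : Cfsg.IsLinearIsometryOn (Cfsg.zspanOn S ({1}ᶜ : Set L)) τ)
    (hτ1 : ∀ α ∈ Cfsg.zspanOn S ({1}ᶜ : Set L), τ α 1 = 0) :
    ∃ R : (L → ℂ) → Finset (G → ℂ), Cfsg.IsCoherenceSystem S τ R := by
  classical
  have hdeg : ∀ χ ∈ S, χ 1 = Cfsg.conjFun χ 1 := fun χ hχ => by
    obtain ⟨n, -, hn⟩ := IsIrr.exists_degree (hirr χ hχ)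
    simp [Cfsg.conjFun, hn]
  have hcc : ∀ χ : L → ℂ, Cfsg.conjFun (Cfsg.conjFun χ) = χ := fun χ => funext fun x => by simp [Cfsg.conjFun]
  have hmem : ∀ χ ∈ S, χ - Cfsg.conjFun χ ∈ Cfsg.zspanOn S ({1}ᶜ : Set L) := fun χ hχ =>
    sub_mem_zspanOn_one hχ (hconj χ hχ).1 (hdeg χ hχ)
  have hin : ∀ χ ∈ S, ∀ φ ∈ S, Cfsg.classInner (τ (φ - Cfsg.conjFun φ)) (τ (χ - Cfsg.conjFun χ)) =
      ((if φ = χ then 1 else 0) - if φ = Cfsg.conjFun χ then 1 else 0) -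
        ((if Cfsg.conjFun φ = χ then 1 else 0) - if Cfsg.conjFun φ = Cfsg.conjFun χ then 1 else 0) := by
    intro χ hχ φ hφ
    rw [hτ.2.2.1 _ (hmem φ hφ) _ (hmem χ hχ), classInner_sub_left, classInner_sub_right, classInner_sub_right,
      classInner_of_irr (hirr _ hφ) (hirr _ hχ), classInner_of_irr (hirr _ hφ) (hirr _ (hconj χ hχ).1),
      classInner_of_irr (hirr _ (hconj φ hφ).1) (hirr _ hχ),
      classInner_of_irr (hirr _ (hconj φ hφ).1) (hirr _ (hconj χ hχ).1)]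
  choose! a b ha hb hab hD using fun χ (hχ : χ ∈ S) => IsGen.norm_two (hτ.2.2.2 _ (hmem χ hχ))
    (by rw [hin χ hχ χ hχ, if_pos rfl, if_neg (Ne.symm (hconj χ hχ).2), if_neg (hconj χ hχ).2, if_pos rfl]
        norm_num) (hτ1 _ (hmem χ hχ))
  have hne : ∀ x y : L → ℂ, x ∈ S → y ∈ S → a x ≠ -b y := fun x y hx hy e => by
    have h1 := apply_one_re_pos (ha x hx)
    have h2 := apply_one_re_pos (hb y hy)
    rw [e] at h1
    simp at h1
    linarith
  refine ⟨fun χ => {a χ, -b χ}, hS, fun χ hχ => IsIrr.isCharacter (hirr χ hχ), fun χ hχ => (hconj χ hχ).1,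
    fun χ hχ => (hconj χ hχ).2, hτ, hτ1, fun χ hχ φ hφ h => classInner_eq_zero_of_irr (hirr _ hχ) (hirr _ hφ) h,
    ?_, ?_, ?_, ?_⟩
  · intro χ hχ
    simp only [Finset.mem_insert, Finset.mem_singleton]
    rintro x (rfl | rfl) y (rfl | rfl)
    · simp [classInner_self_of_irr (ha χ hχ)]
    · rw [if_neg (hne χ χ hχ hχ), ← classInner_conj_symm, classInner_neg_left,
        classInner_eq_zero_of_irr (hb χ hχ) (ha χ hχ) (hab χ hχ).symm]
      simp
    · rw [if_neg (Ne.symm (hne χ χ hχ hχ)), classInner_neg_left,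
        classInner_eq_zero_of_irr (hb χ hχ) (ha χ hχ) (hab χ hχ).symm, neg_zero]
    · rw [if_pos rfl, classInner_neg_left, ← classInner_conj_symm, classInner_neg_left,
        classInner_self_of_irr (hb χ hχ)]
      simp
  · intro χ hχ
    simp only [Finset.mem_insert, Finset.mem_singleton]
    rintro x (rfl | rfl)
    · exact IsGen.of_irr (ha χ hχ)
    · exact IsGen.neg (IsGen.of_irr (hb χ hχ))
  · intro χ hχ
    rw [Finset.sum_pair (hne χ χ hχ hχ), hD χ hχ, sub_eq_add_neg]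
  · intro χ hχ φ hφ h1 h2
    have hφχ : φ ≠ χ := fun e => by
      rw [e, classInner_self_of_irr (hirr _ hχ)] at h1
      exact one_ne_zero h1
    have hφc : φ ≠ Cfsg.conjFun χ := fun e => by
      rw [e, classInner_self_of_irr (hirr _ (hconj χ hχ).1)] at h2
      exact one_ne_zero h2
    have h := hin χ hχ φ hφ
    rw [hD φ hφ, hD χ hχ, if_neg hφχ, if_neg hφc,
      if_neg (fun e : Cfsg.conjFun φ = χ => hφc (by rw [← e, hcc])),
      if_neg (fun e : Cfsg.conjFun φ = Cfsg.conjFun χ => hφχ (by rw [← hcc φ, e, hcc])),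
      classInner_sub_left, classInner_sub_right, classInner_sub_right,
      classInner_of_irr (ha _ hφ) (ha _ hχ), classInner_of_irr (ha _ hφ) (hb _ hχ),
      classInner_of_irr (hb _ hφ) (ha _ hχ), classInner_of_irr (hb _ hφ) (hb _ hχ)] at h
    have haa : a φ ≠ a χ := fun e => by
      rw [if_pos e, if_neg (fun f : a φ = b χ => hab χ hχ (e.symm.trans f)),
        if_neg (fun f : b φ = a χ => hab φ hφ (e.trans f.symm))] at h
      split_ifs at h <;> norm_num at h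
    have hbb : b φ ≠ b χ := fun e => by
      rw [if_neg haa, if_pos e, if_neg (fun f : a φ = b χ => hab φ hφ (f.trans e.symm)),
        if_neg (fun f : b φ = a χ => hab χ hχ (f.symm.trans e))] at h
      norm_num at h
    rw [if_neg haa, if_neg hbb] at h
    have hab1 : a φ ≠ b χ := fun e => by
      rw [if_pos e] at h
      split_ifs at h <;> norm_num at h
    have hba : b φ ≠ a χ := fun e => by
      rw [if_neg hab1, if_pos e] at h
      norm_num at h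
    simp only [Finset.mem_insert, Finset.mem_singleton]
    rintro x (rfl | rfl) y (rfl | rfl)
    · exact classInner_eq_zero_of_irr (ha _ hφ) (ha _ hχ) haa
    · rw [← classInner_conj_symm, classInner_neg_left,
        classInner_eq_zero_of_irr (hb _ hχ) (ha _ hφ) hab1.symm]
      simp
    · rw [classInner_neg_left, classInner_eq_zero_of_irr (hb _ hφ) (ha _ hχ) hba, neg_zero]
    · rw [classInner_neg_left, ← classInner_conj_symm, classInner_neg_left,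
        classInner_eq_zero_of_irr (hb _ hχ) (hb _ hφ) hbb.symm]
      simp

/-- The coefficients of a compatible image along the virtual constituents attached to one character. -/
theorem coherenceSystem_coeff {S : Set (L → ℂ)} {τ : (L → ℂ) → (G → ℂ)} {R : (L → ℂ) → Finset (G → ℂ)}
    (hS : Cfsg.IsCoherenceSystem S τ R) {χ : L → ℂ} (hχ : χ ∈ S) {ψ : L → ℂ}
    (h1 : Cfsg.classInner χ ψ = 0) (h2 : Cfsg.classInner (Cfsg.conjFun χ) ψ = 0) {τ₁ : (L → ℂ) → (G → ℂ)}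
    (hτ₁ : Cfsg.IsLinearIsometryOn (Cfsg.zspan {χ - ψ, χ - Cfsg.conjFun χ}) τ₁)
    (hagree : ∀ n : ℤ, τ₁ (n • (χ - Cfsg.conjFun χ)) = τ (n • (χ - Cfsg.conjFun χ))) :
    (Cfsg.classInner χ χ).re ≤ ∑ α ∈ R χ, ‖Cfsg.classInner (τ₁ (χ - ψ)) α‖ ^ 2 ∧
      ((Cfsg.classInner ψ ψ).re ≤
        (Cfsg.classInner (τ₁ (χ - ψ)) (τ₁ (χ - ψ))).re - ∑ α ∈ R χ, ‖Cfsg.classInner (τ₁ (χ - ψ)) α‖ ^ 2 →
      (∑ α ∈ R χ, ‖Cfsg.classInner (τ₁ (χ - ψ)) α‖ ^ 2 = (Cfsg.classInner χ χ).re ∧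
        ∀ α ∈ R χ, Cfsg.classInner (τ₁ (χ - ψ)) α = 0 ∨ Cfsg.classInner (τ₁ (χ - ψ)) α = 1)) := by
  have m1 : χ - ψ ∈ Cfsg.zspan {χ - ψ, χ - Cfsg.conjFun χ} := mem_zspan_self (by simp)
  have m2 : χ - Cfsg.conjFun χ ∈ Cfsg.zspan {χ - ψ, χ - Cfsg.conjFun χ} := mem_zspan_self (by simp)
  set Γ := τ₁ (χ - ψ) with hΓ
  choose! c hc using fun α (hα : α ∈ R χ) => IsGen.classInner_eq_int (hτ₁.2.2.2 _ m1) (hS.virtual χ hχ α hα)
  have hcc : Cfsg.classInner χ (Cfsg.conjFun χ) = 0 :=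
    hS.orthogonal χ hχ _ (hS.conj_mem χ hχ) (hS.conj_ne χ hχ).symm
  have h1' : Cfsg.classInner ψ χ = 0 := by rw [← classInner_conj_symm, h1, map_zero]
  have h2' : Cfsg.classInner ψ (Cfsg.conjFun χ) = 0 := by rw [← classInner_conj_symm, h2, map_zero]
  have hsum : Cfsg.classInner χ χ = ((∑ α ∈ R χ, c α : ℤ) : ℂ) := by
    have e : τ₁ (χ - Cfsg.conjFun χ) = ∑ α ∈ R χ, α := by
      have := hagree 1
      rw [one_smul] at this
      rw [this, hS.sum_eq χ hχ]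
    have h := hτ₁.2.2.1 _ m1 _ m2
    rw [e, classInner_sum_right, classInner_sub_left, classInner_sub_right, classInner_sub_right, hcc, h1', h2'] at h
    rw [Int.cast_sum, ← Finset.sum_congr rfl (fun α hα => hc α hα)]
    linear_combination -h
  have hre : (Cfsg.classInner χ χ).re = ((∑ α ∈ R χ, c α : ℤ) : ℝ) := by rw [hsum]; simp
  have hsq : ∀ α ∈ R χ, ‖Cfsg.classInner Γ α‖ ^ 2 = ((c α ^ 2 : ℤ) : ℝ) := fun α hα => by
    rw [hc α hα, Complex.norm_intCast, sq_abs]; push_cast; rfl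
  rw [Finset.sum_congr rfl hsq, ← Int.cast_sum, hre, Int.cast_le]
  have hle : ∑ α ∈ R χ, c α ≤ ∑ α ∈ R χ, c α ^ 2 := Finset.sum_le_sum fun α _ => Int.le_self_sq _
  refine ⟨hle, fun hbound => ?_⟩
  have hN : (Cfsg.classInner Γ Γ).re = ((∑ α ∈ R χ, c α : ℤ) : ℝ) + (Cfsg.classInner ψ ψ).re := by
    rw [hΓ, hτ₁.2.2.1 _ m1 _ m1, classInner_sub_left, classInner_sub_right, classInner_sub_right, h1, h1', ← hre]
    simp
  rw [hN] at hbound
  have hle' : ∑ α ∈ R χ, c α ^ 2 ≤ ∑ α ∈ R χ, c α := by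
    have : ((∑ α ∈ R χ, c α ^ 2 : ℤ) : ℝ) ≤ ((∑ α ∈ R χ, c α : ℤ) : ℝ) := by linarith
    exact_mod_cast this
  have heq := le_antisymm hle' hle
  refine ⟨by rw [heq], fun α hα => ?_⟩
  have hall := (Finset.sum_eq_sum_iff_of_le fun x (_ : x ∈ R χ) => Int.le_self_sq (c x)).1 heq.symm α hα
  rw [hc α hα]
  have hz : c α * (c α - 1) = 0 := by linear_combination -hall
  rcases mul_eq_zero.1 hz with h | h
  · exact Or.inl (by rw [h]; simp)
  · exact Or.inr (by rw [sub_eq_zero] at h; rw [h]; simp)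

open scoped Classical in
/-- Feit's criterion for adjoining one irreducible character to a coherent family. -/
theorem coherent_insert {S₀ : Finset (L → ℂ)} {χ : L → ℂ} (hirr : ∀ ξ ∈ S₀, Cfsg.IsIrrCharacter L ξ)
    (hχ : Cfsg.IsIrrCharacter L χ) (hχS : χ ∉ S₀) {d : (L → ℂ) → ℕ}
    (hd : ∀ ξ ∈ insert χ S₀, ξ 1 = (d ξ : ℂ)) {τ : (L → ℂ) → (G → ℂ)}
    (hτ : Cfsg.IsLinearIsometryOn (Cfsg.zspanOn (↑(insert χ S₀) : Set (L → ℂ)) ({1}ᶜ : Set L)) τ)
    (hτ1 : ∀ α ∈ Cfsg.zspanOn (↑(insert χ S₀) : Set (L → ℂ)) ({1}ᶜ : Set L), τ α 1 = 0)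
    (hcoh : Cfsg.IsCoherent (↑S₀ : Set (L → ℂ)) ({1}ᶜ : Set L) τ) {ψ : L → ℂ} (hψ : ψ ∈ S₀)
    (hdvd : d ψ ∣ d χ) (hlt : 2 * d ψ * d χ < ∑ ξ ∈ S₀, d ξ ^ 2) :
    Cfsg.IsCoherent (↑(insert χ S₀) : Set (L → ℂ)) ({1}ᶜ : Set L) τ := by
  obtain ⟨-, τ₁, hτ₁, hext⟩ := hcoh
  obtain ⟨m, hm⟩ := hdvd
  have hirr' : ∀ ξ ∈ insert χ S₀, Cfsg.IsIrrCharacter L ξ :=
    Finset.forall_mem_insert _ _ _ |>.2 ⟨hχ, hirr⟩
  have hd0 : ∀ ξ ∈ S₀, ξ 1 = (d ξ : ℂ) := fun ξ h => hd ξ (Finset.mem_insert_of_mem h)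
  have hdχ : χ 1 = (d χ : ℂ) := hd χ (Finset.mem_insert_self _ _)
  have hpos : ∀ ξ ∈ insert χ S₀, 0 < d ξ := fun ξ h => Nat.pos_of_ne_zero fun e => by
    have := IsIrr.apply_one_ne_zero (hirr' ξ h)
    rw [hd ξ h, e, Nat.cast_zero] at this
    exact this rfl
  have hdψ := hpos ψ (Finset.mem_insert_of_mem hψ)
  have hm0 : 0 < m := Nat.pos_of_ne_zero fun e => by
    have := hpos χ (Finset.mem_insert_self _ _)
    rw [hm, e, mul_zero] at this
    omega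
  have hsub : (↑S₀ : Set (L → ℂ)) ⊆ ↑(insert χ S₀) := by simp
  set β := χ - (m : ℂ) • ψ with hβ
  have hβmem : β ∈ Cfsg.zspanOn (↑(insert χ S₀) : Set (L → ℂ)) ({1}ᶜ : Set L) := by
    refine ⟨(Submodule.span ℤ (↑(insert χ S₀) : Set (L → ℂ))).sub_mem (mem_zspan_self (by simp))
      (natCast_smul_mem_zspan m (mem_zspan_self (hsub hψ))), fun x hx => ?_⟩
    simp only [Set.mem_compl_iff, Set.mem_singleton_iff, not_not] at hx
    subst hx
    simp [hβ, hdχ, hd0 ψ hψ, hm, mul_comm]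
  set v := fun ξ => τ₁ ξ with hv
  have hvin : ∀ ξ ∈ S₀, ∀ η ∈ S₀, Cfsg.classInner (v ξ) (v η) = if ξ = η then 1 else 0 := fun ξ hξ η hη => by
    rw [hτ₁.2.2.1 ξ (mem_zspan_self hξ) η (mem_zspan_self hη)]
    exact classInner_of_irr (hirr ξ hξ) (hirr η hη)
  have hvgen : ∀ ξ ∈ S₀, Cfsg.IsGeneralizedCharacter G (v ξ) := fun ξ hξ => hτ₁.2.2.2 ξ (mem_zspan_self hξ)
  have hθgen := hτ.2.2.2 β hβmem
  choose! c hc using fun ξ (hξ : ξ ∈ S₀) => IsGen.classInner_eq_int hθgen (hvgen ξ hξ)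
  have hβχ : Cfsg.classInner β χ = 1 := by
    rw [hβ, classInner_sub_left, classInner_smul_left, classInner_self_of_irr hχ,
      classInner_eq_zero_of_irr (hirr ψ hψ) hχ (fun e => hχS (e ▸ hψ))]
    ring
  have hβξ : ∀ ξ ∈ S₀, Cfsg.classInner β ξ = -((m : ℂ) * if ψ = ξ then 1 else 0) := fun ξ hξ => by
    rw [hβ, classInner_sub_left, classInner_smul_left, classInner_of_irr (hirr ψ hψ) (hirr ξ hξ),
      classInner_eq_zero_of_irr hχ (hirr ξ hξ) (fun e => hχS (e ▸ hξ))]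
    ring
  have hnorm : Cfsg.classInner (τ β) (τ β) = ((1 + (m : ℤ) ^ 2 : ℤ) : ℂ) := by
    rw [hτ.2.2.1 β hβmem β hβmem]
    conv_lhs => arg 2; rw [hβ]
    rw [classInner_sub_right, classInner_smul_right, hβχ, hβξ ψ hψ, map_natCast, if_pos rfl]
    push_cast; ring
  have hrel : ∀ ξ ∈ S₀,
      τ₁ ((d ψ : ℂ) • ξ - (d ξ : ℂ) • ψ) = (d ψ : ℂ) • v ξ - (d ξ : ℂ) • v ψ ∧
      (d ψ : ℂ) * v ξ 1 = (d ξ : ℂ) * v ψ 1 ∧
      (d ψ : ℤ) * (c ξ + (if ξ = ψ then (m : ℤ) else 0)) = (d ξ : ℤ) * (c ψ + m) := by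
    intro ξ hξ
    have hmem := combo_mem_zspanOn_one (S := (↑S₀ : Set (L → ℂ))) hξ hψ (hd0 ξ hξ) (hd0 ψ hψ)
    have e : τ₁ ((d ψ : ℂ) • ξ - (d ξ : ℂ) • ψ) = (d ψ : ℂ) • v ξ - (d ξ : ℂ) • v ψ := by
      rw [iso_map_sub hτ₁ (natCast_smul_mem_zspan _ (mem_zspan_self hξ))
        (natCast_smul_mem_zspan _ (mem_zspan_self hψ)), iso_map_natCast_smul hτ₁ (mem_zspan_self hξ),
        iso_map_natCast_smul hτ₁ (mem_zspan_self hψ)]
    refine ⟨e, ?_, ?_⟩
    · have := hτ1 _ (zspanOn_subset _ hsub hmem)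
      rw [← hext _ hmem, e] at this
      simpa [sub_eq_zero] using this
    · have h := hτ.2.2.1 β hβmem _ (zspanOn_subset _ hsub hmem)
      rw [← hext _ hmem, e, classInner_sub_right, classInner_sub_right, classInner_smul_right,
        classInner_smul_right, classInner_smul_right, classInner_smul_right, hc ξ hξ, hc ψ hψ, hβξ ξ hξ,
        hβξ ψ hψ, map_natCast, map_natCast, if_pos rfl] at h
      have h' : (((d ψ : ℤ) * (c ξ + (if ξ = ψ then (m : ℤ) else 0)) : ℤ) : ℂ) =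
          (((d ξ : ℤ) * (c ψ + m) : ℤ) : ℂ) := by
        by_cases e : ξ = ψ
        · subst e
          rw [if_pos rfl]
        · rw [if_neg e]
          rw [if_neg (Ne.symm e)] at h
          push_cast
          linear_combination h
      exact_mod_cast h'
  -- the key coefficient vanishes
  have hy : c ψ + m = 0 := by
    by_contra hy
    obtain ⟨w, hw⟩ : ∃ w, w = c ψ + (m : ℤ) := ⟨_, rfl⟩
    rw [← hw] at hy
    set K : AddSubgroup ℤ := (AddSubgroup.zmultiples (d ψ : ℤ)).comap (AddMonoidHom.mulLeft w) with hK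
    obtain ⟨g, hg⟩ := Int.subgroup_cyclic K
    have hmK : ∀ x : ℤ, x ∈ K ↔ ∃ k : ℤ, k * (d ψ : ℤ) = w * x := fun x => by
      simp [hK, AddSubgroup.mem_zmultiples_iff]
    have hgd : ∀ ξ ∈ S₀, ∃ e : ℤ, (d ξ : ℤ) = e * g := by
      intro ξ hξ
      have : (d ξ : ℤ) ∈ K := (hmK _).2 ⟨c ξ + (if ξ = ψ then (m : ℤ) else 0), by
        rw [mul_comm, (hrel ξ hξ).2.2, hw, mul_comm]⟩
      rw [hg, AddSubgroup.mem_closure_singleton] at this
      obtain ⟨e, he⟩ := this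
      exact ⟨e, by simpa using he.symm⟩
    choose! e he using hgd
    obtain ⟨p, hp⟩ := (hmK g).1 (by rw [hg]; exact AddSubgroup.subset_closure rfl)
    have hg0 : g ≠ 0 := fun h => by
      have := he ψ hψ
      rw [h, mul_zero] at this
      omega
    have hp0 : p ≠ 0 := fun h => by
      rw [h, zero_mul] at hp
      exact mul_ne_zero hy hg0 hp.symm
    have hwp : w = p * e ψ := by
      apply mul_right_cancel₀ hg0
      rw [← hp, he ψ hψ]; ring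
    have hce : ∀ ξ ∈ S₀, c ξ + (if ξ = ψ then (m : ℤ) else 0) = p * e ξ := by
      intro ξ hξ
      have hd' : (d ψ : ℤ) ≠ 0 := by omega
      apply mul_left_cancel₀ hd'
      rw [(hrel ξ hξ).2.2, ← hw, hwp, he ξ hξ, he ψ hψ]
      ring
    have hsm : ∀ F : (L → ℂ) → ℤ, ∑ ξ ∈ S₀, F ξ * (if ξ = ψ then (m : ℤ) else 0) = F ψ * m := fun F => by
      simp [mul_ite, hψ]
    have hA2 : ∑ ξ ∈ S₀, c ξ ^ 2 = p ^ 2 * (∑ ξ ∈ S₀, e ξ ^ 2) - 2 * p * (e ψ * m) + (m : ℤ) ^ 2 := by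
      rw [Finset.sum_congr rfl (g := fun ξ => p ^ 2 * e ξ ^ 2 - 2 * p * (e ξ * if ξ = ψ then (m : ℤ) else 0) +
          (m : ℤ) * if ξ = ψ then (m : ℤ) else 0) fun ξ hξ => ?_,
        Finset.sum_add_distrib, Finset.sum_sub_distrib, ← Finset.mul_sum, ← Finset.mul_sum, hsm,
        hsm (fun _ => (m : ℤ))]
      · ring
      · have h := hce ξ hξ
        have : c ξ = p * e ξ - if ξ = ψ then (m : ℤ) else 0 := by linarith
        rw [this]
        split_ifs <;> ring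
    have hA1 : ∑ ξ ∈ S₀, c ξ * (d ξ : ℤ) = g * (p * ∑ ξ ∈ S₀, e ξ ^ 2 - e ψ * m) := by
      rw [Finset.sum_congr rfl (g := fun ξ => g * (p * e ξ ^ 2) - g * (e ξ * if ξ = ψ then (m : ℤ) else 0))
          fun ξ hξ => ?_, Finset.sum_sub_distrib, ← Finset.mul_sum, ← Finset.mul_sum, ← Finset.mul_sum, hsm]
      · ring
      · have h := hce ξ hξ
        have : c ξ = p * e ξ - if ξ = ψ then (m : ℤ) else 0 := by linarith
        rw [this, he ξ hξ]
        ring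
    set E := ∑ ξ ∈ S₀, e ξ ^ 2 with hE
    have hbig : 2 * (m : ℤ) * e ψ ^ 2 < E := by
      have h1 : ((2 * d ψ * d χ : ℕ) : ℤ) < ((∑ ξ ∈ S₀, d ξ ^ 2 : ℕ) : ℤ) := by exact_mod_cast hlt
      rw [hm] at h1
      push_cast at h1
      rw [Finset.sum_congr rfl (g := fun ξ => g ^ 2 * e ξ ^ 2) fun ξ hξ => (by rw [he ξ hξ]; ring),
        ← Finset.mul_sum, ← hE, he ψ hψ] at h1
      refine lt_of_mul_lt_mul_left (a := g ^ 2) ?_ (sq_nonneg g)
      calc g ^ 2 * (2 * (m : ℤ) * e ψ ^ 2) = 2 * (e ψ * g) * (e ψ * g * m) := by ring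
        _ < g ^ 2 * E := h1
    -- the part of the image orthogonal to the family
    obtain ⟨ρ, hρ⟩ : ∃ ρ, ρ = τ β - ∑ ξ ∈ S₀, (c ξ : ℂ) • v ξ := ⟨_, rfl⟩
    have hρgen : Cfsg.IsGeneralizedCharacter G ρ :=
      hρ ▸ IsGen.sub hθgen (IsGen.sum _ fun ξ hξ => IsGen.intCast_smul _ (hvgen ξ hξ))
    have hρn : Cfsg.classInner ρ ρ = ((1 + (m : ℤ) ^ 2 - ∑ ξ ∈ S₀, c ξ ^ 2 : ℤ) : ℂ) := by
      have hρv : ∀ ξ ∈ S₀, Cfsg.classInner ρ (v ξ) = 0 := fun ξ hξ => by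
        rw [hρ, classInner_sub_left, classInner_sum_left, hc ξ hξ, Finset.sum_eq_single ξ
          (fun η hη hne => by rw [classInner_smul_left, hvin η hη ξ hξ, if_neg hne, mul_zero])
          (fun h => absurd hξ h), classInner_smul_left, hvin ξ hξ ξ hξ, if_pos rfl, mul_one, sub_self]
      conv_lhs => arg 2; rw [hρ]
      rw [classInner_sub_right, classInner_sum_right, Finset.sum_eq_zero (fun ξ hξ => by
        rw [classInner_smul_right, hρv ξ hξ, mul_zero]), sub_zero]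
      rw [hρ, classInner_sub_left, classInner_sum_left, hnorm,
        Finset.sum_congr rfl (g := fun ξ => ((c ξ ^ 2 : ℤ) : ℂ)) (fun ξ hξ => by
          rw [classInner_smul_left, ← classInner_conj_symm, hc ξ hξ]
          simp [sq])]
      push_cast; ring
    obtain ⟨r, hr⟩ := IsGen.classInner_self_eq hρgen
    have hle : p ^ 2 * E - 2 * p * (e ψ * m) ≤ 1 := by
      rw [hρn] at hr
      have : (1 + (m : ℤ) ^ 2 - ∑ ξ ∈ S₀, c ξ ^ 2) = (r : ℤ) := by exact_mod_cast hr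
      rw [hA2] at this
      omega
    have he0 : e ψ ≠ 0 := fun h => by
      have := he ψ hψ
      rw [h, zero_mul] at this
      omega
    have hee : e ψ ≤ e ψ ^ 2 := Int.le_self_sq _
    have hee' : -e ψ ≤ e ψ ^ 2 := by have := Int.le_self_sq (-e ψ); rwa [neg_sq] at this
    have hm' : (1 : ℤ) ≤ (m : ℤ) := by exact_mod_cast hm0
    have hkey : p * e ψ = 1 * (p * e ψ) := (one_mul _).symm
    -- only the extreme case survives the bound
    have hext : p ^ 2 = 1 ∧ p * (e ψ * m) = m ∧ E = 2 * m + 1 := by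
      have hsq := Int.le_self_sq (p * e ψ)
      have hmm : p * (e ψ * m) ≤ p ^ 2 * (m * e ψ ^ 2) := by
        calc p * (e ψ * m) = (p * e ψ) * m := by ring
          _ ≤ (p * e ψ) ^ 2 * m := mul_le_mul_of_nonneg_right hsq (by omega)
          _ = p ^ 2 * (m * e ψ ^ 2) := by ring
      have hp1 : 1 ≤ p ^ 2 := by
        have := sq_pos_of_ne_zero hp0
        omega
      have h3 : p ^ 2 * (2 * (m * e ψ ^ 2) + 1) ≤ p ^ 2 * E := by
        refine mul_le_mul_of_nonneg_left ?_ (sq_nonneg p)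
        linarith
      have hp2 : p ^ 2 = 1 := by linarith
      have hE1 : p ^ 2 * E = E := by rw [hp2, one_mul]
      have hE2 : p ^ 2 * (m * e ψ ^ 2) = m * e ψ ^ 2 := by rw [hp2, one_mul]
      have hE3 : p ^ 2 * (2 * (m * e ψ ^ 2) + 1) = 2 * (m * e ψ ^ 2) + 1 := by rw [hp2, one_mul]
      have hq : p * e ψ = 1 := by
        have h4 : (p * e ψ) ^ 2 ≤ p * e ψ := by
          refine le_of_mul_le_mul_right ?_ (show (0 : ℤ) < m by omega)
          calc (p * e ψ) ^ 2 * (m : ℤ) = p ^ 2 * (m * e ψ ^ 2) := by ring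
            _ ≤ p * (e ψ * m) := by linarith
            _ = p * e ψ * m := by ring
        have h6 : p * e ψ * (p * e ψ - 1) = 0 := by
          have : p * e ψ * (p * e ψ - 1) = (p * e ψ) ^ 2 - p * e ψ := by ring
          omega
        rcases mul_eq_zero.1 h6 with h | h
        · exact absurd h (mul_ne_zero hp0 he0)
        · linarith
      have hpem : p * (e ψ * m) = m := by rw [← mul_assoc, hq, one_mul]
      have hem : (m : ℤ) * e ψ ^ 2 = m := by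
        have : (p * e ψ) ^ 2 = 1 := by rw [hq, one_pow]
        rw [mul_pow, hp2, one_mul] at this
        rw [this, mul_one]
      exact ⟨hp2, hpem, by linarith⟩
    -- then the image is a combination of the family, and does not vanish at the identity
    obtain ⟨hp2, hpe, hE'⟩ := hext
    have hρ0 : ρ = 0 := IsGen.eq_zero_of_norm hρgen (by
      rw [hρn, hA2, hp2, hE']
      have : 2 * p * (e ψ * (m : ℤ)) = 2 * m := by rw [mul_assoc, hpe]
      rw [this]; push_cast; ring)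
    have hθ1 : τ β 1 = 0 := hτ1 β hβmem
    rw [hρ] at hρ0
    rw [sub_eq_zero.1 hρ0, Finset.sum_apply] at hθ1
    have hlin : ((∑ ξ ∈ S₀, c ξ * (d ξ : ℤ) : ℤ) : ℂ) * v ψ 1 = 0 := by
      rw [Int.cast_sum, Finset.sum_mul, ← mul_zero (d ψ : ℂ), ← hθ1, Finset.mul_sum]
      refine Finset.sum_congr rfl fun ξ hξ => ?_
      rw [Pi.smul_apply, smul_eq_mul]
      push_cast
      linear_combination (-(c ξ : ℂ)) * (hrel ξ hξ).2.1
    rcases mul_eq_zero.1 hlin with h | h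
    · rw [Int.cast_eq_zero, hA1] at h
      rcases mul_eq_zero.1 h with h | h
      · exact hg0 h
      · have hpp : p * (p * E - e ψ * m) = m + 1 := by
          calc p * (p * E - e ψ * m) = p ^ 2 * E - p * (e ψ * m) := by ring
            _ = m + 1 := by rw [hp2, hpe, hE']; ring
        rw [h, mul_zero] at hpp
        omega
    · obtain ⟨a, ε, hε, ha, hva⟩ := IsGen.norm_one (hvgen ψ hψ) ((hvin ψ hψ ψ hψ).trans (if_pos rfl))
      rw [hva, Pi.smul_apply, smul_eq_mul] at h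
      rcases hε with rfl | rfl <;> simp [IsIrr.apply_one_ne_zero ha] at h
  have hc0 : ∀ ξ ∈ S₀, c ξ = if ξ = ψ then -(m : ℤ) else 0 := by
    intro ξ hξ
    have h := (hrel ξ hξ).2.2
    rw [hy, mul_zero] at h
    rcases mul_eq_zero.1 h with h | h
    · omega
    · split_ifs at h ⊢ <;> omega
  obtain ⟨ρ, hρ⟩ : ∃ ρ, ρ = τ β + (m : ℂ) • v ψ := ⟨_, rfl⟩
  have hρv : ∀ ξ ∈ S₀, Cfsg.classInner ρ (v ξ) = 0 := fun ξ hξ => by
    rw [hρ, classInner_add_left, classInner_smul_left, hc ξ hξ, hc0 ξ hξ, hvin ψ hψ ξ hξ]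
    by_cases e : ξ = ψ
    · subst e; simp
    · rw [if_neg e, if_neg (Ne.symm e)]; simp
  have hρρ : Cfsg.classInner ρ ρ = 1 := by
    have h1 := hρv ψ hψ
    conv_lhs => arg 2; rw [hρ]
    rw [classInner_add_right, classInner_smul_right, h1, mul_zero, add_zero, hρ, classInner_add_left,
      classInner_smul_left, hnorm, ← classInner_conj_symm (τ β) (v ψ), hc ψ hψ, hc0 ψ hψ, if_pos rfl]
    simp; ring
  have hρgen : Cfsg.IsGeneralizedCharacter G ρ :=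
    hρ ▸ IsGen.add hθgen (by simpa using IsGen.intCast_smul (m : ℤ) (hvgen ψ hψ))
  let V : (L → ℂ) → (G → ℂ) := fun ξ => if ξ = χ then ρ else v ξ
  have hVS : ∀ ξ ∈ S₀, V ξ = v ξ := fun ξ hξ => if_neg fun e : ξ = χ => hχS (e ▸ hξ)
  have hins : insert χ S₀ = S₀ ∪ {χ} := by rw [Finset.union_comm, Finset.insert_eq]
  rw [hins] at hτ hirr' ⊢
  refine coherent_glue (v := V) hirr' hτ ?_ ?_ ?_ ?_ hψ (Finset.mem_singleton_self χ)
    (fun e => hχS (e ▸ hψ)) (hd0 ψ hψ) hdχ ?_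
  · intro ξ hξ η hη
    simp only [Finset.mem_union, Finset.mem_singleton] at hξ hη
    rcases hξ with hξ | hξ <;> rcases hη with hη | hη
    · rw [hVS ξ hξ, hVS η hη, hvin ξ hξ η hη]
    · subst hη
      rw [hVS ξ hξ, if_neg (fun e : ξ = η => hχS (e ▸ hξ)), show V η = ρ from if_pos rfl,
        ← classInner_conj_symm, hρv ξ hξ, map_zero]
    · subst hξ
      rw [hVS η hη, if_neg (fun e : ξ = η => hχS (e ▸ hη)), show V ξ = ρ from if_pos rfl, hρv η hη]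
    · subst hξ hη
      rw [if_pos rfl, show V _ = ρ from if_pos rfl, hρρ]
  · intro ξ hξ
    simp only [Finset.mem_union, Finset.mem_singleton] at hξ
    rcases hξ with hξ | hξ
    · rw [hVS ξ hξ]; exact hvgen ξ hξ
    · subst hξ
      rw [show V _ = ρ from if_pos rfl]; exact hρgen
  · intro θ hθ
    rw [extMap_congr hirr subset_rfl hVS hθ.1, iso_eq_extMap hirr hτ₁ hθ.1, hext θ hθ]
  · intro θ hθ
    obtain ⟨n, hn⟩ := mem_zspan_iff_sum.1 hθ.1
    have h0 := hθ.2 1 (by simp)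
    rw [hn, Finset.sum_singleton, Pi.smul_apply, smul_eq_mul, mul_eq_zero] at h0
    have hθ0 : θ = 0 := by
      rw [hn, Finset.sum_singleton, h0.resolve_right (IsIrr.apply_one_ne_zero hχ), zero_smul]
    rw [hθ0, iso_map_zero hτ mem_zspanOn_zero]
    simp [extMap]
  · have e : (d ψ : ℂ) • χ - (d χ : ℂ) • ψ = (d ψ : ℂ) • β := by
      rw [hβ, smul_sub, smul_smul, hm, Nat.cast_mul]
    rw [e, iso_map_natCast_smul hτ (hins ▸ hβmem), show V χ = ρ from if_pos rfl, hVS ψ hψ, hρ, smul_add,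
      smul_smul, hm, Nat.cast_mul, add_sub_cancel_right]

end CfsgLib.Char.Exceptional
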