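import Mathlib
import Cfsg.Agent.Lib.Char.Exceptional.Coherence2

/-! Coherence for orthogonal families of characters that need not be irreducible. -/

set_option autoImplicit false

open scoped ComplexConjugate
open Finset

namespace CfsgLib.Char.Exceptional

open CfsgLib.Char

variable {L : Type*} [Group L] [Fintype L] {G : Type*} [Group G] [Fintype G]

section Inner

variable {H : Type*} [Group H] [Fintype H]

theorem classInner_self_re_nonneg (f : H → ℂ) : 0 ≤ (Cfsg.classInner f f).re := by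
  have h : Cfsg.classInner f f = (((Fintype.card H : ℝ)⁻¹ * ∑ g, Complex.normSq (f g) : ℝ) : ℂ) := by
    simp [Cfsg.classInner, Complex.mul_conj]
  rw [h, Complex.ofReal_re]
  exact mul_nonneg (by positivity) (Finset.sum_nonneg fun _ _ => Complex.normSq_nonneg _)

theorem eq_zero_of_classInner_self {f : H → ℂ} (h : (Cfsg.classInner f f).re = 0) : f = 0 := by
  have h' : Cfsg.classInner f f = (((Fintype.card H : ℝ)⁻¹ * ∑ g, Complex.normSq (f g) : ℝ) : ℂ) := by
    simp [Cfsg.classInner, Complex.mul_conj]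
  rw [h', Complex.ofReal_re, mul_eq_zero, Finset.sum_eq_zero_iff_of_nonneg (fun _ _ => Complex.normSq_nonneg _)] at h
  rcases h with h | h
  · simp [Fintype.card_ne_zero] at h
  · exact funext fun g => Complex.normSq_eq_zero.1 (h g (Finset.mem_univ _))

/-- Bessel's identity for a finite orthogonal family with integral coefficients. -/
theorem bessel_split {ι : Type*} [DecidableEq ι] (s : Finset ι) (u : ι → H → ℂ) (θ : H → ℂ) (a : ι → ℤ) (n : ι → ℕ)
    (hn : ∀ i ∈ s, 0 < n i) (hu : ∀ i ∈ s, ∀ j ∈ s, Cfsg.classInner (u i) (u j) = if i = j then (n i : ℂ) else 0)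
    (ha : ∀ i ∈ s, Cfsg.classInner θ (u i) = a i) :
    (∀ j ∈ s, Cfsg.classInner (θ - ∑ i ∈ s, ((a i : ℂ) / (n i : ℂ)) • u i) (u j) = 0) ∧
      (Cfsg.classInner (θ - ∑ i ∈ s, ((a i : ℂ) / (n i : ℂ)) • u i)
        (θ - ∑ i ∈ s, ((a i : ℂ) / (n i : ℂ)) • u i)).re =
        (Cfsg.classInner θ θ).re - ∑ i ∈ s, (a i : ℝ) ^ 2 / (n i : ℝ) := by
  obtain ⟨ρ, hρ⟩ : ∃ ρ, ρ = θ - ∑ i ∈ s, ((a i : ℂ) / (n i : ℂ)) • u i := ⟨_, rfl⟩
  rw [← hρ]
  have hperp : ∀ j ∈ s, Cfsg.classInner ρ (u j) = 0 := fun j hj => by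
    have : (n j : ℂ) ≠ 0 := Nat.cast_ne_zero.2 (hn j hj).ne'
    rw [hρ, classInner_sub_left, classInner_sum_left, ha j hj, Finset.sum_eq_single j
      (fun i hi hne => by rw [classInner_smul_left, hu i hi j hj, if_neg hne, mul_zero])
      (fun h => absurd hj h), classInner_smul_left, hu j hj j hj, if_pos rfl, div_mul_cancel₀ _ this, sub_self]
  refine ⟨hperp, ?_⟩
  conv_lhs => arg 1; arg 2; rw [hρ]
  rw [classInner_sub_right, classInner_sum_right,
    Finset.sum_eq_zero (fun i hi => by rw [classInner_smul_right, hperp i hi, mul_zero]), sub_zero, hρ,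
    classInner_sub_left, classInner_sum_left, Complex.sub_re, Complex.re_sum]
  congr 1
  refine Finset.sum_congr rfl fun i hi => ?_
  rw [classInner_smul_left, ← classInner_conj_symm, ha i hi]
  have h : (a i : ℂ) / (n i : ℂ) * (starRingEnd ℂ) (a i : ℂ) = (((a i : ℝ) ^ 2 / (n i : ℝ) : ℝ) : ℂ) := by
    rw [map_intCast]; push_cast; ring
  rw [h, Complex.ofReal_re]

end Inner

/-- A finite pairwise orthogonal family of nonzero functions. -/
structure IsOrthFamily (T : Finset (L → ℂ)) : Prop where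
  orth : ∀ ξ ∈ T, ∀ η ∈ T, ξ ≠ η → Cfsg.classInner ξ η = 0
  ne : ∀ ξ ∈ T, Cfsg.classInner ξ ξ ≠ 0

/-- The linear map with prescribed values on an orthogonal family. -/
noncomputable def oMap (T : Finset (L → ℂ)) (v : (L → ℂ) → (G → ℂ)) : (L → ℂ) → (G → ℂ) :=
  extMap T (fun ξ => (Cfsg.classInner ξ ξ)⁻¹ • v ξ)

variable {T : Finset (L → ℂ)} {v : (L → ℂ) → (G → ℂ)}

omit [Fintype G] in
theorem oMap_apply_mem (hT : IsOrthFamily T) {ξ : L → ℂ} (hξ : ξ ∈ T) : oMap T v ξ = v ξ := by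
  simp only [oMap, extMap]
  rw [Finset.sum_eq_single ξ (fun η hη hne => by rw [hT.orth ξ hξ η hη hne.symm, zero_smul])
    (fun h => absurd hξ h), smul_smul, mul_inv_cancel₀ (hT.ne ξ hξ), one_smul]

omit [Fintype G] in
theorem oMap_sum (hT : IsOrthFamily T) (n : (L → ℂ) → ℂ) :
    oMap T v (∑ ξ ∈ T, n ξ • ξ) = ∑ ξ ∈ T, n ξ • v ξ := by
  classical
  have : ∀ U ⊆ T, oMap T v (∑ ξ ∈ U, n ξ • ξ) = ∑ ξ ∈ U, n ξ • v ξ := by
    intro U hU
    induction U using Finset.induction_on with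
    | empty => simp [oMap, extMap]
    | insert x U hx ih =>
      rw [Finset.sum_insert hx, Finset.sum_insert hx, oMap, extMap_add, extMap_smul, ← oMap,
        oMap_apply_mem hT (hU (Finset.mem_insert_self _ _)), ih ((Finset.subset_insert _ _).trans hU)]
  exact this T subset_rfl

theorem oMap_isometry (hT : IsOrthFamily T)
    (hv : ∀ ξ ∈ T, ∀ η ∈ T, Cfsg.classInner (v ξ) (v η) = Cfsg.classInner ξ η)
    (hgen : ∀ ξ ∈ T, Cfsg.IsGeneralizedCharacter G (v ξ)) :
    Cfsg.IsLinearIsometryOn (Cfsg.zspan (↑T : Set (L → ℂ))) (oMap T v) := by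
  refine ⟨fun α _ β _ => extMap_add α β, fun α _ n => ?_, ?_, ?_⟩
  · rw [← Int.cast_smul_eq_zsmul ℂ, oMap, extMap_smul, Int.cast_smul_eq_zsmul]
  · intro α hα β hβ
    obtain ⟨a, rfl⟩ := mem_zspan_iff_sum.1 hα
    obtain ⟨b, rfl⟩ := mem_zspan_iff_sum.1 hβ
    rw [oMap_sum hT, oMap_sum hT]
    simp only [classInner_sum_left, classInner_sum_right, classInner_smul_left, classInner_smul_right]
    refine Finset.sum_congr rfl fun ξ hξ => ?_
    congr 1
    exact Finset.sum_congr rfl fun η hη => by rw [hv η hη ξ hξ]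
  · intro α hα
    obtain ⟨a, rfl⟩ := mem_zspan_iff_sum.1 hα
    rw [oMap_sum hT]
    exact IsGen.sum _ fun ξ hξ => IsGen.intCast_smul _ (hgen ξ hξ)

theorem iso_map_combo {τ₁ : (L → ℂ) → (G → ℂ)}
    (h : Cfsg.IsLinearIsometryOn (Cfsg.zspan (↑T : Set (L → ℂ))) τ₁) (hT : IsOrthFamily T)
    {f : L → ℂ} (hf : f ∈ Cfsg.zspan (↑T : Set (L → ℂ))) : oMap T τ₁ f = τ₁ f := by
  induction hf using Submodule.span_induction with
  | mem x hx => exact oMap_apply_mem hT hx
  | zero =>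
    rw [iso_map_zero h (Submodule.zero_mem _)]
    simp [oMap, extMap]
  | add x y hx hy ihx ihy => rw [oMap, extMap_add, ← oMap, ihx, ihy, h.1 x hx y hy]
  | smul n x hx ih => rw [← Int.cast_smul_eq_zsmul ℂ, oMap, extMap_smul, ← oMap, ih, Int.cast_smul_eq_zsmul,
      Int.cast_smul_eq_zsmul, h.2.1 x hx n]

omit [Fintype G] in
theorem oMap_congr {U : Finset (L → ℂ)} (hT : IsOrthFamily T) (hU : IsOrthFamily U) (hUT : U ⊆ T)
    {w : (L → ℂ) → (G → ℂ)} (hvw : ∀ ξ ∈ U, v ξ = w ξ) {f : L → ℂ}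
    (hf : f ∈ Cfsg.zspan (↑U : Set (L → ℂ))) : oMap T v f = oMap U w f := by
  induction hf using Submodule.span_induction with
  | mem x hx => rw [oMap_apply_mem hT (hUT hx), oMap_apply_mem hU hx, hvw x hx]
  | zero => simp [oMap, extMap]
  | add x y hx hy ihx ihy =>
    simp only [oMap, extMap_add] at ihx ihy ⊢
    rw [ihx, ihy]
  | smul n x hx ih =>
    rw [← Int.cast_smul_eq_zsmul ℂ]
    simp only [oMap, extMap_smul] at ih ⊢
    rw [ih]

section System

variable {S : Set (L → ℂ)} {τ : (L → ℂ) → (G → ℂ)} {R : (L → ℂ) → Finset (G → ℂ)}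

theorem sys_norm (hS : Cfsg.IsCoherenceSystem S τ R) {χ : L → ℂ} (hχ : χ ∈ S) :
    ∃ n : ℕ, 0 < n ∧ Cfsg.classInner χ χ = n := by
  obtain ⟨n, hn⟩ := IsGen.classInner_self_eq (IsGen.of_char (hS.isCharacter χ hχ))
  refine ⟨n, Nat.pos_of_ne_zero fun e => ?_, hn⟩
  rw [e] at hn
  have h0 : χ = 0 := eq_zero_of_classInner_self (by rw [hn]; simp)
  exact hS.conj_ne χ hχ (by rw [h0]; funext x; simp [Cfsg.conjFun])

theorem sys_orth (hS : Cfsg.IsCoherenceSystem S τ R) {T : Finset (L → ℂ)} (hT : ↑T ⊆ S) : IsOrthFamily T :=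
  ⟨fun ξ hξ η hη h => hS.orthogonal ξ (hT hξ) η (hT hη) h, fun ξ hξ => by
    obtain ⟨n, hn, hn'⟩ := sys_norm hS (hT hξ)
    rw [hn']; exact Nat.cast_ne_zero.2 hn.ne'⟩

theorem sys_finite (hS : Cfsg.IsCoherenceSystem S τ R) : S.Finite := by
  have hli : LinearIndependent ℂ (fun x : S => (x : L → ℂ)) := by
    rw [linearIndependent_iff']
    intro s g hg i hi
    have h := congrArg (fun f => Cfsg.classInner f (i : L → ℂ)) hg
    simp only [classInner_sum_left, classInner_zero_left, classInner_smul_left] at h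
    rw [Finset.sum_eq_single i (fun j _ hne => by
      rw [hS.orthogonal _ j.2 _ i.2 (fun e => hne (Subtype.ext e)), mul_zero]) (fun hn => absurd hi hn)] at h
    obtain ⟨n, hn, hn'⟩ := sys_norm hS i.2
    rw [hn'] at h
    exact (mul_eq_zero.1 h).resolve_right (Nat.cast_ne_zero.2 hn.ne')
  exact hli.setFinite

theorem sys_conj_conj (χ : L → ℂ) : Cfsg.conjFun (Cfsg.conjFun χ) = χ :=
  funext fun x => by simp [Cfsg.conjFun]

theorem sys_conj_inner (χ φ : L → ℂ) :
    Cfsg.classInner (Cfsg.conjFun χ) (Cfsg.conjFun φ) = conj (Cfsg.classInner χ φ) := by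
  simp [Cfsg.classInner, Cfsg.conjFun, map_sum]

theorem sys_deg_conj (hS : Cfsg.IsCoherenceSystem S τ R) {χ : L → ℂ} (hχ : χ ∈ S) :
    Cfsg.conjFun χ 1 = χ 1 := by
  obtain ⟨m, ρ, rfl⟩ := hS.isCharacter χ hχ
  simp [Cfsg.conjFun]

theorem sys_sum_mem (hS : Cfsg.IsCoherenceSystem S τ R) {χ : L → ℂ} (hχ : χ ∈ S) :
    χ - Cfsg.conjFun χ ∈ Cfsg.zspanOn S ({1}ᶜ : Set L) :=
  sub_mem_zspanOn_one hχ (hS.conj_mem χ hχ) (sys_deg_conj hS hχ).symm

theorem sys_R_disjoint (hS : Cfsg.IsCoherenceSystem S τ R) {χ φ : L → ℂ} (hχ : χ ∈ S) (hφ : φ ∈ S)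
    (h1 : φ ≠ χ) (h2 : φ ≠ Cfsg.conjFun χ) :
    ∀ α ∈ R φ, ∀ β ∈ R χ, Cfsg.classInner α β = 0 :=
  hS.disjoint χ hχ φ hφ (hS.orthogonal φ hφ χ hχ h1) (hS.orthogonal φ hφ _ (hS.conj_mem χ hχ) h2)

/-- A coherent extension sends each member into the span of the attached virtual constituents. -/
theorem sys_image_perp (hS : Cfsg.IsCoherenceSystem S τ R) {T : Set (L → ℂ)} (hT : T ⊆ S)
    (hTc : ∀ φ ∈ T, Cfsg.conjFun φ ∈ T) {τ₁ : (L → ℂ) → (G → ℂ)}
    (hτ₁ : Cfsg.IsLinearIsometryOn (Cfsg.zspan T) τ₁)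
    (hext : ∀ α ∈ Cfsg.zspanOn T ({1}ᶜ : Set L), τ₁ α = τ α) {φ : L → ℂ} (hφ : φ ∈ T)
    {χ : L → ℂ} (hχ : χ ∈ S) (h1 : φ ≠ χ) (h2 : φ ≠ Cfsg.conjFun χ) :
    ∀ β ∈ R χ, Cfsg.classInner (τ₁ φ) β = 0 := by
  classical
  have hdiff : φ - Cfsg.conjFun φ ∈ Cfsg.zspanOn T ({1}ᶜ : Set L) :=
    sub_mem_zspanOn_one hφ (hTc φ hφ) (sys_deg_conj hS (hT hφ)).symm
  have hsub : Cfsg.zspan {φ - 0, φ - Cfsg.conjFun φ} ⊆ Cfsg.zspan T := by
    refine SetLike.coe_subset_coe.2 (Submodule.span_le.2 ?_)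
    rintro x (rfl | rfl)
    · rw [sub_zero]; exact Submodule.subset_span hφ
    · exact hdiff.1
  have hagree : ∀ n : ℤ, τ₁ (n • (φ - Cfsg.conjFun φ)) = τ (n • (φ - Cfsg.conjFun φ)) := fun n => by
    refine hext _ ?_
    rw [← Int.cast_smul_eq_zsmul ℂ]
    exact zsmul_mem_zspanOn hdiff n
  have h := coherenceSystem_coeff hS (hT hφ) (classInner_zero_right φ) (classInner_zero_right _)
    (IsLinearIsometryOn.mono hτ₁ hsub) hagree
  rw [sub_zero] at h
  choose! c hc using fun α (hα : α ∈ R φ) =>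
    IsGen.classInner_eq_int (hτ₁.2.2.2 _ (mem_zspan_self hφ)) (hS.virtual φ (hT hφ) α hα)
  obtain ⟨hρ1, hρ2⟩ := bessel_split (R φ) id (τ₁ φ) c (fun _ => 1) (fun _ _ => one_pos)
    (fun i hi j hj => by simpa using hS.orthonormal φ (hT hφ) i hi j hj) hc
  have hsq : ∀ α ∈ R φ, ‖Cfsg.classInner (τ₁ φ) α‖ ^ 2 = (c α : ℝ) ^ 2 := fun α hα => by
    rw [hc α hα, Complex.norm_intCast, sq_abs]
  have hzero : τ₁ φ - ∑ α ∈ R φ, ((c α : ℂ) / ((1 : ℕ) : ℂ)) • id α = 0 := by
    apply eq_zero_of_classInner_self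
    apply le_antisymm _ (classInner_self_re_nonneg _)
    rw [hρ2, hτ₁.2.2.1 φ (mem_zspan_self hφ) φ (mem_zspan_self hφ),
      ← Finset.sum_congr rfl (fun α hα => show ‖Cfsg.classInner (τ₁ φ) α‖ ^ 2 = (c α : ℝ) ^ 2 / ((1 : ℕ) : ℝ) by
        rw [hsq α hα]; simp)]
    linarith [h.1]
  intro β hβ
  rw [sub_eq_zero.1 hzero, classInner_sum_left]
  exact Finset.sum_eq_zero fun α hα => by
    rw [classInner_smul_left, id, sys_R_disjoint hS hχ (hT hφ) h1 h2 α hα β hβ, mul_zero]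

/-- All members of one degree: the system is coherent. -/
theorem coherenceSystem_const_degree (hS : Cfsg.IsCoherenceSystem S τ R)
    (hdeg : ∀ φ ∈ S, ∀ ψ ∈ S, φ 1 = ψ 1) : Cfsg.IsCoherent S ({1}ᶜ : Set L) τ := by
  classical
  obtain ⟨χ, hχ⟩ := hS.nonempty
  obtain ⟨n₁, hn₁, hn₁'⟩ := sys_norm hS hχ
  have hmem : ∀ φ ∈ S, χ - φ ∈ Cfsg.zspanOn S ({1}ᶜ : Set L) := fun φ hφ =>
    sub_mem_zspanOn_one hχ hφ (hdeg _ hχ _ hφ)
  have hc1 : Cfsg.classInner χ (Cfsg.conjFun χ) = 0 :=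
    hS.orthogonal χ hχ _ (hS.conj_mem χ hχ) (hS.conj_ne χ hχ).symm
  -- coefficients of a difference along one system
  have hcoef : ∀ a ∈ S, ∀ b ∈ S, a ≠ b → Cfsg.conjFun a ≠ b →
      (Cfsg.classInner a a).re ≤ ∑ α ∈ R a, ‖Cfsg.classInner (τ (a - b)) α‖ ^ 2 := by
    intro a ha b hb hab hab'
    have hdiff := sys_sum_mem hS ha
    have hsub : Cfsg.zspan {a - b, a - Cfsg.conjFun a} ⊆ Cfsg.zspanOn S ({1}ᶜ : Set L) := by
      intro x hx
      induction hx using Submodule.span_induction with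
      | mem x hx =>
        rcases hx with rfl | rfl
        · exact sub_mem_zspanOn_one ha hb (hdeg _ ha _ hb)
        · exact hdiff
      | zero => exact mem_zspanOn_zero
      | add x y _ _ hx hy =>
        exact ⟨(Submodule.span ℤ S).add_mem hx.1 hy.1, fun z hz => by simp [hx.2 z hz, hy.2 z hz]⟩
      | smul k x _ hx => exact ⟨(Submodule.span ℤ S).smul_mem k hx.1, fun z hz => by simp [hx.2 z hz]⟩
    exact (coherenceSystem_coeff hS ha (hS.orthogonal a ha b hb hab)
      (hS.orthogonal _ (hS.conj_mem a ha) b hb hab') (IsLinearIsometryOn.mono hS.isometry hsub)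
      (fun _ => rfl)).1
  choose! c hc using fun φ (hφ : φ ∈ S) (α : G → ℂ) (hα : α ∈ R χ) =>
    IsGen.classInner_eq_int (hS.isometry.2.2.2 _ (hmem φ hφ)) (hS.virtual χ hχ α hα)
  -- decomposition of each difference
  have hdec : ∀ φ ∈ S, φ ≠ χ → φ ≠ Cfsg.conjFun χ → ∃ Q : G → ℂ, (∃ e : (G → ℂ) → ℂ, Q = ∑ β ∈ R φ, e β • β) ∧
      τ (χ - φ) = (∑ α ∈ R χ, (c φ α : ℂ) • α) + Q ∧ ∑ α ∈ R χ, (c φ α : ℝ) ^ 2 = n₁ := by
    intro φ hφ h1 h2
    choose! e he using fun β (hβ : β ∈ R φ) =>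
      IsGen.classInner_eq_int (hS.isometry.2.2.2 _ (hmem φ hφ)) (hS.virtual φ hφ β hβ)
    obtain ⟨hA, hA'⟩ := bessel_split (R χ) id (τ (χ - φ)) (c φ) (fun _ => 1) (fun _ _ => one_pos)
      (fun i hi j hj => by simpa using hS.orthonormal χ hχ i hi j hj) (hc φ hφ)
    simp only [Nat.cast_one, div_one, id] at hA hA'
    have hperp : ∀ β ∈ R φ, Cfsg.classInner (τ (χ - φ) - ∑ α ∈ R χ, (c φ α : ℂ) • α) β = e β := by
      intro β hβ
      rw [classInner_sub_left, classInner_sum_left, he β hβ, Finset.sum_eq_zero (fun α hα => by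
        rw [classInner_smul_left, ← classInner_conj_symm, sys_R_disjoint hS hχ hφ h1 h2 β hβ α hα]
        simp), sub_zero]
    obtain ⟨-, hB'⟩ := bessel_split (R φ) id (τ (χ - φ) - ∑ α ∈ R χ, (c φ α : ℂ) • α) e (fun _ => 1)
      (fun _ _ => one_pos) (fun i hi j hj => by simpa using hS.orthonormal φ hφ i hi j hj) hperp
    simp only [Nat.cast_one, div_one, id] at hB'
    rw [hA'] at hB'
    have hb1 := hcoef χ hχ φ hφ h1.symm h2.symm
    have hb2 := hcoef φ hφ χ hχ h1 (fun e => h2 (by rw [← e, sys_conj_conj]))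
    rw [Finset.sum_congr rfl (g := fun α => (c φ α : ℝ) ^ 2) (fun α hα => by
      rw [hc φ hφ α hα, Complex.norm_intCast, sq_abs])] at hb1
    have hneg : τ (φ - χ) = -τ (χ - φ) := by
      have hz := isoOn_map_sub hS.isometry (hmem φ hφ) (hmem φ hφ)
      have h3 := isoOn_map_sub hS.isometry mem_zspanOn_zero (hmem φ hφ)
      rw [sub_self, sub_self] at hz
      rw [zero_sub, neg_sub, hz, zero_sub] at h3
      exact h3
    rw [Finset.sum_congr rfl (g := fun β => (e β : ℝ) ^ 2) (fun β hβ => by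
      rw [hneg, classInner_neg_left, norm_neg, he β hβ, Complex.norm_intCast, sq_abs])] at hb2
    have hnorm : (Cfsg.classInner (τ (χ - φ)) (τ (χ - φ))).re =
        (Cfsg.classInner χ χ).re + (Cfsg.classInner φ φ).re := by
      rw [hS.isometry.2.2.1 _ (hmem φ hφ) _ (hmem φ hφ), classInner_sub_left, classInner_sub_right,
        classInner_sub_right, hS.orthogonal χ hχ φ hφ h1.symm, hS.orthogonal φ hφ χ hχ h1]
      simp
    have hn1 : (Cfsg.classInner χ χ).re = n₁ := by rw [hn₁']; simp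
    have h0 := classInner_self_re_nonneg (τ (χ - φ) - ∑ α ∈ R χ, (c φ α : ℂ) • α - ∑ β ∈ R φ, (e β : ℂ) • β)
    rw [hB', hnorm] at h0
    refine ⟨_, ⟨fun β => (e β : ℂ), rfl⟩, ?_, by linarith⟩
    have hz : τ (χ - φ) - ∑ α ∈ R χ, (c φ α : ℂ) • α - ∑ β ∈ R φ, (e β : ℂ) • β = 0 := by
      apply eq_zero_of_classInner_self
      rw [hB', hnorm]
      linarith
    rw [sub_sub, sub_eq_zero] at hz
    exact hz
  -- the anchor
  obtain ⟨X, hXgen, hXX, hXφ⟩ : ∃ X : G → ℂ, Cfsg.IsGeneralizedCharacter G X ∧ Cfsg.classInner X X = n₁ ∧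
      ∀ φ ∈ S, φ ≠ χ → Cfsg.classInner (τ (χ - φ)) X = n₁ := by
    have hsum : τ (χ - Cfsg.conjFun χ) = ∑ α ∈ R χ, α := hS.sum_eq χ hχ
    have hone : ∀ α ∈ R χ, Cfsg.classInner (τ (χ - Cfsg.conjFun χ)) α = 1 := fun α hα => by
      rw [hsum, classInner_sum_left, Finset.sum_eq_single α
        (fun b hb hne => by rw [hS.orthonormal χ hχ b hb α hα, if_neg hne]) (fun h => absurd hα h),
        hS.orthonormal χ hχ α hα α hα, if_pos rfl]
    by_cases hex : ∃ ψ ∈ S, ψ ≠ χ ∧ ψ ≠ Cfsg.conjFun χ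
    · obtain ⟨ψ, hψ, hψ1, hψ2⟩ := hex
      obtain ⟨Q, -, hψdec, hψsq⟩ := hdec ψ hψ hψ1 hψ2
      have hψsq' : ((∑ α ∈ R χ, c ψ α ^ 2 : ℤ) : ℂ) = (n₁ : ℂ) := by
        have h' : ((∑ α ∈ R χ, c ψ α ^ 2 : ℤ) : ℝ) = ((n₁ : ℤ) : ℝ) := by push_cast; exact hψsq
        rw [Int.cast_inj.1 h']; simp
      have hcψψ : ∀ φ ∈ S, φ ≠ χ →
          Cfsg.classInner (τ (χ - φ)) (∑ α ∈ R χ, (c ψ α : ℂ) • α) = ((∑ α ∈ R χ, c ψ α * c φ α : ℤ) : ℂ) := by
        intro φ hφ _
        rw [classInner_sum_right, Int.cast_sum]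
        refine Finset.sum_congr rfl fun α hα => ?_
        rw [classInner_smul_right, hc φ hφ α hα, map_intCast]
        push_cast; rfl
      refine ⟨∑ α ∈ R χ, (c ψ α : ℂ) • α,
        IsGen.sum _ fun α hα => IsGen.intCast_smul _ (hS.virtual χ hχ α hα), ?_, fun φ hφ hne => ?_⟩
      · rw [classInner_sum_left, ← hψsq', Int.cast_sum]
        refine Finset.sum_congr rfl fun α hα => ?_
        rw [classInner_smul_left, classInner_sum_right, Finset.sum_eq_single α
          (fun b hb hne => by rw [classInner_smul_right, hS.orthonormal χ hχ α hα b hb, if_neg hne.symm, mul_zero])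
          (fun h => absurd hα h), classInner_smul_right, hS.orthonormal χ hχ α hα α hα, if_pos rfl, map_intCast]
        push_cast; ring
      · rw [hcψψ φ hφ hne, ← hψsq']
        have key : ∀ α ∈ R χ, φ ≠ Cfsg.conjFun χ → c φ α = c ψ α := by
          intro α hα hne2
          by_cases e1 : φ = ψ
          · rw [e1]
          by_cases e2 : φ = Cfsg.conjFun ψ
          · have hval : τ (χ - φ) = τ (χ - ψ) + τ (ψ - Cfsg.conjFun ψ) := by
              rw [← hS.isometry.1 _ (hmem ψ hψ) _ (sys_sum_mem hS hψ), e2]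
              congr 1; abel
            have h := hc φ hφ α hα
            rw [hval, classInner_add_left, hc ψ hψ α hα, hS.sum_eq ψ hψ, classInner_sum_left,
              Finset.sum_eq_zero (fun b hb => sys_R_disjoint hS hχ hψ hψ1 hψ2 b hb α hα), add_zero] at h
            exact (Int.cast_inj.1 h).symm
          · obtain ⟨Qφ, ⟨e, he⟩, hφdec, hφsq⟩ := hdec φ hφ hne hne2
            have hperp : ∀ b ∈ R φ, Cfsg.classInner (τ (χ - ψ)) b = 0 := by
              intro b hb
              obtain ⟨Qψ, ⟨eψ, heψ⟩, hψd, -⟩ := hdec ψ hψ hψ1 hψ2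
              rw [hψd, classInner_add_left, heψ, classInner_sum_left, classInner_sum_left,
                Finset.sum_eq_zero (fun a ha => ?_), Finset.sum_eq_zero (fun a ha => ?_), add_zero]
              · rw [classInner_smul_left, sys_R_disjoint hS hφ hψ (Ne.symm e1)
                  (fun h' => e2 (by rw [h', sys_conj_conj])) a ha b hb, mul_zero]
              · rw [classInner_smul_left, ← classInner_conj_symm, sys_R_disjoint hS hχ hφ hne hne2 b hb a ha]
                simp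
            have hip : Cfsg.classInner (τ (χ - ψ)) (τ (χ - φ)) = (n₁ : ℂ) := by
              rw [hS.isometry.2.2.1 _ (hmem ψ hψ) _ (hmem φ hφ), classInner_sub_left, classInner_sub_right,
                classInner_sub_right, hS.orthogonal χ hχ φ hφ hne.symm, hS.orthogonal ψ hψ χ hχ hψ1,
                hS.orthogonal ψ hψ φ hφ (Ne.symm e1), hn₁']
              ring
            rw [hφdec, classInner_add_right, he, classInner_sum_right, classInner_sum_right,
              Finset.sum_eq_zero (s := R φ) (fun b hb => by rw [classInner_smul_right, hperp b hb, mul_zero]),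
              add_zero, Finset.sum_congr rfl (g := fun b => ((c ψ b * c φ b : ℤ) : ℂ)) (fun b hb => by
                rw [classInner_smul_right, hc ψ hψ b hb, map_intCast]; push_cast; ring)] at hip
            have hip' : ∑ b ∈ R χ, (c ψ b : ℝ) * (c φ b : ℝ) = n₁ := by
              have : (∑ b ∈ R χ, c ψ b * c φ b : ℤ) = (n₁ : ℤ) := by
                rw [← Int.cast_sum] at hip; exact_mod_cast hip
              exact_mod_cast this
            have hz : ∑ b ∈ R χ, ((c φ b : ℝ) - (c ψ b : ℝ)) ^ 2 = 0 := by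
              rw [Finset.sum_congr rfl (g := fun b => (c φ b : ℝ) ^ 2 - 2 * ((c ψ b : ℝ) * (c φ b : ℝ)) + (c ψ b : ℝ) ^ 2)
                (fun b _ => by ring), Finset.sum_add_distrib, Finset.sum_sub_distrib, ← Finset.mul_sum, hφsq,
                hψsq, hip']
              ring
            rw [Finset.sum_eq_zero_iff_of_nonneg (fun _ _ => sq_nonneg _)] at hz
            have h := hz α hα
            rw [sq_eq_zero_iff, sub_eq_zero, Int.cast_inj] at h
            exact h
        by_cases e : φ = Cfsg.conjFun χ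
        · subst e
          rw [← hcψψ _ hφ hne, hψsq', classInner_sum_right]
          have hcsum : Cfsg.classInner (τ (χ - ψ)) (τ (χ - Cfsg.conjFun χ)) = (n₁ : ℂ) := by
            rw [hS.isometry.2.2.1 _ (hmem ψ hψ) _ (hmem _ hφ), classInner_sub_left, classInner_sub_right,
              classInner_sub_right, hc1, hS.orthogonal ψ hψ χ hχ hψ1, hS.orthogonal ψ hψ _ hφ hψ2, hn₁']
            ring
          rw [hsum, classInner_sum_right] at hcsum
          rw [← hcsum]
          refine Finset.sum_congr rfl fun α hα => ?_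
          rw [classInner_smul_right, hone α hα, hc ψ hψ α hα, map_intCast, mul_one]
        · congr 1
          exact Finset.sum_congr rfl fun α hα => by rw [key α hα e]; ring
    · push Not at hex
      have hcard : (R χ).card = 2 * n₁ := by
        have h := hS.isometry.2.2.1 _ (sys_sum_mem hS hχ) _ (sys_sum_mem hS hχ)
        rw [hsum, classInner_sum_right, Finset.sum_congr rfl (g := fun _ => (1 : ℂ)) (fun α hα => hsum ▸ hone α hα),
          classInner_sub_left, classInner_sub_right, classInner_sub_right, hc1, sys_conj_inner, hn₁',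
          ← classInner_conj_symm χ (Cfsg.conjFun χ), hc1] at h
        simp at h
        exact_mod_cast (h.trans (by ring) : ((R χ).card : ℂ) = 2 * (n₁ : ℂ))
      obtain ⟨U, hU, hUc⟩ := Finset.exists_subset_card_eq (s := R χ) (n := n₁) (by omega)
      refine ⟨∑ α ∈ U, α, IsGen.sum _ fun α hα => hS.virtual χ hχ α (hU hα), ?_, fun φ hφ hne => ?_⟩
      · rw [classInner_sum_left, ← hUc]
        rw [Finset.sum_congr rfl (g := fun _ => (1 : ℂ)) (fun α hα => by
          rw [classInner_sum_right, Finset.sum_eq_single α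
            (fun b hb hne => by rw [hS.orthonormal χ hχ α (hU hα) b (hU hb), if_neg hne.symm])
            (fun h => absurd hα h), hS.orthonormal χ hχ α (hU hα) α (hU hα), if_pos rfl])]
        simp
      · obtain rfl := hex φ hφ hne
        rw [classInner_sum_right, Finset.sum_congr rfl (fun α hα => hone α (hU hα)), ← hUc]
        simp
  obtain ⟨T, hT⟩ := (sys_finite hS).exists_finset_coe
  have hTS : ∀ ξ ∈ T, ξ ∈ S := fun ξ h => hT ▸ h
  have horth : IsOrthFamily T := sys_orth hS (by rw [hT])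
  have hXφ' : ∀ φ ∈ S, Cfsg.classInner (τ (χ - φ)) X = Cfsg.classInner (χ - φ) χ := by
    intro φ hφ
    by_cases e : φ = χ
    · subst e
      rw [sub_self, iso_map_zero hS.isometry mem_zspanOn_zero, classInner_zero_left, classInner_zero_left]
    · rw [hXφ φ hφ e, classInner_sub_left, hn₁', hS.orthogonal φ hφ χ hχ e, sub_zero]
  let V : (L → ℂ) → (G → ℂ) := fun φ => X - τ (χ - φ)
  refine ⟨⟨χ - Cfsg.conjFun χ, sys_sum_mem hS hχ, fun h => hS.conj_ne χ hχ (sub_eq_zero.1 h).symm⟩,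
    oMap T V, hT ▸ oMap_isometry horth (fun ξ hξ η hη => ?_)
      (fun ξ hξ => IsGen.sub hXgen (hS.isometry.2.2.2 _ (hmem ξ (hTS ξ hξ)))), ?_⟩
  · show Cfsg.classInner (X - τ (χ - ξ)) (X - τ (χ - η)) = _
    rw [classInner_sub_left, classInner_sub_right, classInner_sub_right, hXφ' ξ (hTS ξ hξ),
      ← classInner_conj_symm (τ (χ - η)) X, hXφ' η (hTS η hη), classInner_conj_symm, hXX,
      hS.isometry.2.2.1 _ (hmem ξ (hTS ξ hξ)) _ (hmem η (hTS η hη))]
    simp only [classInner_sub_left, classInner_sub_right, hn₁']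
    ring
  · intro α hα
    obtain ⟨m, hm⟩ := mem_zspan_iff_sum.1 (hT ▸ hα.1)
    have h1 : ∑ ξ ∈ T, (m ξ : ℂ) = 0 := by
      have h0 := hα.2 1 (by simp)
      rw [hm] at h0
      simp only [Finset.sum_apply, Pi.smul_apply, smul_eq_mul] at h0
      rw [Finset.sum_congr rfl (fun ξ hξ => by rw [hdeg ξ (hTS ξ hξ) χ hχ]), ← Finset.sum_mul] at h0
      refine (mul_eq_zero.1 h0).resolve_right fun h => hS.conj_ne χ hχ ?_
      have hz : χ = 0 := by
        obtain ⟨k, ρ, rfl⟩ := hS.isCharacter χ hχ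
        rw [Representation.char_one, Nat.cast_eq_zero] at h
        have : Subsingleton (Fin k → ℂ) := Module.finrank_zero_iff.1 h
        funext g
        simp [Representation.character, Subsingleton.elim (ρ g) 0]
      rw [hz]; funext x; simp [Cfsg.conjFun]
    have hkey : ∀ U ⊆ T, τ (∑ ξ ∈ U, ((-m ξ : ℤ) : ℂ) • (χ - ξ)) = ∑ ξ ∈ U, ((-m ξ : ℤ) : ℂ) • τ (χ - ξ) ∧
        ∑ ξ ∈ U, ((-m ξ : ℤ) : ℂ) • (χ - ξ) ∈ Cfsg.zspanOn S ({1}ᶜ : Set L) := by
      intro U hU
      induction U using Finset.induction_on with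
      | empty =>
        simp only [Finset.sum_empty]
        exact ⟨iso_map_zero hS.isometry mem_zspanOn_zero, mem_zspanOn_zero⟩
      | insert x U hx ih =>
        obtain ⟨ih1, ih2⟩ := ih ((Finset.subset_insert _ _).trans hU)
        have hx' := hmem x (hTS x (hU (Finset.mem_insert_self _ _)))
        have hm' := zsmul_mem_zspanOn hx' (-m x)
        rw [Finset.sum_insert hx, Finset.sum_insert hx, hS.isometry.1 _ hm' _ ih2, ih1]
        refine ⟨?_, ⟨(Submodule.span ℤ S).add_mem hm'.1 ih2.1,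
          fun y hy => by rw [Pi.add_apply, hm'.2 y hy, ih2.2 y hy, add_zero]⟩⟩
        rw [Int.cast_smul_eq_zsmul, hS.isometry.2.1 _ hx', ← Int.cast_smul_eq_zsmul ℂ]
    have he : α = ∑ ξ ∈ T, ((-m ξ : ℤ) : ℂ) • (χ - ξ) := by
      rw [Finset.sum_congr rfl (g := fun ξ => (m ξ : ℂ) • ξ - (m ξ : ℂ) • χ)
        (fun ξ _ => by push_cast; rw [neg_smul, smul_sub, neg_sub]), Finset.sum_sub_distrib, ← Finset.sum_smul, h1,
        zero_smul, sub_zero]
      exact hm
    conv_rhs => rw [he, (hkey T subset_rfl).1]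
    rw [hm, oMap_sum horth]
    simp only [V, smul_sub, Finset.sum_sub_distrib, ← Finset.sum_smul, h1, zero_smul, zero_sub,
      Int.cast_neg, neg_smul, Finset.sum_neg_distrib]

end System

end CfsgLib.Char.Exceptional
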