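import Mathlib
import Cfsg.Agent.Lib.Char.Basic
import Cfsg.Agent.Lib.Char.Complete
import Cfsg.Agent.Lib.Char.Induced
import Cfsg.Agent.Lib.Char.Exceptional.Virtual
import Cfsg.Agent.Lib.CharDegree.Restriction

/-! Induction from a normal subgroup; kernels of constituents; inflation commutes with induction. -/

set_option autoImplicit false

open scoped ComplexConjugate
open Finset

namespace CfsgLib.Char.Exceptional

open CfsgLib.Char

variable {G : Type*} [Group G]

/-- The conjugate of a function on a normal subgroup. -/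
def cjFun (H : Subgroup G) [hN : H.Normal] (g : G) (θ : H → ℂ) : H → ℂ :=
  fun h => θ ⟨g * h * g⁻¹, hN.conj_mem h h.2 g⟩

theorem cjFun_mul (H : Subgroup G) [H.Normal] (a b : G) (θ : H → ℂ) :
    cjFun H (a * b) θ = cjFun H b (cjFun H a θ) := by
  funext h
  simp only [cjFun]
  congr 1
  exact Subtype.ext (by group)

theorem cjFun_one (H : Subgroup G) [H.Normal] (θ : H → ℂ) : cjFun H 1 θ = θ := by
  funext h
  simp only [cjFun]
  congr 1
  exact Subtype.ext (by simp)

theorem isIrr_cjFun (H : Subgroup G) [hN : H.Normal] (g : G) {θ : H → ℂ}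
    (h : Cfsg.IsIrrCharacter H θ) : Cfsg.IsIrrCharacter H (cjFun H g θ) := by
  refine (show cjFun H g θ = fun x => θ ((MulAut.conjNormal g : MulAut H).toMonoidHom x) from ?_) ▸
    IsIrr.comp_surjective (MulAut.conjNormal g : MulAut H).toMonoidHom
      (MulAut.conjNormal g : MulAut H).surjective h
  funext x
  simp only [cjFun]
  congr 1

variable [Fintype G]

theorem indFun_normal_apply (H : Subgroup G) [hN : H.Normal] (θ : H → ℂ) (h : H) :
    Cfsg.indFun H θ h = (Nat.card H : ℂ)⁻¹ * ∑ g : G, cjFun H g θ h := by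
  simp only [Cfsg.indFun]
  congr 1
  refine Fintype.sum_equiv (Equiv.inv G) _ _ fun x => ?_
  have hm : x⁻¹ * (h : G) * x ∈ H := by simpa using hN.conj_mem h h.2 x⁻¹
  rw [extendByZero_of_mem H θ hm, Equiv.inv_apply]
  simp only [cjFun, inv_inv]

theorem indFun_normal_eq_zero (H : Subgroup G) [hN : H.Normal] (θ : H → ℂ) {x : G} (hx : x ∉ H) :
    Cfsg.indFun H θ x = 0 := by
  simp only [Cfsg.indFun]
  rw [Finset.sum_eq_zero, mul_zero]
  intro y _
  refine extendByZero_of_notMem H θ fun h => hx ?_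
  simpa [mul_assoc] using hN.conj_mem _ h y

theorem indFun_cjFun (H : Subgroup G) [H.Normal] (a : G) (θ : H → ℂ) :
    Cfsg.indFun H (cjFun H a θ) = Cfsg.indFun H θ := by
  funext x
  by_cases hx : x ∈ H
  · rw [indFun_normal_apply H _ ⟨x, hx⟩, indFun_normal_apply H θ ⟨x, hx⟩]
    congr 1
    refine Fintype.sum_equiv (Equiv.mulLeft a) _ _ fun g => ?_
    rw [Equiv.coe_mulLeft, cjFun_mul]
  · rw [indFun_normal_eq_zero H _ hx, indFun_normal_eq_zero H _ hx]

/-- The restriction of an induced function is a multiple of the orbit sum. -/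
theorem indFun_normal_restrict (H : Subgroup G) [H.Normal] (θ : H → ℂ) :
    (fun h : H => Cfsg.indFun H θ h) =
      ((Nat.card {g : G // cjFun H g θ = θ} : ℂ) / (Nat.card H : ℂ)) •
        ∑ᶠ ψ ∈ {ψ : H → ℂ | ∃ g : G, ψ = cjFun H g θ}, ψ := by
  classical
  have hset : {ψ : H → ℂ | ∃ g : G, ψ = cjFun H g θ} =
      ↑((univ : Finset G).image fun g => cjFun H g θ) := by
    ext ψ
    simp [eq_comm]
  rw [hset, finsum_mem_coe_finset]
  funext h
  rw [indFun_normal_apply, Pi.smul_apply, Finset.sum_apply, smul_eq_mul, div_eq_inv_mul, mul_assoc,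
    Finset.mul_sum (a := (Nat.card {g : G // cjFun H g θ = θ} : ℂ))]
  congr 1
  rw [Finset.sum_comp (fun ψ : H → ℂ => ψ h) (fun g : G => cjFun H g θ)]
  refine Finset.sum_congr rfl fun ψ hψ => ?_
  obtain ⟨a, -, rfl⟩ := Finset.mem_image.1 hψ
  rw [nsmul_eq_mul]
  congr 2
  rw [Nat.card_eq_fintype_card, Fintype.card_subtype]
  refine Finset.card_bij' (fun g _ => g * a⁻¹) (fun g _ => g * a) ?_ ?_ ?_ ?_
  · intro g hg
    simp only [Finset.mem_filter, Finset.mem_univ, true_and] at hg ⊢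
    rw [cjFun_mul, hg, ← cjFun_mul, mul_inv_cancel, cjFun_one]
  · intro g hg
    simp only [Finset.mem_filter, Finset.mem_univ, true_and] at hg ⊢
    rw [cjFun_mul, hg]
  · intro g _; simp
  · intro g _; simp

theorem classInner_indFun_normal (H : Subgroup G) [H.Normal] [Fintype H] {θ φ : H → ℂ} :
    Cfsg.classInner (Cfsg.indFun H φ) (Cfsg.indFun H θ) =
      (Nat.card H : ℂ)⁻¹ * ∑ g : G, Cfsg.classInner φ (cjFun H g θ) := by
  rw [frobenius_reciprocity H φ (isClassFunction_indFun H θ)]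
  simp only [indFun_normal_apply, Cfsg.classInner, map_mul, map_inv₀, Complex.conj_natCast, map_sum,
    Finset.mul_sum]
  rw [Finset.sum_comm]
  exact Finset.sum_congr rfl fun _ _ => Finset.sum_congr rfl fun _ _ => by ring

omit [Fintype G] in
theorem re_le_apply_one [Finite G] {χ : G → ℂ} (hχ : Cfsg.IsCharacter G χ) (g : G) :
    (χ g).re ≤ (χ 1).re := by
  obtain ⟨n, hn⟩ := IsChar.exists_degree hχ
  refine (Complex.re_le_norm _).trans ((IsChar.norm_le hχ g).trans ?_)
  simp [hn]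

omit [Fintype G] in
theorem eq_apply_one_of_re [Finite G] {χ : G → ℂ} (hχ : Cfsg.IsCharacter G χ) {g : G}
    (h : (χ g).re = (χ 1).re) : χ g = χ 1 := by
  obtain ⟨n, hn⟩ := IsChar.exists_degree hχ
  have h1 := IsChar.norm_le hχ g
  rw [hn] at h h1 ⊢
  simp only [Complex.norm_natCast, Complex.natCast_re] at h h1
  have h2 : (χ g).re * (χ g).re + (χ g).im * (χ g).im ≤ (n : ℝ) * n := by
    have := mul_le_mul h1 h1 (norm_nonneg _) (Nat.cast_nonneg n)
    rwa [← pow_two, ← Complex.normSq_eq_norm_sq, Complex.normSq_apply] at this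
  refine Complex.ext (by simp [h]) ?_
  have : (χ g).im * (χ g).im ≤ 0 := by rw [h] at h2; linarith
  simpa using mul_self_eq_zero.1 (le_antisymm this (mul_self_nonneg _))

theorem ker_iff_indFun (A H : Subgroup G) [hA : A.Normal] [H.Normal] (hAH : A ≤ H) {θ : H → ℂ}
    (hθ : Cfsg.IsCharacter H θ) :
    (∀ a : H, (a : G) ∈ A → θ a = θ 1) ↔
      ∀ a : G, a ∈ A → Cfsg.indFun H θ a = Cfsg.indFun H θ 1 := by
  classical
  have e1 : ∀ g : G, cjFun H g θ 1 = θ 1 := fun g => by
    simp only [cjFun]; congr 1; exact Subtype.ext (by simp)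
  have hkey : ∀ a : H, Cfsg.indFun H θ a = Cfsg.indFun H θ 1 ↔ ∑ g : G, cjFun H g θ a = ∑ _g : G, θ 1 := by
    intro a
    have h1 := indFun_normal_apply H θ 1
    simp only [Subgroup.coe_one, e1] at h1
    rw [indFun_normal_apply, h1]
    exact mul_right_inj' (inv_ne_zero (Nat.cast_ne_zero.2 Nat.card_pos.ne'))
  constructor
  · intro h a ha
    rw [hkey ⟨a, hAH ha⟩]
    exact Finset.sum_congr rfl fun g _ => h _ (hA.conj_mem a ha g)
  · intro h a ha
    have h1 := congrArg Complex.re ((hkey a).1 (h a ha))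
    rw [Complex.re_sum, Complex.re_sum] at h1
    refine eq_apply_one_of_re hθ ?_
    by_contra hne
    have hlt : (θ a).re < (θ 1).re := lt_of_le_of_ne (re_le_apply_one hθ a) hne
    refine (Finset.sum_lt_sum (s := univ) (fun g _ => ?_) ⟨1, mem_univ _, ?_⟩).ne h1
    · exact re_le_apply_one hθ _
    · rw [cjFun_one]; exact hlt

theorem indFun_map_mk (A H : Subgroup G) [A.Normal] (hAH : A ≤ H) [Fintype (G ⧸ A)] {θ : H → ℂ}
    {θ₁ : ↥(H.map (QuotientGroup.mk' A)) → ℂ}
    (hθ : ∀ x : H, θ₁ ⟨QuotientGroup.mk' A x, Subgroup.mem_map_of_mem _ x.2⟩ = θ x) (g : G) :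
    Cfsg.indFun (H.map (QuotientGroup.mk' A)) θ₁ (QuotientGroup.mk' A g) = Cfsg.indFun H θ g := by
  classical
  have hcomap : (H.map (QuotientGroup.mk' A)).comap (QuotientGroup.mk' A) = H := by
    rw [Subgroup.comap_map_eq, QuotientGroup.ker_mk', sup_eq_left]; exact hAH
  have hext : ∀ y : G, Cfsg.extendByZero (H.map (QuotientGroup.mk' A)) θ₁ ((QuotientGroup.mk' A) y) = Cfsg.extendByZero H θ y := by
    intro y
    by_cases hy : y ∈ H
    · rw [extendByZero_of_mem (H.map (QuotientGroup.mk' A)) θ₁ (Subgroup.mem_map_of_mem (QuotientGroup.mk' A) hy), extendByZero_of_mem H θ hy]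
      exact hθ ⟨y, hy⟩
    · rw [extendByZero_of_notMem H θ hy, extendByZero_of_notMem]
      intro h
      exact hy (hcomap ▸ h)
  have hcard : Nat.card H = Nat.card (H.map (QuotientGroup.mk' A)) * Nat.card A := by
    have h1 := (A.subgroupOf H).card_eq_card_quotient_mul_card_subgroup
    rw [Nat.card_congr (Subgroup.subgroupOfEquivOfLe hAH).toEquiv] at h1
    rw [h1]; congr 1
    have h2 := QuotientGroup.quotientKerEquivRange ((QuotientGroup.mk' A).comp H.subtype)
    have hr : ((QuotientGroup.mk' A).comp H.subtype).range = H.map (QuotientGroup.mk' A) := by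
      rw [MonoidHom.range_comp, Subgroup.range_subtype]
    have hk : ((QuotientGroup.mk' A).comp H.subtype).ker = A.subgroupOf H := by
      ext x
      rw [MonoidHom.mem_ker, Subgroup.mem_subgroupOf, MonoidHom.comp_apply, Subgroup.coe_subtype,
        QuotientGroup.mk'_apply, QuotientGroup.eq_one_iff]
    rw [← hr, ← hk]
    exact Nat.card_congr h2.toEquiv
  have hsum : ∑ x : G, Cfsg.extendByZero H θ (x⁻¹ * g * x) =
      (Nat.card A : ℂ) * ∑ q : G ⧸ A, Cfsg.extendByZero (H.map (QuotientGroup.mk' A)) θ₁ (q⁻¹ * (QuotientGroup.mk' A) g * q) := by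
    rw [← CharDegree.sum_mk (fun q : G ⧸ A => Cfsg.extendByZero (H.map (QuotientGroup.mk' A)) θ₁ (q⁻¹ * (QuotientGroup.mk' A) g * q))]
    refine Finset.sum_congr rfl fun x _ => ?_
    rw [← hext]
    rfl
  simp only [Cfsg.indFun, hsum, hcard, Nat.cast_mul]
  have : (Nat.card A : ℂ) ≠ 0 := Nat.cast_ne_zero.2 Nat.card_pos.ne'
  field_simp

theorem ker_of_constituent [Fintype (Cfsg.IrrCharacter G)] {m : Cfsg.IrrCharacter G → ℕ} {g : G}
    (h : (∑ ψ, (m ψ : ℂ) • (ψ : G → ℂ)) g = (∑ ψ, (m ψ : ℂ) • (ψ : G → ℂ)) 1)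
    {ψ : Cfsg.IrrCharacter G} (hψ : m ψ ≠ 0) : (ψ : G → ℂ) g = (ψ : G → ℂ) 1 := by
  have h1 := congrArg Complex.re h
  simp only [Finset.sum_apply, Pi.smul_apply, smul_eq_mul, Complex.re_sum, Complex.mul_re,
    Complex.natCast_re, Complex.natCast_im, zero_mul, sub_zero] at h1
  refine eq_apply_one_of_re (IsIrr.isCharacter ψ.2) ?_
  by_contra hne
  have hlt : ((ψ : G → ℂ) g).re < ((ψ : G → ℂ) 1).re :=
    lt_of_le_of_ne (re_le_apply_one (IsIrr.isCharacter ψ.2) g) hne
  refine (Finset.sum_lt_sum (s := univ) (fun χ _ => ?_) ⟨ψ, mem_univ _, ?_⟩).ne h1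
  · exact mul_le_mul_of_nonneg_left (re_le_apply_one (IsIrr.isCharacter χ.2) g) (Nat.cast_nonneg _)
  · exact mul_lt_mul_of_pos_left hlt (Nat.cast_pos.2 (Nat.pos_of_ne_zero hψ))

/-- A constituent of the restriction of an irreducible character, with the degree bound. -/
theorem exists_constituent_with_ker {χ : G → ℂ} (hχ : Cfsg.IsIrrCharacter G χ) (C : Subgroup G) :
    ∃ θ : C → ℂ, Cfsg.IsIrrCharacter C θ ∧ (χ 1).re ≤ C.index * (θ 1).re ∧
      ∀ b : C, χ b = χ 1 → θ b = θ 1 := by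
  classical
  haveI := Fintype.ofFinite C
  haveI := Fintype.ofFinite (Cfsg.IrrCharacter C)
  haveI := Fintype.ofFinite (Cfsg.IrrCharacter G)
  obtain ⟨m, hm⟩ := IsChar.exists_sum (IsChar.restrict C (IsIrr.isCharacter hχ))
  obtain ⟨θ, hθ⟩ : ∃ θ, m θ ≠ 0 := by
    by_contra h
    push Not at h
    refine IsIrr.apply_one_ne_zero hχ ?_
    simpa [h] using congrFun hm 1
  refine ⟨θ, θ.2, ?_, fun b hb => ker_of_constituent ?_ hθ⟩
  · obtain ⟨a, ha⟩ := IsChar.exists_sum (isCharacter_indFun C (IsIrr.isCharacter θ.2))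
    have haχ : (a ⟨χ, hχ⟩ : ℂ) = (m θ : ℂ) := by
      have h1 := frobenius_reciprocity C (θ : C → ℂ) (IsIrr.isClassFunction hχ)
      rw [ha, show Cfsg.classInner (∑ ψ, (a ψ : ℂ) • (ψ : G → ℂ)) χ = (a ⟨χ, hχ⟩ : ℂ) from
        classInner_sum_irr _ ⟨χ, hχ⟩] at h1
      rw [h1, hm, ← classInner_conj_symm, classInner_sum_irr, map_natCast]
    have h1 : (a ⟨χ, hχ⟩ : ℂ) ≠ 0 := by rw [haχ]; exact_mod_cast hθ
    have h2 : (1 : ℕ) ≤ a ⟨χ, hχ⟩ := Nat.one_le_iff_ne_zero.2 (by exact_mod_cast h1)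
    have h3 := congrArg (fun f => (f 1).re) ha
    simp only [indFun_apply_one, Complex.mul_re, Complex.natCast_re, Complex.natCast_im, zero_mul,
      sub_zero, Finset.sum_apply, Pi.smul_apply, smul_eq_mul, Complex.re_sum] at h3
    rw [h3]
    refine le_trans ?_ (Finset.single_le_sum (f := fun ψ : Cfsg.IrrCharacter G =>
      (a ψ : ℝ) * ((ψ : G → ℂ) 1).re) (fun ψ _ => ?_) (mem_univ ⟨χ, hχ⟩))
    · exact le_mul_of_one_le_left (apply_one_re_pos hχ).le (by exact_mod_cast h2)
    · exact mul_nonneg (Nat.cast_nonneg _) (apply_one_re_pos ψ.2).le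
  · rw [← hm]; exact hb

end CfsgLib.Char.Exceptional
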