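import Mathlib
import Cfsg.Agent.Lib.Char.Basic
import Cfsg.Agent.Lib.Char.Complete

/-! Brauer's permutation lemma. -/

set_option autoImplicit false

open scoped ComplexConjugate
open Finset

namespace CfsgLib.Char.Exceptional

open CfsgLib.Char

variable {G : Type*} [Group G] [Finite G]

/-- A permutation of the classes and a compatible map of the irreducible characters fix equally many. -/
theorem card_fixed_irr (act : Cfsg.IrrCharacter G → Cfsg.IrrCharacter G)
    (F : ConjClasses G → ConjClasses G) (hF : Function.Bijective F)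
    (hcompat : ∀ (χ : Cfsg.IrrCharacter G) (g g' : G), ConjClasses.mk g' = F (ConjClasses.mk g) →
      (act χ : G → ℂ) g' = (χ : G → ℂ) g) :
    Nat.card {χ : Cfsg.IrrCharacter G // act χ = χ} = Nat.card {C : ConjClasses G // F C = C} := by
  classical
  haveI := Fintype.ofFinite G
  haveI := Fintype.ofFinite (Cfsg.IrrCharacter G)
  haveI := Fintype.ofFinite (ConjClasses G)
  have hG : (Nat.card G : ℂ) ≠ 0 := Nat.cast_ne_zero.2 Nat.card_pos.ne'
  have hcol : ∀ x : G, ∑ χ : Cfsg.IrrCharacter G, (act χ : G → ℂ) x * conj ((χ : G → ℂ) x) =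
      if F (ConjClasses.mk x) = ConjClasses.mk x then
        (Nat.card (Subgroup.centralizer ({x} : Set G)) : ℂ) else 0 := by
    intro x
    obtain ⟨C, hC⟩ := hF.2 (ConjClasses.mk x)
    obtain ⟨g, rfl⟩ := ConjClasses.mk_surjective C
    rw [Finset.sum_congr rfl (g := fun χ : Cfsg.IrrCharacter G => (χ : G → ℂ) g * conj ((χ : G → ℂ) x))
      (fun χ _ => by rw [hcompat χ g x hC.symm]), column_orthogonality g x]
    by_cases hgx : IsConj g x
    · have he := ConjClasses.mk_eq_mk_iff_isConj.2 hgx
      rw [if_pos hgx, if_pos (by rw [← he, hC, he])]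
      have h1 := card_carrier_eq_index g
      rw [he, card_carrier_eq_index x] at h1
      have h2 := (Subgroup.centralizer ({g} : Set G)).card_mul_index
      have h3 := (Subgroup.centralizer ({x} : Set G)).card_mul_index
      rw [← h1] at h2
      rw [Nat.cast_inj]
      exact Nat.eq_of_mul_eq_mul_right (Nat.pos_of_ne_zero Subgroup.index_ne_zero_of_finite)
        (h2.trans h3.symm)
    · rw [if_neg hgx, if_neg]
      intro h
      exact hgx (ConjClasses.mk_eq_mk_iff_isConj.1 (hF.1 (hC.trans h.symm)))
  have hlhs : (Nat.card {χ : Cfsg.IrrCharacter G // act χ = χ} : ℂ) =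
      ∑ χ : Cfsg.IrrCharacter G, Cfsg.classInner (act χ : G → ℂ) (χ : G → ℂ) := by
    simp only [classInner_irr, Finset.sum_boole]
    rw [Nat.card_eq_fintype_card, Fintype.card_subtype]
  rw [← Nat.cast_inj (R := ℂ), hlhs]
  simp only [Cfsg.classInner, ← Finset.mul_sum]
  rw [Finset.sum_comm, Finset.sum_congr rfl (fun x _ => hcol x),
    ← Finset.sum_fiberwise univ (fun x : G => ConjClasses.mk x)]
  have hfib : ∀ C : ConjClasses G,
      ∑ x ∈ univ.filter (fun x : G => ConjClasses.mk x = C), (if F (ConjClasses.mk x) = ConjClasses.mk x then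
        (Nat.card (Subgroup.centralizer ({x} : Set G)) : ℂ) else 0) =
      if F C = C then (Nat.card G : ℂ) else 0 := by
    intro C
    obtain ⟨g, rfl⟩ := ConjClasses.mk_surjective C
    by_cases hC : F (ConjClasses.mk g) = ConjClasses.mk g
    · rw [if_pos hC, Finset.sum_congr rfl (g := fun _ =>
        (Nat.card (Subgroup.centralizer ({g} : Set G)) : ℂ)) (fun x hx => ?_), Finset.sum_const,
        nsmul_eq_mul]
      · have h1 : (univ.filter (fun x : G => ConjClasses.mk x = ConjClasses.mk g)).card =
            (Subgroup.centralizer ({g} : Set G)).index := by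
          rw [← card_carrier_eq_index, ← Fintype.card_subtype, ← Nat.card_eq_fintype_card]
          exact Nat.card_congr (Equiv.subtypeEquivRight fun x => ConjClasses.mem_carrier_iff_mk_eq.symm)
        rw [h1, ← Nat.cast_mul, Subgroup.index_mul_card]
      · have he := (Finset.mem_filter.1 hx).2
        rw [he, if_pos hC]
        have h1 := card_carrier_eq_index x
        rw [he, card_carrier_eq_index g] at h1
        have h2 := (Subgroup.centralizer ({g} : Set G)).card_mul_index
        have h3 := (Subgroup.centralizer ({x} : Set G)).card_mul_index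
        rw [← h1] at h3
        rw [Nat.cast_inj]
        exact Nat.eq_of_mul_eq_mul_right (Nat.pos_of_ne_zero Subgroup.index_ne_zero_of_finite)
          (h3.trans h2.symm)
    · rw [if_neg hC]
      refine Finset.sum_eq_zero fun x hx => ?_
      rw [(Finset.mem_filter.1 hx).2, if_neg hC]
  simp only [hfib]
  rw [← Finset.sum_filter, Finset.sum_const, nsmul_eq_mul,
    Nat.card_eq_fintype_card (α := {C : ConjClasses G // F C = C}), Fintype.card_subtype]
  field_simp

/-- Brauer's permutation lemma for a map of the group. -/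
theorem card_fixed_irr_of_equiv (σ : G ≃* G) (act : Cfsg.IrrCharacter G → Cfsg.IrrCharacter G)
    (hact : ∀ χ g, (act χ : G → ℂ) g = (χ : G → ℂ) (σ g)) :
    Nat.card {χ : Cfsg.IrrCharacter G // act χ = χ} =
      Nat.card {C : ConjClasses G // ConjClasses.map σ.symm.toMonoidHom C = C} := by
  refine card_fixed_irr act _ ⟨?_, ?_⟩ ?_
  · intro C D h
    obtain ⟨a, rfl⟩ := ConjClasses.mk_surjective C
    obtain ⟨b, rfl⟩ := ConjClasses.mk_surjective D
    have h' : ConjClasses.mk (σ.symm a) = ConjClasses.mk (σ.symm b) := h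
    have := σ.toMonoidHom.map_isConj (ConjClasses.mk_eq_mk_iff_isConj.1 h')
    refine ConjClasses.mk_eq_mk_iff_isConj.2 ?_
    simpa using this
  · intro C
    obtain ⟨a, rfl⟩ := ConjClasses.mk_surjective C
    exact ⟨ConjClasses.mk (σ a), congrArg ConjClasses.mk (σ.symm_apply_apply a)⟩
  · intro χ g g' h
    have h' : IsConj g' (σ.symm g) := ConjClasses.mk_eq_mk_iff_isConj.1 h
    rw [hact]
    refine (isClassFunction_iff_isConj.1 (IsIrr.isClassFunction χ.2)) _ _ ?_
    simpa using σ.toMonoidHom.map_isConj h'

end CfsgLib.Char.Exceptional
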