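import Mathlib
import Cfsg.Agent.Lib.Char.Exceptional.NormalInd
import Cfsg.Agent.Lib.Char.Exceptional.PermLemma
import Cfsg.Agent.Lib.Char.Exceptional.Dade

/-! Characters of a group with a normal subgroup containing the centralisers of its elements. -/

set_option autoImplicit false

open scoped ComplexConjugate
open Finset

namespace CfsgLib.Char.Exceptional

open CfsgLib.Char

variable {G : Type*} [Group G] [Fintype G] (N : Subgroup G) [hN : N.Normal]

/-- Outside `N` only the principal character of `N` is fixed. -/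
theorem frob_fixed_eq_one (hC : ∀ n ∈ N, n ≠ 1 → Subgroup.centralizer ({n} : Set G) ≤ N) {g : G}
    (hg : g ∉ N) {φ : N → ℂ} (hφ : Cfsg.IsIrrCharacter N φ) (hfix : cjFun N g φ = φ) :
    φ = fun _ => 1 := by
  classical
  set σ : N ≃* N := MulAut.conjNormal g with hσ
  let act : Cfsg.IrrCharacter N → Cfsg.IrrCharacter N := fun χ => ⟨cjFun N g χ, isIrr_cjFun N g χ.2⟩
  have hcard := card_fixed_irr_of_equiv σ act (fun χ x => by
    show cjFun N g (χ : N → ℂ) x = (χ : N → ℂ) (σ x)
    simp only [cjFun, hσ]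
    congr 1)
  haveI : Subsingleton {C : ConjClasses N // ConjClasses.map σ.symm.toMonoidHom C = C} := by
    have key : ∀ C : ConjClasses N, ConjClasses.map σ.symm.toMonoidHom C = C → C = ConjClasses.mk 1 := by
      intro C hC'
      obtain ⟨n, rfl⟩ := ConjClasses.mk_surjective C
      by_cases hn : n = 1
      · rw [hn]
      exfalso
      obtain ⟨m, hm⟩ := isConj_iff.1 (ConjClasses.mk_eq_mk_iff_isConj.1
        (show ConjClasses.mk (σ.symm n) = ConjClasses.mk n from hC'))
      have hm' : (m : G) * (g⁻¹ * n * g) * (m : G)⁻¹ = n := by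
        have := congrArg Subtype.val hm
        simpa [hσ, MulAut.conjNormal_symm_apply, mul_assoc] using this
      refine hg ?_
      have hc : (m : G) * g⁻¹ ∈ N := hC n n.2 (fun h => hn (Subtype.ext h))
        (mem_centralizer_singleton.2 (by
          nth_rewrite 1 [← hm']
          group))
      have := N.mul_mem (N.inv_mem hc) m.2
      simpa using this
    exact ⟨fun a b => Subtype.ext ((key a a.2).trans (key b b.2).symm)⟩
  have hle : Nat.card {χ : Cfsg.IrrCharacter N // act χ = χ} ≤ 1 := by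
    rw [hcard]; exact Finite.card_le_one_iff_subsingleton.2 inferInstance
  haveI := Finite.card_le_one_iff_subsingleton.1 hle
  have h1 : act ⟨φ, hφ⟩ = ⟨φ, hφ⟩ := Subtype.ext hfix
  have h2 : act (trivChar N) = trivChar N := Subtype.ext (funext fun _ => rfl)
  exact congrArg (fun χ : {χ : Cfsg.IrrCharacter N // act χ = χ} => (χ.1 : N → ℂ))
    (Subsingleton.elim ⟨_, h1⟩ ⟨_, h2⟩)

/-- Nonprincipal characters of `N` induce irreducibly. -/
theorem frob_isIrr_indFun (hC : ∀ n ∈ N, n ≠ 1 → Subgroup.centralizer ({n} : Set G) ≤ N)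
    {φ : N → ℂ} (hφ : Cfsg.IsIrrCharacter N φ) (hne : φ ≠ fun _ => 1) :
    Cfsg.IsIrrCharacter G (Cfsg.indFun N φ) := by
  classical
  haveI := Fintype.ofFinite N
  refine IsChar.isIrr_of_classInner_eq_one (isCharacter_indFun N (IsIrr.isCharacter hφ)) ?_
  rw [classInner_indFun_normal]
  have h : ∀ g : G, Cfsg.classInner φ (cjFun N g φ) = if g ∈ N then 1 else 0 := by
    intro g
    rw [classInner_of_irr hφ (isIrr_cjFun N g hφ)]
    by_cases hg : g ∈ N
    · rw [if_pos hg, if_pos]
      funext x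
      exact (IsIrr.isClassFunction hφ x ⟨g, hg⟩).symm.trans (congrArg φ (Subtype.ext rfl))
    · rw [if_neg hg, if_neg]
      exact fun e => hne (frob_fixed_eq_one N hC hg hφ e.symm)
  simp only [h, Finset.sum_boole]
  rw [show (univ.filter fun y => y ∈ N).card = Nat.card N by
      rw [Nat.card_eq_fintype_card, Fintype.card_subtype],
    inv_mul_cancel₀ (Nat.cast_ne_zero.mpr Nat.card_pos.ne')]

/-- An irreducible character not trivial on `N` is induced from `N`. -/
theorem frob_eq_indFun (hC : ∀ n ∈ N, n ≠ 1 → Subgroup.centralizer ({n} : Set G) ≤ N)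
    {χ : G → ℂ} (hχ : Cfsg.IsIrrCharacter G χ) (hker : ∃ n ∈ N, χ n ≠ χ 1) :
    ∃ φ : N → ℂ, Cfsg.IsIrrCharacter N φ ∧ φ ≠ (fun _ => 1) ∧ χ = Cfsg.indFun N φ := by
  classical
  haveI := Fintype.ofFinite N
  haveI := Fintype.ofFinite (Cfsg.IrrCharacter N)
  obtain ⟨m, hm⟩ := IsChar.exists_sum (IsChar.restrict N (IsIrr.isCharacter hχ))
  obtain ⟨φ, hφ1, hφm⟩ : ∃ φ : Cfsg.IrrCharacter N, (φ : N → ℂ) ≠ (fun _ => 1) ∧ m φ ≠ 0 := by
    by_contra h
    push Not at h
    obtain ⟨n, hn, hne⟩ := hker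
    refine hne ?_
    have h1 := congrFun hm ⟨n, hn⟩
    have h2 := congrFun hm 1
    simp only [Finset.sum_apply, Pi.smul_apply, smul_eq_mul, Subgroup.coe_one] at h1 h2
    rw [h1, h2]
    refine Finset.sum_congr rfl fun ψ _ => ?_
    by_cases hψ : (ψ : N → ℂ) = fun _ => 1
    · rw [hψ]
    · rw [h ψ hψ]; simp
  refine ⟨φ, φ.2, hφ1, ?_⟩
  have hirr := frob_isIrr_indFun N hC φ.2 hφ1
  by_contra hne
  have h1 := classInner_eq_zero_of_irr hirr hχ (Ne.symm hne)
  rw [frobenius_reciprocity N _ (IsIrr.isClassFunction hχ), hm, ← classInner_conj_symm,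
    classInner_sum_irr, map_natCast, Nat.cast_eq_zero] at h1
  exact hφm h1

end CfsgLib.Char.Exceptional
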