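import Mathlib
import Cfsg.Agent.Lib.Char.Exceptional.TISet

/-! A self-centralising kernel `K` is a Hall subgroup of its normaliser. -/

set_option autoImplicit false

namespace CfsgLib.Char.Exceptional

variable {G : Type*} [Group G] [Finite G]

/-- If `K` is normal in `N` and contains the centraliser of each of its non-identity elements, then its
order is prime to its index in `N`. -/
theorem selfCentralizing_hall {K N : Subgroup G} (hKN : K ≤ N)
    (hC : ∀ k ∈ K, k ≠ 1 → Subgroup.centralizer ({k} : Set G) ≤ K) :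
    Nat.Coprime (Nat.card K) (K.relIndex N) := by
  refine Nat.coprime_of_dvd fun p hp hpK hpI => ?_
  haveI := Fact.mk hp
  obtain ⟨k, hk⟩ := exists_prime_orderOf_dvd_card' p hpK
  set k' : N := ⟨k, hKN k.2⟩
  have hk' : orderOf k' = p := by rw [← Subgroup.orderOf_coe, ← hk, ← Subgroup.orderOf_coe]
  obtain ⟨P, hP⟩ := (IsPGroup.of_card (p := p) (n := 1)
    (by rw [Nat.card_zpowers, hk', pow_one] : Nat.card (Subgroup.zpowers k') = p ^ 1)).exists_le_sylow
  have hkP : k' ∈ (P : Subgroup N) := hP (Subgroup.mem_zpowers _)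
  haveI : Nontrivial (P : Subgroup N) := by
    refine ⟨⟨1, ⟨k', hkP⟩, fun h => ?_⟩⟩
    have h1 := congrArg Subtype.val h
    simp only [Subgroup.coe_one] at h1
    rw [← h1, orderOf_one] at hk'
    exact hp.one_lt.ne hk'
  haveI := P.2.center_nontrivial
  obtain ⟨z, hz1⟩ := exists_ne (1 : Subgroup.center (P : Subgroup N))
  have hcomm : ∀ y ∈ (P : Subgroup N), ((z : (P : Subgroup N)) : N) * y = y * ((z : (P : Subgroup N)) : N) := by
    intro y hy
    exact congrArg Subtype.val ((Subgroup.mem_center_iff.1 z.2 ⟨y, hy⟩).symm)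
  have hk1 : (k : G) ≠ 1 := fun h => by
    rw [show k = 1 from Subtype.ext h, orderOf_one] at hk
    exact hp.one_lt.ne hk
  have hzK : (((z : (P : Subgroup N)) : N) : G) ∈ K := hC k k.2 hk1
    (mem_centralizer_singleton.2 (congrArg Subtype.val (hcomm k' hkP)).symm)
  have hz1' : (((z : (P : Subgroup N)) : N) : G) ≠ 1 := fun h =>
    hz1 (Subtype.ext (Subtype.ext (Subtype.ext h)))
  have hPK : (P : Subgroup N) ≤ K.subgroupOf N := fun y hy => Subgroup.mem_subgroupOf.2
    (hC _ hzK hz1' (mem_centralizer_singleton.2 (congrArg Subtype.val (hcomm y hy))))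
  exact P.not_dvd_index (hpI.trans (Subgroup.index_dvd_of_le hPK))

theorem tifn_not_conj {K : Subgroup G} (hC : ∀ k ∈ K, k ≠ 1 → Subgroup.centralizer ({k} : Set G) ≤ K)
    {x : G} (hx : x ∈ Subgroup.normalizer (K : Set G)) (hxK : x ∉ K) (g : G) : g * x * g⁻¹ ∉ K := by
  intro h
  set N := Subgroup.normalizer (K : Set G)
  haveI : (K.subgroupOf N).Normal := (Subgroup.normal_subgroupOf_iff_le_normalizer Subgroup.le_normalizer).2 le_rfl
  have h1 : orderOf x ∣ Nat.card K := orderOf_conj_eq g x ▸ Subgroup.orderOf_dvd_natCard _ h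
  have h2 : orderOf (QuotientGroup.mk' (K.subgroupOf N) ⟨x, hx⟩) = 1 := by
    refine Nat.eq_one_of_dvd_coprimes (selfCentralizing_hall (N := N) Subgroup.le_normalizer hC) ?_
      (orderOf_dvd_natCard _)
    exact ((orderOf_map_dvd _ _).trans (by rw [← Subgroup.orderOf_coe])).trans h1
  rw [orderOf_eq_one_iff] at h2
  exact hxK ((QuotientGroup.eq_one_iff (N := K.subgroupOf N) _).1 h2)

end CfsgLib.Char.Exceptional
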