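import Mathlib
import Cfsg.Agent.Lib.Char.Exceptional.Coherence2
import Cfsg.Agent.Lib.Char.Exceptional.TIFN
import Cfsg.Agent.Lib.Char.Exceptional.FrobeniusKernel
import Cfsg.Agent.Lib.CharDegree.Basic
import Cfsg.Prelude.Def_Transfer

/-! Exceptional characters of a self-centralising trivial-intersection subgroup. -/

set_option autoImplicit false

open scoped ComplexConjugate
open Finset

namespace CfsgLib.Char.Exceptional

open CfsgLib.Char

variable {G : Type*} [Group G]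

instance tifn_normal (K : Subgroup G) : (K.subgroupOf (Subgroup.normalizer (K : Set G))).Normal :=
  (Subgroup.normal_subgroupOf_iff_le_normalizer Subgroup.le_normalizer).2 le_rfl

theorem tifn_cent (K : Subgroup G) (hC : ∀ k ∈ K, k ≠ 1 → Subgroup.centralizer ({k} : Set G) ≤ K) :
    ∀ n ∈ K.subgroupOf (Subgroup.normalizer (K : Set G)), n ≠ 1 →
      Subgroup.centralizer ({n} : Set (Subgroup.normalizer (K : Set G))) ≤
        K.subgroupOf (Subgroup.normalizer (K : Set G)) := by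
  intro n hn hn1 x hx
  rw [Subgroup.mem_subgroupOf] at hn ⊢
  refine hC _ hn (fun h => hn1 (Subtype.ext h)) (mem_centralizer_singleton.2 ?_)
  exact congrArg Subtype.val (mem_centralizer_singleton.1 hx)

/-- The characters of the normaliser that are not trivial on `K`. -/
def tifnSet (K : Subgroup G) : Set (↥(Subgroup.normalizer (K : Set G)) → ℂ) :=
  {χ | Cfsg.IsIrrCharacter ↥(Subgroup.normalizer (K : Set G)) χ ∧
    ∃ k : ↥(Subgroup.normalizer (K : Set G)), (k : G) ∈ K ∧ χ k ≠ χ 1}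

theorem tifn_vanish [Fintype G] {K : Subgroup G} (hC : ∀ k ∈ K, k ≠ 1 → Subgroup.centralizer ({k} : Set G) ≤ K)
    {χ : ↥(Subgroup.normalizer (K : Set G)) → ℂ} (hχ : χ ∈ tifnSet K)
    {x : Subgroup.normalizer (K : Set G)} (hx : (x : G) ∉ K) : χ x = 0 := by
  classical
  obtain ⟨hirr, k, hk, hne⟩ := hχ
  obtain ⟨φ, -, -, rfl⟩ := frob_eq_indFun (K.subgroupOf (Subgroup.normalizer (K : Set G))) (tifn_cent K hC) hirr
    ⟨k, Subgroup.mem_subgroupOf.2 hk, hne⟩
  exact indFun_normal_eq_zero _ φ (fun h => hx (Subgroup.mem_subgroupOf.1 h))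

theorem tifn_ti_set {K : Subgroup G}
    (hTI : ∀ g : G, g ∉ Subgroup.normalizer (K : Set G) → ∀ k ∈ K, g * k * g⁻¹ ∈ K → k = 1) :
    ∀ g : G, g ∉ Subgroup.normalizer (K : Set G) → ∀ s ∈ {s : G | s ∈ K ∧ s ≠ 1},
      g * s * g⁻¹ ∉ {s : G | s ∈ K ∧ s ≠ 1} :=
  fun g hg s hs h => hs.2 (hTI g hg s hs.1 h.1)

theorem zspan_isClassFunction {H : Type*} [Group H] {S : Set (H → ℂ)}
    (hS : ∀ χ ∈ S, Cfsg.IsGeneralizedCharacter H χ) {f : H → ℂ} (hf : f ∈ Cfsg.zspan S) :
    Cfsg.IsGeneralizedCharacter H f := by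
  induction hf using Submodule.span_induction with
  | mem x hx => exact hS x hx
  | zero => exact isGen_zero
  | add x y _ _ ihx ihy => exact IsGen.add ihx ihy
  | smul n x _ ih => exact IsGen.zsmul n ih

theorem tifn_support [Fintype G] {K : Subgroup G} (hC : ∀ k ∈ K, k ≠ 1 → Subgroup.centralizer ({k} : Set G) ≤ K)
    {f : ↥(Subgroup.normalizer (K : Set G)) → ℂ}
    (hf : f ∈ Cfsg.zspanOn (tifnSet K) ({1}ᶜ : Set ↥(Subgroup.normalizer (K : Set G)))) :
    ∀ x : ↥(Subgroup.normalizer (K : Set G)), (x : G) ∉ {s : G | s ∈ K ∧ s ≠ 1} → f x = 0 := by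
  intro x hx
  by_cases hx1 : x = 1
  · exact hf.2 x (by simp [hx1])
  have hxK : (x : G) ∉ K := fun h => hx ⟨h, fun e => hx1 (Subtype.ext e)⟩
  obtain ⟨hf, -⟩ := hf
  induction hf using Submodule.span_induction with
  | mem y hy => exact tifn_vanish hC hy hxK
  | zero => rfl
  | add y z _ _ ihy ihz => simp [ihy, ihz]
  | smul n y _ ih => simp [ih]

theorem tifn_isometry [Fintype G] (K : Subgroup G)
    (hTI : ∀ g : G, g ∉ Subgroup.normalizer (K : Set G) → ∀ k ∈ K, g * k * g⁻¹ ∈ K → k = 1)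
    (hC : ∀ k ∈ K, k ≠ 1 → Subgroup.centralizer ({k} : Set G) ≤ K)
    [Fintype ↥(Subgroup.normalizer (K : Set G))] :
    Cfsg.IsLinearIsometryOn
        (Cfsg.zspanOn (tifnSet K) ({1}ᶜ : Set ↥(Subgroup.normalizer (K : Set G))))
        (Cfsg.indFun (Subgroup.normalizer (K : Set G))) ∧
      ∀ α ∈ Cfsg.zspanOn (tifnSet K) ({1}ᶜ : Set ↥(Subgroup.normalizer (K : Set G))),
        Cfsg.indFun (Subgroup.normalizer (K : Set G)) α 1 = 0 := by
  have hgen : ∀ α ∈ Cfsg.zspanOn (tifnSet K) ({1}ᶜ : Set ↥(Subgroup.normalizer (K : Set G))),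
      Cfsg.IsGeneralizedCharacter _ α := fun α hα =>
    zspan_isClassFunction (fun χ hχ => IsGen.of_irr hχ.1) hα.1
  refine ⟨⟨fun α _ β _ => indFun_add _ α β, fun α _ n => ?_, fun α hα β hβ => ?_, fun α hα => ?_⟩, fun α hα => ?_⟩
  · rw [← Int.cast_smul_eq_zsmul ℂ, indFun_smul, Int.cast_smul_eq_zsmul]
  · exact ti_indFun_inner (tifn_ti_set hTI) (tifn_support hC hα) (IsGen.isClassFunction (hgen β hβ))
      (tifn_support hC hβ)
  · exact IsGen.indFun _ (hgen α hα)
  · rw [indFun_apply_one, hα.2 1 (by simp), mul_zero]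

theorem tifn_abelian_degree [Fintype G] {K : Subgroup G}
    (hC : ∀ k ∈ K, k ≠ 1 → Subgroup.centralizer ({k} : Set G) ≤ K)
    (hab : ∀ a ∈ K, ∀ b ∈ K, a * b = b * a) {χ : ↥(Subgroup.normalizer (K : Set G)) → ℂ} (hχ : χ ∈ tifnSet K) :
    χ 1 = ((K.subgroupOf (Subgroup.normalizer (K : Set G))).index : ℂ) := by
  classical
  obtain ⟨hirr, k, hk, hne⟩ := hχ
  obtain ⟨φ, hφ, -, rfl⟩ := frob_eq_indFun (K.subgroupOf (Subgroup.normalizer (K : Set G))) (tifn_cent K hC) hirr
    ⟨k, Subgroup.mem_subgroupOf.2 hk, hne⟩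
  have h1 : Cfsg.charDegree φ = 1 := CfsgLib.CharDegree.charDegree_of_comm
    (fun a b => Subtype.ext (Subtype.ext (hab _ (Subgroup.mem_subgroupOf.1 a.2) _ (Subgroup.mem_subgroupOf.1 b.2))))
    ⟨φ, hφ⟩
  rw [indFun_apply_one, ← CfsgLib.CharDegree.cast_charDegree (IsIrr.isCharacter hφ), h1, Nat.cast_one, mul_one]

/-- With a single exceptional character, `K` is elementary abelian of order one more than the index. -/
theorem tifn_single [Fintype G] {K : Subgroup G}
    (hC : ∀ k ∈ K, k ≠ 1 → Subgroup.centralizer ({k} : Set G) ≤ K)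
    (hab : ∀ a ∈ K, ∀ b ∈ K, a * b = b * a) {χ₀ : ↥(Subgroup.normalizer (K : Set G)) → ℂ}
    (h₀ : χ₀ ∈ tifnSet K) (hone : ∀ χ ∈ tifnSet K, χ = χ₀) :
    (∃ p : ℕ, p.Prime ∧ Cfsg.IsElementaryAbelian p K ∧
      Nat.card K = (K.subgroupOf (Subgroup.normalizer (K : Set G))).index + 1) := by
  classical
  set e := (K.subgroupOf (Subgroup.normalizer (K : Set G))).index with he
  have := Fintype.ofFinite (Cfsg.IrrCharacter ↥(Subgroup.normalizer (K : Set G)))
  have hcardK : Nat.card (K.subgroupOf (Subgroup.normalizer (K : Set G))) = Nat.card K :=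
    Nat.card_congr (Subgroup.subgroupOfEquivOfLe Subgroup.le_normalizer).toEquiv
  have hsq := CfsgLib.CharDegree.sum_sq_degree_of_not_le_ker (K.subgroupOf (Subgroup.normalizer (K : Set G)))
  rw [Finset.sum_eq_single (⟨χ₀, h₀.1⟩ : Cfsg.IrrCharacter ↥(Subgroup.normalizer (K : Set G)))
    (fun χ hχ hne => ?_) (fun h => ?_),
    CfsgLib.CharDegree.charDegree_eq_of_apply_one (tifn_abelian_degree hC hab h₀),
    ← Subgroup.card_mul_index (K.subgroupOf (Subgroup.normalizer (K : Set G))), ← he, hcardK] at hsq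
  rotate_left
  · exfalso
    simp only [Finset.mem_filter] at hχ
    have hχ' := hχ.2
    push Not at hχ'
    obtain ⟨g, hg, hgne⟩ := hχ'
    exact hne (Subtype.ext (hone _ ⟨χ.2, g, Subgroup.mem_subgroupOf.1 hg, hgne⟩))
  · exfalso
    obtain ⟨k, hk, hne⟩ := h₀.2
    apply h
    simp only [Finset.mem_filter]
    exact ⟨Finset.mem_univ _, fun hall => hne (hall k (Subgroup.mem_subgroupOf.2 hk))⟩
  have hcard : Nat.card K = e + 1 := by
    have he0 : 0 < e := Nat.pos_of_ne_zero Subgroup.index_ne_zero_of_finite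
    have : (e + 1) * e = Nat.card K * e := by rw [← hsq]; ring
    exact (Nat.eq_of_mul_eq_mul_right he0 this).symm
  have he0 : 0 < e := Nat.pos_of_ne_zero Subgroup.index_ne_zero_of_finite
  obtain ⟨p, hp, hpK⟩ := Nat.exists_prime_and_dvd (show Nat.card K ≠ 1 by omega)
  have := Fact.mk hp
  obtain ⟨a, ha⟩ := exists_prime_orderOf_dvd_card' p hpK
  have ha1 : (a : G) ≠ 1 := fun h => by
    rw [show a = 1 from Subtype.ext h, orderOf_one] at ha
    exact hp.one_lt.ne ha
  refine ⟨p, hp, ⟨⟨⟨fun x y => Subtype.ext (hab _ x.2 _ y.2)⟩⟩, fun b hb => ?_⟩, hcard⟩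
  by_cases hb1 : b = 1
  · rw [hb1, one_pow]
  -- the conjugates of `a` exhaust the non-identity elements
  let F : ↥(Subgroup.normalizer (K : Set G)) ⧸ K.subgroupOf (Subgroup.normalizer (K : Set G)) → {x : K // x ≠ 1} := fun q =>
    ⟨⟨(q.out : G) * a * (q.out : G)⁻¹, (Subgroup.mem_normalizer_iff.1 q.out.2 a).1 a.2⟩, fun h => ha1 (by
      have h' := congrArg Subtype.val h
      simpa using h')⟩
  have hF : Function.Injective F := by
    intro q r h
    have h' : (q.out : G) * a * (q.out : G)⁻¹ = (r.out : G) * a * (r.out : G)⁻¹ :=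
      congrArg (fun x : {x : K // x ≠ 1} => ((x : K) : G)) h
    rw [← QuotientGroup.out_eq' q, ← QuotientGroup.out_eq' r, QuotientGroup.eq, Subgroup.mem_subgroupOf]
    refine hC a a.2 ha1 (mem_centralizer_singleton.2 (Eq.symm ?_))
    show ((q.out : G)⁻¹ * (r.out : G)) * a = a * ((q.out : G)⁻¹ * (r.out : G))
    calc (q.out : G)⁻¹ * (r.out : G) * a = (q.out : G)⁻¹ * ((r.out : G) * a * (r.out : G)⁻¹) * r.out := by group
      _ = a * ((q.out : G)⁻¹ * r.out) := by rw [← h']; group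
  have hsurj : Function.Surjective F := by
    refine (hF.bijective_of_nat_card_le ?_).2
    have h1 := Nat.card_congr (Equiv.sumCompl (fun x : K => x = 1))
    rw [Nat.card_sum, Nat.card_unique] at h1
    rw [← Subgroup.index_eq_card, ← he]
    show Nat.card {x : K // ¬x = 1} ≤ e
    omega
  obtain ⟨q, hq⟩ := hsurj ⟨⟨b, hb⟩, fun h => hb1 (congrArg Subtype.val h)⟩
  have hq' : (q.out : G) * a * (q.out : G)⁻¹ = b := congrArg (fun x : {x : K // x ≠ 1} => ((x : K) : G)) hq
  rw [← hq', conj_pow, ← Subgroup.coe_pow, ← ha, pow_orderOf_eq_one]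
  simp

end CfsgLib.Char.Exceptional
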