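import Mathlib
import Cfsg.Agent.Lib.Schur.TwoGen
import Cfsg.Agent.Lib.Schur.Perfect

/-! Central extensions of alternating groups: the kernel inside the derived group has order at most two. -/

set_option autoImplicit false

open scoped commutatorElement

namespace CfsgLib.Char.Exceptional.AltMultiplier

universe u v

variable {Γ : Type u} [Group Γ] {Q : Type v} [Group Q]

/-- Transfer to a subgroup of index `m`: `z ^ m` is in its derived group. -/
theorem pow_index_mem_commutator [Finite Γ] (P : Subgroup Γ) {z : Γ} (hz : z ∈ Subgroup.center Γ)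
    (hd : z ∈ commutator Γ) : z ^ P.index ∈ ⁅P, P⁆ := by
  have key : ∀ (k : ℕ) (g₀ : Γ), g₀⁻¹ * z ^ k * g₀ ∈ P → g₀⁻¹ * z ^ k * g₀ = z ^ k := fun k g₀ _ => by
    rw [Subgroup.mem_center_iff.1 (pow_mem hz k) g₀⁻¹, inv_mul_cancel_right]
  have h := MonoidHom.transfer_eq_pow (Abelianization.of : P →* Abelianization P) z key
  have h1 : MonoidHom.transfer (Abelianization.of : P →* Abelianization P) z = 1 :=
    MonoidHom.mem_ker.1 (Abelianization.commutator_subset_ker _ hd)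
  rw [h1] at h
  have h2 : (⟨z ^ P.index, MonoidHom.transfer_eq_pow_aux z key⟩ : P) ∈ commutator P := by
    rw [← Abelianization.ker_of P]; exact h.symm
  rw [← Subgroup.map_subtype_commutator]
  exact ⟨_, h2, rfl⟩

theorem mem_of_prime_pow [Finite Γ] (P : Subgroup Γ) {z : Γ} (hz : z ∈ Subgroup.center Γ)
    (hd : z ∈ commutator Γ) {p k : ℕ} (hp : p.Prime) (hi : ¬ p ∣ P.index) (ho : z ^ p ^ k = 1)
    {C : Subgroup Γ} (hC : ⁅P, P⁆ ≤ C) : z ∈ C := by
  have h := hC (pow_index_mem_commutator P hz hd)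
  have hcop : (P.index : ℕ).Coprime (orderOf z) :=
    Nat.Coprime.coprime_dvd_right (orderOf_dvd_of_pow_eq_one ho)
      (Nat.Coprime.pow_right _ ((Nat.Prime.coprime_iff_not_dvd hp).2 hi).symm)
  obtain ⟨m, hm⟩ := exists_pow_eq_self_of_coprime hcop
  rw [← hm]
  exact pow_mem h m

theorem commutator_sup_central_le (A Z : Subgroup Γ) (hZ : Z ≤ Subgroup.center Γ) :
    ⁅A ⊔ Z, A ⊔ Z⁆ ≤ ⁅A, A⁆ := by
  have hA : ∀ x ∈ A ⊔ Z, ∃ a ∈ A, ∃ z ∈ Z, x = a * z := fun x hx => by
    have hn : Z.Normal := ⟨fun n hn g => by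
      rw [Subgroup.mem_center_iff.1 (hZ hn) g, mul_inv_cancel_right]; exact hn⟩
    rw [← SetLike.mem_coe, Subgroup.mul_normal] at hx
    obtain ⟨a, ha, z, hz, rfl⟩ := Set.mem_mul.1 hx
    exact ⟨a, ha, z, hz, rfl⟩
  rw [Subgroup.commutator_le]
  intro x hx y hy
  obtain ⟨a, ha, z, hz, rfl⟩ := hA x hx
  obtain ⟨b, hb, w, hw, rfl⟩ := hA y hy
  have h1 := Subgroup.mem_center_iff.1 (hZ hz)
  have h2 := Subgroup.mem_center_iff.1 (hZ hw)
  have : ⁅a * z, b * w⁆ = ⁅a, b⁆ := by
    simp only [commutatorElement_def, mul_inv_rev]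
    calc a * z * (b * w) * (z⁻¹ * a⁻¹) * (w⁻¹ * b⁻¹)
        = a * (z * b) * (w * (z⁻¹ * a⁻¹)) * (w⁻¹ * b⁻¹) := by group
      _ = a * (b * z) * ((z⁻¹ * a⁻¹) * w) * (w⁻¹ * b⁻¹) := by rw [← h1 b, ← h2 (z⁻¹ * a⁻¹)]
      _ = a * b * a⁻¹ * b⁻¹ := by group
  rw [this]
  exact Subgroup.commutator_mem_commutator ha hb

variable (σ : Γ →* Q)

/-- The preimage of a two-generated subgroup has derived group in `⟨⁅b, a⁆⟩`. -/
theorem commutator_comap_le [Finite Γ] (hs : Function.Surjective σ) (hc : σ.ker ≤ Subgroup.center Γ)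
    (a b : Γ) (ha : a * ⁅b, a⁆ * a⁻¹ ∈ Subgroup.zpowers ⁅b, a⁆)
    (hb : b * ⁅b, a⁆ * b⁻¹ ∈ Subgroup.zpowers ⁅b, a⁆) :
    ⁅(Subgroup.closure ({σ a, σ b} : Set Q)).comap σ, (Subgroup.closure ({σ a, σ b} : Set Q)).comap σ⁆ ≤
      Subgroup.zpowers ⁅b, a⁆ := by
  rw [show ({σ a, σ b} : Set Q) = σ '' {a, b} from (Set.image_pair σ a b).symm,
    ← MonoidHom.map_closure, Subgroup.comap_map_eq]
  refine (commutator_sup_central_le _ _ hc).trans ?_
  set A := Subgroup.closure ({a, b} : Set Γ) with hA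
  have haA : a ∈ A := Subgroup.subset_closure (Set.mem_insert _ _)
  have hbA : b ∈ A := Subgroup.subset_closure (Set.mem_insert_of_mem _ rfl)
  have hg : Subgroup.closure ({⟨a, haA⟩, ⟨b, hbA⟩} : Set A) = ⊤ := by
    apply Subgroup.map_injective A.subtype_injective
    rw [MonoidHom.map_closure, Set.image_pair, ← MonoidHom.range_eq_map, Subgroup.range_subtype]
    rfl
  have key : ∀ (g : A), (g : Γ) * ⁅b, a⁆ * (g : Γ)⁻¹ ∈ Subgroup.zpowers ⁅b, a⁆ →
      g * ⁅(⟨b, hbA⟩ : A), ⟨a, haA⟩⁆ * g⁻¹ ∈ Subgroup.zpowers ⁅(⟨b, hbA⟩ : A), ⟨a, haA⟩⁆ := by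
    intro g hg
    obtain ⟨j, hj⟩ := Subgroup.mem_zpowers_iff.1 hg
    exact Subgroup.mem_zpowers_iff.2 ⟨j, Subtype.ext (by simpa [commutatorElement_def] using hj)⟩
  have := Schur.commutator_le_zpowers hg (key _ ha) (key _ hb)
  rw [← Subgroup.map_subtype_commutator]
  refine (Subgroup.map_mono this).trans ?_
  rw [MonoidHom.map_zpowers]
  exact le_rfl

/-- Central kernel elements over a cyclic subgroup of index prime to `p`. -/
theorem eq_one_of_cyclic [Finite Γ] (hs : Function.Surjective σ) (hc : σ.ker ≤ Subgroup.center Γ)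
    (hd : σ.ker ≤ commutator Γ) (x : Q) {p k : ℕ} (hp : p.Prime)
    (hi : ¬ p ∣ (Subgroup.zpowers x).index) {z : Γ} (hz : z ∈ σ.ker) (ho : z ^ p ^ k = 1) : z = 1 := by
  obtain ⟨a, rfl⟩ := hs x
  have hset : Subgroup.closure ({σ a, σ 1} : Set Q) = Subgroup.zpowers (σ a) := by
    rw [map_one, Subgroup.zpowers_eq_closure, Set.pair_comm, Subgroup.closure_insert_one]
  have h := mem_of_prime_pow _ (hc hz) (hd hz) hp
    (by rwa [Subgroup.index_comap_of_surjective _ hs, hset])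
    ho (commutator_comap_le σ hs hc a 1 (by simp) (by simp))
  rw [commutatorElement_one_left, Subgroup.zpowers_one_eq_bot, Subgroup.mem_bot] at h
  exact h

/-- Two commuting generators of order dividing `k`. -/
theorem exists_zpowers_of_comm [Finite Γ] (hs : Function.Surjective σ) (hc : σ.ker ≤ Subgroup.center Γ)
    (hd : σ.ker ≤ commutator Γ) {x y : Q} (hxy : y * x = x * y) {k : ℕ} (hk : x ^ k = 1) {p : ℕ}
    (hp : p.Prime) (hi : ¬ p ∣ (Subgroup.closure ({x, y} : Set Q)).index) :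
    ∃ c : Γ, c ^ k = 1 ∧ (∀ u : Q, u * x * u⁻¹ = x⁻¹ → u * y * u⁻¹ = y → c ^ 2 = 1) ∧
      ∀ z ∈ σ.ker, ∀ j : ℕ, z ^ p ^ j = 1 → z ∈ Subgroup.zpowers c := by
  obtain ⟨a, rfl⟩ := hs x
  obtain ⟨b, rfl⟩ := hs y
  set c := ⁅b, a⁆ with hcd
  have hck : c ∈ σ.ker := by
    rw [MonoidHom.mem_ker, hcd, map_commutatorElement, commutatorElement_eq_one_iff_mul_comm]; exact hxy
  have hcz := Subgroup.mem_center_iff.1 (hc hck)
  have hconj : ∀ g : Γ, g * c * g⁻¹ = c := fun g => by rw [hcz g, mul_inv_cancel_right]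
  refine ⟨c, ?_, ?_, fun z hz j hj => ?_⟩
  · have hbab : b * a * b⁻¹ = c * a := by rw [hcd, commutatorElement_def]; group
    have hak := Subgroup.mem_center_iff.1 (hc (show a ^ k ∈ σ.ker by rw [MonoidHom.mem_ker, map_pow, hk]))
    have h1 : b * a ^ k * b⁻¹ = (c * a) ^ k := by rw [← hbab, conj_pow]
    rw [hak b, mul_inv_cancel_right, Commute.mul_pow (hcz a).symm] at h1
    exact mul_eq_right.1 h1.symm
  · intro u hu1 hu2
    obtain ⟨d, rfl⟩ := hs u
    have h1 : d * a * d⁻¹ * a ∈ σ.ker := by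
      simp only [MonoidHom.mem_ker, map_mul, map_inv, hu1, inv_mul_cancel]
    have h2 : d * b * d⁻¹ * b⁻¹ ∈ σ.ker := by
      simp only [MonoidHom.mem_ker, map_mul, map_inv, hu2, mul_inv_cancel]
    set w := d * a * d⁻¹ * a with hw
    set w' := d * b * d⁻¹ * b⁻¹ with hw'
    have hwc := Subgroup.mem_center_iff.1 (hc h1)
    have hwc' := Subgroup.mem_center_iff.1 (hc h2)
    have e1 : d * a * d⁻¹ = w * a⁻¹ := by rw [hw]; group
    have e2 : d * b * d⁻¹ = w' * b := by rw [hw']; group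
    have e3 : ⁅b, a⁻¹⁆ = c⁻¹ := by
      calc ⁅b, a⁻¹⁆ = a⁻¹ * ⁅b, a⁆⁻¹ * a⁻¹⁻¹ := by simp only [commutatorElement_def]; group
        _ = c⁻¹ := by
          rw [← hcd, inv_inv]
          calc a⁻¹ * c⁻¹ * a = (a⁻¹ * c * a⁻¹⁻¹)⁻¹ := by group
            _ = c⁻¹ := by rw [hconj a⁻¹]
    have e4 : c = ⁅w' * b, w * a⁻¹⁆ := by
      rw [← e1, ← e2]
      conv_lhs => rw [← hconj d, hcd]
      simp only [commutatorElement_def]; group
    have e5 : ⁅w' * b, w * a⁻¹⁆ = ⁅b, a⁻¹⁆ := by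
      simp only [commutatorElement_def, mul_inv_rev]
      calc w' * b * (w * a⁻¹) * (b⁻¹ * w'⁻¹) * (a⁻¹⁻¹ * w⁻¹)
          = w' * (b * w) * a⁻¹ * b⁻¹ * w'⁻¹ * a⁻¹⁻¹ * w⁻¹ := by group
        _ = w' * (w * (b * a⁻¹ * b⁻¹ * w'⁻¹ * a⁻¹⁻¹)) * w⁻¹ := by rw [hwc b]; group
        _ = w' * ((b * a⁻¹ * b⁻¹ * w'⁻¹ * a⁻¹⁻¹) * w) * w⁻¹ := by rw [← hwc]
        _ = w' * (b * a⁻¹ * b⁻¹) * (w'⁻¹ * a⁻¹⁻¹) := by group
        _ = (b * a⁻¹ * b⁻¹) * w' * (w'⁻¹ * a⁻¹⁻¹) := by rw [← hwc']
        _ = _ := by group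
    rw [e5, e3] at e4
    rw [pow_two]
    nth_rewrite 1 [e4]
    exact inv_mul_cancel c
  · refine mem_of_prime_pow _ (hc hz) (hd hz) hp ?_ hj
      (commutator_comap_le σ hs hc a b (by rw [← hcd, hconj]; exact Subgroup.mem_zpowers c)
        (by rw [← hcd, hconj]; exact Subgroup.mem_zpowers c))
    rwa [Subgroup.index_comap_of_surjective _ hs]

/-- Dihedral generators of order eight. -/
theorem exists_zpowers_of_dihedral [Finite Γ] (hs : Function.Surjective σ) (hc : σ.ker ≤ Subgroup.center Γ)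
    (hd : σ.ker ≤ commutator Γ) {x y : Q} (hyx : y * x * y⁻¹ = x⁻¹) (hx4 : x ^ 4 = 1) (hx2 : x ^ 2 ≠ 1)
    {p : ℕ} (hp : p.Prime) (hi : ¬ p ∣ (Subgroup.closure ({x, y} : Set Q)).index) :
    ∃ c : Γ, c ^ 2 = 1 ∧ ∀ z ∈ σ.ker, ∀ j : ℕ, z ^ p ^ j = 1 → z ∈ Subgroup.zpowers c := by
  obtain ⟨a, rfl⟩ := hs x
  obtain ⟨b, rfl⟩ := hs y
  have hwk : a * (b * a * b⁻¹) ∈ σ.ker := by
    simp only [MonoidHom.mem_ker, map_mul, map_inv, hyx, mul_inv_cancel]
  set w := a * (b * a * b⁻¹) with hw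
  have hwc := Subgroup.mem_center_iff.1 (hc hwk)
  have hbab : b * a * b⁻¹ = a⁻¹ * w := by rw [hw]; group
  set c := ⁅b, a⁆ with hcd
  have hceq : c = a⁻¹ * a⁻¹ * w := by
    rw [hcd, commutatorElement_def, hbab, mul_assoc a⁻¹ w, ← hwc a⁻¹, ← mul_assoc]
  have hac : a * c * a⁻¹ = c := by
    rw [hceq]
    calc a * (a⁻¹ * a⁻¹ * w) * a⁻¹ = a⁻¹ * (w * a⁻¹) := by group
      _ = _ := by rw [← hwc a⁻¹]; group
  have h1 : b * a⁻¹ * b⁻¹ = w⁻¹ * a := by
    rw [show b * a⁻¹ * b⁻¹ = (b * a * b⁻¹)⁻¹ by group, hbab]; group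
  have hbc : b * c * b⁻¹ = c⁻¹ := by
    calc b * c * b⁻¹ = (b * a⁻¹ * b⁻¹) * (b * a⁻¹ * b⁻¹) * (b * w * b⁻¹) := by rw [hceq]; group
      _ = w⁻¹ * a * (w⁻¹ * a) * w := by rw [h1, hwc b, mul_inv_cancel_right]
      _ = w⁻¹ * a * w⁻¹ * (a * w) := by group
      _ = w⁻¹ * a * a := by rw [hwc a]; group
      _ = c⁻¹ := by rw [hceq]; simp [mul_inv_rev, mul_assoc]
  have hc4 : c ^ 4 = 1 := by
    have hak := Subgroup.mem_center_iff.1 (hc (show a ^ 4 ∈ σ.ker by rw [MonoidHom.mem_ker, map_pow, hx4]))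
    have h2 : (a⁻¹ * w) ^ 4 = a ^ 4 := by rw [← hbab, conj_pow, hak b, mul_inv_cancel_right]
    have hcw : Commute a⁻¹ w := hwc a⁻¹
    rw [hcw.mul_pow, inv_pow] at h2
    rw [hceq, (Commute.mul_left hcw hcw).mul_pow, (Commute.refl a⁻¹).mul_pow, inv_pow, mul_assoc, h2,
      inv_mul_cancel]
  refine ⟨c ^ 2, by rw [← pow_mul]; exact hc4, fun z hz j hj => ?_⟩
  have hmem : z ∈ Subgroup.zpowers c := mem_of_prime_pow _ (hc hz) (hd hz) hp
    (by rwa [Subgroup.index_comap_of_surjective _ hs]) hj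
    (commutator_comap_le σ hs hc a b (by rw [← hcd, hac]; exact Subgroup.mem_zpowers c)
      (by rw [← hcd, hbc]; exact inv_mem (Subgroup.mem_zpowers c)))
  obtain ⟨i, rfl⟩ := Subgroup.mem_zpowers_iff.1 hmem
  have hσc : σ c = (σ a)⁻¹ ^ 2 := by
    rw [hceq, map_mul, MonoidHom.mem_ker.1 hwk, mul_one, map_mul, map_inv, pow_two]
  rcases Int.even_or_odd i with ⟨r, rfl⟩ | ⟨r, rfl⟩
  · refine Subgroup.mem_zpowers_iff.2 ⟨r, ?_⟩
    rw [← zpow_natCast c 2, ← zpow_mul]; congr 1; push_cast; ring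
  · exfalso
    apply hx2
    have h3 : σ c ^ (2 * r + 1) = 1 := by rw [← map_zpow]; exact hz
    have h4 : σ c ^ (2 : ℤ) = 1 := by
      rw [hσc, zpow_ofNat, ← pow_mul, inv_pow, hx4, inv_one]
    rw [zpow_add, zpow_mul, h4, one_zpow, one_mul, zpow_one, hσc, inv_pow, inv_eq_one] at h3
    exact h3

/-! ### Point stabilisers -/

variable {m : ℕ}

theorem three_le (hm : 3 ≤ m) : 3 ≤ Fintype.card (Fin m) := by simpa

/-- Every element fixing the points of a small set is a commutator product of such elements. -/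
theorem mem_commutator_fix (F : Finset (Fin m)) (hF : F.card + 5 ≤ m) (g : alternatingGroup (Fin m))
    (hg : ∀ x ∈ F, (g : Equiv.Perm (Fin m)) x = x) :
    g ∈ ⁅(alternatingGroup.ofSubtype Fᶜ).range, (alternatingGroup.ofSubtype Fᶜ).range⁆ := by
  have h1 : g ∈ (alternatingGroup.ofSubtype Fᶜ).range := by
    rw [alternatingGroup.mem_range_ofSubtype_iff]
    intro x hx
    rw [Finset.mem_compl]
    exact fun h => Equiv.Perm.mem_support.1 hx (hg x h)
  rw [MonoidHom.range_eq_map, ← Subgroup.map_commutator, ← commutator_def,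
    commutator_alternatingGroup_eq_top (by
      rw [Nat.card_eq_fintype_card, Fintype.card_coe, Finset.card_compl, Fintype.card_fin]; omega),
    ← MonoidHom.range_eq_map]
  exact h1

section Stab

variable (σ : Γ →* alternatingGroup (Fin m))

/-- The derived group of the preimage of a point stabiliser. -/
def D (i : Fin m) : Subgroup Γ :=
  ⁅(MulAction.stabilizer (alternatingGroup (Fin m)) i).comap σ,
    (MulAction.stabilizer (alternatingGroup (Fin m)) i).comap σ⁆

theorem D_le (i : Fin m) : D σ i ≤ (MulAction.stabilizer (alternatingGroup (Fin m)) i).comap σ := by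
  rw [D, Subgroup.commutator_le]
  intro x hx y hy
  exact mul_mem (mul_mem (mul_mem hx hy) (inv_mem hx)) (inv_mem hy)

theorem apply_fix {i : Fin m} {d : Γ} (h : d ∈ D σ i) : (σ d : Equiv.Perm (Fin m)) i = i :=
  D_le σ i h

theorem exists_lift (hs : Function.Surjective σ) (F : Finset (Fin m)) (hF : F.card + 5 ≤ m)
    (g : alternatingGroup (Fin m)) (hg : ∀ x ∈ F, (g : Equiv.Perm (Fin m)) x = x) :
    ∃ d, σ d = g ∧ ∀ i ∈ F, d ∈ D σ i := by
  set R := (alternatingGroup.ofSubtype Fᶜ).range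
  have h : g ∈ (⁅R.comap σ, R.comap σ⁆).map σ := by
    rw [Subgroup.map_commutator, Subgroup.map_comap_eq_self_of_surjective hs]
    exact mem_commutator_fix F hF g hg
  obtain ⟨d, hd, rfl⟩ := h
  refine ⟨d, rfl, fun i hi => ?_⟩
  have hle : R.comap σ ≤ (MulAction.stabilizer (alternatingGroup (Fin m)) i).comap σ := by
    refine Subgroup.comap_mono fun r hr => ?_
    rw [alternatingGroup.mem_range_ofSubtype_iff] at hr
    show (r : Equiv.Perm (Fin m)) i = i
    by_contra h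
    exact Finset.mem_compl.1 (hr (Equiv.Perm.mem_support.2 h)) hi
  exact Subgroup.commutator_mono hle hle hd

theorem exists_move (hm : 3 ≤ m) (F : Finset (Fin m)) {a b : Fin m} (ha : a ∉ F) (hb : b ∉ F)
    (hF : F.card + 3 ≤ m) :
    ∃ g : alternatingGroup (Fin m), (g : Equiv.Perm (Fin m)) a = b ∧
      ∀ x ∈ F, (g : Equiv.Perm (Fin m)) x = x := by
  rcases eq_or_ne a b with rfl | hab
  · exact ⟨1, rfl, fun x _ => rfl⟩
  obtain ⟨c, hc⟩ : ∃ c, c ∉ insert a (insert b F) := by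
    by_contra h
    push Not at h
    have h1 := Finset.card_insert_le a (insert b F)
    have h2 := Finset.card_insert_le b F
    rw [Finset.eq_univ_iff_forall.2 h, Finset.card_univ, Fintype.card_fin] at h1
    omega
  simp only [Finset.mem_insert, not_or] at hc
  refine ⟨⟨Equiv.swap b c * Equiv.swap a c, ?_⟩, ?_, fun x hx => ?_⟩
  · rw [Equiv.Perm.mem_alternatingGroup, map_mul, Equiv.Perm.sign_swap (Ne.symm hc.2.1),
      Equiv.Perm.sign_swap (Ne.symm hc.1)]
    rfl
  · show Equiv.swap b c (Equiv.swap a c a) = b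
    simp
  · show Equiv.swap b c (Equiv.swap a c x) = x
    have h1 : x ≠ a := fun h => ha (h ▸ hx)
    have h2 : x ≠ b := fun h => hb (h ▸ hx)
    have h3 : x ≠ c := fun h => hc.2.2 (h ▸ hx)
    simp [Equiv.swap_apply_of_ne_of_ne, h1, h2, h3]

theorem ker_inter_D_le (hs : Function.Surjective σ) (hc : σ.ker ≤ Subgroup.center Γ) (hm : 4 ≤ m)
    (i j : Fin m) {z : Γ} (hz : z ∈ σ.ker) (hi : z ∈ D σ i) : z ∈ D σ j := by
  obtain ⟨g, hg, -⟩ := exists_move (by omega) ∅ (Finset.notMem_empty i) (Finset.notMem_empty j)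
    (by simp; omega)
  obtain ⟨γ, rfl⟩ := hs g
  have h : z ∈ (D σ i).map (MulAut.conj γ).toMonoidHom :=
    ⟨z, hi, by simp [Subgroup.mem_center_iff.1 (hc hz) γ]⟩
  rw [D, Subgroup.map_commutator] at h
  have hle : ((MulAction.stabilizer (alternatingGroup (Fin m)) i).comap σ).map (MulAut.conj γ).toMonoidHom ≤
      (MulAction.stabilizer (alternatingGroup (Fin m)) j).comap σ := by
    rintro _ ⟨y, hy, rfl⟩
    have hy' : (σ y : Equiv.Perm (Fin m)) i = i := hy
    have hginv : (σ γ : Equiv.Perm (Fin m))⁻¹ j = i := by rw [← hg]; simp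
    show (σ (γ * y * γ⁻¹) : Equiv.Perm (Fin m)) j = j
    simp only [map_mul, map_inv, Subgroup.coe_mul, Subgroup.coe_inv, Equiv.Perm.mul_apply, hginv, hy', hg]
  exact Subgroup.commutator_mono hle hle h

theorem mem_D_of_fix (hs : Function.Surjective σ) (hc : σ.ker ≤ Subgroup.center Γ) (hm : 7 ≤ m)
    {k j : Fin m} {t : Γ} (ht : t ∈ D σ k) (hj : (σ t : Equiv.Perm (Fin m)) j = j) : t ∈ D σ j := by
  obtain ⟨d, hd, hmem⟩ := exists_lift σ hs {k, j} (by
      have := Finset.card_le_two (a := k) (b := j); omega) (σ t) (by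
      intro x hx
      rcases Finset.mem_insert.1 hx with rfl | hx
      · exact apply_fix σ ht
      · rw [Finset.mem_singleton.1 hx]; exact hj)
  have hk : d⁻¹ * t ∈ D σ k := mul_mem (inv_mem (hmem k (by simp))) ht
  have hker : d⁻¹ * t ∈ σ.ker := by rw [MonoidHom.mem_ker, map_mul, map_inv, hd, inv_mul_cancel]
  have h := mul_mem (hmem j (by simp)) (ker_inter_D_le σ hs hc (by omega) k j hker hk)
  rwa [mul_inv_cancel_left] at h

/-- The kernel of a stem extension lies in the derived group of the preimage of a point stabiliser. -/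
theorem ker_le_D [Finite Γ] (hs : Function.Surjective σ) (hc : σ.ker ≤ Subgroup.center Γ)
    (hd : σ.ker ≤ commutator Γ) (hm : 7 ≤ m) (o : Fin m) : σ.ker ≤ D σ o := by
  have hperf : commutator Γ = ⊤ := Schur.commutator_eq_top_of_central
    (commutator_alternatingGroup_eq_top (by simp; omega)) σ hs hd
  set S : Set Γ := {d | (σ d : Equiv.Perm (Fin m)).IsThreeCycle ∧ ∃ l, d ∈ D σ l}
  have hgen : Subgroup.closure S = ⊤ := by
    refine Schur.map_eq_top_of_sup hc ?_ hperf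
    rw [← Subgroup.comap_map_eq, MonoidHom.map_closure]
    have : σ '' S = {g : alternatingGroup (Fin m) | (g : Equiv.Perm (Fin m)).IsThreeCycle} := by
      ext g
      refine ⟨fun ⟨d, hd', hg⟩ => hg ▸ hd'.1, fun hg => ?_⟩
      obtain ⟨l, hl⟩ : ∃ l, l ∉ (g : Equiv.Perm (Fin m)).support := by
        by_contra h
        push Not at h
        have h3 := hg.card_support
        rw [show (g : Equiv.Perm (Fin m)).support = Finset.univ from Finset.eq_univ_iff_forall.2 h,
          Finset.card_univ, Fintype.card_fin] at h3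
        omega
      obtain ⟨d, hdg, hdl⟩ := exists_lift σ hs {l} (by simp; omega) g (by
        simpa using Equiv.Perm.notMem_support.1 hl)
      exact ⟨d, ⟨by rw [hdg]; exact hg, l, hdl l (by simp)⟩, hdg⟩
    rw [this]
    have h2 : Subgroup.closure {g : alternatingGroup (Fin m) | (g : Equiv.Perm (Fin m)).IsThreeCycle} = ⊤ := by
      have h := Subgroup.closure_closure_coe_preimage (k := {σ : Equiv.Perm (Fin m) | σ.IsThreeCycle})
      apply Subgroup.map_injective (alternatingGroup (Fin m)).subtype_injective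
      rw [MonoidHom.map_closure, ← MonoidHom.range_eq_map, Subgroup.range_subtype]
      conv_rhs => rw [← Equiv.Perm.closure_three_cycles_eq_alternating]
      congr 1
      ext p
      exact ⟨fun ⟨g, hg, hgp⟩ => hgp ▸ hg, fun hp => ⟨⟨p, hp.mem_alternatingGroup⟩, hp, rfl⟩⟩
    rw [h2, Subgroup.comap_top]
  set U : Set Γ := {γ | ∃ k t, t ∈ D σ k ∧ t⁻¹ * γ ∈ D σ o}
  have hU1 : (1 : Γ) ∈ U := ⟨o, 1, one_mem _, by simp⟩
  -- changing the representative
  have hrep : ∀ k t, t ∈ D σ k → ∀ l, l ≠ o → l ≠ (σ t : Equiv.Perm (Fin m)) o →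
      ∃ t', t' ∈ D σ l ∧ t'⁻¹ * t ∈ D σ o := by
    intro k t ht l hlo hli
    set i := (σ t : Equiv.Perm (Fin m)) o with hi
    by_cases hio : i = o
    · exact ⟨1, one_mem _, by simpa using mem_D_of_fix σ hs hc hm ht hio⟩
    have hki : k ≠ i := fun h => hio (((σ t : Equiv.Perm (Fin m))).injective (by rw [← hi, ← h, apply_fix σ ht, h]))
    have hko : k ≠ o := fun h => hio (by rw [hi, ← h, apply_fix σ ht])
    obtain ⟨g, hg, hgF⟩ := exists_move (by omega) {k, l} (a := o) (b := i)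
      (by simp [hko.symm, hlo.symm]) (by simp [hki.symm, hli.symm])
      (by have := Finset.card_le_two (a := k) (b := l); omega)
    obtain ⟨t', ht', hmem⟩ := exists_lift σ hs {k, l} (by
      have := Finset.card_le_two (a := k) (b := l); omega) g hgF
    refine ⟨t', hmem l (by simp), mem_D_of_fix σ hs hc hm (mul_mem (inv_mem (hmem k (by simp))) ht) ?_⟩
    rw [map_mul, map_inv, ht', Subgroup.coe_mul, Subgroup.coe_inv, Equiv.Perm.mul_apply, ← hi, ← hg]
    simp
  have hstep : ∀ d ∈ S, ∀ γ ∈ U, d * γ ∈ U := by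
    rintro d ⟨hd3, l₀, hl₀⟩ γ ⟨k, t, ht, htγ⟩
    set i := (σ t : Equiv.Perm (Fin m)) o
    obtain ⟨l, hl⟩ : ∃ l, l ∉ insert o (insert i (σ d : Equiv.Perm (Fin m)).support) := by
      by_contra h
      push Not at h
      have h1 := Finset.card_insert_le o (insert i (σ d : Equiv.Perm (Fin m)).support)
      have h2 := Finset.card_insert_le i (σ d : Equiv.Perm (Fin m)).support
      rw [Finset.eq_univ_iff_forall.2 h, Finset.card_univ, Fintype.card_fin] at h1
      have h3 := hd3.card_support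
      omega
    simp only [Finset.mem_insert, not_or, Equiv.Perm.notMem_support] at hl
    obtain ⟨t', ht', htt⟩ := hrep k t ht l hl.1 hl.2.1
    refine ⟨l, d * t', mul_mem (mem_D_of_fix σ hs hc hm hl₀ hl.2.2) ht', ?_⟩
    have := mul_mem htt htγ
    rw [show t'⁻¹ * t * (t⁻¹ * γ) = (d * t')⁻¹ * (d * γ) by group] at this
    exact this
  have hall : ∀ γ, γ ∈ U := by
    intro γ
    have hmem : γ ∈ Submonoid.closure S := by
      have : γ ∈ (Subgroup.closure S).toSubmonoid := by rw [hgen]; trivial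
      rwa [Subgroup.closure_toSubmonoid_of_finite] at this
    induction hmem using Submonoid.closure_induction_left with
    | one => exact hU1
    | mul_left x hx y _ ih => exact hstep x hx y ih
  intro z hz
  obtain ⟨k, t, ht, htz⟩ := hall z
  have hfix : (σ t : Equiv.Perm (Fin m)) o = o := by
    have h := apply_fix σ htz
    rw [map_mul, map_inv, MonoidHom.mem_ker.1 hz, mul_one, Subgroup.coe_inv] at h
    conv_lhs => rw [← h]
    simp
  have := mul_mem (mem_D_of_fix σ hs hc hm ht hfix) htz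
  rwa [mul_inv_cancel_left] at this

end Stab

/-- Restriction to a point stabiliser. -/
theorem exists_restrict {n : ℕ} [Finite Γ] (σ : Γ →* alternatingGroup (Fin (n + 1)))
    (hs : Function.Surjective σ) (hc : σ.ker ≤ Subgroup.center Γ) (hd : σ.ker ≤ commutator Γ)
    (hn : 6 ≤ n) : ∃ (H : Subgroup Γ) (τ : H →* alternatingGroup (Fin n)), Function.Surjective τ ∧
      τ.ker ≤ Subgroup.center H ∧ τ.ker ≤ commutator H ∧ σ.ker ≤ H ∧
      ∀ x : H, (x : Γ) ∈ σ.ker ↔ x ∈ τ.ker := by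
  let o : Fin (n + 1) := Fin.last n
  have hker : σ.ker ≤ D σ o := ker_le_D σ hs hc hd (by omega) o
  let s : Finset (Fin (n + 1)) := ({o} : Finset _)ᶜ
  have hcard : Fintype.card s = n := by
    rw [Fintype.card_coe, Finset.card_compl, Fintype.card_fin, Finset.card_singleton]; omega
  let e : alternatingGroup s ≃* alternatingGroup (Fin n) := (Fintype.equivFinOfCardEq hcard).altCongrHom
  let f := MonoidHom.ofInjective (alternatingGroup.ofSubtype_injective (s := s))
  have hrange : ∀ g : alternatingGroup (Fin (n + 1)),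
      g ∈ (alternatingGroup.ofSubtype s).range ↔ (g : Equiv.Perm _) o = o := by
    intro g
    rw [alternatingGroup.mem_range_ofSubtype_iff, ← Equiv.Perm.notMem_support]
    refine ⟨fun h ho => by simpa [s] using h ho, fun h x hx => ?_⟩
    simp only [s, Finset.mem_compl, Finset.mem_singleton]
    rintro rfl; exact h hx
  let σ' : D σ o →* (alternatingGroup.ofSubtype s).range :=
    (σ.comp (D σ o).subtype).codRestrict _ fun x => (hrange _).2 (apply_fix σ x.2)
  let τ : D σ o →* alternatingGroup (Fin n) := e.toMonoidHom.comp (f.symm.toMonoidHom.comp σ')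
  have hiff : ∀ x : D σ o, (x : Γ) ∈ σ.ker ↔ x ∈ τ.ker := fun x => by
    simp only [τ, MonoidHom.mem_ker, MonoidHom.comp_apply, MulEquiv.coe_toMonoidHom,
      EmbeddingLike.map_eq_one_iff]
    exact ⟨fun h => Subtype.ext h, fun h => congrArg Subtype.val h⟩
  refine ⟨D σ o, τ, fun g => ?_, fun x hx => ?_, fun x _ => ?_, hker, hiff⟩
  · have hg' := (f (e.symm g)).2
    obtain ⟨d, hd', hm⟩ := exists_lift σ hs {o} (by simp; omega) ((f (e.symm g) : _) : alternatingGroup _)
      (by simpa using (hrange _).1 hg')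
    refine ⟨⟨d, hm o (by simp)⟩, ?_⟩
    have : σ' ⟨d, hm o (by simp)⟩ = f (e.symm g) := Subtype.ext hd'
    show e (f.symm (σ' ⟨d, hm o (by simp)⟩)) = g
    rw [this, MulEquiv.symm_apply_apply, MulEquiv.apply_symm_apply]
  · exact Subgroup.mem_center_iff.2 fun y => Subtype.ext (Subgroup.mem_center_iff.1 (hc ((hiff x).2 hx)) y)
  · have hsup : (MulAction.stabilizer (alternatingGroup (Fin (n + 1))) o).comap σ ≤ D σ o ⊔ σ.ker := by
      intro y hy
      obtain ⟨d, hd', hm⟩ := exists_lift σ hs {o} (by simp; omega) (σ y)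
        (by simpa using (show (σ y : Equiv.Perm _) o = o from hy))
      rw [← mul_inv_cancel_left d y]
      exact Subgroup.mul_mem_sup (hm o (by simp))
        (by rw [MonoidHom.mem_ker, map_mul, map_inv, hd', inv_mul_cancel])
    have hDD : D σ o ≤ ⁅D σ o, D σ o⁆ := by
      conv_lhs => rw [D]
      exact (Subgroup.commutator_mono hsup hsup).trans (commutator_sup_central_le _ _ hc)
    have hx := hDD x.2
    rw [← Subgroup.map_subtype_commutator] at hx
    obtain ⟨y, hy, hyx⟩ := hx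
    exact Subtype.ext hyx ▸ hy

end CfsgLib.Char.Exceptional.AltMultiplier
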