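import Mathlib
import Cfsg.Agent.Lib.Char.Exceptional.AltMultiplier

/-! Schur multiplier bound for alternating groups of degree other than six and seven. -/

set_option autoImplicit false

namespace CfsgLib.Char.Exceptional.AltMultiplier

universe u v

theorem pow_dvd_card_closure {Q : Type v} [Group Q] [Finite Q] {x y : Q} {p k : ℕ} [hp : Fact p.Prime]
    (hx : ¬ x ^ p ^ k = 1) (hxk : x ^ p ^ (k + 1) = 1) (hy : y ^ p = 1)
    (hn : ∃ i : ℕ, y * x * y⁻¹ = x ^ i) (hout : ∀ i < p ^ (k + 1), y ≠ x ^ i) :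
    p ^ (k + 2) ∣ Nat.card (Subgroup.closure ({x, y} : Set Q)) := by
  have ho : orderOf x = p ^ (k + 1) := orderOf_eq_prime_pow hx hxk
  set C := Subgroup.zpowers x with hC
  set D := Subgroup.zpowers y with hD
  have hCp : IsPGroup p C := IsPGroup.of_card (n := k + 1) (by rw [Nat.card_zpowers, ho])
  have hDp : IsPGroup p D := by
    obtain ⟨j, -, hj⟩ := (Nat.dvd_prime_pow hp.out).1
      (show orderOf y ∣ p ^ 1 by rw [pow_one]; exact orderOf_dvd_of_pow_eq_one hy)
    exact IsPGroup.of_card (n := j) (by rw [Nat.card_zpowers, hj])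
  have hnorm : D ≤ Subgroup.normalizer (C : Set Q) := by
    rw [hD, Subgroup.zpowers_le]
    obtain ⟨i, hi⟩ := hn
    have hle : C.map (MulAut.conj y).toMonoidHom ≤ C := by
      rw [hC, MonoidHom.map_zpowers, Subgroup.zpowers_le]
      show y * x * y⁻¹ ∈ _
      rw [hi]; exact pow_mem (Subgroup.mem_zpowers x) i
    have heq : C.map (MulAut.conj y).toMonoidHom = C :=
      Subgroup.eq_of_le_of_card_ge hle (le_of_eq (Nat.card_congr
        (C.equivMapOfInjective (MulAut.conj y).toMonoidHom (MulAut.conj y).injective).toEquiv))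
    rw [Subgroup.mem_normalizer_iff]
    refine fun z => ⟨fun hz => hle ⟨z, hz, rfl⟩, fun hz => ?_⟩
    obtain ⟨w, hw, hw'⟩ := heq.ge hz
    exact (MulAut.conj y).injective hw' ▸ hw
  have hsup : C ⊔ D = Subgroup.closure ({x, y} : Set Q) := by
    rw [hC, hD, Subgroup.zpowers_eq_closure, Subgroup.zpowers_eq_closure, ← Subgroup.closure_union,
      ← Set.insert_eq]
  obtain ⟨r, hr⟩ := IsPGroup.iff_card.1 (hCp.to_sup_of_normal_left' hDp hnorm)
  rw [← hsup, hr]
  refine pow_dvd_pow p ?_
  by_contra hlt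
  have heq : C = C ⊔ D := Subgroup.eq_of_le_of_card_ge le_sup_left (by
    rw [hr, Nat.card_zpowers, ho]; exact Nat.pow_le_pow_right hp.out.pos (by omega))
  have hyC : y ∈ C := heq.ge (Subgroup.mem_sup_right (Subgroup.mem_zpowers y))
  classical
  rw [hC, mem_zpowers_iff_mem_range_orderOf, Finset.mem_image] at hyC
  obtain ⟨i, hi, hiy⟩ := hyC
  rw [Finset.mem_range, ho] at hi
  exact hout i hi hiy.symm

theorem sign_two {n : ℕ} {a b c d : Fin n} (hab : a ≠ b) (hcd : c ≠ d) :
    Equiv.Perm.sign (Equiv.swap a b * Equiv.swap c d) = 1 := by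
  rw [map_mul, Equiv.Perm.sign_swap hab, Equiv.Perm.sign_swap hcd]; rfl

theorem not_dvd_index {Q : Type v} [Group Q] [Finite Q] {K : Subgroup Q} {p d : ℕ} (hd : d ∣ Nat.card K)
    (h : ¬ p ∣ Nat.card Q / d) : ¬ p ∣ K.index := by
  intro hp
  refine h (hp.trans ?_)
  obtain ⟨r, hr⟩ := hd
  refine ⟨r, ?_⟩
  have hd0 : 0 < d := Nat.pos_of_ne_zero fun h0 => by simp [h0, Nat.card_pos.ne'] at hr
  rw [← K.index_mul_card, hr, show K.index * (d * r) = K.index * r * d by ring, Nat.mul_div_cancel _ hd0]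

theorem dvd_card_zpowers {Q : Type v} [Group Q] {x : Q} {p : ℕ} [Fact p.Prime] (h : x ^ p = 1) (h' : x ≠ 1) :
    p ∣ Nat.card (Subgroup.zpowers x) := by
  rw [Nat.card_zpowers, orderOf_eq_prime h h']

variable {Γ : Type u} [Group Γ] [Finite Γ]

theorem card_le_two_of_primes {Q : Type v} [Group Q] (σ : Γ →* Q)
    (hodd : ∀ p : ℕ, p.Prime → p ≠ 2 → ∀ z ∈ σ.ker, z ^ p = 1 → z = 1)
    (htwo : ∃ c : Γ, c ^ 2 = 1 ∧ ∀ z ∈ σ.ker, ∀ j : ℕ, z ^ 2 ^ j = 1 → z ∈ Subgroup.zpowers c) :
    Nat.card σ.ker ≤ 2 := by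
  obtain ⟨c, hc, hz⟩ := htwo
  have hle : σ.ker ≤ Subgroup.zpowers c := by
    intro z hzk
    refine hz z hzk (orderOf z).primeFactorsList.length ?_
    have ho : orderOf z ≠ 0 := (orderOf_pos z).ne'
    have hpow : orderOf z = 2 ^ (orderOf z).primeFactorsList.length := by
      refine Nat.eq_prime_pow_of_unique_prime_dvd ho fun {d} hd hdvd => ?_
      by_contra h2
      have h := orderOf_pow_orderOf_div ho hdvd
      have h1 := hodd d hd h2 _ (pow_mem hzk (orderOf z / d)) (by
        have := pow_orderOf_eq_one (z ^ (orderOf z / d)); rwa [h] at this)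
      rw [← h, h1, orderOf_one] at hd
      exact Nat.not_prime_one hd
    rw [← hpow, pow_orderOf_eq_one]
  refine (Nat.le_of_dvd Nat.card_pos (Subgroup.card_dvd_of_le hle)).trans ?_
  rw [Nat.card_zpowers]
  exact orderOf_le_of_pow_eq_one two_pos hc

theorem card_alt (n : ℕ) (hn : 2 ≤ n) : Nat.card (alternatingGroup (Fin n)) = n.factorial / 2 := by
  have : Nontrivial (Fin n) := Fin.nontrivial_iff_two_le.2 hn
  have h := two_mul_nat_card_alternatingGroup (α := Fin n)
  rw [Nat.card_perm, Nat.card_fin] at h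
  omega

/-- An even permutation. -/
abbrev ev {n : ℕ} (p : Equiv.Perm (Fin n)) (h : Equiv.Perm.sign p = 1) : alternatingGroup (Fin n) :=
  ⟨p, Equiv.Perm.mem_alternatingGroup.2 h⟩

theorem bound_four (σ : Γ →* alternatingGroup (Fin 4))
    (hs : Function.Surjective σ) (hc : σ.ker ≤ Subgroup.center Γ) (hd : σ.ker ≤ commutator Γ) :
    Nat.card σ.ker ≤ 2 := by
  have hcard : Nat.card (alternatingGroup (Fin 4)) = 12 := by rw [card_alt 4 (by norm_num)]; decide
  refine card_le_two_of_primes σ (fun p hp hp2 z hz hzp => ?_) ?_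
  · rcases eq_or_ne p 3 with rfl | hp3
    · have : Fact (Nat.Prime 3) := ⟨hp⟩
      let x := ev (Equiv.swap (0 : Fin 4) 1 * Equiv.swap 1 2) (sign_two (by decide) (by decide))
      exact eq_one_of_cyclic σ hs hc hd x hp (not_dvd_index (dvd_card_zpowers (x := x) (p := 3)
        (by decide +kernel) (by decide +kernel)) (by rw [hcard]; decide)) hz (k := 1) (by simpa)
    · refine eq_one_of_cyclic σ hs hc hd 1 hp (not_dvd_index (one_dvd _) ?_) hz (k := 1) (by simpa)
      rw [hcard, Nat.div_one]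
      intro h
      have h12 : p ∣ 2 ^ 2 * 3 := h
      rcases (Nat.Prime.dvd_mul hp).1 h12 with h | h
      · exact hp2 ((Nat.prime_dvd_prime_iff_eq hp Nat.prime_two).1 (hp.dvd_of_dvd_pow h))
      · exact hp3 ((Nat.prime_dvd_prime_iff_eq hp Nat.prime_three).1 h)
  · let x := ev (Equiv.swap (0 : Fin 4) 1 * Equiv.swap 2 3) (sign_two (by decide) (by decide))
    let y := ev (Equiv.swap (0 : Fin 4) 2 * Equiv.swap 1 3) (sign_two (by decide) (by decide))
    have hd4 := pow_dvd_card_closure (x := x) (y := y) (p := 2) (k := 0) (by decide +kernel) (by decide +kernel)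
      (by decide +kernel) ⟨1, by decide +kernel⟩ (by decide +kernel)
    obtain ⟨c, hc2, -, hz⟩ := exists_zpowers_of_comm σ hs hc hd (x := x) (y := y) (by decide +kernel) (k := 2)
      (by decide +kernel) Nat.prime_two (not_dvd_index hd4 (by rw [hcard]; decide))
    exact ⟨c, hc2, hz⟩

theorem bound_five (σ : Γ →* alternatingGroup (Fin 5))
    (hs : Function.Surjective σ) (hc : σ.ker ≤ Subgroup.center Γ) (hd : σ.ker ≤ commutator Γ) :
    Nat.card σ.ker ≤ 2 := by
  have hcard : Nat.card (alternatingGroup (Fin 5)) = 60 := by rw [card_alt 5 (by norm_num)]; decide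
  refine card_le_two_of_primes σ (fun p hp hp2 z hz hzp => ?_) ?_
  · rcases eq_or_ne p 3 with rfl | hp3
    · have : Fact (Nat.Prime 3) := ⟨hp⟩
      let x := ev (Equiv.swap (0 : Fin 5) 1 * Equiv.swap 1 2) (sign_two (by decide) (by decide))
      exact eq_one_of_cyclic σ hs hc hd x hp (not_dvd_index (dvd_card_zpowers (x := x) (p := 3)
        (by decide +kernel) (by decide +kernel)) (by rw [hcard]; decide)) hz (k := 1) (by simpa)
    rcases eq_or_ne p 5 with rfl | hp5
    · have : Fact (Nat.Prime 5) := ⟨hp⟩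
      let x := ev (Equiv.swap (0 : Fin 5) 1 * Equiv.swap 1 2 * Equiv.swap 2 3 * Equiv.swap 3 4) (by decide +kernel)
      exact eq_one_of_cyclic σ hs hc hd x hp (not_dvd_index (dvd_card_zpowers (x := x) (p := 5)
        (by decide +kernel) (by decide +kernel)) (by rw [hcard]; decide)) hz (k := 1) (by simpa)
    · refine eq_one_of_cyclic σ hs hc hd 1 hp (not_dvd_index (one_dvd _) ?_) hz (k := 1) (by simpa)
      rw [hcard, Nat.div_one]
      intro h
      have h60 : p ∣ 2 ^ 2 * 3 * 5 := h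
      rcases (Nat.Prime.dvd_mul hp).1 h60 with h | h
      · rcases (Nat.Prime.dvd_mul hp).1 h with h | h
        · exact hp2 ((Nat.prime_dvd_prime_iff_eq hp Nat.prime_two).1 (hp.dvd_of_dvd_pow h))
        · exact hp3 ((Nat.prime_dvd_prime_iff_eq hp Nat.prime_three).1 h)
      · exact hp5 ((Nat.prime_dvd_prime_iff_eq hp (by norm_num : Nat.Prime 5)).1 h)
  · let x := ev (Equiv.swap (0 : Fin 5) 1 * Equiv.swap 2 3) (sign_two (by decide) (by decide))
    let y := ev (Equiv.swap (0 : Fin 5) 2 * Equiv.swap 1 3) (sign_two (by decide) (by decide))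
    have hd4 := pow_dvd_card_closure (x := x) (y := y) (p := 2) (k := 0) (by decide +kernel) (by decide +kernel)
      (by decide +kernel) ⟨1, by decide +kernel⟩ (by decide +kernel)
    obtain ⟨c, hc2, -, hz⟩ := exists_zpowers_of_comm σ hs hc hd (x := x) (y := y) (by decide +kernel) (k := 2)
      (by decide +kernel) Nat.prime_two (not_dvd_index hd4 (by rw [hcard]; decide))
    exact ⟨c, hc2, hz⟩

theorem two_part_seven (σ : Γ →* alternatingGroup (Fin 7))
    (hs : Function.Surjective σ) (hc : σ.ker ≤ Subgroup.center Γ) (hd : σ.ker ≤ commutator Γ) :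
    ∃ c : Γ, c ^ 2 = 1 ∧ ∀ z ∈ σ.ker, ∀ j : ℕ, z ^ 2 ^ j = 1 → z ∈ Subgroup.zpowers c := by
  have hcard : Nat.card (alternatingGroup (Fin 7)) = 2520 := by rw [card_alt 7 (by norm_num)]; decide
  let x := ev (Equiv.swap (0 : Fin 7) 1 * Equiv.swap 1 2 * Equiv.swap 2 3 * Equiv.swap 4 5) (by decide +kernel)
  let y := ev (Equiv.swap (0 : Fin 7) 2 * Equiv.swap 4 5) (sign_two (by decide) (by decide))
  have hd8 := pow_dvd_card_closure (x := x) (y := y) (p := 2) (k := 1) (by decide +kernel) (by decide +kernel)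
    (by decide +kernel) ⟨3, by decide +kernel⟩ (by decide +kernel)
  exact exists_zpowers_of_dihedral σ hs hc hd (x := x) (y := y) (by decide +kernel) (by decide +kernel)
    (by decide +kernel) Nat.prime_two (not_dvd_index hd8 (by rw [hcard]; decide))

theorem bound_eight (σ : Γ →* alternatingGroup (Fin 8))
    (hs : Function.Surjective σ) (hc : σ.ker ≤ Subgroup.center Γ) (hd : σ.ker ≤ commutator Γ) :
    Nat.card σ.ker ≤ 2 := by
  have hcard : Nat.card (alternatingGroup (Fin 8)) = 20160 := by rw [card_alt 8 (by norm_num)]; decide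
  refine card_le_two_of_primes σ (fun p hp hp2 z hz hzp => ?_) ?_
  · rcases eq_or_ne p 3 with rfl | hp3
    · let x := ev (Equiv.swap (0 : Fin 8) 1 * Equiv.swap 1 2) (sign_two (by decide) (by decide))
      let y := ev (Equiv.swap (3 : Fin 8) 4 * Equiv.swap 4 5) (sign_two (by decide) (by decide))
      let u := ev (Equiv.swap (0 : Fin 8) 1 * Equiv.swap 6 7) (sign_two (by decide) (by decide))
      have : Fact (Nat.Prime 3) := ⟨hp⟩
      have hd9 := pow_dvd_card_closure (x := x) (y := y) (p := 3) (k := 0) (by decide +kernel) (by decide +kernel)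
        (by decide +kernel) ⟨1, by decide +kernel⟩ (by decide +kernel)
      obtain ⟨c, hc3, hc2, hz'⟩ := exists_zpowers_of_comm σ hs hc hd (x := x) (y := y) (by decide +kernel) (k := 3)
        (by decide +kernel) hp (not_dvd_index hd9 (by rw [hcard]; decide))
      have h2 := hc2 u (by decide +kernel) (by decide +kernel)
      have hc1 : c = 1 := by
        calc c = c ^ 3 * (c ^ 2)⁻¹ := by group
          _ = 1 := by rw [hc3, h2, inv_one, one_mul]
      have := hz' z hz 1 (by simpa)
      rw [hc1, Subgroup.zpowers_one_eq_bot, Subgroup.mem_bot] at this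
      exact this
    rcases eq_or_ne p 5 with rfl | hp5
    · have : Fact (Nat.Prime 5) := ⟨hp⟩
      let x := ev (Equiv.swap (0 : Fin 8) 1 * Equiv.swap 1 2 * Equiv.swap 2 3 * Equiv.swap 3 4) (by decide +kernel)
      exact eq_one_of_cyclic σ hs hc hd x hp (not_dvd_index (dvd_card_zpowers (x := x) (p := 5)
        (by decide +kernel) (by decide +kernel)) (by rw [hcard]; decide)) hz (k := 1) (by simpa)
    rcases eq_or_ne p 7 with rfl | hp7
    · have : Fact (Nat.Prime 7) := ⟨hp⟩
      let x := ev (Equiv.swap (0 : Fin 8) 1 * Equiv.swap 1 2 * Equiv.swap 2 3 * Equiv.swap 3 4 *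
        Equiv.swap 4 5 * Equiv.swap 5 6) (by decide +kernel)
      exact eq_one_of_cyclic σ hs hc hd x hp (not_dvd_index (dvd_card_zpowers (x := x) (p := 7)
        (by decide +kernel) (by decide +kernel)) (by rw [hcard]; decide)) hz (k := 1) (by simpa)
    · refine eq_one_of_cyclic σ hs hc hd 1 hp (not_dvd_index (one_dvd _) ?_) hz (k := 1) (by simpa)
      rw [hcard, Nat.div_one]
      intro h
      have h' : p ∣ 2 ^ 6 * 3 ^ 2 * 5 * 7 := h
      rcases (Nat.Prime.dvd_mul hp).1 h' with h | h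
      · rcases (Nat.Prime.dvd_mul hp).1 h with h | h
        · rcases (Nat.Prime.dvd_mul hp).1 h with h | h
          · exact hp2 ((Nat.prime_dvd_prime_iff_eq hp Nat.prime_two).1 (hp.dvd_of_dvd_pow h))
          · exact hp3 ((Nat.prime_dvd_prime_iff_eq hp Nat.prime_three).1 (hp.dvd_of_dvd_pow h))
        · exact hp5 ((Nat.prime_dvd_prime_iff_eq hp (by norm_num : Nat.Prime 5)).1 h)
      · exact hp7 ((Nat.prime_dvd_prime_iff_eq hp (by norm_num : Nat.Prime 7)).1 h)
  · obtain ⟨H, τ, ts, tc, td, hH, hiff⟩ := exists_restrict (n := 7) σ hs hc hd (by norm_num)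
    obtain ⟨c, hc2, hz⟩ := two_part_seven τ ts tc td
    refine ⟨c, by rw [← Subgroup.coe_pow, hc2]; rfl, fun z hzk j hj => ?_⟩
    obtain ⟨i, hi⟩ := Subgroup.mem_zpowers_iff.1
      (hz ⟨z, hH hzk⟩ ((hiff _).1 hzk) j (Subtype.ext (by simpa using hj)))
    exact Subgroup.mem_zpowers_iff.2 ⟨i, by rw [← Subgroup.coe_zpow, hi]⟩

omit [Finite Γ] in
theorem bound : ∀ (n : ℕ), 4 ≤ n → n ≠ 6 → n ≠ 7 → ∀ {Γ : Type u} [Group Γ] [Finite Γ]
    (σ : Γ →* alternatingGroup (Fin n)), Function.Surjective σ → σ.ker ≤ Subgroup.center Γ →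
    σ.ker ≤ commutator Γ → Nat.card σ.ker ≤ 2 := by
  intro n
  induction n with
  | zero => intro h; omega
  | succ n ih =>
    intro h4 h6 h7 Γ _ _ σ hs hc hd
    by_cases h : 8 ≤ n
    · obtain ⟨H, τ, ts, tc, td, hH, hiff⟩ := exists_restrict σ hs hc hd (by omega)
      refine le_trans ?_ (ih (by omega) (by omega) (by omega) τ ts tc td)
      refine Nat.card_le_card_of_injective (fun z => ⟨⟨z.1, hH z.2⟩, (hiff _).1 z.2⟩) fun a b hab => ?_
      exact Subtype.ext (congrArg (fun w : τ.ker => ((w : H) : Γ)) hab)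
    · rcases (by omega : n = 3 ∨ n = 4 ∨ n = 7) with rfl | rfl | rfl
      exacts [bound_four σ hs hc hd, bound_five σ hs hc hd, bound_eight σ hs hc hd]

end CfsgLib.Char.Exceptional.AltMultiplier
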