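import Mathlib

/-! A double cover of the alternating group from anticommuting signed shifts. -/

set_option autoImplicit false

open scoped commutatorElement

namespace CfsgLib.Char.Exceptional.SpinCover

variable (n : ℕ)

/-- The space the shifts act on. -/
abbrev V : Type := (Fin n → ZMod 2) → ZMod 3

/-- The sign character. -/
def sgn (a : ZMod 2) : ZMod 3 := if a = 0 then 1 else -1

theorem sgn_add : ∀ a b : ZMod 2, sgn (a + b) = sgn a * sgn b := by decide

theorem sgn_one : sgn 1 = -1 := rfl

theorem sgn_zero : sgn 0 = 1 := rfl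

theorem sgn_ne_zero : ∀ a : ZMod 2, sgn a ≠ 0 := by decide

variable {n}

/-- A signed shift: multiply by the character `w` and translate by `v`. -/
def shift (w : (Fin n → ZMod 2) →+ ZMod 2) (v : Fin n → ZMod 2) : Module.End (ZMod 3) (V n) where
  toFun f := fun x => sgn (w x) * f (x + v)
  map_add' f g := funext fun x => mul_add _ _ _
  map_smul' c f := funext fun x => mul_left_comm _ _ _

theorem shift_apply (w : (Fin n → ZMod 2) →+ ZMod 2) (v : Fin n → ZMod 2) (f : V n) (x : Fin n → ZMod 2) :
    shift w v f x = sgn (w x) * f (x + v) := rfl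

theorem shift_mul_comm (w w' : (Fin n → ZMod 2) →+ ZMod 2) (v v' : Fin n → ZMod 2) :
    shift w v * shift w' v' = sgn (w' v + w v') • (shift w' v' * shift w v) := by
  refine LinearMap.ext fun f => funext fun x => ?_
  show sgn (w x) * (sgn (w' (x + v)) * f (x + v + v')) =
    sgn (w' v + w v') * (sgn (w' x) * (sgn (w (x + v')) * f (x + v' + v)))
  rw [map_add, map_add, sgn_add, sgn_add, sgn_add, show x + v + v' = x + v' + v by abel]
  have h : sgn (w v') * sgn (w v') = 1 := by
    rw [← sgn_add, CharTwo.add_self_eq_zero]; rfl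
  linear_combination (-(sgn (w x) * sgn (w' x) * sgn (w' v) * f (x + v' + v))) * h

theorem neg_smul_end (T : Module.End (ZMod 3) (V n)) : (-1 : ZMod 3) • T = -T :=
  LinearMap.ext fun f => funext fun x => neg_one_mul (T f x)

theorem one_smul_end (T : Module.End (ZMod 3) (V n)) : (1 : ZMod 3) • T = T :=
  LinearMap.ext fun f => funext fun x => one_mul (T f x)

/-- The unit vector. -/
def dl (i : Fin n) : Fin n → ZMod 2 := Pi.single i 1

/-- Sum of the coordinates below `i`. -/
def below (i : Fin n) : (Fin n → ZMod 2) →+ ZMod 2 where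
  toFun x := ∑ j ∈ Finset.Iio i, x j
  map_zero' := by simp
  map_add' x y := by simp [Finset.sum_add_distrib]

/-- Sum of the coordinates above `i`. -/
def above (i : Fin n) : (Fin n → ZMod 2) →+ ZMod 2 where
  toFun x := ∑ j ∈ Finset.Ioi i, x j
  map_zero' := by simp
  map_add' x y := by simp [Finset.sum_add_distrib]

/-- Sum of all coordinates. -/
def total : (Fin n → ZMod 2) →+ ZMod 2 where
  toFun x := ∑ j, x j
  map_zero' := by simp
  map_add' x y := by simp [Finset.sum_add_distrib]

theorem below_dl (i k : Fin n) : below i (dl k) = if k < i then 1 else 0 := by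
  show ∑ j ∈ Finset.Iio i, (Pi.single k 1 : Fin n → ZMod 2) j = _
  rw [Finset.sum_pi_single']
  simp

theorem above_dl (i k : Fin n) : above i (dl k) = if i < k then 1 else 0 := by
  show ∑ j ∈ Finset.Ioi i, (Pi.single k 1 : Fin n → ZMod 2) j = _
  rw [Finset.sum_pi_single']
  simp

theorem total_dl (k : Fin n) : total (dl k) = 1 := by
  show ∑ j, (Pi.single k 1 : Fin n → ZMod 2) j = _
  rw [Finset.sum_pi_single']
  simp

/-- The anticommuting shifts. -/
def gam (i : Fin n) : Module.End (ZMod 3) (V n) := shift (below i) (dl i)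

/-- The shifts commuting with all of them. -/
def rho (i : Fin n) : Module.End (ZMod 3) (V n) := shift (above i) (dl i)

/-- The parity operator. -/
def par : Module.End (ZMod 3) (V n) := shift total 0

theorem gam_sq (i : Fin n) : gam i * gam i = 1 := by
  refine LinearMap.ext fun f => funext fun x => ?_
  show sgn (below i x) * (sgn (below i (x + dl i)) * f (x + dl i + dl i)) = f x
  rw [map_add, below_dl, if_neg (lt_irrefl i), add_zero, add_assoc,
    show dl i + dl i = (0 : Fin n → ZMod 2) from funext fun j => CharTwo.add_self_eq_zero _, add_zero,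
    ← mul_assoc, ← sgn_add, CharTwo.add_self_eq_zero]
  exact one_mul _

theorem gam_anti {i j : Fin n} (h : i ≠ j) : gam i * gam j = -(gam j * gam i) := by
  rw [gam, gam, shift_mul_comm, below_dl, below_dl]
  rcases lt_or_gt_of_ne h with h' | h'
  · rw [if_pos h', if_neg h'.asymm, add_zero]
    rw [sgn_one, neg_smul_end]
  · rw [if_neg h'.asymm, if_pos h', zero_add]
    rw [sgn_one, neg_smul_end]

theorem gam_rho (i j : Fin n) : gam i * rho j = rho j * gam i := by
  rw [gam, rho, shift_mul_comm, above_dl, below_dl]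
  by_cases h : j < i
  · rw [if_pos h, show ((1 : ZMod 2) + 1) = 0 from rfl, sgn_zero, one_smul_end]
  · rw [if_neg h, add_zero, sgn_zero, one_smul_end]

theorem gam_par (i : Fin n) : gam i * par (n := n) = -(par * gam i) := by
  rw [gam, par, shift_mul_comm, total_dl, map_zero, add_zero, sgn_one, neg_smul_end]

theorem gam_single (i : Fin n) (y : Fin n → ZMod 2) :
    gam i (Pi.single y 1) = sgn (below i y) • Pi.single (y + dl i) 1 := by
  funext x
  have hself : dl i + dl i = (0 : Fin n → ZMod 2) := funext fun j => CharTwo.add_self_eq_zero _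
  show sgn (below i x) * (Pi.single y 1 : V n) (x + dl i) = sgn (below i y) * (Pi.single (y + dl i) 1 : V n) x
  by_cases hx : x = y + dl i
  · subst hx
    rw [add_assoc, hself, add_zero, Pi.single_eq_same, Pi.single_eq_same, map_add, below_dl,
      if_neg (lt_irrefl i), add_zero]
  · rw [Pi.single_eq_of_ne hx, Pi.single_eq_of_ne, mul_zero, mul_zero]
    intro h
    exact hx (by rw [← h, add_assoc, hself, add_zero])

theorem rho_single_zero (i : Fin n) : rho i (Pi.single 0 1) = Pi.single (dl i) 1 := by
  funext x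
  have hself : dl i + dl i = (0 : Fin n → ZMod 2) := funext fun j => CharTwo.add_self_eq_zero _
  show sgn (above i x) * (Pi.single 0 1 : V n) (x + dl i) = (Pi.single (dl i) 1 : V n) x
  by_cases hx : x = dl i
  · subst hx
    rw [hself, Pi.single_eq_same, Pi.single_eq_same, above_dl, if_neg (lt_irrefl i)]
    exact mul_one _
  · rw [Pi.single_eq_of_ne hx, Pi.single_eq_of_ne, mul_zero]
    intro h
    exact hx (by rw [← add_zero x, ← hself, ← add_assoc, h, zero_add])

theorem gam_injective : Function.Injective (gam (n := n)) := by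
  intro i j h
  have h1 := congrArg (fun T : Module.End (ZMod 3) (V n) => T (Pi.single 0 1) (dl i)) h
  simp only [gam_single, zero_add, map_zero] at h1
  by_contra hne
  have hd : dl i ≠ dl j := fun he => hne (by
    by_contra h'
    have := congrFun he i
    rw [dl, dl, Pi.single_eq_same, Pi.single_eq_of_ne h'] at this
    exact one_ne_zero this)
  rw [Pi.smul_apply, Pi.smul_apply, Pi.single_eq_same, Pi.single_eq_of_ne hd, smul_zero] at h1
  exact smul_ne_zero (sgn_ne_zero 0) one_ne_zero h1

/-- A lift of a permutation. -/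
def IsLift (g : (Module.End (ZMod 3) (V n))ˣ) (σ : Equiv.Perm (Fin n)) : Prop :=
  (∀ k, (g : Module.End (ZMod 3) (V n)) * gam k =
      ((Equiv.Perm.sign σ : ℤ) : ZMod 3) • (gam (σ k) * g)) ∧
    (∀ k, (g : Module.End (ZMod 3) (V n)) * rho k = rho k * (g : Module.End (ZMod 3) (V n))) ∧
    (g : Module.End (ZMod 3) (V n)) * par (n := n) = ((Equiv.Perm.sign σ : ℤ) : ZMod 3) • (par (n := n) * (g : Module.End (ZMod 3) (V n)))

theorem isLift_one : IsLift (1 : (Module.End (ZMod 3) (V n))ˣ) 1 := by
  refine ⟨fun k => ?_, fun k => ?_, ?_⟩ <;> simp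

theorem isLift_neg_one : IsLift (-1 : (Module.End (ZMod 3) (V n))ˣ) 1 := by
  refine ⟨fun k => ?_, fun k => ?_, ?_⟩ <;> simp

theorem IsLift.mul {g h : (Module.End (ZMod 3) (V n))ˣ} {σ τ : Equiv.Perm (Fin n)} (hg : IsLift g σ)
    (hh : IsLift h τ) : IsLift (g * h) (σ * τ) := by
  obtain ⟨g1, g2, g3⟩ := hg
  obtain ⟨h1, h2, h3⟩ := hh
  refine ⟨fun k => ?_, fun k => ?_, ?_⟩ <;> simp only [Units.val_mul, map_mul, Int.cast_mul, Equiv.Perm.mul_apply]
  · rw [mul_assoc, h1 k, mul_smul_comm, ← mul_assoc, g1, smul_mul_assoc, smul_smul, mul_assoc, mul_comm]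
  · rw [mul_assoc, h2 k, ← mul_assoc, g2, mul_assoc]
  · rw [mul_assoc, h3, mul_smul_comm, ← mul_assoc, g3, smul_mul_assoc, smul_smul, mul_assoc, mul_comm]

theorem IsLift.inv {g : (Module.End (ZMod 3) (V n))ˣ} {σ : Equiv.Perm (Fin n)} (hg : IsLift g σ) :
    IsLift g⁻¹ σ⁻¹ := by
  obtain ⟨g1, g2, g3⟩ := hg
  have hs : ((Equiv.Perm.sign σ : ℤ) : ZMod 3) * ((Equiv.Perm.sign σ : ℤ) : ZMod 3) = 1 := by
    rcases Int.units_eq_one_or (Equiv.Perm.sign σ) with h | h <;> simp [h]
  refine ⟨fun k => ?_, fun k => ?_, ?_⟩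
  · rw [Equiv.Perm.sign_inv]
    have h := g1 (σ⁻¹ k)
    rw [show σ (σ⁻¹ k) = k from σ.apply_symm_apply k] at h
    rw [← g.mul_right_inj, g.mul_inv_cancel_left, mul_smul_comm, ← mul_assoc, h, smul_mul_assoc,
      smul_smul, hs, one_smul, g.mul_inv_cancel_right]
  · rw [← g.mul_right_inj, g.mul_inv_cancel_left, ← mul_assoc, g2, g.mul_inv_cancel_right]
  · rw [Equiv.Perm.sign_inv, ← g.mul_right_inj, g.mul_inv_cancel_left, mul_smul_comm, ← mul_assoc, g3,
      smul_mul_assoc, smul_smul, hs, one_smul, g.mul_inv_cancel_right]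

/-- The difference of two shifts, a lift of their transposition. -/
def uu (i j : Fin n) : Module.End (ZMod 3) (V n) := gam i - gam j

theorem uu_sq {i j : Fin n} (h : i ≠ j) : uu i j * uu i j = -1 := by
  have h2 : (2 : ℤ) • (1 : Module.End (ZMod 3) (V n)) = -1 := by
    refine LinearMap.ext fun f => funext fun x => ?_
    show (2 : ℤ) • f x = -f x
    rw [zsmul_eq_mul, ← neg_one_mul (f x)]
    rfl
  rw [← h2, uu, mul_sub, sub_mul, sub_mul, gam_sq, gam_sq, gam_anti h]
  abel

/-- The unit. -/
def uuUnit {i j : Fin n} (h : i ≠ j) : (Module.End (ZMod 3) (V n))ˣ :=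
  ⟨uu i j, -uu i j,
    (LinearMap.ext fun f => map_neg (uu i j) (uu i j f)).trans
      ((congrArg (fun T => -T) (uu_sq h)).trans (LinearMap.ext fun f => neg_neg f)),
    (congrArg (fun T => -T) (uu_sq h)).trans (LinearMap.ext fun f => neg_neg f)⟩

theorem isLift_uu {i j : Fin n} (h : i ≠ j) : IsLift (uuUnit h) (Equiv.swap i j) := by
  refine ⟨fun k => ?_, fun k => ?_, ?_⟩
  · rw [Equiv.Perm.sign_swap h]
    show uu i j * gam k = ((-1 : ℤ) : ZMod 3) • (gam (Equiv.swap i j k) * uu i j)
    rw [Int.cast_neg, Int.cast_one, neg_smul_end, uu, sub_mul, mul_sub]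
    by_cases hi : k = i
    · subst hi
      rw [Equiv.swap_apply_left, gam_sq, gam_sq]
      abel
    by_cases hj : k = j
    · subst hj
      rw [Equiv.swap_apply_right, gam_sq, gam_sq]
      abel
    rw [Equiv.swap_apply_of_ne_of_ne hi hj, gam_anti (Ne.symm hi), gam_anti (Ne.symm hj)]
    abel
  · show uu i j * rho k = rho k * uu i j
    rw [uu, sub_mul, mul_sub, gam_rho, gam_rho]
  · rw [Equiv.Perm.sign_swap h]
    show uu i j * par = ((-1 : ℤ) : ZMod 3) • (par * uu i j)
    rw [Int.cast_neg, Int.cast_one, neg_smul_end, uu, sub_mul, mul_sub, gam_par, gam_par]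
    abel

theorem exists_lift (σ : Equiv.Perm (Fin n)) : ∃ g, IsLift g σ := by
  refine Equiv.Perm.swap_induction_on σ ⟨1, isLift_one⟩ fun f i j hij ih => ?_
  obtain ⟨g, hg⟩ := ih
  exact ⟨uuUnit hij * g, (isLift_uu hij).mul hg⟩

theorem lift_kernel {g : (Module.End (ZMod 3) (V n))ˣ} (hg : IsLift g 1) : g = 1 ∨ g = -1 := by
  obtain ⟨g1, g2, g3⟩ := hg
  simp only [map_one, Units.val_one, Int.cast_one, one_smul, Equiv.Perm.coe_one, id_eq] at g1 g3
  set T : Module.End (ZMod 3) (V n) := (g : Module.End (ZMod 3) (V n))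
  set v : V n := T (Pi.single 0 1) with hv
  have hsupp : ∀ y, v y ≠ 0 → y = 0 := by
    intro y hy
    have hpar : total y = 0 := by
      have h := congrFun (LinearMap.congr_fun g3 (Pi.single 0 1)) y
      have hp : par (Pi.single 0 1 : V n) = Pi.single 0 1 := by
        funext x
        show sgn (total x) * (Pi.single 0 1 : V n) (x + 0) = _
        rw [add_zero]
        by_cases hx : x = 0
        · subst hx; rw [map_zero]; exact one_mul _
        · rw [Pi.single_eq_of_ne hx, mul_zero]
      simp only [Module.End.mul_apply] at h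
      rw [hp, ← hv] at h
      change v y = sgn (total y) * v (y + 0) at h
      rw [add_zero] at h
      by_contra hne
      rw [sgn, if_neg hne, neg_one_mul] at h
      have h2 : (2 : ZMod 3) * v y = 0 := by linear_combination h
      exact hy ((mul_eq_zero.1 h2).resolve_left (by decide))
    have hi : ∀ i, y i = 0 := by
      intro i
      have h1 := LinearMap.congr_fun (g1 i) (Pi.single 0 1)
      have h2 := LinearMap.congr_fun (g2 i) (Pi.single 0 1)
      simp only [Module.End.mul_apply, gam_single, zero_add, map_zero, sgn, if_true, one_smul,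
        rho_single_zero, ← hv] at h1 h2
      have h := congrFun (h1.symm.trans h2) (y + dl i)
      change sgn (below i (y + dl i)) * v (y + dl i + dl i) = sgn (above i (y + dl i)) * v (y + dl i + dl i) at h
      rw [add_assoc, show dl i + dl i = (0 : Fin n → ZMod 2) from funext fun j => CharTwo.add_self_eq_zero _,
        add_zero, map_add, map_add, below_dl, above_dl, if_neg (lt_irrefl i), add_zero, add_zero] at h
      have hs : sgn (below i y) = sgn (above i y) := mul_right_cancel₀ hy h
      have hinj : ∀ a b : ZMod 2, sgn a = sgn b → a = b := by decide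
      have hba := hinj _ _ hs
      have hsplit : total y = below i y + y i + above i y := by
        show ∑ j, y j = (∑ j ∈ Finset.Iio i, y j) + y i + ∑ j ∈ Finset.Ioi i, y j
        rw [← Finset.add_sum_erase _ _ (Finset.mem_univ i), add_comm _ (y i), add_assoc]
        congr 1
        rw [← Finset.sum_union (Finset.disjoint_left.2 fun a ha ha' =>
          lt_asymm (Finset.mem_Iio.1 ha) (Finset.mem_Ioi.1 ha'))]
        refine Finset.sum_congr ?_ fun _ _ => rfl
        ext a
        simp [lt_or_lt_iff_ne]
      rw [hpar, hba] at hsplit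
      linear_combination (norm := ring_nf) -hsplit
      rw [show (2 : ZMod 2) = 0 from rfl]
      ring
    exact funext hi
  have hbasis : ∀ y, T (Pi.single y 1) = v 0 • Pi.single y 1 := by
    suffices H : ∀ (k : ℕ) (y : Fin n → ZMod 2), (Finset.univ.filter fun i => y i ≠ 0).card = k →
        T (Pi.single y 1) = v 0 • Pi.single y 1 from fun y => H _ y rfl
    intro k
    induction k with
    | zero =>
      intro y hy
      have hy0 : y = 0 := funext fun i => by
        by_contra h
        exact (Finset.card_pos.2 ⟨i, Finset.mem_filter.2 ⟨Finset.mem_univ _, h⟩⟩).ne' hy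
      subst hy0
      funext x
      show v x = v 0 * (Pi.single 0 1 : V n) x
      by_cases hx : x = 0
      · subst hx; rw [Pi.single_eq_same, mul_one]
      · rw [Pi.single_eq_of_ne hx, mul_zero]
        by_contra h
        exact hx (hsupp x h)
    | succ k ih =>
      intro y hy
      obtain ⟨i, hi⟩ := Finset.card_pos.1 (by omega : 0 < (Finset.univ.filter fun i => y i ≠ 0).card)
      have hyi : y i = 1 := by
        have hne := (Finset.mem_filter.1 hi).2
        have h01 : ∀ a : ZMod 2, a ≠ 0 → a = 1 := by decide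
        exact h01 _ hne
      have hcard : (Finset.univ.filter fun j => (y + dl i) j ≠ 0).card = k := by
        have he : (Finset.univ.filter fun j => (y + dl i) j ≠ 0) =
            (Finset.univ.filter fun j => y j ≠ 0).erase i := by
          have hval : ∀ j, (y + dl i) j = if j = i then 0 else y j := fun j => by
            show y j + (Pi.single i 1 : Fin n → ZMod 2) j = _
            rcases eq_or_ne j i with hj | hj
            · subst hj
              rw [Pi.single_eq_same, hyi, if_pos rfl]; rfl
            · rw [Pi.single_eq_of_ne hj, if_neg hj, add_zero]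
          ext j
          rw [Finset.mem_erase, Finset.mem_filter, Finset.mem_filter, hval j]
          rcases eq_or_ne j i with hj | hj
          · subst hj
            simp
          · simp [hj]
        rw [he, Finset.card_erase_of_mem hi, hy]
        omega
      have hself : dl i + dl i = (0 : Fin n → ZMod 2) := funext fun j => CharTwo.add_self_eq_zero _
      have h := LinearMap.congr_fun (g1 i) (Pi.single (y + dl i) 1)
      rw [Module.End.mul_apply, Module.End.mul_apply, ih _ hcard, map_smul, gam_single, add_assoc, hself,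
        add_zero, map_smul, smul_comm (v 0)] at h
      exact smul_right_injective (V n) (sgn_ne_zero _) h
  have hT : T = v 0 • 1 := by
    refine LinearMap.ext fun f => ?_
    conv_lhs => rw [← Finset.univ_sum_single f]
    conv_rhs => rw [← Finset.univ_sum_single f]
    rw [map_sum, map_sum]
    refine Finset.sum_congr rfl fun y _ => ?_
    rw [show (Pi.single y (f y) : V n) = f y • Pi.single y 1 from by
      rw [← Pi.single_smul, smul_eq_mul, mul_one], map_smul, map_smul, hbasis]
    rfl
  have hne : v 0 ≠ 0 := fun h => g.isUnit.ne_zero (by rw [show (g : Module.End (ZMod 3) (V n)) = T from rfl, hT, h, zero_smul])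
  have h3 : ∀ a : ZMod 3, a ≠ 0 → a = 1 ∨ a = -1 := by decide
  rcases h3 _ hne with h | h
  · exact Or.inl (Units.ext (hT.trans (by rw [h, one_smul]; rfl)))
  · exact Or.inr (Units.ext (hT.trans (by rw [h, neg_smul_end]; rfl)))

theorem lift_unique {g : (Module.End (ZMod 3) (V n))ˣ} {σ τ : Equiv.Perm (Fin n)} (h1 : IsLift g σ)
    (h2 : IsLift g τ) (hs : Equiv.Perm.sign σ = Equiv.Perm.sign τ) : σ = τ := by
  refine Equiv.ext fun k => gam_injective ?_
  have h := (h1.1 k).symm.trans (h2.1 k)
  rw [hs] at h
  have hne : ((Equiv.Perm.sign τ : ℤ) : ZMod 3) ≠ 0 := by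
    rcases Int.units_eq_one_or (Equiv.Perm.sign τ) with h' | h' <;> simp [h'] <;> decide
  exact g.mul_left_inj.1 (smul_right_injective _ hne h)

variable (n)

/-- The cover. -/
def cover : Subgroup (alternatingGroup (Fin n) × (Module.End (ZMod 3) (V n))ˣ) where
  carrier := {p | IsLift p.2 (p.1 : Equiv.Perm (Fin n))}
  one_mem' := isLift_one
  mul_mem' := fun ha hb => ha.mul hb
  inv_mem' := fun ha => ha.inv

variable {n}

theorem exists_double_cover (hn : 4 ≤ n) : ∃ (Γ : Type) (_ : Group Γ) (_ : Finite Γ) (z : Γ)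
    (_ : z ∈ Subgroup.center Γ), orderOf z = 2 ∧ z ∈ commutator Γ ∧
      ∃ _ : (Subgroup.zpowers z).Normal, Nonempty (Γ ⧸ Subgroup.zpowers z ≃* alternatingGroup (Fin n)) := by
  have : Finite (Module.End (ZMod 3) (V n)) := Finite.of_injective (fun T => (T : V n → V n)) DFunLike.coe_injective
  let z : cover n := ⟨(1, -1), isLift_neg_one⟩
  have hz1 : z ≠ 1 := by
    intro h
    have h' := congrArg (fun p : cover n => ((p.1.2 : Module.End (ZMod 3) (V n)) (Pi.single 0 1)) 0) h
    have h01 : ((-1 : ZMod 3)) ≠ 1 := by decide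
    refine h01 ?_
    simpa [z, Pi.single_eq_same] using h'
  have hzc : z ∈ Subgroup.center (cover n) := by
    rw [Subgroup.mem_center_iff]
    rintro ⟨⟨a, b⟩, hab⟩
    refine Subtype.ext (Prod.ext ?_ ?_)
    · exact (mul_one a).trans (one_mul a).symm
    · exact Units.ext (LinearMap.ext fun f => map_neg (b : Module.End (ZMod 3) (V n)) f)
  have hz2 : orderOf z = 2 := orderOf_eq_prime (Subtype.ext (Prod.ext (one_pow 2) (by
    show (-1 : (Module.End (ZMod 3) (V n))ˣ) ^ 2 = 1
    rw [pow_two]
    exact Units.ext (LinearMap.ext fun f => neg_neg f)))) hz1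
  let π : cover n →* alternatingGroup (Fin n) := (MonoidHom.fst _ _).comp (cover n).subtype
  have hsurj : Function.Surjective π := fun σ => by
    obtain ⟨g, hg⟩ := exists_lift (σ : Equiv.Perm (Fin n))
    exact ⟨⟨(σ, g), hg⟩, rfl⟩
  have hker : Subgroup.zpowers z = π.ker := by
    refine le_antisymm (Subgroup.zpowers_le.2 rfl) ?_
    rintro ⟨⟨a, b⟩, hab⟩ hx
    obtain rfl : a = 1 := hx
    rcases lift_kernel hab with rfl | rfl
    · exact one_mem _
    · exact Subgroup.mem_zpowers z
  -- two lifts of commuting permutations that anticommute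
  let fa : Fin n := ⟨0, by omega⟩
  let fb : Fin n := ⟨1, by omega⟩
  let fc : Fin n := ⟨2, by omega⟩
  let fd : Fin n := ⟨3, by omega⟩
  have hab : fa ≠ fb := by simp [fa, fb, fc, fd, Fin.ext_iff]
  have hac : fa ≠ fc := by simp [fa, fb, fc, fd, Fin.ext_iff]
  have had : fa ≠ fd := by simp [fa, fb, fc, fd, Fin.ext_iff]
  have hbc : fb ≠ fc := by simp [fa, fb, fc, fd, Fin.ext_iff]
  have hbd : fb ≠ fd := by simp [fa, fb, fc, fd, Fin.ext_iff]
  have hcd : fc ≠ fd := by simp [fa, fb, fc, fd, Fin.ext_iff]
  have hmem : ∀ {i j k l : Fin n}, i ≠ j → k ≠ l →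
      Equiv.swap i j * Equiv.swap k l ∈ alternatingGroup (Fin n) := fun h h' => by
    rw [Equiv.Perm.mem_alternatingGroup, map_mul, Equiv.Perm.sign_swap h, Equiv.Perm.sign_swap h']
    rfl
  let x : cover n := ⟨(⟨_, hmem hab hcd⟩, uuUnit hab * uuUnit hcd), (isLift_uu hab).mul (isLift_uu hcd)⟩
  let y : cover n := ⟨(⟨_, hmem hac hbd⟩, uuUnit hac * uuUnit hbd), (isLift_uu hac).mul (isLift_uu hbd)⟩
  have hxy : x * y = z * (y * x) := by
    refine Subtype.ext (Prod.ext (Subtype.ext (Equiv.ext fun k => ?_)) (Units.ext ?_))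
    · show (Equiv.swap fa fb * Equiv.swap fc fd * (Equiv.swap fa fc * Equiv.swap fb fd)) k =
        ((1 : Equiv.Perm (Fin n)) * (Equiv.swap fa fc * Equiv.swap fb fd * (Equiv.swap fa fb * Equiv.swap fc fd))) k
      simp only [one_mul, Equiv.Perm.mul_apply]
      rcases eq_or_ne k fa with rfl | ha
      · simp [Equiv.swap_apply_of_ne_of_ne, hab, hac, had, hbc, hbd, hcd, hab.symm, hac.symm, had.symm, hbc.symm, hbd.symm, hcd.symm]
      rcases eq_or_ne k fb with rfl | hb
      · simp [Equiv.swap_apply_of_ne_of_ne, hab, hac, had, hbc, hbd, hcd, hab.symm, hac.symm, had.symm, hbc.symm, hbd.symm, hcd.symm]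
      rcases eq_or_ne k fc with rfl | hc
      · simp [Equiv.swap_apply_of_ne_of_ne, hab, hac, had, hbc, hbd, hcd, hab.symm, hac.symm, had.symm, hbc.symm, hbd.symm, hcd.symm]
      rcases eq_or_ne k fd with rfl | hd
      · simp [Equiv.swap_apply_of_ne_of_ne, hab, hac, had, hbc, hbd, hcd, hab.symm, hac.symm, had.symm, hbc.symm, hbd.symm, hcd.symm]
      simp [Equiv.swap_apply_of_ne_of_ne, ha, hb, hc, hd]
    · show uu fa fb * uu fc fd * (uu fa fc * uu fb fd) =
        -1 * (uu fa fc * uu fb fd * (uu fa fb * uu fc fd))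
      have hx : ∀ k, uu fa fb * uu fc fd * gam k =
          gam ((Equiv.swap fa fb * Equiv.swap fc fd) k) * (uu fa fb * uu fc fd) := by
        intro k
        have h := ((isLift_uu hab).mul (isLift_uu hcd)).1 k
        rw [map_mul, Equiv.Perm.sign_swap hab, Equiv.Perm.sign_swap hcd] at h
        simpa [uuUnit] using h
      have hu : ∀ i j, uu fa fb * uu fc fd * uu i j = uu ((Equiv.swap fa fb * Equiv.swap fc fd) i)
          ((Equiv.swap fa fb * Equiv.swap fc fd) j) * (uu fa fb * uu fc fd) := fun i j => by
        rw [show uu i j = gam i - gam j from rfl, mul_sub, hx, hx, ← sub_mul]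
        rfl
      have e1 : (Equiv.swap fa fb * Equiv.swap fc fd) fa = fb := by
        rw [Equiv.Perm.mul_apply, Equiv.swap_apply_of_ne_of_ne hac had, Equiv.swap_apply_left]
      have e2 : (Equiv.swap fa fb * Equiv.swap fc fd) fb = fa := by
        rw [Equiv.Perm.mul_apply, Equiv.swap_apply_of_ne_of_ne hbc hbd, Equiv.swap_apply_right]
      have e3 : (Equiv.swap fa fb * Equiv.swap fc fd) fc = fd := by
        rw [Equiv.Perm.mul_apply, Equiv.swap_apply_left, Equiv.swap_apply_of_ne_of_ne had.symm hbd.symm]
      have e4 : (Equiv.swap fa fb * Equiv.swap fc fd) fd = fc := by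
        rw [Equiv.Perm.mul_apply, Equiv.swap_apply_right, Equiv.swap_apply_of_ne_of_ne hac.symm hbc.symm]
      rw [← mul_assoc (uu fa fb * uu fc fd), hu, e1, e3, mul_assoc (uu fb fd) _ (uu fb fd), hu, e2, e4,
        ← mul_assoc]
      have hanti : uu fb fd * uu fa fc = -(uu fa fc * uu fb fd) := by
        simp only [uu, sub_mul, mul_sub, gam_anti hab.symm, gam_anti hbc, gam_anti had.symm, gam_anti hcd.symm]
        abel
      rw [hanti]
      refine LinearMap.ext fun f => ?_
      rfl
  refine ⟨cover n, inferInstance, inferInstance, z, hzc, hz2, ?_, ?_⟩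
  · have hzeq : z = ⁅x, y⁆ := by
      rw [commutatorElement_def, hxy]
      group
    rw [hzeq, _root_.commutator_def]
    exact Subgroup.commutator_mem_commutator (Subgroup.mem_top x) (Subgroup.mem_top y)
  · haveI hn' : (Subgroup.zpowers z).Normal := hker ▸ inferInstance
    exact ⟨hn', ⟨(QuotientGroup.quotientMulEquivOfEq hker).trans
      (QuotientGroup.quotientKerEquivOfSurjective π hsurj)⟩⟩

end CfsgLib.Char.Exceptional.SpinCover
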