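import Mathlib
import Cfsg.Prelude.Def_LieExceptional

/-! Elementary structure of a Zassenhaus group: two-point stabilisers and the point kernel. -/

set_option autoImplicit false

open Cfsg

namespace CfsgLib.Char.Exceptional

variable {G Ω : Type*} [Group G] [MulAction G Ω]

theorem zass_pre (hZ : IsZassenhausGroup G Ω) {x y x' y' : Ω} (h : x ≠ y) (h' : x' ≠ y') :
    ∃ g : G, g • x = x' ∧ g • y = y' :=
  MulAction.is_two_pretransitive_iff.1 hZ.2.1 h h'

theorem zass_trans (hZ : IsZassenhausGroup G Ω) : MulAction.IsPretransitive G Ω := by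
  haveI := hZ.2.1
  exact MulAction.isPretransitive_of_is_two_pretransitive

theorem zass_fix_two (hZ : IsZassenhausGroup G Ω) {u : G} (hu : u ≠ 1) {a b c : Ω} (hab : a ≠ b)
    (ha : u • a = a) (hb : u • b = b) (hc : u • c = c) : c = a ∨ c = b := by
  by_contra h
  push Not at h
  exact hu (hZ.2.2.1 u a b c hab (Ne.symm h.2) (Ne.symm h.1) ha hb hc)

theorem zass_two_stab_ne_bot (hZ : IsZassenhausGroup G Ω) {a b : Ω} (hab : a ≠ b) :
    ∃ x : G, x ≠ 1 ∧ x • a = a ∧ x • b = b := by
  obtain ⟨g0, hg0, a0, b0, hab0, ha0, hb0⟩ := hZ.2.2.2.1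
  obtain ⟨k, hka, hkb⟩ := zass_pre hZ hab0 hab
  refine ⟨k * g0 * k⁻¹, fun h => hg0 (conj_eq_one_iff.1 h), ?_, ?_⟩
  · rw [← hka, mul_smul, mul_smul, inv_smul_smul, ha0]
  · rw [← hkb, mul_smul, mul_smul, inv_smul_smul, hb0]

theorem zass_three_le (hZ : IsZassenhausGroup G Ω) [Fintype Ω] : 3 ≤ Fintype.card Ω := by
  classical
  obtain ⟨g0, hg0, a0, b0, hab0, ha0, hb0⟩ := hZ.2.2.2.1
  haveI := hZ.1
  obtain ⟨c, hc⟩ : ∃ c : Ω, g0 • c ≠ c := by
    by_contra h
    push Not at h
    exact hg0 (FaithfulSMul.eq_of_smul_eq_smul (α := Ω) fun c => by rw [h c, one_smul])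
  have : ({a0, b0, c} : Finset Ω).card = 3 := by
    rw [Finset.card_insert_of_notMem, Finset.card_pair]
    · intro h; exact hc (h ▸ hb0)
    · simp only [Finset.mem_insert, Finset.mem_singleton, not_or]
      exact ⟨hab0, fun h => hc (h ▸ ha0)⟩
  exact this ▸ Finset.card_le_univ _

/-- All two-point stabilisers are conjugate, so have the same order. -/
theorem zass_card_two_stab (hZ : IsZassenhausGroup G Ω) {a b a' b' : Ω} (h : a ≠ b) (h' : a' ≠ b') :
    Nat.card ↥(MulAction.stabilizer G a ⊓ MulAction.stabilizer G b : Subgroup G) =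
      Nat.card ↥(MulAction.stabilizer G a' ⊓ MulAction.stabilizer G b' : Subgroup G) := by
  obtain ⟨k, rfl, rfl⟩ := zass_pre hZ h h'
  rw [MulAction.stabilizer_smul_eq_stabilizer_map_conj, MulAction.stabilizer_smul_eq_stabilizer_map_conj,
    ← Subgroup.map_inf _ _ _ (MulAut.conj k).injective]
  exact Nat.card_congr (Subgroup.equivMapOfInjective _ _ (MulAut.conj k).injective).toEquiv

/-- The order of a point stabiliser is `(|Ω| - 1)` times that of a two-point stabiliser. -/
theorem zass_card_stab [Finite G] [Fintype Ω] (hZ : IsZassenhausGroup G Ω) {a b : Ω} (hab : a ≠ b) :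
    Nat.card ↥(MulAction.stabilizer G a) =
      (Fintype.card Ω - 1) * Nat.card ↥(MulAction.stabilizer G a ⊓ MulAction.stabilizer G b : Subgroup G) := by
  classical
  have horb : MulAction.orbit (MulAction.stabilizer G a) b = {c : Ω | c ≠ a} := by
    ext c
    refine ⟨?_, fun hc => ?_⟩
    · rintro ⟨g, rfl⟩ h
      have hg : (g : G) • a = a := g.2
      refine hab ?_
      have h' : (g : G) • b = (g : G) • a := by rw [hg]; exact h
      exact (MulAction.injective (g : G) h').symm
    · obtain ⟨g, hga, hgb⟩ := zass_pre hZ hab (Ne.symm hc : a ≠ c)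
      exact ⟨⟨g, hga⟩, hgb⟩
  have h := Nat.card_congr (MulAction.orbitProdStabilizerEquivGroup (MulAction.stabilizer G a) b)
  rw [Nat.card_prod] at h
  rw [← h, horb]
  congr 1
  · rw [Nat.card_eq_fintype_card, Fintype.card_ofFinset]
    rw [Finset.filter_congr (q := fun c => c ≠ a) (by simp), Finset.filter_ne' _ a,
      Finset.card_erase_of_mem (Finset.mem_univ a), Finset.card_univ]
  · exact Nat.card_congr
      { toFun := fun x => ⟨((x : MulAction.stabilizer G a) : G), (x : MulAction.stabilizer G a).2, x.2⟩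
        invFun := fun x => ⟨⟨(x : G), x.2.1⟩, x.2.2⟩
        left_inv := fun _ => rfl
        right_inv := fun _ => rfl }

/-- The point kernel consists of `1` and all elements fixing exactly one point, namely `a`. -/
theorem zass_mem_kernel [Finite G] [Fintype Ω] (hZ : IsZassenhausGroup G Ω) {a : Ω} {H : Subgroup G}
    (hHa : H ≤ MulAction.stabilizer G a) (hHcard : Nat.card H + 1 = Fintype.card Ω)
    (hHfix : ∀ u ∈ H, u ≠ 1 → ∀ c : Ω, u • c = c → c = a) {g : G} (hg : g • a = a)
    (hfix : ∀ c : Ω, g • c = c → c = a) : g ∈ H := by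
  classical
  haveI := Fintype.ofFinite G
  let S : Finset G := Finset.univ.filter fun u => u ∈ MulAction.stabilizer G a ∧ u ≠ 1
  let T : Finset G := S.filter fun u => ∀ c : Ω, u • c = c → c = a
  let B : Ω → Finset G := fun c =>
    Finset.univ.filter fun u => u ∈ (MulAction.stabilizer G a ⊓ MulAction.stabilizer G c) ∧ u ≠ 1
  have hsplit : S = T ∪ (Finset.univ.erase a).biUnion B := by
    ext u
    simp only [S, T, B, Finset.mem_union, Finset.mem_filter, Finset.mem_univ, true_and,
      Finset.mem_biUnion, Finset.mem_erase, Subgroup.mem_inf, MulAction.mem_stabilizer_iff, and_true]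
    constructor
    · intro h
      by_cases h' : ∀ c : Ω, u • c = c → c = a
      · exact Or.inl ⟨h, h'⟩
      · push Not at h'
        obtain ⟨c, hc, hca⟩ := h'
        exact Or.inr ⟨c, hca, ⟨h.1, hc⟩, h.2⟩
    · rintro (⟨h, -⟩ | ⟨c, -, ⟨h1, -⟩, h2⟩)
      exacts [h, ⟨h1, h2⟩]
  have hdisj : ((Finset.univ.erase a : Finset Ω) : Set Ω).PairwiseDisjoint B := by
    intro c hc d hd hcd
    refine Finset.disjoint_left.2 fun u hu hu' => ?_
    simp only [B, Finset.mem_filter, Finset.mem_univ, true_and, Subgroup.mem_inf,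
      MulAction.mem_stabilizer_iff] at hu hu'
    have hc' : c ≠ a := (Finset.mem_erase.1 hc).1
    rcases zass_fix_two hZ hu.2 (Ne.symm hc') hu.1.1 hu.1.2 hu'.1.2 with h | h
    · exact (Finset.mem_erase.1 hd).1 h
    · exact hcd h.symm
  have hdisj' : Disjoint T ((Finset.univ.erase a).biUnion B) := by
    refine Finset.disjoint_left.2 fun u hu hu' => ?_
    simp only [T, B, Finset.mem_filter, Finset.mem_biUnion, Finset.mem_erase, Finset.mem_univ,
      true_and, and_true, Subgroup.mem_inf, MulAction.mem_stabilizer_iff] at hu hu'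
    obtain ⟨c, hca, ⟨-, hc⟩, -⟩ := hu'
    exact hca (hu.2 c hc)
  haveI : Nontrivial Ω := Fintype.one_lt_card_iff_nontrivial.1 (by have := zass_three_le hZ; omega)
  obtain ⟨b0, hb0⟩ := exists_ne a
  set e := Nat.card ↥(MulAction.stabilizer G a ⊓ MulAction.stabilizer G b0 : Subgroup G) with he
  have hBcard : ∀ c ∈ Finset.univ.erase a, (B c).card = e - 1 := by
    intro c hc
    have h1 : (B c) = (Finset.univ.filter fun u => u ∈ (MulAction.stabilizer G a ⊓ MulAction.stabilizer G c)).erase 1 := by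
      ext u; simp [B, and_comm]
    rw [h1, Finset.card_erase_of_mem (by simp), he,
      zass_card_two_stab hZ (Ne.symm hb0) (Ne.symm (Finset.mem_erase.1 hc).1)]
    congr 1
    rw [Nat.card_eq_fintype_card, Fintype.card_subtype]
  have hScard : S.card = (Fintype.card Ω - 1) * e - 1 := by
    have h1 : S = (Finset.univ.filter fun u => u ∈ MulAction.stabilizer G a).erase 1 := by
      ext u; simp [S, and_comm]
    rw [h1, Finset.card_erase_of_mem (by simp), he, ← zass_card_stab hZ (Ne.symm hb0),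
      Nat.card_eq_fintype_card, Fintype.card_subtype]
  have hTcard : T.card + (Fintype.card Ω - 1) * (e - 1) = (Fintype.card Ω - 1) * e - 1 := by
    rw [← hScard, hsplit, Finset.card_union_of_disjoint hdisj', Finset.card_biUnion hdisj,
      Finset.sum_congr rfl hBcard, Finset.sum_const, Finset.card_erase_of_mem (Finset.mem_univ a),
      Finset.card_univ, smul_eq_mul]
  let K : Finset G := (Finset.univ.filter fun u => u ∈ H).erase 1
  have hK : K.card + 1 = Nat.card H := by
    rw [Finset.card_erase_add_one (by simp), Nat.card_eq_fintype_card, Fintype.card_subtype]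
  have hKT : K ⊆ T := by
    intro u hu
    simp only [K, Finset.mem_erase, Finset.mem_filter, Finset.mem_univ, true_and] at hu
    simp only [T, S, Finset.mem_filter, Finset.mem_univ, true_and]
    exact ⟨⟨hHa hu.2, hu.1⟩, hHfix u hu.2 hu.1⟩
  have hepos : 1 ≤ e := Nat.card_pos
  have hTK : T ⊆ K := by
    refine (Finset.eq_of_subset_of_card_le hKT ?_).symm.subset
    have : (Fintype.card Ω - 1) * (e - 1) + (Fintype.card Ω - 1) = (Fintype.card Ω - 1) * e := by
      rw [← Nat.mul_succ]; congr 1; omega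
    omega
  by_cases h1 : g = 1
  · exact h1 ▸ H.one_mem
  have : g ∈ T := by
    simp only [T, S, Finset.mem_filter, Finset.mem_univ, true_and]
    exact ⟨⟨hg, h1⟩, hfix⟩
  exact (Finset.mem_filter.1 (Finset.mem_erase.1 (hTK this)).2).2

theorem zass_kernel_ti (hZ : IsZassenhausGroup G Ω) {a : Ω} {H : Subgroup G}
    (hHa : H ≤ MulAction.stabilizer G a)
    (hHfix : ∀ u ∈ H, u ≠ 1 → ∀ c : Ω, u • c = c → c = a) {g u : G}
    (hg : g ∉ MulAction.stabilizer G a) (hu : u ∈ H) (hgu : g * u * g⁻¹ ∈ H) : u = 1 := by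
  by_contra hu1
  have hne : g * u * g⁻¹ ≠ 1 := fun h => hu1 (conj_eq_one_iff.1 h)
  apply hg
  refine MulAction.mem_stabilizer_iff.2 (hHfix _ hgu hne (g • a) ?_)
  rw [mul_smul, mul_smul, inv_smul_smul, (hHa hu : u • a = a)]

theorem zass_kernel_normalizer [Finite G] [Fintype Ω] (hZ : IsZassenhausGroup G Ω) {a : Ω}
    {H : Subgroup G} (hHa : H ≤ MulAction.stabilizer G a) (hHcard : Nat.card H + 1 = Fintype.card Ω)
    (hHfix : ∀ u ∈ H, u ≠ 1 → ∀ c : Ω, u • c = c → c = a) :
    Subgroup.normalizer (H : Set G) = MulAction.stabilizer G a := by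
  have hne : ∃ u ∈ H, u ≠ 1 := by
    refine H.ne_bot_iff_exists_ne_one.1 ?_ |> fun ⟨u, hu⟩ => ⟨u, u.2, fun h => hu (Subtype.ext h)⟩
    rintro rfl
    have := zass_three_le hZ
    simp at hHcard; omega
  have key : ∀ g : G, g • a = a → ∀ u ∈ H, g * u * g⁻¹ ∈ H := by
    intro g hg u hu
    by_cases hu1 : u = 1
    · simp [hu1]
    have hg' : g⁻¹ • a = a := inv_smul_eq_iff.2 hg.symm
    refine zass_mem_kernel hZ hHa hHcard hHfix ?_ ?_
    · rw [mul_smul, mul_smul, hg', (hHa hu : u • a = a), hg]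
    · intro c hc
      rw [mul_smul, mul_smul, smul_eq_iff_eq_inv_smul] at hc
      have := hHfix u hu hu1 _ hc
      rw [inv_smul_eq_iff] at this
      rw [this, hg]
  refine le_antisymm ?_ ?_
  · intro g hg
    by_contra hga
    obtain ⟨u, hu, hu1⟩ := hne
    exact hu1 (zass_kernel_ti hZ hHa hHfix hga hu ((Subgroup.mem_set_normalizer_iff.1 hg u).1 hu))
  · intro g hg
    refine Subgroup.mem_set_normalizer_iff.2 fun u => ⟨fun hu => key g hg u hu, fun hu => ?_⟩
    have := key g⁻¹ (inv_smul_eq_iff.2 (Eq.symm hg)) _ hu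
    simpa [mul_assoc] using this

theorem zass_pair_smul (hZ : IsZassenhausGroup G Ω) {a b : Ω} (hab : a ≠ b) {g x : G} (hx : x ≠ 1)
    (hxa : x • a = a) (hxb : x • b = b) (ha' : (g * x * g⁻¹) • a = a) (hb' : (g * x * g⁻¹) • b = b) :
    (g • a = a ∧ g • b = b) ∨ (g • a = b ∧ g • b = a) := by
  have hne : g * x * g⁻¹ ≠ 1 := fun h => hx (conj_eq_one_iff.1 h)
  have h1 : (g * x * g⁻¹) • (g • a) = g • a := by rw [mul_smul, mul_smul, inv_smul_smul, hxa]
  have h2 : (g * x * g⁻¹) • (g • b) = g • b := by rw [mul_smul, mul_smul, inv_smul_smul, hxb]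
  have hgab : g • a ≠ g • b := (MulAction.injective g).ne hab
  rcases zass_fix_two hZ hne hab ha' hb' h1 with h | h <;>
    rcases zass_fix_two hZ hne hab ha' hb' h2 with h' | h'
  · exact absurd (h.trans h'.symm) hgab
  · exact Or.inl ⟨h, h'⟩
  · exact Or.inr ⟨h, h'⟩
  · exact absurd (h.trans h'.symm) hgab

theorem zass_swap_mem_normalizer {a b : Ω} {g : G}
    (h : (g • a = a ∧ g • b = b) ∨ (g • a = b ∧ g • b = a)) :
    g ∈ Subgroup.normalizer ((MulAction.stabilizer G a ⊓ MulAction.stabilizer G b : Subgroup G) : Set G) := by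
  rw [Subgroup.mem_normalizer_iff_map_conj_eq,
    Subgroup.map_inf _ _ _ (MulAut.conj g).injective]
  have hs : ∀ c : Ω, (MulAction.stabilizer G c).map (MulAut.conj g).toMonoidHom =
      MulAction.stabilizer G (g • c) := fun c => (MulAction.stabilizer_smul_eq_stabilizer_map_conj g c).symm
  rcases h with ⟨h1, h2⟩ | ⟨h1, h2⟩
  · erw [hs, hs, h1, h2]
  · erw [hs, hs, h1, h2]; exact inf_comm _ _

end CfsgLib.Char.Exceptional
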