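import Mathlib
import Cfsg.Agent.Lib.Char.Exceptional.ZassenhausOdd
import Cfsg.Agent.Lib.Char.Induced
import Cfsg.Agent.Lib.Char.Complete

/-! Characters of a simple Zassenhaus group induced from linear characters of the point stabiliser. -/

set_option autoImplicit false

open Cfsg
open scoped ComplexConjugate

namespace CfsgLib.Char.Exceptional

open CfsgLib.Char

variable {G Ω : Type*} [Group G] [Fintype G] [MulAction G Ω] [Fintype Ω] [IsSimpleGroup G]

omit [IsSimpleGroup G] in
open Classical in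
/-- Summing an `N`-invariant function over the point stabiliser. -/
theorem zass_stab_sum (hZ : IsZassenhausGroup G Ω) {a b : Ω} (hab : a ≠ b) {H : Subgroup G}
    (hHa : H ≤ MulAction.stabilizer G a) (hHcard : Nat.card H + 1 = Fintype.card Ω)
    (hHfix : ∀ u ∈ H, u ≠ 1 → ∀ c : Ω, u • c = c → c = a) (F : G → ℂ)
    (hF : ∀ g ∈ MulAction.stabilizer G a, ∀ x, F (g * x * g⁻¹) = F x) :
    ∑ g ∈ Finset.univ.filter (· ∈ MulAction.stabilizer G a), F g =
      ∑ g ∈ Finset.univ.filter (· ∈ H), F g + (Nat.card H : ℂ) *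
        ∑ g ∈ Finset.univ.filter (fun g => g ∈ (MulAction.stabilizer G a ⊓ MulAction.stabilizer G b : Subgroup G) ∧ g ≠ 1), F g := by
  let B : Ω → Finset G := fun c => Finset.univ.filter fun g =>
    g ∈ (MulAction.stabilizer G a ⊓ MulAction.stabilizer G c : Subgroup G) ∧ g ≠ 1
  have hsplit : Finset.univ.filter (· ∈ MulAction.stabilizer G a) =
      Finset.univ.filter (· ∈ H) ∪ (Finset.univ.erase a).biUnion B := by
    ext g
    simp only [B, Finset.mem_union, Finset.mem_filter, Finset.mem_univ, true_and, Finset.mem_biUnion,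
      Finset.mem_erase, Subgroup.mem_inf, MulAction.mem_stabilizer_iff, and_true]
    constructor
    · intro hg
      by_cases h' : ∀ c : Ω, g • c = c → c = a
      · exact Or.inl (zass_mem_kernel hZ hHa hHcard hHfix hg h')
      · push Not at h'
        obtain ⟨c, hc, hca⟩ := h'
        by_cases hg1 : g = 1
        · exact Or.inl (hg1 ▸ H.one_mem)
        · exact Or.inr ⟨c, hca, ⟨hg, hc⟩, hg1⟩
    · rintro (h | ⟨c, -, ⟨h1, -⟩, -⟩)
      exacts [hHa h, h1]
  have hdisj : ((Finset.univ.erase a : Finset Ω) : Set Ω).PairwiseDisjoint B := by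
    intro c hc d hd hcd
    refine Finset.disjoint_left.2 fun u hu hu' => ?_
    simp only [B, Finset.mem_filter, Finset.mem_univ, true_and, Subgroup.mem_inf,
      MulAction.mem_stabilizer_iff] at hu hu'
    rcases zass_fix_two hZ hu.2 (Finset.mem_erase.1 (Finset.mem_coe.1 hc)).1.symm hu.1.1 hu.1.2 hu'.1.2 with h | h
    · exact (Finset.mem_erase.1 (Finset.mem_coe.1 hd)).1 h
    · exact hcd h.symm
  have hdisj' : Disjoint (Finset.univ.filter (· ∈ H)) ((Finset.univ.erase a).biUnion B) := by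
    refine Finset.disjoint_left.2 fun u hu hu' => ?_
    simp only [B, Finset.mem_filter, Finset.mem_biUnion, Finset.mem_erase, Finset.mem_univ,
      true_and, and_true, Subgroup.mem_inf, MulAction.mem_stabilizer_iff] at hu hu'
    obtain ⟨c, hca, ⟨-, hc⟩, hu1⟩ := hu'
    exact hca (hHfix u hu hu1 c hc)
  rw [hsplit, Finset.sum_union hdisj', Finset.sum_biUnion hdisj]
  congr 1
  rw [Finset.sum_congr rfl (g := fun _ => ∑ g ∈ B b, F g) fun c hc => ?_, Finset.sum_const,
    Finset.card_erase_of_mem (Finset.mem_univ a), Finset.card_univ, nsmul_eq_mul,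
    show Fintype.card Ω - 1 = Nat.card H by omega]
  obtain ⟨k, hka, hkb⟩ := zass_pre hZ hab (Finset.mem_erase.1 hc).1.symm
  refine (Finset.sum_equiv (MulAut.conj k).toEquiv (fun g => ?_) fun g _ => (hF k hka g).symm).symm
  simp only [B, Finset.mem_filter, Finset.mem_univ, true_and, Subgroup.mem_inf,
    MulAction.mem_stabilizer_iff]
  show _ ↔ ((k * g * k⁻¹) • a = a ∧ (k * g * k⁻¹) • c = c) ∧ k * g * k⁻¹ ≠ 1
  rw [ne_eq (k * g * k⁻¹), conj_eq_one_iff]
  conv_rhs => rw [← hkb]
  rw [show (k * g * k⁻¹) • a = (k * g * k⁻¹) • (k • a) by rw [hka]]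
  simp only [mul_smul, inv_smul_smul]
  rw [show (k • g • a = a) ↔ g • a = a by rw [smul_eq_iff_eq_inv_smul, inv_smul_eq_iff.2 hka.symm],
    smul_left_cancel_iff]

omit [IsSimpleGroup G] in
open Classical in
/-- The value of a function induced from the point stabiliser at an element of the kernel. -/
theorem zass_ind_kernel {a : Ω} {H : Subgroup G}
    (hHa : H ≤ MulAction.stabilizer G a)
    (hHfix : ∀ u ∈ H, u ≠ 1 → ∀ c : Ω, u • c = c → c = a) {μ : MulAction.stabilizer G a → ℂ}
    (hμ : Cfsg.IsClassFunction (MulAction.stabilizer G a) μ) {u : G} (hu : u ∈ H) (hu1 : u ≠ 1) :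
    Cfsg.indFun (MulAction.stabilizer G a) μ u = μ ⟨u, hHa hu⟩ := by
  have h : ∀ x : G, extendByZero (MulAction.stabilizer G a) μ (x⁻¹ * u * x) = if x ∈ (MulAction.stabilizer G a) then μ ⟨u, hHa hu⟩ else 0 := by
    intro x
    split
    · next hx =>
      rw [extendByZero_of_mem (MulAction.stabilizer G a) μ (mul_mem (mul_mem (inv_mem hx) (hHa hu)) hx)]
      have := hμ ⟨u, hHa hu⟩ (⟨x, hx⟩ : (MulAction.stabilizer G a))⁻¹
      rw [inv_inv] at this
      exact this
    · next hx =>
      refine extendByZero_of_notMem (MulAction.stabilizer G a) μ fun hm => hx ?_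
      have h' : (x⁻¹ * u * x) • a = a := hm
      rw [mul_smul, mul_smul, inv_smul_eq_iff] at h'
      exact hHfix u hu hu1 _ h'
  simp only [Cfsg.indFun, h, ← Finset.sum_filter, Finset.sum_const, nsmul_eq_mul]
  rw [← Fintype.card_subtype, ← Nat.card_eq_fintype_card, ← mul_assoc,
    inv_mul_cancel₀ (Nat.cast_ne_zero.2 Nat.card_pos.ne'), one_mul]

open Classical in
/-- The value of an induced linear character at an element fixing two points. -/
theorem zass_ind_torus (hZ : IsZassenhausGroup G Ω) {a b : Ω} (hab : a ≠ b)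
    (hodd : Odd (Nat.card ↥(MulAction.stabilizer G a ⊓ MulAction.stabilizer G b : Subgroup G)))
    {μ : MulAction.stabilizer G a → ℂ}
    (hμ : Cfsg.IsClassFunction (MulAction.stabilizer G a) μ) {x : G} (hxa : x • a = a) (hxb : x • b = b)
    (hx1 : x ≠ 1) :
    Cfsg.indFun (MulAction.stabilizer G a) μ x =
      μ ⟨x, hxa⟩ + μ (⟨x, hxa⟩ : MulAction.stabilizer G a)⁻¹ := by
  obtain ⟨w, hwa, hwb⟩ := zass_pre hZ hab hab.symm
  have hinv := zass_two_stab_inverted hZ hab hodd hwa hwb x ⟨hxa, hxb⟩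
  have h : ∀ y : G, extendByZero (MulAction.stabilizer G a) μ (y⁻¹ * x * y) =
      (if y ∈ (MulAction.stabilizer G a) then μ ⟨x, hxa⟩ else 0) +
        if w⁻¹ * y ∈ (MulAction.stabilizer G a) then μ (⟨x, hxa⟩ : (MulAction.stabilizer G a))⁻¹ else 0 := by
    intro y
    by_cases hy : y ∈ (MulAction.stabilizer G a)
    · have hwy : ¬ w⁻¹ * y ∈ (MulAction.stabilizer G a) := fun h' => by
        have h2 : (w⁻¹ * y) • a = a := h'
        rw [mul_smul, show y • a = a from hy, inv_smul_eq_iff, hwa] at h2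
        exact hab h2
      rw [if_pos hy, if_neg hwy, add_zero, extendByZero_of_mem (MulAction.stabilizer G a) μ (mul_mem (mul_mem (inv_mem hy) hxa) hy)]
      have := hμ ⟨x, hxa⟩ (⟨y, hy⟩ : (MulAction.stabilizer G a))⁻¹
      rw [inv_inv] at this
      exact this
    · rw [if_neg hy, zero_add]
      split
      · next hw =>
        have he : y⁻¹ * x * y = (w⁻¹ * y)⁻¹ * x⁻¹ * (w⁻¹ * y) := by rw [← hinv]; group
        rw [he, extendByZero_of_mem (MulAction.stabilizer G a) μ (mul_mem (mul_mem (inv_mem hw) (inv_mem hxa)) hw)]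
        have := hμ (⟨x, hxa⟩ : (MulAction.stabilizer G a))⁻¹ (⟨w⁻¹ * y, hw⟩ : (MulAction.stabilizer G a))⁻¹
        rw [inv_inv] at this
        exact this
      · next hw =>
        refine extendByZero_of_notMem (MulAction.stabilizer G a) μ fun hm => ?_
        have h' : (y⁻¹ * x * y) • a = a := hm
        rw [mul_smul, mul_smul, inv_smul_eq_iff] at h'
        rcases zass_fix_two hZ hx1 hab hxa hxb h' with h2 | h2
        · exact hy h2
        · exact hw (show (w⁻¹ * y) • a = a by rw [mul_smul, h2, inv_smul_eq_iff, hwa])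
  have hcard : (Finset.univ.filter fun y : G => w⁻¹ * y ∈ (MulAction.stabilizer G a)).card = Nat.card (MulAction.stabilizer G a) := by
    rw [Nat.card_eq_fintype_card, Fintype.card_subtype]
    exact Finset.card_equiv (Equiv.mulLeft w⁻¹) fun y => by simp
  simp only [Cfsg.indFun, h, Finset.sum_add_distrib, ← Finset.sum_filter, Finset.sum_const, nsmul_eq_mul]
  rw [hcard, ← Fintype.card_subtype, ← Nat.card_eq_fintype_card, ← mul_add, ← mul_assoc,
    inv_mul_cancel₀ (Nat.cast_ne_zero.2 Nat.card_pos.ne'), one_mul]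

open Classical in
theorem zass_ind_linear_irreducible (hZ : IsZassenhausGroup G Ω) {a b : Ω} (hab : a ≠ b)
    (hodd : Odd (Nat.card ↥(MulAction.stabilizer G a ⊓ MulAction.stabilizer G b : Subgroup G)))
    {H : Subgroup G} (hHa : H ≤ MulAction.stabilizer G a) (hHcard : Nat.card H + 1 = Fintype.card Ω)
    (hHfix : ∀ u ∈ H, u ≠ 1 → ∀ c : Ω, u • c = c → c = a)
    (l : MulAction.stabilizer G a →* ℂˣ) (hlH : ∀ u : MulAction.stabilizer G a, (u : G) ∈ H → l u = 1)
    (hl : l ≠ 1) :
    Cfsg.IsIrrCharacter G (Cfsg.indFun (MulAction.stabilizer G a) fun u => (l u : ℂ)) := by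
  haveI := zass_trans hZ
  set E := (MulAction.stabilizer G a ⊓ MulAction.stabilizer G b : Subgroup G) with hE
  let μ : (MulAction.stabilizer G a) → ℂ := fun u => (l u : ℂ)
  have hμc : Cfsg.IsCharacter (MulAction.stabilizer G a) μ := IsIrr.isCharacter (isIrrCharacter_linear l)
  have hI := isCharacter_indFun hμc (H := (MulAction.stabilizer G a))
  set I := Cfsg.indFun (MulAction.stabilizer G a) μ with hIdef
  let lE : E →* ℂ := (Units.coeHom ℂ).comp (l.comp (Subgroup.inclusion inf_le_left))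
  have hlE : lE ≠ 1 := by
    intro h1
    refine hl (MonoidHom.ext fun g => ?_)
    by_cases hgH : (g : G) ∈ H
    · exact hlH g hgH
    have hne : ¬ ∀ c : Ω, (g : G) • c = c → c = a := fun h' =>
      hgH (zass_mem_kernel hZ hHa hHcard hHfix g.2 h')
    push Not at hne
    obtain ⟨c, hc, hca⟩ := hne
    obtain ⟨k, hka, hkb⟩ := zass_pre hZ hab (Ne.symm hca : a ≠ c)
    have hmem : k⁻¹ * (g : G) * k ∈ E := by
      refine ⟨show (k⁻¹ * (g : G) * k) • a = a from ?_, show (k⁻¹ * (g : G) * k) • b = b from ?_⟩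
      · rw [mul_smul, mul_smul, hka, show (g : G) • a = a from g.2, inv_smul_eq_iff, hka]
      · rw [mul_smul, mul_smul, hkb, hc, inv_smul_eq_iff, hkb]
    have he : g = (⟨k, hka⟩ : (MulAction.stabilizer G a)) * Subgroup.inclusion inf_le_left (⟨_, hmem⟩ : E) * (⟨k, hka⟩ : (MulAction.stabilizer G a))⁻¹ :=
      Subtype.ext (show (g : G) = k * (k⁻¹ * (g : G) * k) * k⁻¹ by group)
    rw [he, map_mul, map_mul, map_inv, mul_comm, inv_mul_cancel_left, MonoidHom.one_apply]
    exact Units.ext (DFunLike.congr_fun h1 (⟨_, hmem⟩ : E))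
  have hlE2 : lE * lE ≠ 1 := by
    intro h2
    refine hlE (MonoidHom.ext fun x => ?_)
    obtain ⟨j, hj⟩ : Odd (orderOf x) := hodd.of_dvd_nat (orderOf_dvd_natCard x)
    have h3 : lE x * lE x = 1 := DFunLike.congr_fun h2 x
    have h4 : lE x ^ orderOf x = 1 := by rw [← map_pow, pow_orderOf_eq_one, map_one]
    rw [hj, pow_succ, pow_mul, pow_two, h3, one_pow, one_mul] at h4
    rw [h4, MonoidHom.one_apply]
  have hIone : I 1 = (Fintype.card Ω : ℂ) := by
    rw [hIdef, indFun_apply_one, MulAction.index_stabilizer_of_transitive, Nat.card_eq_fintype_card]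
    simp [μ]
  refine IsChar.isIrr_of_classInner_eq_one hI ?_
  rw [hIdef, frobenius_reciprocity (MulAction.stabilizer G a) μ (IsChar.isClassFunction hI)]
  let F : G → ℂ := fun g => extendByZero (MulAction.stabilizer G a) μ g * conj (I g)
  have hFN : ∀ g ∈ (MulAction.stabilizer G a), ∀ x, F (g * x * g⁻¹) = F x := by
    intro g hg x
    simp only [F]
    rw [IsChar.isClassFunction hI x g]
    by_cases hx : x ∈ (MulAction.stabilizer G a)
    · rw [extendByZero_of_mem (MulAction.stabilizer G a) μ hx, extendByZero_of_mem (MulAction.stabilizer G a) μ (mul_mem (mul_mem hg hx) (inv_mem hg))]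
      have := IsChar.isClassFunction hμc ⟨x, hx⟩ (⟨g, hg⟩ : (MulAction.stabilizer G a))
      exact congrArg (· * _) this
    · rw [extendByZero_of_notMem (MulAction.stabilizer G a) μ hx, extendByZero_of_notMem (MulAction.stabilizer G a) μ fun h => hx (by
        have := mul_mem (mul_mem (inv_mem hg) h) hg
        rwa [show g⁻¹ * (g * x * g⁻¹) * g = x by group] at this)]
  have hsum := zass_stab_sum hZ hab hHa hHcard hHfix F hFN
  have hH : ∑ g ∈ Finset.univ.filter (· ∈ H), F g = (Fintype.card Ω : ℂ) + ((Nat.card H : ℂ) - 1) := by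
    rw [← Finset.add_sum_erase _ _ (show (1 : G) ∈ Finset.univ.filter (· ∈ H) by simp)]
    congr 1
    · simp only [F]
      rw [extendByZero_of_mem (MulAction.stabilizer G a) μ (MulAction.stabilizer G a).one_mem, hIone]
      simp [μ, show (⟨1, (MulAction.stabilizer G a).one_mem⟩ : (MulAction.stabilizer G a)) = 1 from rfl]
    · rw [Finset.sum_congr rfl (g := fun _ => (1 : ℂ)) fun u hu => ?_, Finset.sum_const,
        Finset.card_erase_of_mem (by simp), nsmul_eq_mul, mul_one, ← Fintype.card_subtype,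
        ← Nat.card_eq_fintype_card, Nat.cast_sub Nat.card_pos, Nat.cast_one]
      obtain ⟨hu1, hu⟩ := Finset.mem_erase.1 hu
      have hu' : u ∈ H := (Finset.mem_filter.1 hu).2
      simp only [F]
      rw [extendByZero_of_mem (MulAction.stabilizer G a) μ (hHa hu'), hIdef, zass_ind_kernel hHa hHfix (IsChar.isClassFunction hμc) hu' hu1]
      simp [μ, hlH ⟨u, hHa hu'⟩ hu']
  have hT : ∑ g ∈ Finset.univ.filter (fun g => g ∈ E ∧ g ≠ 1), F g = (Nat.card E : ℂ) - 2 := by
    have h1 : ∀ x : E, (x : G) ≠ 1 → F (x : G) = 1 + (lE * lE) x := by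
      intro x hx
      simp only [F]
      rw [extendByZero_of_mem (MulAction.stabilizer G a) μ x.2.1, hIdef,
        zass_ind_torus hZ hab hodd (IsChar.isClassFunction hμc) x.2.1 x.2.2 hx, map_add,
        IsChar.map_inv hμc, Complex.conj_conj, mul_add]
      congr 1
      rw [Complex.mul_conj, Complex.normSq_eq_norm_sq,
        Complex.norm_eq_one_of_pow_eq_one (n := orderOf (⟨(x : G), x.2.1⟩ : (MulAction.stabilizer G a))) ?_ (orderOf_pos _).ne']
      · simp
      · simp only [μ]
        rw [← Units.val_pow_eq_pow_val, ← map_pow, pow_orderOf_eq_one, map_one, Units.val_one]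
    have h2 : ∑ x : E, (lE * lE) x = 0 := sum_hom_units_eq_zero _ hlE2
    have h3 : ∑ g ∈ Finset.univ.filter (fun g => g ∈ E ∧ g ≠ 1), F g =
        ∑ x ∈ Finset.univ.erase (1 : E), (1 + (lE * lE) x) := by
      symm
      refine Finset.sum_bij (fun x _ => (x : G)) (fun x hx => ?_) (fun x _ y _ h => Subtype.ext h)
        (fun g hg => ?_) fun x hx => (h1 x fun h => (Finset.mem_erase.1 hx).1 (Subtype.ext h)).symm
      · exact Finset.mem_filter.2 ⟨Finset.mem_univ _, x.2, fun h => (Finset.mem_erase.1 hx).1 (Subtype.ext h)⟩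
      · obtain ⟨-, hgE, hg1⟩ := Finset.mem_filter.1 hg
        exact ⟨⟨g, hgE⟩, Finset.mem_erase.2 ⟨fun h => hg1 (congrArg Subtype.val h), Finset.mem_univ _⟩, rfl⟩
    rw [h3, Finset.sum_erase_eq_sub (Finset.mem_univ _), Finset.sum_add_distrib, h2, Finset.sum_const,
      Finset.card_univ, map_one, nsmul_eq_mul, mul_one, Nat.card_eq_fintype_card]
    ring
  rw [hH, hT] at hsum
  have hconv : ∑ g ∈ Finset.univ.filter (· ∈ (MulAction.stabilizer G a)), F g = ∑ u : (MulAction.stabilizer G a), μ u * conj (I u) := by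
    symm
    refine Finset.sum_bij (fun u _ => (u : G)) (fun u _ => Finset.mem_filter.2 ⟨Finset.mem_univ _, u.2⟩)
      (fun x _ y _ h => Subtype.ext h) (fun g hg => ⟨⟨g, (Finset.mem_filter.1 hg).2⟩, Finset.mem_univ _, rfl⟩)
      fun u _ => ?_
    simp only [F, extendByZero_coe]
  rw [hconv] at hsum
  have hcN : (Nat.card (MulAction.stabilizer G a) : ℂ) = (Nat.card H : ℂ) * (Nat.card E : ℂ) := by
    rw [show Nat.card (MulAction.stabilizer G a) = (Fintype.card Ω - 1) * Nat.card E from zass_card_stab hZ hab, Nat.cast_mul,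
      show Fintype.card Ω - 1 = Nat.card H by omega]
  have hn : (Fintype.card Ω : ℂ) = (Nat.card H : ℂ) + 1 := by rw [← hHcard]; push_cast; ring
  simp only [Cfsg.classInner]
  rw [hsum, hn, hcN]
  have hH0 : (Nat.card H : ℂ) ≠ 0 := Nat.cast_ne_zero.2 Nat.card_pos.ne'
  have hE0 : (Nat.card E : ℂ) ≠ 0 := Nat.cast_ne_zero.2 Nat.card_pos.ne'
  field_simp
  ring

end CfsgLib.Char.Exceptional
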