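import Mathlib
import Cfsg.Agent.Lib.Char.Exceptional.ZassenhausOdd

/-! Counting in simple Zassenhaus groups: fixed-point-free elements and involutions. -/

set_option autoImplicit false

open Cfsg

namespace CfsgLib.Char.Exceptional

variable {G Ω : Type*} [Group G] [Finite G] [MulAction G Ω] [Fintype Ω]

/-- The order of a Zassenhaus group. -/
theorem zass_card (hZ : IsZassenhausGroup G Ω) {a b : Ω} (hab : a ≠ b) :
    Nat.card G = Fintype.card Ω * ((Fintype.card Ω - 1) *
      Nat.card ↥(MulAction.stabilizer G a ⊓ MulAction.stabilizer G b : Subgroup G)) := by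
  haveI := zass_trans hZ
  rw [← zass_card_stab hZ hab, ← (MulAction.stabilizer G a).index_mul_card,
    MulAction.index_stabilizer_of_transitive, Nat.card_eq_fintype_card]

open Classical in
/-- Fixed-point-free elements: twice their number is `|G| + 2(n-1) - n(n-1)`. -/
theorem zass_two_mul_fpf [Fintype G] (hZ : IsZassenhausGroup G Ω) {a b : Ω} (hab : a ≠ b) :
    2 * ((Finset.univ.filter fun g : G => ∀ c : Ω, g • c ≠ c).card : ℤ) =
      Nat.card G - (Fintype.card Ω : ℤ) * ((Fintype.card Ω : ℤ) - 1) + 2 * ((Fintype.card Ω : ℤ) - 1) := by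
  set n := Fintype.card Ω with hn
  obtain ⟨e, he⟩ : ∃ e, e = Nat.card ↥(MulAction.stabilizer G a ⊓ MulAction.stabilizer G b : Subgroup G) :=
    ⟨_, rfl⟩
  have h3 := zass_three_le hZ
  haveI : Nontrivial Ω := ⟨⟨a, b, hab⟩⟩
  let fx : G → ℕ := fun g => (Finset.univ.filter fun c : Ω => g • c = c).card
  have hS1 : ∑ g, fx g = Nat.card G := by
    have hper : ∀ c : Ω, (Finset.univ.filter fun g : G => g • c = c).card = (n - 1) * e := fun c => by
      obtain ⟨d, hd⟩ := exists_ne c
      rw [he, zass_card_two_stab hZ hab hd.symm, ← zass_card_stab hZ hd.symm, Nat.card_eq_fintype_card]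
      exact (Fintype.card_subtype _).symm
    simp only [fx, Finset.card_filter]
    rw [Finset.sum_comm]
    simp only [← Finset.card_filter, hper, Finset.sum_const, Finset.card_univ, smul_eq_mul,
      zass_card hZ hab, ← he, ← hn]
  have hS2 : ∑ g, fx g * (fx g - 1) = Nat.card G := by
    have h1 : ∀ g, fx g * (fx g - 1) =
        (Finset.univ.filter fun p : Ω × Ω => p.1 ≠ p.2 ∧ g • p.1 = p.1 ∧ g • p.2 = p.2).card := by
      intro g
      rw [Nat.mul_sub, mul_one]
      have : (Finset.univ.filter fun p : Ω × Ω => p.1 ≠ p.2 ∧ g • p.1 = p.1 ∧ g • p.2 = p.2) =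
          (Finset.univ.filter fun c : Ω => g • c = c).offDiag := by
        ext p
        simp only [Finset.mem_filter, Finset.mem_univ, true_and, Finset.mem_offDiag]
        tauto
      rw [this, Finset.offDiag_card]
    simp only [h1, Finset.card_filter]
    rw [Finset.sum_comm]
    simp only [← Finset.card_filter]
    have hper : ∀ p : Ω × Ω, (Finset.univ.filter fun g : G =>
        p.1 ≠ p.2 ∧ g • p.1 = p.1 ∧ g • p.2 = p.2).card = if p.1 ≠ p.2 then e else 0 := by
      intro p
      split
      · next h =>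
        rw [he, zass_card_two_stab hZ hab h, Nat.card_eq_fintype_card, Fintype.card_subtype]
        congr 1
        ext g
        simp [h]
      · next h => simp [h]
    have hoff : (Finset.univ.filter fun p : Ω × Ω => p.1 ≠ p.2).card = n * n - n := by
      rw [show (Finset.univ.filter fun p : Ω × Ω => p.1 ≠ p.2) = (Finset.univ : Finset Ω).offDiag by
        ext p; simp, Finset.offDiag_card, Finset.card_univ]
    simp only [hper, ← Finset.sum_filter, Finset.sum_const, smul_eq_mul, hoff, zass_card hZ hab]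
    rw [← he, ← hn, show n * n - n = n * (n - 1) by rw [Nat.mul_sub, mul_one], mul_assoc]
  have hle : ∀ g : G, g ≠ 1 → fx g ≤ 2 := by
    intro g hg
    by_contra h
    push Not at h
    obtain ⟨p, q, r, hp, hq, hr, hpq, hpr, hqr⟩ := Finset.two_lt_card_iff.1 h
    simp only [Finset.mem_filter, Finset.mem_univ, true_and] at hp hq hr
    rcases zass_fix_two hZ hg hpq hp hq hr with h' | h'
    exacts [hpr h'.symm, hqr h'.symm]
  -- the combination that picks out `fx g = 0`
  have key : ∀ g : G, (2 * (if ∀ c : Ω, g • c ≠ c then 1 else 0) : ℤ) =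
      2 - 2 * (fx g : ℤ) + ((fx g * (fx g - 1) : ℕ) : ℤ) -
        (if g = 1 then 2 - 2 * (n : ℤ) + (n : ℤ) * ((n : ℤ) - 1) else 0) := by
    intro g
    by_cases hg : g = 1
    · subst hg
      have hf : fx 1 = n := by simp [fx, hn]
      have h0 : ¬ ∀ c : Ω, (1 : G) • c ≠ c := fun h => h a (one_smul G a)
      rw [if_neg h0, if_pos rfl, hf]
      push_cast [Nat.one_le_iff_ne_zero.2 (show n ≠ 0 by omega)]
      ring
    · rw [if_neg hg]
      have hiff : (∀ c : Ω, g • c ≠ c) ↔ fx g = 0 := by
        simp [fx, Finset.card_eq_zero, Finset.filter_eq_empty_iff]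
      rw [if_congr hiff rfl rfl]
      have := hle g hg
      interval_cases fx g <;> simp
  calc 2 * ((Finset.univ.filter fun g : G => ∀ c : Ω, g • c ≠ c).card : ℤ)
      = ∑ g : G, (2 * (if ∀ c : Ω, g • c ≠ c then 1 else 0) : ℤ) := by
        rw [← Finset.mul_sum, Finset.sum_boole]
    _ = _ := by
        simp only [key, Finset.sum_sub_distrib, Finset.sum_add_distrib, ← Finset.mul_sum,
          Finset.sum_ite_eq', Finset.mem_univ, if_true, Finset.sum_const, Finset.card_univ, nsmul_eq_mul]
        rw [← Nat.cast_sum, ← Nat.cast_sum, hS1, hS2, Nat.card_eq_fintype_card]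
        ring

section Odd

variable [IsSimpleGroup G]

omit [IsSimpleGroup G] in
/-- An involution fixes at most one point. -/
theorem zass_involution_fix_le (hZ : IsZassenhausGroup G Ω) {a b : Ω} (hab : a ≠ b)
    (hodd : Odd (Nat.card ↥(MulAction.stabilizer G a ⊓ MulAction.stabilizer G b : Subgroup G)))
    {x : G} (hx : orderOf x = 2) {p q : Ω} (hp : x • p = p) (hq : x • q = q) : p = q := by
  by_contra h
  have h2 : orderOf x ∣ Nat.card ↥(MulAction.stabilizer G a ⊓ MulAction.stabilizer G b : Subgroup G) := by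
    rw [zass_card_two_stab hZ hab h]
    exact Subgroup.orderOf_dvd_natCard _ ⟨hp, hq⟩
  rw [hx] at h2
  exact (Nat.not_even_iff_odd.2 hodd) (even_iff_two_dvd.2 h2)

omit [IsSimpleGroup G] in
theorem zass_involution_moves (hZ : IsZassenhausGroup G Ω) {x : G} (hx : orderOf x = 2) :
    ∃ p : Ω, x • p ≠ p ∧ x • (x • p) = p := by
  haveI := hZ.1
  by_contra h
  push Not at h
  have hsq : x * x = 1 := by rw [← pow_two, ← hx]; exact pow_orderOf_eq_one x
  have : x = 1 := FaithfulSMul.eq_of_smul_eq_smul (α := Ω) fun c => by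
    rw [one_smul]
    by_contra hc
    exact h c hc (by rw [smul_smul, hsq, one_smul])
  rw [this, orderOf_one] at hx
  omega

/-- All involutions are conjugate. -/
theorem zass_involution_conj (hZ : IsZassenhausGroup G Ω) {a b : Ω} (hab : a ≠ b)
    (hodd : Odd (Nat.card ↥(MulAction.stabilizer G a ⊓ MulAction.stabilizer G b : Subgroup G)))
    {x y : G} (hx : orderOf x = 2) (hy : orderOf y = 2) : IsConj x y := by
  obtain ⟨w, hwa, hwb⟩ := zass_pre hZ hab hab.symm
  suffices h : ∀ z : G, orderOf z = 2 → IsConj z w from (h x hx).trans (h y hy).symm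
  intro z hz
  obtain ⟨p, hp, hpp⟩ := zass_involution_moves hZ hz
  obtain ⟨g, hga, hgb⟩ := zass_pre hZ hab (Ne.symm hp)
  set v := g⁻¹ * z * g with hv
  have hva : v • a = b := by rw [hv, mul_smul, mul_smul, hga, ← hgb, inv_smul_smul]
  have hvb : v • b = a := by rw [hv, mul_smul, mul_smul, hgb, hpp, ← hga, inv_smul_smul]
  have hzv : IsConj z v := isConj_iff.2 ⟨g⁻¹, by rw [hv, inv_inv]⟩
  refine hzv.trans ?_
  set E := (MulAction.stabilizer G a ⊓ MulAction.stabilizer G b : Subgroup G)
  have ht : w⁻¹ * v ∈ E := by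
    refine ⟨?_, ?_⟩
    · show (w⁻¹ * v) • a = a
      rw [mul_smul, hva, inv_smul_eq_iff, hwa]
    · show (w⁻¹ * v) • b = b
      rw [mul_smul, hvb, inv_smul_eq_iff, hwb]
  obtain ⟨j, hj⟩ : Odd (orderOf (w⁻¹ * v)) := hodd.of_dvd_nat (Subgroup.orderOf_dvd_natCard E ht)
  set s := (w⁻¹ * v) ^ (j + 1) with hs
  have hs2 : s ^ 2 = w⁻¹ * v := by
    rw [hs, ← pow_mul, show (j + 1) * 2 = orderOf (w⁻¹ * v) + 1 by omega, pow_succ, pow_orderOf_eq_one,
      one_mul]
  have hinv := zass_two_stab_inverted hZ hab hodd hwa hwb s⁻¹ (inv_mem (pow_mem ht _))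
  rw [inv_inv] at hinv
  refine (isConj_iff.2 ⟨s⁻¹, ?_⟩).symm
  calc s⁻¹ * w * s⁻¹⁻¹ = w * (w⁻¹ * s⁻¹ * w) * s := by group
    _ = w * s ^ 2 := by rw [hinv, pow_two]; group
    _ = v := by rw [hs2, mul_inv_cancel_left]

open Classical in
/-- Each ordered pair of distinct points is swapped by exactly `e` involutions. -/
theorem zass_swap_count [Fintype G] (hZ : IsZassenhausGroup G Ω) {a b : Ω} (hab : a ≠ b)
    (hodd : Odd (Nat.card ↥(MulAction.stabilizer G a ⊓ MulAction.stabilizer G b : Subgroup G)))
    {p q : Ω} (hpq : p ≠ q) :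
    (Finset.univ.filter fun x : G => orderOf x = 2 ∧ x • p = q).card =
      Nat.card ↥(MulAction.stabilizer G a ⊓ MulAction.stabilizer G b : Subgroup G) := by
  obtain ⟨w, hwp, hwq⟩ := zass_pre hZ hpq hpq.symm
  have hodd' := zass_card_two_stab hZ hab hpq ▸ hodd
  rw [zass_card_two_stab hZ hab hpq, Nat.card_eq_fintype_card, ← Fintype.card_subtype]
  have hback : ∀ x : G, orderOf x = 2 → x • p = q → x • q = p := fun x hx h => by
    rw [← h, smul_smul, ← pow_two, ← hx, pow_orderOf_eq_one, one_smul]
  refine Fintype.card_congr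
    { toFun := fun x => ⟨w⁻¹ * (x : G), ?_, ?_⟩
      invFun := fun t => ⟨w * (t : G), ?_, ?_⟩
      left_inv := fun x => Subtype.ext (mul_inv_cancel_left _ _)
      right_inv := fun t => Subtype.ext (inv_mul_cancel_left _ _) }
  · show (w⁻¹ * (x : G)) • p = p
    rw [mul_smul, x.2.2, inv_smul_eq_iff, hwp]
  · show (w⁻¹ * (x : G)) • q = q
    rw [mul_smul, hback x x.2.1 x.2.2, inv_smul_eq_iff, hwq]
  · refine zass_swap_orderOf hZ hpq hodd' ?_ ?_
    · rw [mul_smul, show (t : G) • p = p from t.2.1, hwp]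
    · rw [mul_smul, show (t : G) • q = q from t.2.2, hwq]
  · rw [mul_smul, show (t : G) • p = p from t.2.1, hwp]

/-- The number of fixed points of an involution is the parity of the number of points. -/
theorem zass_involution_fix_card [DecidableEq Ω] (hZ : IsZassenhausGroup G Ω) {a b : Ω} (hab : a ≠ b)
    (hodd : Odd (Nat.card ↥(MulAction.stabilizer G a ⊓ MulAction.stabilizer G b : Subgroup G)))
    {x : G} (hx : orderOf x = 2) :
    (Finset.univ.filter fun c : Ω => x • c = c).card = Fintype.card Ω % 2 := by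
  classical
  have hle : (Finset.univ.filter fun c : Ω => x • c = c).card ≤ 1 :=
    Finset.card_le_one.2 fun p hp q hq => zass_involution_fix_le hZ hab hodd hx
      (Finset.mem_filter.1 hp).2 (Finset.mem_filter.1 hq).2
  have hσ : (MulAction.toPermHom G Ω x) ^ 2 ^ 1 = 1 := by
    rw [pow_one, ← map_pow, ← hx, pow_orderOf_eq_one, map_one]
  haveI := Fact.mk Nat.prime_two
  have h := Equiv.Perm.card_compl_support_modEq hσ
  have he : (MulAction.toPermHom G Ω x).supportᶜ = Finset.univ.filter fun c : Ω => x • c = c := by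
    ext c; simp
  rw [he] at h
  have h' : (Finset.univ.filter fun c : Ω => x • c = c).card % 2 = Fintype.card Ω % 2 := h
  omega

open Classical in
/-- The number of involutions. -/
theorem zass_involution_count [Fintype G] (hZ : IsZassenhausGroup G Ω) {a b : Ω} (hab : a ≠ b)
    (hodd : Odd (Nat.card ↥(MulAction.stabilizer G a ⊓ MulAction.stabilizer G b : Subgroup G))) :
    (Finset.univ.filter fun x : G => orderOf x = 2).card * (Fintype.card Ω - Fintype.card Ω % 2) =
      Fintype.card Ω * (Fintype.card Ω - 1) *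
        Nat.card ↥(MulAction.stabilizer G a ⊓ MulAction.stabilizer G b : Subgroup G) := by
  obtain ⟨e, he⟩ : ∃ e, e = Nat.card ↥(MulAction.stabilizer G a ⊓ MulAction.stabilizer G b : Subgroup G) :=
    ⟨_, rfl⟩
  set I := Finset.univ.filter fun x : G => orderOf x = 2
  have hmv : ∀ x ∈ I, (Finset.univ.filter fun c : Ω => ¬ x • c = c).card =
      Fintype.card Ω - Fintype.card Ω % 2 := fun x hx => by
    have h1 := Finset.card_filter_add_card_filter_not (s := (Finset.univ : Finset Ω))
      (fun c : Ω => x • c = c)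
    rw [zass_involution_fix_card hZ hab hodd (Finset.mem_filter.1 hx).2, Finset.card_univ] at h1
    omega
  have hrow : ∑ x ∈ I, (Finset.univ.filter fun c : Ω => ¬ x • c = c).card =
      I.card * (Fintype.card Ω - Fintype.card Ω % 2) := by
    rw [Finset.sum_congr rfl hmv, Finset.sum_const, smul_eq_mul]
  rw [← hrow, ← he]
  simp only [Finset.card_filter]
  rw [Finset.sum_comm]
  have hcol : ∀ c : Ω, (∑ x ∈ I, if ¬ x • c = c then 1 else 0) = (Fintype.card Ω - 1) * e := by
    intro c
    rw [← Finset.card_filter, Finset.card_eq_sum_card_fiberwise (f := fun x : G => x • c)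
      (t := Finset.univ.erase c) (fun x hx => Finset.mem_coe.2 (Finset.mem_erase.2
        ⟨(Finset.mem_filter.1 (Finset.mem_coe.1 hx)).2, Finset.mem_univ _⟩))]
    have hfib : ∀ q ∈ Finset.univ.erase c,
        ((I.filter fun x => ¬ x • c = c).filter fun x => x • c = q).card = e := by
      intro q hq
      rw [he, ← zass_swap_count hZ hab hodd (Finset.mem_erase.1 hq).1.symm]
      congr 1
      ext x
      simp only [I, Finset.mem_filter, Finset.mem_univ, true_and]
      exact ⟨fun h => ⟨h.1.1, h.2⟩, fun h => ⟨⟨h.1, h.2 ▸ (Finset.mem_erase.1 hq).1⟩, h.2⟩⟩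
    rw [Finset.sum_congr rfl hfib, Finset.sum_const, Finset.card_erase_of_mem (Finset.mem_univ c),
      Finset.card_univ, smul_eq_mul]
  rw [Finset.sum_congr rfl (fun c _ => hcol c), Finset.sum_const, Finset.card_univ, smul_eq_mul,
    mul_assoc]

end Odd

end CfsgLib.Char.Exceptional
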