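import Mathlib
import Cfsg.Agent.Lib.Char.Exceptional.ZassenhausCount
import Cfsg.Agent.Lib.Char.Complete

/-! Products of two involutions in simple Zassenhaus groups, and a class count. -/

set_option autoImplicit false

open Cfsg

namespace CfsgLib.Char.Exceptional

variable {G Ω : Type*} [Group G] [Finite G] [MulAction G Ω] [Fintype Ω] [IsSimpleGroup G]

omit [IsSimpleGroup G] in
/-- The point kernel is nilpotent. -/
theorem zass_kernel_nilpotent (hZ : IsZassenhausGroup G Ω) {a b : Ω} (hab : a ≠ b) {H : Subgroup G}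
    (hHa : H ≤ MulAction.stabilizer G a) (hHcard : Nat.card H + 1 = Fintype.card Ω)
    (hHfix : ∀ u ∈ H, u ≠ 1 → ∀ c : Ω, u • c = c → c = a) : Group.IsNilpotent H := by
  obtain ⟨K, hKa, hKcard, hKfix, hnil⟩ := zass_exists_kernel hZ hab
  have h1 : ∀ u ∈ H, u ∈ K := fun u hu => by
    by_cases hu1 : u = 1
    · exact hu1 ▸ K.one_mem
    · exact zass_mem_kernel hZ hKa hKcard hKfix (hHa hu) (hHfix u hu hu1)
  have h2 : H = K := Subgroup.eq_of_le_of_card_ge h1 (by omega)
  exact h2 ▸ hnil

omit [IsSimpleGroup G] in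
/-- A non-identity element of the kernel inverted by an involution puts that involution in it. -/
theorem zass_inverting_mem (hZ : IsZassenhausGroup G Ω) {a b : Ω} (hab : a ≠ b)
    (hodd : Odd (Nat.card ↥(MulAction.stabilizer G a ⊓ MulAction.stabilizer G b : Subgroup G)))
    {H : Subgroup G} (hHa : H ≤ MulAction.stabilizer G a) (hHcard : Nat.card H + 1 = Fintype.card Ω)
    (hHfix : ∀ u ∈ H, u ≠ 1 → ∀ c : Ω, u • c = c → c = a) {u x : G} (hu : u ∈ H) (hu1 : u ≠ 1)
    (hx : orderOf x = 2) (hxu : u * x = x * u⁻¹) : x ∈ H := by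
  have hfix : u • (x • a) = x • a := by
    rw [smul_smul, hxu, mul_smul, show u⁻¹ • a = a from inv_mem (hHa hu)]
  have hxa : x • a = a := hHfix u hu hu1 _ hfix
  exact zass_mem_kernel hZ hHa hHcard hHfix hxa fun c hc =>
    zass_involution_fix_le hZ hab hodd hx hc hxa

/-- Involutions of the kernel commute with one another. -/
theorem zass_kernel_involution_commute (hZ : IsZassenhausGroup G Ω) {a b : Ω} (hab : a ≠ b)
    (hodd : Odd (Nat.card ↥(MulAction.stabilizer G a ⊓ MulAction.stabilizer G b : Subgroup G)))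
    {H : Subgroup G} (hHa : H ≤ MulAction.stabilizer G a) (hHcard : Nat.card H + 1 = Fintype.card Ω)
    (hHfix : ∀ u ∈ H, u ≠ 1 → ∀ c : Ω, u • c = c → c = a) {x : G} (hx : x ∈ H) (hx2 : orderOf x = 2)
    {v : G} (hv : v ∈ H) : Commute x v := by
  haveI := zass_kernel_nilpotent hZ hab hHa hHcard hHfix
  haveI := Fact.mk Nat.prime_two
  have hdvd : 2 ∣ Nat.card H := hx2 ▸ Subgroup.orderOf_dvd_natCard H hx
  obtain ⟨P⟩ : Nonempty (Sylow 2 H) := inferInstance
  haveI : (P : Subgroup H).Normal :=
    P.normal_of_normalizerCondition Group.normalizerCondition_of_isNilpotent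
  have hne : (P : Subgroup H) ⊓ Subgroup.center H ≠ ⊥ := by
    refine CfsgLib.Core.inf_center_ne_bot_of_isNilpotent (P : Subgroup H) ?_
    exact P.ne_bot_of_dvd_card hdvd
  obtain ⟨z0, hz0⟩ := exists_prime_orderOf_dvd_card' (G := ((P : Subgroup H) ⊓ Subgroup.center H : Subgroup H)) 2
    (by
      obtain ⟨k, hk⟩ := IsPGroup.iff_card.1 (P.isPGroup'.to_le inf_le_left :
        IsPGroup 2 ((P : Subgroup H) ⊓ Subgroup.center H : Subgroup H))
      rw [hk]
      exact dvd_pow_self 2 fun h => hne (Subgroup.card_eq_one.1 (by rw [hk, h, pow_zero])))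
  set z : H := (z0 : H) with hzdef
  have hzc : z ∈ Subgroup.center H := z0.2.2
  have hz : orderOf (z : G) = 2 := by rw [Subgroup.orderOf_coe, hzdef, Subgroup.orderOf_coe, hz0]
  obtain ⟨g, hg⟩ := isConj_iff.1 (zass_involution_conj hZ hab hodd hz hx2)
  have hga : g ∈ MulAction.stabilizer G a := by
    by_contra hga
    have := zass_kernel_ti hZ hHa hHfix hga z.2 (hg ▸ hx)
    rw [this, orderOf_one] at hz
    omega
  rw [← zass_kernel_normalizer hZ hHa hHcard hHfix] at hga
  have hv' : g⁻¹ * v * g ∈ H := by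
    refine (Subgroup.mem_set_normalizer_iff.1 hga _).2 ?_
    rw [show g * (g⁻¹ * v * g) * g⁻¹ = v by group]
    exact hv
  have hc : (z : G) * (g⁻¹ * v * g) = (g⁻¹ * v * g) * z :=
    congrArg Subtype.val (Subgroup.mem_center_iff.1 hzc ⟨_, hv'⟩).symm
  show x * v = v * x
  calc x * v = g * ((z : G) * (g⁻¹ * v * g)) * g⁻¹ := by rw [← hg]; group
    _ = v * x := by rw [hc, ← hg]; group

/-- A non-identity kernel element that is a product of two involutions is an involution. -/
theorem zass_product_kernel (hZ : IsZassenhausGroup G Ω) {a b : Ω} (hab : a ≠ b)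
    (hodd : Odd (Nat.card ↥(MulAction.stabilizer G a ⊓ MulAction.stabilizer G b : Subgroup G)))
    {H : Subgroup G} (hHa : H ≤ MulAction.stabilizer G a) (hHcard : Nat.card H + 1 = Fintype.card Ω)
    (hHfix : ∀ u ∈ H, u ≠ 1 → ∀ c : Ω, u • c = c → c = a) {u x y : G} (hu : u ∈ H) (hu1 : u ≠ 1)
    (hx : orderOf x = 2) (hy : orderOf y = 2) (hxy : x * y = u) : x ∈ H ∧ orderOf u = 2 := by
  have hxi : x⁻¹ = x := inv_eq_of_mul_eq_one_right (by rw [← pow_two, ← hx, pow_orderOf_eq_one])
  have hyi : y⁻¹ = y := inv_eq_of_mul_eq_one_right (by rw [← pow_two, ← hy, pow_orderOf_eq_one])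
  have hxH : x ∈ H := by
    refine zass_inverting_mem hZ hab hodd hHa hHcard hHfix hu hu1 hx ?_
    rw [← hxy, mul_inv_rev, hxi, hyi, mul_assoc]
  have hyH : y ∈ H := by
    rw [show y = x⁻¹ * u by rw [← hxy, inv_mul_cancel_left]]
    exact mul_mem (inv_mem hxH) hu
  refine ⟨hxH, orderOf_eq_prime ?_ hu1⟩
  rw [← hxy, (zass_kernel_involution_commute hZ hab hodd hHa hHcard hHfix hxH hx hyH).mul_pow,
    ← hx, pow_orderOf_eq_one, one_mul, hx, ← hy, pow_orderOf_eq_one]

open Classical in
/-- At least `e` classes avoid the kernel. -/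
theorem zass_class_bound [Fintype G] (hZ : IsZassenhausGroup G Ω) {a b : Ω} (hab : a ≠ b) {h e : ℕ}
    (hh : Fintype.card Ω = h + 1)
    (he : Nat.card ↥(MulAction.stabilizer G a ⊓ MulAction.stabilizer G b : Subgroup G) = e)
    (hodd : Odd e) (hlt : e < h) {H : Subgroup G} (hHa : H ≤ MulAction.stabilizer G a)
    (hHcard : Nat.card H + 1 = Fintype.card Ω)
    (hHfix : ∀ u ∈ H, u ≠ 1 → ∀ c : Ω, u • c = c → c = a) :
    e ≤ Nat.card {C : ConjClasses G // ∀ g : G, ConjClasses.mk g = C → g ∉ H} := by
  subst he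
  obtain ⟨e, he⟩ : ∃ e, e = Nat.card ↥(MulAction.stabilizer G a ⊓ MulAction.stabilizer G b : Subgroup G) :=
    ⟨_, rfl⟩
  rw [← he] at hlt ⊢
  set I := Finset.univ.filter fun x : G => orderOf x = 2 with hI
  let R : G → Finset G := fun g => I.filter fun x => orderOf (x * g) = 2
  let P : G → Prop := fun g => ∃ k : G, k * g * k⁻¹ ∈ H
  set Out := Finset.univ.filter fun g : G => ¬ P g with hOut
  set In := Finset.univ.filter fun g : G => P g with hIn
  have hGc : Nat.card G = (h + 1) * (h * e) := by rw [zass_card hZ hab, hh, Nat.add_sub_cancel, he]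
  have hTc : I.card * (h + 1 - (h + 1) % 2) = (h + 1) * h * e := by
    rw [hI, he, ← hh, zass_involution_count hZ hab hodd, hh, Nat.add_sub_cancel]
  -- total number of pairs
  have htot : ∑ g, (R g).card = I.card * I.card := by
    simp only [R, Finset.card_filter (fun x => orderOf (x * _) = 2)]
    rw [Finset.sum_comm]
    refine (Finset.sum_congr rfl fun x _ => ?_).trans (by rw [Finset.sum_const, smul_eq_mul])
    rw [Fintype.sum_equiv (Equiv.mulLeft x) (fun g => if orderOf (x * g) = 2 then 1 else 0)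
      (fun g => if orderOf g = 2 then 1 else 0) (fun g => rfl)]
    rw [← Finset.card_filter]
  have hinv : ∀ g x : G, x ∈ R g → x * x = 1 ∧ x * g = g⁻¹ * x := by
    intro g x hx
    simp only [R, I, Finset.mem_filter, Finset.mem_univ, true_and] at hx
    have h1 : x * x = 1 := by rw [← pow_two, ← hx.1, pow_orderOf_eq_one]
    have h2 : (x * g) * (x * g) = 1 := by rw [← pow_two, ← hx.2, pow_orderOf_eq_one]
    refine ⟨h1, ?_⟩
    rw [eq_inv_of_mul_eq_one_right h2, mul_inv_rev, inv_eq_of_mul_eq_one_right h1]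
  -- bound by the centraliser
  have hcent : ∀ g : G, (R g).card ≤ Nat.card (Subgroup.centralizer ({g} : Set G)) := by
    intro g
    rcases (R g).eq_empty_or_nonempty with he' | ⟨x0, hx0⟩
    · simp [he']
    rw [Nat.card_eq_fintype_card, Fintype.card_subtype]
    refine Finset.card_le_card_of_injOn (fun x => x0 * x) (fun x hx => ?_) fun x _ y _ h => mul_left_cancel h
    simp only [Finset.coe_filter, Finset.mem_univ, true_and, Set.mem_setOf_eq,
      Subgroup.mem_centralizer_singleton_iff]
    obtain ⟨hx00, hx0g⟩ := hinv g x0 hx0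
    have hx0g' : x0 * g⁻¹ = g * x0 := by
      have h1 : g * x0 * g = x0 := by rw [mul_assoc, hx0g, mul_inv_cancel_left]
      conv_lhs => rw [← h1]
      rw [mul_inv_cancel_right]
    rw [mul_assoc, (hinv g x (Finset.mem_coe.1 hx)).2, ← mul_assoc, hx0g', mul_assoc]
  -- involutions of the kernel
  have hIH : Even h → (I.filter fun x => x ∈ H).card ≤ e := by
    intro hev
    haveI := zass_trans hZ
    have hfix : ∀ c : Ω, (I.filter fun x => x • c = c).card = (I.filter fun x => x • a = a).card := by
      intro c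
      obtain ⟨k, rfl⟩ := MulAction.exists_smul_eq G a c
      refine Finset.card_equiv (MulAut.conj k⁻¹).toEquiv fun x => ?_
      simp only [I, Finset.mem_filter, Finset.mem_univ, true_and]
      show _ ↔ orderOf ((MulAut.conj k⁻¹) x) = 2 ∧ _
      rw [(MulAut.conj k⁻¹).orderOf_eq]
      refine and_congr_right fun _ => ?_
      show _ ↔ (k⁻¹ * x * k⁻¹⁻¹) • a = a
      rw [inv_inv, mul_smul, mul_smul, inv_smul_eq_iff]
    have h1 : (h + 1) * (I.filter fun x => x • a = a).card = I.card := by
      rw [← hh, ← smul_eq_mul, ← Finset.card_univ, ← Finset.sum_const,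
        ← Finset.sum_congr rfl (fun c _ => hfix c)]
      simp only [Finset.card_filter]
      rw [Finset.sum_comm, Finset.card_eq_sum_ones I]
      refine Finset.sum_congr rfl fun x hx => ?_
      rw [← Finset.card_filter, zass_involution_fix_card hZ hab hodd (Finset.mem_filter.1 hx).2, hh]
      obtain ⟨j, rfl⟩ := hev
      omega
    rw [show (h + 1) % 2 = 1 by obtain ⟨j, rfl⟩ := hev; omega, Nat.add_sub_cancel, ← h1] at hTc
    have h2 : (I.filter fun x => x • a = a).card = e := by
      refine Nat.eq_of_mul_eq_mul_left (show 0 < (h + 1) * h by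
        have : 0 < h := by omega
        positivity) ?_
      rw [← hTc]; ring
    rw [← h2]
    exact Finset.card_le_card fun x hx => by
      simp only [Finset.mem_filter] at hx ⊢
      exact ⟨hx.1, hHa hx.2⟩
  -- pairs with product conjugate into the kernel
  have hPbound : ∀ g ∈ In, g ≠ 1 → (R g).card ≤ if Even h ∧ g ∈ I then e - 1 else 0 := by
    intro g hg hg1
    obtain ⟨k, hk⟩ := (Finset.mem_filter.1 hg).2
    have hk1 : k * g * k⁻¹ ≠ 1 := fun h => hg1 (conj_eq_one_iff.1 h)
    rcases (R g).eq_empty_or_nonempty with he' | ⟨x0, hx0⟩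
    · simp [he']
    have key : ∀ x ∈ R g, k * x * k⁻¹ ∈ H ∧ orderOf (k * g * k⁻¹) = 2 := by
      intro x hx
      obtain ⟨hxx, -⟩ := hinv g x hx
      simp only [R, I, Finset.mem_filter, Finset.mem_univ, true_and] at hx
      refine zass_product_kernel (b := b) hZ hab hodd hHa hHcard hHfix hk hk1 (y := k * (x * g) * k⁻¹)
        ?_ ?_ ?_
      · exact ((MulAut.conj k).orderOf_eq x).trans hx.1
      · exact ((MulAut.conj k).orderOf_eq (x * g)).trans hx.2
      · rw [show k * x * k⁻¹ * (k * (x * g) * k⁻¹) = k * (x * x * g) * k⁻¹ by group, hxx, one_mul]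
    have hg2 : orderOf g = 2 := ((MulAut.conj k).orderOf_eq g).symm.trans (key x0 hx0).2
    have hev : Even h := by
      rw [even_iff_two_dvd, show h = Nat.card H by omega, ← (key x0 hx0).2]
      exact Subgroup.orderOf_dvd_natCard H hk
    rw [if_pos ⟨hev, Finset.mem_filter.2 ⟨Finset.mem_univ _, hg2⟩⟩]
    have hgm : k * g * k⁻¹ ∈ I.filter fun x => x ∈ H :=
      Finset.mem_filter.2 ⟨Finset.mem_filter.2 ⟨Finset.mem_univ _, ((MulAut.conj k).orderOf_eq g).trans hg2⟩, hk⟩
    calc (R g).card ≤ ((I.filter fun x => x ∈ H).erase (k * g * k⁻¹)).card := by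
          refine Finset.card_le_card_of_injOn (fun x => k * x * k⁻¹) (fun x hx => ?_)
            fun x _ y _ h => mul_left_cancel (mul_right_cancel h)
          have hx' := Finset.mem_coe.1 hx
          have hkey := key x hx'
          obtain ⟨hxx, -⟩ := hinv g x hx'
          simp only [R, I, Finset.mem_filter, Finset.mem_univ, true_and] at hx'
          refine Finset.mem_coe.2 (Finset.mem_erase.2 ⟨fun h => ?_, Finset.mem_filter.2
            ⟨Finset.mem_filter.2 ⟨Finset.mem_univ _, ((MulAut.conj k).orderOf_eq x).trans hx'.1⟩, hkey.1⟩⟩)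
          have hxg : x = g := mul_left_cancel (mul_right_cancel h)
          rw [← hxg, hxx, orderOf_one] at hx'
          omega
      _ ≤ e - 1 := by
          rw [Finset.card_erase_of_mem hgm]
          have := hIH hev
          omega
  have hInsum : ∑ g ∈ In, (R g).card ≤ I.card + if Even h then I.card * (e - 1) else 0 := by
    have h1 : (1 : G) ∈ In := Finset.mem_filter.2 ⟨Finset.mem_univ _, 1, by simpa using H.one_mem⟩
    rw [← Finset.add_sum_erase In _ h1]
    refine Nat.add_le_add (Finset.card_le_card (Finset.filter_subset _ _)) ?_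
    refine (Finset.sum_le_sum (g := fun g => if Even h ∧ g ∈ I then e - 1 else 0) fun g hg =>
      hPbound g (Finset.mem_erase.1 hg).2 (Finset.mem_erase.1 hg).1).trans ?_
    split
    · next hev =>
      simp only [hev, true_and, ← Finset.sum_filter, Finset.sum_const, smul_eq_mul]
      exact Nat.mul_le_mul_right _ (Finset.card_le_card fun g hg => (Finset.mem_filter.1 hg).2)
    · next hev => simp [hev]
  -- classes
  set K := Finset.univ.filter fun C : ConjClasses G => ∀ g : G, ConjClasses.mk g = C → g ∉ H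
  have hK : Nat.card {C : ConjClasses G // ∀ g : G, ConjClasses.mk g = C → g ∉ H} = K.card := by
    rw [Nat.card_eq_fintype_card, Fintype.card_subtype]
  rw [hK]
  have hPiff : ∀ g, g ∈ Out ↔ ConjClasses.mk g ∈ K := by
    intro g
    simp only [Out, K, P, Finset.mem_filter, Finset.mem_univ, true_and, not_exists,
      ConjClasses.mk_eq_mk_iff_isConj, isConj_iff]
    constructor
    · rintro h g' ⟨k, hk⟩ hg'
      refine h k⁻¹ ?_
      rw [← hk]
      simpa [mul_assoc] using hg'
    · intro h k hk
      exact h _ ⟨k⁻¹, by group⟩ hk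
  have hOutsum : ∑ g ∈ Out, Nat.card (Subgroup.centralizer ({g} : Set G)) = K.card * Nat.card G := by
    rw [← Finset.sum_fiberwise_of_maps_to (t := K) (g := ConjClasses.mk) fun g hg => (hPiff g).1 hg,
      ← smul_eq_mul, ← Finset.sum_const]
    refine Finset.sum_congr rfl fun C hC => ?_
    obtain ⟨g0, rfl⟩ := ConjClasses.exists_rep C
    have hconst : ∀ g ∈ Out.filter (fun g => ConjClasses.mk g = ConjClasses.mk g0),
        Nat.card (Subgroup.centralizer ({g} : Set G)) = Nat.card (Subgroup.centralizer ({g0} : Set G)) := by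
      intro g hg
      have h1 : Nat.card (ConjClasses.mk g).carrier = Nat.card (ConjClasses.mk g0).carrier := by
        rw [(Finset.mem_filter.1 hg).2]
      rw [card_carrier_eq_index, card_carrier_eq_index] at h1
      refine Nat.eq_of_mul_eq_mul_left (Nat.pos_of_ne_zero
        (Subgroup.centralizer ({g} : Set G)).index_ne_zero_of_finite) ?_
      rw [Subgroup.index_mul_card, h1, Subgroup.index_mul_card]
    rw [Finset.sum_congr rfl hconst, Finset.sum_const, smul_eq_mul,
      ← (Subgroup.centralizer ({g0} : Set G)).index_mul_card, ← card_carrier_eq_index]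
    congr 1
    rw [Nat.card_eq_fintype_card, ← Set.toFinset_card]
    congr 1
    ext g
    simp only [Finset.mem_filter, Set.mem_toFinset, ConjClasses.mem_carrier_iff_mk_eq, hPiff]
    exact ⟨fun h => h.2, fun h => ⟨h ▸ hC, h⟩⟩
  have hsplit : ∑ g ∈ In, (R g).card + ∑ g ∈ Out, (R g).card = I.card * I.card := by
    rw [← htot]; exact Finset.sum_filter_add_sum_filter_not _ _ _
  have hOutle : ∑ g ∈ Out, (R g).card ≤ K.card * Nat.card G :=
    hOutsum ▸ Finset.sum_le_sum fun g _ => hcent g
  rw [hGc] at hOutle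
  by_contra hlt'
  push Not at hlt'
  obtain ⟨e, rfl⟩ : ∃ e', e = e' + 1 := ⟨e - 1, by omega⟩
  have hKle : K.card ≤ e := by omega
  rw [Nat.add_sub_cancel] at hInsum
  have hOut2 := hOutle.trans (Nat.mul_le_mul_right _ hKle)
  rcases Nat.even_or_odd h with hev | hod
  · rw [if_pos hev] at hInsum
    rw [show (h + 1) % 2 = 1 by obtain ⟨j, rfl⟩ := hev; omega, Nat.add_sub_cancel] at hTc
    have hT : I.card = (h + 1) * (e + 1) := Nat.eq_of_mul_eq_mul_right (show 0 < h by omega)
      (hTc.trans (by ring))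
    rw [hT] at hInsum hsplit
    nlinarith
  · rw [if_neg (Nat.not_even_iff_odd.2 hod)] at hInsum
    rw [show (h + 1) % 2 = 0 by obtain ⟨j, rfl⟩ := hod; omega, Nat.sub_zero] at hTc
    have hT : I.card = h * (e + 1) := Nat.eq_of_mul_eq_mul_left (show 0 < h + 1 by omega)
      ((mul_comm _ _).trans (hTc.trans (by ring)))
    rw [hT] at hInsum hsplit
    nlinarith

end CfsgLib.Char.Exceptional
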