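import Mathlib
import Cfsg.Agent.Lib.Char.CliffordCorr
import Cfsg.Agent.Lib.Char.DegreeRatio
import Cfsg.Agent.Lib.Char.Extension
import Cfsg.Agent.Lib.SolvStruct.Primitive

/-! An irreducible character induced from a maximal subgroup over a solvable quotient is not
homogeneous on every normal subgroup. -/

set_option autoImplicit false

open scoped ComplexConjugate

namespace CfsgLib.Char.Exceptional

open CfsgLib.Char CfsgLib.Clifford

variable {G : Type*} [Group G] [Fintype G]

/-- The restriction to `M` is a multiple of one irreducible character. -/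
def Homog (M : Subgroup G) (f : G → ℂ) : Prop :=
  ∃ (φ : M → ℂ) (e : ℕ), Cfsg.IsIrrCharacter M φ ∧ (fun m : M => f m) = (e : ℂ) • φ

theorem irr_of_restrict_irr {H : Type*} [Group H] [Fintype H] (f : H →* G) {χ : G → ℂ}
    (hχ : Cfsg.IsCharacter G χ) (h : Cfsg.IsIrrCharacter H fun x => χ (f x)) :
    Cfsg.IsIrrCharacter G χ := by
  obtain ⟨n, ρ, rfl⟩ := hχ
  let σ : Representation ℂ H (Fin n → ℂ) := ρ.comp f
  have hσ : σ.IsIrreducible := (isIrreducible_iff_classInner_eq_one σ).2
    (classInner_irr_self ⟨_, h⟩)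
  have := CfsgLib.CharExt.isIrreducible_of_restrict ρ f σ fun _ => rfl
  exact isIrrCharacter_rep ρ

/-- Sizes along a supplement. -/
theorem card_of_supplement (M H C : Subgroup G) [M.Normal] (hMH : M ⊓ H = C) (hsup : M ⊔ H = ⊤) :
    Nat.card M = H.index * Nat.card C := by
  have h1 : M.index = M.relIndex H := by
    rw [← Subgroup.relIndex_sup_right (H := H) (K := M), sup_comm, hsup, Subgroup.relIndex_top_right]
  have h2 : M.relIndex H = C.relIndex H := by rw [← hMH, Subgroup.inf_relIndex_right]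
  have h3 : Nat.card C * C.relIndex H = Nat.card H := by
    rw [← Subgroup.relIndex_bot_left, ← Subgroup.relIndex_bot_left,
      Subgroup.relIndex_mul_relIndex _ _ _ bot_le (hMH ▸ inf_le_right)]
  have h4 := M.index_mul_card
  rw [← H.index_mul_card, h1, h2, ← h3] at h4
  refine Nat.eq_of_mul_eq_mul_left (Nat.pos_of_ne_zero (n := C.relIndex H) ?_) (h4.trans ?_)
  · intro h0
    rw [h0, mul_zero] at h3
    exact absurd h3.symm Nat.card_pos.ne'
  · ring

open Classical in
theorem sum_subgroup (M : Subgroup G) [Fintype M] (F : G → ℂ) :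
    ∑ m : M, F m = ∑ g ∈ Finset.univ.filter (· ∈ M), F g :=
  (Finset.sum_subtype _ (fun x => by simp) F).symm

open Classical in
/-- The core of the argument. -/
theorem not_all_homog {C M A B H : Subgroup G} [hC : C.Normal] [M.Normal] [B.Normal]
    (hCA : C ≤ A) (hAH : A ≤ H) (hMB : M ≤ B) (hMH : M ⊓ H = C) (hsup : M ⊔ H = ⊤)
    (hBH : B ⊓ H = A) (hH : H ≠ ⊤) (hcop : (C.relIndex A).Coprime H.index)
    (hne : M = ⊤ ∨ A ≠ C) (hcore : ∀ a ∈ A, (∀ x : G, x⁻¹ * a * x ∈ H) → a ∈ C)
    {ϑ : H → ℂ} (hϑ : Cfsg.IsIrrCharacter H ϑ)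
    (hϑC : Cfsg.IsIrrCharacter C fun c : C => ϑ ⟨c, hAH (hCA c.2)⟩)
    (hind : Cfsg.IsIrrCharacter G (Cfsg.indFun H ϑ))
    (h1 : Homog C (Cfsg.indFun H ϑ)) (h2 : Homog M (Cfsg.indFun H ϑ))
    (h3 : Homog B (Cfsg.indFun H ϑ)) : False := by
  set χ := Cfsg.indFun H ϑ with hχdef
  have hCH : C ≤ H := hCA.trans hAH
  have hCM : C ≤ M := hMH ▸ inf_le_left
  set φ : C → ℂ := fun c => ϑ ⟨c, hCH c.2⟩ with hφdef
  have hφ : Cfsg.IsIrrCharacter C φ := hϑC
  -- sums over conjugates
  have hχC : ∀ c : C, χ c = (Nat.card H : ℂ)⁻¹ * ∑ x : G, conjFn hC φ x⁻¹ c := by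
    intro c
    rw [hχdef, Cfsg.indFun]
    congr 1
    refine Finset.sum_congr rfl fun x _ => ?_
    have hm : x⁻¹ * (c : G) * x ∈ C := by simpa using hC.conj_mem _ c.2 x⁻¹
    rw [extendByZero_of_mem H ϑ (hCH hm), conjFn_apply]
    exact congrArg ϑ (Subtype.ext (by simp))
  have hres : (fun c : C => χ c) = (Nat.card H : ℂ)⁻¹ • ∑ x : G, conjFn hC φ x⁻¹ := by
    funext c
    rw [hχC c, Pi.smul_apply, Finset.sum_apply, smul_eq_mul]
  obtain ⟨φ0, e0, hφ0, he0⟩ := h1
  have hconjinner : ∀ g : G, Cfsg.classInner (fun c : C => χ c) (conjFn hC φ g) ≠ 0 := by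
    intro g
    rw [hres, classInner_smul_left, classInner_sum_left]
    refine mul_ne_zero (inv_ne_zero (Nat.cast_ne_zero.2 Nat.card_pos.ne')) ?_
    have : ∀ x : G, Cfsg.classInner (conjFn hC φ x⁻¹) (conjFn hC φ g) =
        if conjFn hC φ x⁻¹ = conjFn hC φ g then 1 else 0 := by
      intro x
      split
      · next he => rw [he]; exact classInner_irr_self ⟨_, isIrrCharacter_conjFn hC hφ g⟩
      · next he =>
        exact classInner_irr_of_ne (χ := ⟨_, isIrrCharacter_conjFn hC hφ _⟩)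
          (ψ := ⟨_, isIrrCharacter_conjFn hC hφ g⟩) fun e => he (congrArg Subtype.val e)
    simp only [this, Finset.sum_boole]
    refine Nat.cast_ne_zero.2 (Finset.card_ne_zero.2 ⟨g⁻¹, ?_⟩)
    simp
  have hall : ∀ g : G, conjFn hC φ g = φ0 := by
    intro g
    by_contra hne'
    refine hconjinner g ?_
    rw [he0, classInner_smul_left]
    exact mul_eq_zero_of_right _ (classInner_irr_of_ne (χ := ⟨φ0, hφ0⟩)
      (ψ := ⟨_, isIrrCharacter_conjFn hC hφ g⟩) fun e => hne' (congrArg Subtype.val e).symm)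
  have hφ0φ : φ0 = φ := by rw [← hall 1, conjFn_one]
  have hm0 : (H.index : ℂ) ≠ 0 := Nat.cast_ne_zero.2 Subgroup.index_ne_zero_of_finite
  have hval : ∀ c : C, χ c = (H.index : ℂ) * φ c := by
    intro c
    rw [hχC c, Finset.sum_congr rfl fun x _ => congrFun ((hall x⁻¹).trans hφ0φ) c, Finset.sum_const,
      Finset.card_univ, nsmul_eq_mul, ← Nat.card_eq_fintype_card, ← H.index_mul_card, Nat.cast_mul]
    have : (Nat.card H : ℂ) ≠ 0 := Nat.cast_ne_zero.2 Nat.card_pos.ne'
    field_simp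
  have hvan : ∀ y ∈ M, y ∉ C → χ y = 0 := by
    intro y hy hyC
    rw [hχdef, Cfsg.indFun, Finset.sum_eq_zero, mul_zero]
    intro x _
    refine extendByZero_of_notMem H ϑ fun hm => hyC ?_
    have hM' : x⁻¹ * y * x ∈ M := by simpa using ‹M.Normal›.conj_mem y hy x⁻¹
    have hc : x⁻¹ * y * x ∈ C := hMH ▸ ⟨hM', hm⟩
    have := hC.conj_mem _ hc x
    rwa [show x * (x⁻¹ * y * x) * x⁻¹ = y by group] at this
  have hcardM := card_of_supplement M H C hMH hsup
  obtain ⟨ψ, e, hψ, he⟩ := h2
  have hnormM : Cfsg.classInner (fun m : M => χ m) (fun m : M => χ m) = (H.index : ℂ) := by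
    simp only [Cfsg.classInner]
    rw [sum_subgroup M (fun g => χ g * conj (χ g)),
      ← Finset.sum_subset (s₁ := Finset.univ.filter (· ∈ C)) (fun x hx => by
        simp only [Finset.mem_filter, Finset.mem_univ, true_and] at hx ⊢; exact hCM hx)
        (fun x hx hxC => by
          simp only [Finset.mem_filter, Finset.mem_univ, true_and] at hx hxC
          rw [hvan x hx hxC, zero_mul]),
      ← sum_subgroup C (fun g => χ g * conj (χ g))]
    have hφφ : Cfsg.classInner φ φ = 1 := classInner_irr_self ⟨φ, hφ⟩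
    simp only [Cfsg.classInner] at hφφ
    have hCc : (Nat.card C : ℂ) ≠ 0 := Nat.cast_ne_zero.2 Nat.card_pos.ne'
    have hsumφ : ∑ c : C, φ c * conj (φ c) = (Nat.card C : ℂ) := by
      rw [inv_mul_eq_div, div_eq_one_iff_eq hCc] at hφφ
      exact hφφ
    rw [Finset.sum_congr rfl (g := fun c : C => (H.index : ℂ) * (H.index : ℂ) * (φ c * conj (φ c)))
      fun c _ => by rw [hval c, map_mul, map_natCast]; ring, ← Finset.mul_sum, hsumφ, hcardM, Nat.cast_mul]
    field_simp
  rw [he, classInner_smul_left, classInner_smul_right, classInner_irr_self ⟨ψ, hψ⟩, mul_one,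
    map_natCast, ← Nat.cast_mul] at hnormM
  have hee : e * e = H.index := Nat.cast_injective hnormM
  have hmne : H.index ≠ 1 := fun h => hH (Subgroup.index_eq_one.1 h)
  rcases hne with hMtop | hAC
  · -- `χ` itself is homogeneous on `G`
    refine hmne ?_
    have h1' : Cfsg.classInner χ χ = 1 := classInner_irr_self ⟨χ, hind⟩
    have hψψ : Cfsg.classInner (fun m : M => χ m) (fun m : M => χ m) = 1 := by
      rw [← h1']
      simp only [Cfsg.classInner]
      rw [sum_subgroup M (fun g => χ g * conj (χ g)), hMtop]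
      simp
    rw [he, classInner_smul_left, classInner_smul_right, classInner_irr_self ⟨ψ, hψ⟩, mul_one,
      map_natCast, ← Nat.cast_mul] at hψψ
    rw [← hee]
    exact Nat.cast_eq_one.1 hψψ
  -- the subgroup `B`
  have hBsup : B ⊔ H = ⊤ := top_le_iff.1 (hsup ▸ sup_le_sup_right hMB H)
  have hcardB := card_of_supplement B H A hBH hBsup
  obtain ⟨β, f, hβ, hf⟩ := h3
  let ι : M →* B := Subgroup.inclusion hMB
  have hresM : (fun m : M => χ m) = (f : ℂ) • fun m => β (ι m) := by
    funext m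
    exact congrFun hf (ι m)
  obtain ⟨k, hk⟩ := IsChar.classInner_eq_natCast (IsChar.comp ι (IsIrr.isCharacter hβ))
    (IsIrr.isCharacter hψ)
  have hef : e = f * k := by
    have h := congrArg (fun F => Cfsg.classInner F ψ) hresM
    rw [he, classInner_smul_left, classInner_smul_left, classInner_irr_self ⟨ψ, hψ⟩, hk, mul_one,
      ← Nat.cast_mul] at h
    exact Nat.cast_injective h
  have he0' : e ≠ 0 := fun h => by rw [h, zero_mul] at hee; exact Subgroup.index_ne_zero_of_finite hee.symm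
  have hf0 : f ≠ 0 := fun h => he0' (by rw [hef, h, zero_mul])
  have hk0 : k ≠ 0 := fun h => he0' (by rw [hef, h, mul_zero])
  have hβM : ∀ m : M, β (ι m) = (k : ℂ) * ψ m := by
    intro m
    have h := congrFun hresM m
    rw [congrFun he m, Pi.smul_apply, Pi.smul_apply, smul_eq_mul, smul_eq_mul, hef, Nat.cast_mul,
      mul_assoc] at h
    exact (mul_left_cancel₀ (Nat.cast_ne_zero.2 hf0) h).symm
  have hkdvd : k ∣ C.relIndex A := by
    haveI : (M.subgroupOf B).Normal := ‹M.Normal›.subgroupOf B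
    obtain ⟨nβ, ρ, hρi, hρ⟩ := hβ
    obtain ⟨nψ, σ, hσi, hσ⟩ := hψ
    let j : M.subgroupOf B ≃* M := Subgroup.subgroupOfEquivOfLe hMB
    let σ' : Representation ℂ (M.subgroupOf B) (Fin nψ → ℂ) := σ.comp j.toMonoidHom
    have hσi' : σ'.IsIrreducible := by
      refine (isIrreducible_iff_classInner_eq_one σ').2 ?_
      exact (classInner_comp_equiv j σ.character σ.character).trans
        ((isIrreducible_iff_classInner_eq_one σ).1 hσi)
    have := hρi
    have hinvψ : ∀ (g : B) (n : M.subgroupOf B), σ'.character (CfsgLib.CharExt.cn g n) = σ'.character n := by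
      intro g n
      have h1 := hβM (j n)
      have h2 := hβM (j (CfsgLib.CharExt.cn g n))
      have h3 : β (ι (j (CfsgLib.CharExt.cn g n))) = β (ι (j n)) := by
        have he : ι (j (CfsgLib.CharExt.cn g n)) = g * ι (j n) * g⁻¹ := rfl
        rw [he, ← hρ]
        exact (isClassFunction_rep ρ) (ι (j n)) g
      rw [h2, h1] at h3
      show σ.character (j (CfsgLib.CharExt.cn g n)) = σ.character (j n)
      rw [hσ]
      exact mul_left_cancel₀ (Nat.cast_ne_zero.2 hk0) h3
    have hd := CfsgLib.CharExt.finrank_intertwining_dvd_index ρ σ' hinvψ k hk0 fun n => by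
      show ρ.character (n : B) = (k : ℂ) * σ.character (j n)
      rw [hρ, hσ]
      exact hβM (j n)
    have hidx : (M.subgroupOf B).index = C.relIndex A := by
      show M.relIndex B = _
      have hh1 : Nat.card M * M.relIndex B = Nat.card B := by
        rw [← Subgroup.relIndex_bot_left, ← Subgroup.relIndex_bot_left,
          Subgroup.relIndex_mul_relIndex _ _ _ bot_le hMB]
      have hh2 : Nat.card C * C.relIndex A = Nat.card A := by
        rw [← Subgroup.relIndex_bot_left, ← Subgroup.relIndex_bot_left,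
          Subgroup.relIndex_mul_relIndex _ _ _ bot_le hCA]
      refine Nat.eq_of_mul_eq_mul_left (Nat.card_pos (α := M)) ?_
      rw [hh1, hcardB, ← hh2, hcardM]
      ring
    exact hidx ▸ hd
  have hk1 : k = 1 := Nat.eq_one_of_dvd_coprimes hcop hkdvd
    ⟨f * e, by rw [← hee]; nth_rw 1 [hef]; ring⟩
  have hff : f * f = H.index := by rw [← hee, hef, hk1, mul_one]
  -- the norm on `B`
  have hnormB : ∑ b ∈ Finset.univ.filter (· ∈ B), ‖χ b‖ ^ 2 =
      (H.index : ℝ) * Nat.card B := by
    have h : Cfsg.classInner (fun b : B => χ b) (fun b : B => χ b) = ((f * f : ℕ) : ℂ) := by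
      rw [hf, classInner_smul_left, classInner_smul_right, classInner_irr_self ⟨β, hβ⟩, mul_one,
        map_natCast, Nat.cast_mul]
    rw [hff] at h
    simp only [Cfsg.classInner] at h
    rw [sum_subgroup B (fun g => χ g * conj (χ g)), inv_mul_eq_div,
      div_eq_iff (Nat.cast_ne_zero.2 Nat.card_pos.ne')] at h
    have h' := congrArg Complex.re h
    simp only [Complex.re_sum, Complex.mul_conj, Complex.ofReal_re] at h'
    simp only [← Complex.normSq_eq_norm_sq]
    rw [h']
    norm_num [Complex.mul_re]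
  -- the bound
  have hϑA : Cfsg.IsIrrCharacter A fun a : A => ϑ ⟨a, hAH a.2⟩ :=
    irr_of_restrict_irr (Subgroup.inclusion hCA) (IsChar.comp (Subgroup.inclusion hAH) (IsIrr.isCharacter hϑ)) hϑC
  let z : G → ℝ := fun a => ‖Cfsg.extendByZero H ϑ a‖ ^ 2
  let K : G → Finset G := fun b => Finset.univ.filter fun x => x⁻¹ * b * x ∈ H
  have hcs : ∀ b, ‖χ b‖ ^ 2 ≤ ((K b).card : ℝ) * (∑ x, z (x⁻¹ * b * x)) / (Nat.card H : ℝ) ^ 2 := by
    intro b
    rw [hχdef, Cfsg.indFun, norm_mul, mul_pow, norm_inv, Complex.norm_natCast, inv_pow, inv_mul_eq_div]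
    refine div_le_div_of_nonneg_right ?_ (by positivity)
    have hs : ∑ x, Cfsg.extendByZero H ϑ (x⁻¹ * b * x) = ∑ x ∈ K b, Cfsg.extendByZero H ϑ (x⁻¹ * b * x) := by
      refine (Finset.sum_subset (Finset.subset_univ _) fun x _ hx => ?_).symm
      exact extendByZero_of_notMem H ϑ fun h => hx (Finset.mem_filter.2 ⟨Finset.mem_univ _, h⟩)
    rw [hs]
    refine (pow_le_pow_left₀ (norm_nonneg _) (norm_sum_le _ _) 2).trans ?_
    refine sq_sum_le_card_mul_sum_sq.trans (mul_le_mul_of_nonneg_left ?_ (Nat.cast_nonneg _))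
    exact Finset.sum_le_sum_of_subset_of_nonneg (Finset.subset_univ _) fun x _ _ => sq_nonneg _
  have hKconj : ∀ (a x : G), (K (x * a * x⁻¹)).card = (K a).card := by
    intro a x
    refine Finset.card_equiv (Equiv.mulLeft x⁻¹) fun y => ?_
    simp only [K, Finset.mem_filter, Finset.mem_univ, true_and, Equiv.coe_mulLeft]
    rw [show y⁻¹ * (x * a * x⁻¹) * y = (x⁻¹ * y)⁻¹ * a * (x⁻¹ * y) by group]
  have hA : ∀ x : G, ∑ b ∈ Finset.univ.filter (· ∈ B), ((K b).card : ℝ) * z (x⁻¹ * b * x) =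
      ∑ a ∈ Finset.univ.filter (· ∈ A), ((K a).card : ℝ) * z a := by
    intro x
    have hB : ∑ b ∈ Finset.univ.filter (· ∈ B), ((K b).card : ℝ) * z (x⁻¹ * b * x) =
        ∑ a ∈ Finset.univ.filter (· ∈ B), ((K a).card : ℝ) * z a := by
      refine Finset.sum_equiv (MulAut.conj x⁻¹).toEquiv (fun b => ?_) fun b _ => ?_
      · simp only [Finset.mem_filter, Finset.mem_univ, true_and]
        show b ∈ B ↔ x⁻¹ * b * x⁻¹⁻¹ ∈ B
        exact ⟨fun hb => ‹B.Normal›.conj_mem b hb x⁻¹, fun h' => by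
          have := ‹B.Normal›.conj_mem _ h' x
          rwa [show x * (x⁻¹ * b * x⁻¹⁻¹) * x⁻¹ = b by group] at this⟩
      · show ((K b).card : ℝ) * z (x⁻¹ * b * x) = ((K (x⁻¹ * b * x⁻¹⁻¹)).card : ℝ) * z (x⁻¹ * b * x⁻¹⁻¹)
        rw [hKconj, inv_inv]
    rw [hB]
    refine (Finset.sum_subset (fun a ha => ?_) fun a ha haA => ?_).symm
    · simp only [Finset.mem_filter, Finset.mem_univ, true_and] at ha ⊢
      exact (hBH.symm ▸ ha : a ∈ B ⊓ H).1
    · simp only [Finset.mem_filter, Finset.mem_univ, true_and] at ha haA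
      have haH : a ∉ H := fun h => haA (hBH ▸ ⟨ha, h⟩)
      simp [z, extendByZero_of_notMem H ϑ haH]
  have hsumA : ∑ a ∈ Finset.univ.filter (· ∈ A), z a = (Nat.card A : ℝ) := by
    have h : Cfsg.classInner (fun a : A => ϑ ⟨a, hAH a.2⟩) (fun a : A => ϑ ⟨a, hAH a.2⟩) = 1 :=
      classInner_irr_self ⟨_, hϑA⟩
    simp only [Cfsg.classInner] at h
    rw [inv_mul_eq_div, div_eq_one_iff_eq (Nat.cast_ne_zero.2 Nat.card_pos.ne')] at h
    have h' := congrArg Complex.re h
    simp only [Complex.re_sum, Complex.mul_conj, Complex.ofReal_re, Complex.natCast_re] at h'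
    rw [← h', ← Finset.sum_subtype (Finset.univ.filter (· ∈ A)) (fun x => by simp)
      (fun a => Complex.normSq (Cfsg.extendByZero H ϑ a)) |>.trans (Finset.sum_congr rfl fun a _ => by
        rw [extendByZero_of_mem H ϑ (hAH a.2)])]
    exact Finset.sum_congr rfl fun a _ => (Complex.normSq_eq_norm_sq _).symm
  have hub : (H.index : ℝ) * Nat.card B * (Nat.card H : ℝ) ^ 2 ≤
      (Nat.card G : ℝ) * ∑ a ∈ Finset.univ.filter (· ∈ A), ((K a).card : ℝ) * z a := by
    rw [← hnormB, Finset.sum_mul]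
    refine (Finset.sum_le_sum fun b _ => (le_div_iff₀ (pow_pos (Nat.cast_pos.2 Nat.card_pos) 2)).1 (hcs b)).trans ?_
    simp only [Finset.mul_sum]
    rw [Finset.sum_comm, Finset.sum_congr rfl fun x _ => hA x, Finset.sum_const, Finset.card_univ,
      nsmul_eq_mul, ← Nat.card_eq_fintype_card, Finset.mul_sum]
  have heq : ∀ a ∈ A, a ∉ C → z a = 0 := by
    have hle : ∀ a ∈ Finset.univ.filter (· ∈ A), ((K a).card : ℝ) * z a ≤ (Nat.card G : ℝ) * z a :=
      fun a _ => mul_le_mul_of_nonneg_right (by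
        rw [Nat.card_eq_fintype_card]; exact_mod_cast (K a).card_le_univ) (sq_nonneg _)
    have htot : (Nat.card G : ℝ) * ∑ a ∈ Finset.univ.filter (· ∈ A), z a ≤
        ∑ a ∈ Finset.univ.filter (· ∈ A), ((K a).card : ℝ) * z a := by
      refine le_of_mul_le_mul_left (le_trans (le_of_eq ?_) hub) (by exact_mod_cast Nat.card_pos : (0 : ℝ) < Nat.card G)
      rw [hsumA, ← H.index_mul_card, hcardB]
      push_cast
      ring
    rw [Finset.mul_sum] at htot
    have := (Finset.sum_eq_sum_iff_of_le hle).1 (le_antisymm (Finset.sum_le_sum hle) htot)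
    intro a ha haC
    by_contra hza
    have h := this a (Finset.mem_filter.2 ⟨Finset.mem_univ _, ha⟩)
    have hKfull : K a = Finset.univ := Finset.eq_univ_of_card _ (by
      rw [← Nat.card_eq_fintype_card]
      exact_mod_cast mul_right_cancel₀ hza h)
    refine haC (hcore a ha fun x => ?_)
    have hx := Finset.mem_univ x
    rw [← hKfull] at hx
    exact (Finset.mem_filter.1 hx).2
  have hAcard : Nat.card A = Nat.card C := by
    have hsumC : ∑ a ∈ Finset.univ.filter (· ∈ C), z a = (Nat.card C : ℝ) := by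
      have h : Cfsg.classInner φ φ = 1 := classInner_irr_self ⟨φ, hφ⟩
      simp only [Cfsg.classInner] at h
      rw [inv_mul_eq_div, div_eq_one_iff_eq (Nat.cast_ne_zero.2 Nat.card_pos.ne')] at h
      have h' := congrArg Complex.re h
      simp only [Complex.re_sum, Complex.mul_conj, Complex.ofReal_re, Complex.natCast_re] at h'
      rw [← h', ← Finset.sum_subtype (Finset.univ.filter (· ∈ C)) (fun x => by simp)
        (fun a => Complex.normSq (Cfsg.extendByZero H ϑ a)) |>.trans (Finset.sum_congr rfl fun a _ => by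
          rw [extendByZero_of_mem H ϑ (hCH a.2)])]
      exact Finset.sum_congr rfl fun a _ => (Complex.normSq_eq_norm_sq _).symm
    have : (Nat.card A : ℝ) = Nat.card C := by
      rw [← hsumA, ← hsumC]
      refine (Finset.sum_subset (fun x hx => ?_) fun x hx hxC => ?_).symm
      · simp only [Finset.mem_filter, Finset.mem_univ, true_and] at hx ⊢; exact hCA hx
      · simp only [Finset.mem_filter, Finset.mem_univ, true_and] at hx hxC; exact heq x hx hxC
    exact_mod_cast this
  exact hAC (Subgroup.eq_of_le_of_card_ge hCA hAcard.le).symm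

/-- The structure feeding the argument, from solvability of the quotient by the core. -/
theorem exists_homog_data {H C : Subgroup G} [C.Normal] (hH : IsCoatom H) (hCH : C ≤ H)
    (hmaxC : ∀ K : Subgroup G, K.Normal → K ≤ H → K ≤ C) (hs : Group.IsSolvable (G ⧸ C)) :
    ∃ M A B : Subgroup G, M.Normal ∧ B.Normal ∧ C ≤ A ∧ A ≤ H ∧ M ≤ B ∧
      M ⊓ H = C ∧ M ⊔ H = ⊤ ∧ B ⊓ H = A ∧ (C.relIndex A).Coprime H.index ∧
      (M = ⊤ ∨ A ≠ C) ∧ ∀ a ∈ A, ∀ b ∈ A, (b * a)⁻¹ * (a * b) ∈ C := by
  classical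
  have hqs := QuotientGroup.mk'_surjective C
  set U := H.map (QuotientGroup.mk' C) with hU
  have hUc : U.comap (QuotientGroup.mk' C) = H := by
    rw [hU, Subgroup.comap_map_eq, QuotientGroup.ker_mk', sup_eq_left.2 hCH]
  have hUco : IsCoatom U := by
    refine ⟨fun h => hH.1 (by rw [← hUc, h, Subgroup.comap_top]), fun V hV => ?_⟩
    have h : H < V.comap (QuotientGroup.mk' C) := by
      rw [← hUc]
      exact (Subgroup.comap_lt_comap_of_surjective hqs).2 hV
    rw [← Subgroup.map_comap_eq_self_of_surjective hqs V, hH.2 _ h, Subgroup.map_top_of_surjective (QuotientGroup.mk' C) hqs]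
  have hcore : U.normalCore = ⊥ := by
    haveI : (U.normalCore.comap (QuotientGroup.mk' C)).Normal := inferInstance
    have h : U.normalCore.comap (QuotientGroup.mk' C) ≤ C :=
      hmaxC _ inferInstance ((Subgroup.comap_mono (Subgroup.normalCore_le U)).trans hUc.le)
    rw [← Subgroup.map_comap_eq_self_of_surjective hqs U.normalCore, Subgroup.map_eq_bot_iff,
      QuotientGroup.ker_mk']
    exact h
  haveI : Nontrivial (G ⧸ C) := by
    by_contra h
    rw [not_nontrivial_iff_subsingleton] at h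
    exact hUco.1 (Subsingleton.elim _ _)
  obtain ⟨N, hNn, hN0, hNmin⟩ := CfsgLib.Components.exists_minimal_normal (G := G ⧸ C)
  haveI := hNn
  obtain ⟨p, hp, hNp, -, -, hCN, hNU⟩ :=
    CfsgLib.SolvStruct.solvable_minimal_normal hUco hcore hNn hN0 hNmin
  set M := N.comap (QuotientGroup.mk' C) with hM
  haveI hMn : M.Normal := by rw [hM]; infer_instance
  have hMH : M ⊓ H = C := by
    rw [← hUc, hM, ← Subgroup.comap_inf, disjoint_iff.1 hNU.disjoint, MonoidHom.comap_bot,
      QuotientGroup.ker_mk']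
  have hsup : M ⊔ H = ⊤ := by
    rw [← hUc, hM, Subgroup.comap_sup_eq (QuotientGroup.mk' C) _ _ hqs, hNU.sup_eq_top, Subgroup.comap_top]
  have hidx : H.index = Nat.card N := by
    rw [← hUc, Subgroup.index_comap_of_surjective _ hqs]
    exact hNU.index_eq_card
  by_cases hU0 : U = ⊥
  · have hHC : H = C := by rw [← hUc, hU0, MonoidHom.comap_bot, QuotientGroup.ker_mk']
    refine ⟨M, C, M, hMn, hMn, le_rfl, hCH, le_rfl, hMH, hsup, hMH, ?_, Or.inl ?_,
      fun a ha b hb => C.mul_mem (C.inv_mem (C.mul_mem hb ha)) (C.mul_mem ha hb)⟩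
    · rw [Subgroup.relIndex_self]; exact Nat.coprime_one_left _
    · rw [hHC, sup_eq_left.2 (hMH ▸ inf_le_left)] at hsup
      exact hsup
  haveI : Nontrivial U := (Subgroup.nontrivial_iff_ne_bot U).2 hU0
  haveI := hs
  obtain ⟨A0, hA0n, hA00, hA0min⟩ := CfsgLib.Components.exists_minimal_normal (G := U)
  haveI := hA0n
  obtain ⟨r, hr, hA0p, hA0c, -⟩ := CfsgLib.Core.isPGroup_of_minimal_normal A0 inferInstance hA00 hA0min
  set A1 := A0.map U.subtype with hA1
  have hA1U : A1 ≤ U := Subgroup.map_subtype_le A0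
  have hA1ne : A1 ≠ ⊥ := fun h => hA00 ((Subgroup.map_eq_bot_iff_of_injective _ U.subtype_injective).1 h)
  have hA1p : IsPGroup r A1 := hA0p.map U.subtype
  set B1 := N ⊔ A1 with hB1
  haveI hB1n : B1.Normal := by
    refine Subgroup.normalizer_eq_top_iff.1 (top_le_iff.1 ?_)
    rw [← hNU.sup_eq_top]
    refine sup_le ((le_sup_left : N ≤ B1).trans Subgroup.le_normalizer) fun u hu => ?_
    have h1 : N.map (MulAut.conj u).toMonoidHom = N := Subgroup.mem_normalizer_iff_map_conj_eq.1 ((Subgroup.normalizer_eq_top (H := N)).symm ▸ Subgroup.mem_top u)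
    have h2 : A1.map (MulAut.conj u).toMonoidHom = A1 := by
      rw [hA1, Subgroup.map_map]
      have : (MulAut.conj u).toMonoidHom.comp U.subtype =
          U.subtype.comp (MulAut.conj (⟨u, hu⟩ : U)).toMonoidHom := MonoidHom.ext fun x => rfl
      rw [this, ← Subgroup.map_map]
      exact congrArg _ (Subgroup.mem_normalizer_iff_map_conj_eq.1
        ((Subgroup.normalizer_eq_top (H := A0)).symm ▸ Subgroup.mem_top _))
    rw [Subgroup.mem_normalizer_iff_map_conj_eq]
    rw [hB1, Subgroup.map_sup]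
    erw [h1, h2]
  have hB1U : B1 ⊓ U = A1 := by
    refine le_antisymm ?_ (le_inf le_sup_right hA1U)
    rintro x ⟨hx, hxU⟩
    obtain ⟨n, hn, a, ha, rfl⟩ := Subgroup.mem_sup_of_normal_left.1 hx
    have hnU : n ∈ U := (Subgroup.mul_mem_cancel_right U (hA1U ha)).1 hxU
    rw [Subgroup.mem_bot.1 (hNU.disjoint.le_bot ⟨hn, hnU⟩), one_mul]
    exact ha
  have hrp : r ≠ p := by
    rintro rfl
    haveI := Fact.mk hr
    have hB1p : IsPGroup r B1 := hNp.to_sup_of_normal_left hA1p
    have hle : B1 ≤ N := hCN ▸ ((CfsgLib.Components.le_fitting hB1n hB1p.isNilpotent).trans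
      (CfsgLib.SolvStruct.minimal_normal_commutes_fitting hNn hN0 hNmin))
    exact hA1ne (le_bot_iff.1 ((le_inf (le_sup_right.trans hle) hA1U).trans hNU.disjoint.le_bot))
  refine ⟨M, A1.comap (QuotientGroup.mk' C), B1.comap (QuotientGroup.mk' C), hMn, inferInstance, ?_, ?_, Subgroup.comap_mono le_sup_left,
    hMH, hsup, ?_, ?_, Or.inr fun h => hA1ne ?_, ?_⟩
  · conv_lhs => rw [← QuotientGroup.ker_mk' C]
    exact Subgroup.ker_le_comap _ _
  · exact (Subgroup.comap_mono hA1U).trans hUc.le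
  · rw [← hUc, ← Subgroup.comap_inf, hB1U]
  · have hrel : C.relIndex (A1.comap (QuotientGroup.mk' C)) = Nat.card A1 := by
      have := Subgroup.relIndex_comap (⊥ : Subgroup (G ⧸ C)) (QuotientGroup.mk' C) (A1.comap (QuotientGroup.mk' C))
      rw [MonoidHom.comap_bot, QuotientGroup.ker_mk',
        Subgroup.map_comap_eq_self_of_surjective hqs, Subgroup.relIndex_bot_left] at this
      exact this
    rw [hrel, hidx]
    haveI := Fact.mk hp
    haveI := Fact.mk hr
    obtain ⟨i, hi⟩ := hA1p.exists_card_eq (p := r)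
    obtain ⟨j, hj⟩ := hNp.exists_card_eq (p := p)
    rw [hi, hj]
    exact Nat.coprime_pow_primes _ _ hr hp hrp
  · rw [← Subgroup.map_comap_eq_self_of_surjective hqs A1, h, Subgroup.map_eq_bot_iff,
      QuotientGroup.ker_mk']
  · intro a ha b hb
    obtain ⟨x, hx, hxa⟩ := Subgroup.mem_map.1 (Subgroup.mem_comap.1 ha)
    obtain ⟨y, hy, hyb⟩ := Subgroup.mem_map.1 (Subgroup.mem_comap.1 hb)
    have hxy : x * y = y * x :=
      congrArg Subtype.val (hA0c.is_comm.comm (⟨x, hx⟩ : A0) ⟨y, hy⟩)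
    rw [← QuotientGroup.eq_one_iff, ← QuotientGroup.mk'_apply, map_mul, map_inv, map_mul, map_mul,
      ← hxa, ← hyb, ← map_mul, ← map_mul, hxy, inv_mul_cancel]

end CfsgLib.Char.Exceptional
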