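import Mathlib
import Cfsg.Agent.Lib.Char.Basic
import Cfsg.Agent.Lib.Char.AbelianInertia
import Cfsg.Agent.Lib.Char.Central
import Cfsg.Agent.Lib.Blocks.Kernel

/-! Degrees of characters nontrivial on an abelian subgroup with disjoint centralisers. -/

set_option autoImplicit false

open scoped ComplexConjugate
open CfsgLib.Char

namespace CfsgLib.Char.Exceptional.SmallDegree

variable {G : Type*} [Group G]

theorem normsum_eq [Fintype G] (f : G → ℂ) :
    ((∑ g, ‖f g‖ ^ 2 : ℝ) : ℂ) = (Nat.card G : ℂ) * Cfsg.classInner f f := by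
  rw [Cfsg.classInner, ← mul_assoc, mul_inv_cancel₀ (Nat.cast_ne_zero.2 Nat.card_pos.ne'), one_mul]
  push_cast
  exact Finset.sum_congr rfl fun g _ => (Complex.mul_conj' (f g)).symm

theorem normsum_sum_irr [Fintype G] [Fintype (Cfsg.IrrCharacter G)] (a : Cfsg.IrrCharacter G → ℕ) :
    ∑ g, ‖(∑ θ, (a θ : ℂ) • (θ : G → ℂ)) g‖ ^ 2 = (Nat.card G : ℝ) * ∑ θ, (a θ : ℝ) ^ 2 := by
  have h := normsum_eq (∑ θ, (a θ : ℂ) • (θ : G → ℂ))
  rw [classInner_sum_right] at h
  simp only [classInner_smul_right, classInner_sum_irr, map_natCast] at h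
  apply Complex.ofReal_injective
  rw [h]
  push_cast
  congr 1
  exact Finset.sum_congr rfl fun θ _ => by ring

theorem avg_eq_or [Finite G] (M : Subgroup G) [hM : M.Normal] [Fintype M] {θ : G → ℂ}
    (hθ : Cfsg.IsIrrCharacter G θ) :
    (∀ g, ∑ h : M, θ (g * h) = (Nat.card M : ℂ) * θ g) ∨ (∀ g, ∑ h : M, θ (g * h) = 0) := by
  obtain ⟨k, ρ, hρ, rfl⟩ := hθ
  haveI := hρ
  set E : Module.End ℂ (Fin k → ℂ) := ∑ h : M, ρ h with hE
  have hcomm : ∀ g, E * ρ g = ρ g * E := fun g => by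
    rw [hE, Finset.sum_mul, Finset.mul_sum]
    let e : M ≃ M :=
      { toFun := fun h => ⟨g⁻¹ * h * g, by simpa using hM.conj_mem _ h.2 g⁻¹⟩
        invFun := fun h => ⟨g * h * g⁻¹, hM.conj_mem _ h.2 g⟩
        left_inv := fun h => Subtype.ext (by group)
        right_inv := fun h => Subtype.ext (by group) }
    refine Fintype.sum_equiv e _ _ fun h => ?_
    rw [← map_mul, ← map_mul]
    exact congrArg ρ (show (h : G) * g = g * (g⁻¹ * h * g) by group)
  obtain ⟨c, hc⟩ := CfsgLib.CharIntegral.exists_scalar_of_commute ρ E hcomm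
  have hval : ∀ g, ∑ h : M, ρ.character (g * h) = c * ρ.character g := fun g => by
    simp only [Representation.character]
    rw [← map_sum]
    simp only [map_mul]
    rw [← Finset.mul_sum, ← hE, hc]
    simp [Module.End.mul_eq_comp, LinearMap.comp_smul, map_smul]
  have hsq : ∀ g, c * (c * ρ.character g) = (Nat.card M : ℂ) * (c * ρ.character g) := fun g => by
    rw [← hval g, Finset.mul_sum]
    calc ∑ h : M, c * ρ.character (g * h) = ∑ h : M, ∑ l : M, ρ.character (g * h * l) :=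
          Finset.sum_congr rfl fun h _ => (hval _).symm
      _ = ∑ h : M, ∑ l : M, ρ.character (g * l) := Finset.sum_congr rfl fun h _ =>
          Fintype.sum_equiv (Equiv.mulLeft h) _ _ fun l => by simp [mul_assoc]
      _ = _ := by rw [Finset.sum_const, Finset.card_univ, nsmul_eq_mul, Nat.card_eq_fintype_card]
  have hirr : ρ.character 1 ≠ 0 := IsIrr.apply_one_ne_zero (isIrrCharacter_rep ρ)
  rcases eq_or_ne c 0 with hc0 | hc0
  · exact Or.inr fun g => by rw [hval, hc0, zero_mul]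
  · refine Or.inl fun g => ?_
    rw [hval, mul_right_cancel₀ (mul_ne_zero hc0 hirr) (hsq 1)]

theorem central_scalar [Fintype G] {χ : G → ℂ} (hχ : Cfsg.IsIrrCharacter G χ) {z : G}
    (hz : z ∈ Subgroup.center G) : ∃ ω : ℂ, ‖ω‖ = 1 ∧ ∀ g, χ (z * g) = ω * χ g := by
  obtain ⟨k, ρ, hρ, rfl⟩ := hχ
  haveI := hρ
  obtain ⟨ω, hω⟩ := CfsgLib.CharIntegral.exists_scalar_of_commute ρ (ρ z) fun g => by
    rw [← map_mul, ← map_mul, Subgroup.mem_center_iff.1 hz g]
  have hval : ∀ g, ρ.character (z * g) = ω * ρ.character g := fun g => by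
    simp only [Representation.character, map_mul, hω]
    simp [Module.End.mul_eq_comp, LinearMap.smul_comp, map_smul]
  refine ⟨ω, ?_, hval⟩
  have hpow : ∀ m : ℕ, ρ.character (z ^ m) = ω ^ m * ρ.character 1 := fun m => by
    induction m with
    | zero => simp
    | succ m ih => rw [pow_succ', hval, ih]; ring
  have h := hpow (Nat.card G)
  rw [pow_card_eq_one'] at h
  have hp : ω ^ Nat.card G = 1 :=
    mul_right_cancel₀ (IsIrr.apply_one_ne_zero (isIrrCharacter_rep ρ)) (by rw [← h, one_mul])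
  exact Complex.norm_eq_one_of_pow_eq_one hp Nat.card_pos.ne'

theorem fixed_free_conj (H : Subgroup G) [Finite H] (hab : ∀ a ∈ H, ∀ b ∈ H, a * b = b * a) {n : G}
    (hn : n ∈ Subgroup.normalizer (H : Set G)) (hfree : ∀ h ∈ H, h ≠ 1 → n * h ≠ h * n) :
    ∀ h ∈ H, ∃ k ∈ H, n * h = k * n * k⁻¹ := by
  let f : H → H := fun k => ⟨n⁻¹ * k * n * (k : G)⁻¹, mul_mem
    ((Subgroup.mem_normalizer_iff''.1 hn _).1 k.2) (inv_mem k.2)⟩
  have hinj : Function.Injective f := by
    intro k k' hkk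
    have h : n⁻¹ * (k : G) * n * (k : G)⁻¹ = n⁻¹ * k' * n * (k' : G)⁻¹ := congrArg Subtype.val hkk
    by_contra hne
    refine hfree ((k' : G)⁻¹ * k) (mul_mem (inv_mem k'.2) k.2) (fun h1 => hne (Subtype.ext (inv_mul_eq_one.1 h1).symm)) ?_
    have ha : n⁻¹ * (k : G) * n = n⁻¹ * k' * n * ((k' : G)⁻¹ * k) := by
      rw [← mul_assoc, ← h]; group
    calc n * ((k' : G)⁻¹ * k) = n * ((n⁻¹ * k' * n)⁻¹ * (n⁻¹ * (k : G) * n)) := by rw [ha]; group
      _ = _ := by group
  intro h hh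
  obtain ⟨k, hk⟩ := (Finite.injective_iff_surjective.1 hinj) ⟨h, hh⟩
  have hk' : n⁻¹ * (k : G) * n * (k : G)⁻¹ = h := congrArg Subtype.val hk
  exact ⟨k, k.2, by rw [← hk']; group⟩

/-- The first inequality. -/
theorem sq_degree_gt [Fintype G] (H : Subgroup G) [Fintype H] (hab : ∀ a ∈ H, ∀ b ∈ H, a * b = b * a)
    (hZ : H ⊓ Subgroup.center G = ⊥)
    (hone : ∀ g : G, g ∉ Subgroup.center G → ∀ a b : G,
      Subgroup.centralizer ({g} : Set G) ⊓ H.map (MulAut.conj a).toMonoidHom ≠ ⊥ →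
      Subgroup.centralizer ({g} : Set G) ⊓ H.map (MulAut.conj b).toMonoidHom ≠ ⊥ →
      H.map (MulAut.conj a).toMonoidHom = H.map (MulAut.conj b).toMonoidHom)
    {χ : G → ℂ} (hχ : Cfsg.IsIrrCharacter G χ) (hker : ∃ h ∈ H, χ h ≠ χ 1) (n c : ℕ) (hn : χ 1 = n)
    (hc : Cfsg.classInner (fun h : H => χ h) (fun _ => 1) = c) :
    (Nat.card H : ℝ) * (c : ℝ) ^ 2 < (n : ℝ) ^ 2 := by
  classical
  set N := Subgroup.normalizer (H : Set G) with hN
  let Z : Subgroup G := Subgroup.center G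
  let P : G → Prop := fun g => g ∉ Z ∧ ∃ h ∈ H, h ≠ 1 ∧ g * h = h * g
  let T : Finset G := Finset.univ.filter P
  have hne : ∀ g, ∀ a : G, ∀ h ∈ H, h ≠ 1 → g * (a * h * a⁻¹) = (a * h * a⁻¹) * g →
      Subgroup.centralizer ({g} : Set G) ⊓ H.map (MulAut.conj a).toMonoidHom ≠ ⊥ := by
    intro g a h hh hh1 hgh hbot
    have hmem : a * h * a⁻¹ ∈ Subgroup.centralizer ({g} : Set G) ⊓ H.map (MulAut.conj a).toMonoidHom :=
      ⟨Subgroup.mem_centralizer_singleton_iff.2 hgh.symm, h, hh, rfl⟩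
    rw [hbot, Subgroup.mem_bot, mul_inv_eq_one, mul_eq_left] at hmem
    exact hh1 hmem
  have hmapeq : ∀ a : G, H.map (MulAut.conj a).toMonoidHom = H → a ∈ N := by
    intro a ha
    rw [hN, Subgroup.mem_normalizer_iff]
    refine fun x => ⟨fun hx => ha.le ⟨x, hx, rfl⟩, fun hx => ?_⟩
    obtain ⟨y, hy, hy'⟩ := ha.ge hx
    exact (MulAut.conj a).injective hy' ▸ hy
  have hone1 : H.map (MulAut.conj (1 : G)).toMonoidHom = H := by
    ext x
    simp
  have hTN : ∀ g, P g → g ∈ N := by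
    rintro g ⟨hgZ, h, hh, hh1, hgh⟩
    refine hmapeq g ((hone g hgZ g 1 (hne g g h hh hh1 ?_) (hne g 1 h hh hh1 (by simpa using hgh))).trans hone1)
    rw [show g * h * g⁻¹ = h by rw [hgh]; group]; exact hgh
  -- the conjugates of `T` are disjoint
  let f : (G ⧸ N) × G → G := fun p => p.1.out * p.2 * p.1.out⁻¹
  have hfinj : Set.InjOn f ↑((Finset.univ : Finset (G ⧸ N)) ×ˢ T) := by
    rintro ⟨q, t⟩ ht ⟨q', t'⟩ ht' heq
    simp only [Finset.coe_product, Set.mem_prod, Finset.coe_univ, Set.mem_univ, true_and,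
      Finset.mem_coe, T, Finset.mem_filter, Finset.mem_univ] at ht ht'
    change q.out * t * q.out⁻¹ = q'.out * t' * q'.out⁻¹ at heq
    have hnz : q.out * t * q.out⁻¹ ∉ Subgroup.center G := fun hz => ht.1 (by
      have := (inferInstance : (Subgroup.center G).Normal).conj_mem _ hz q.out⁻¹
      simpa [mul_assoc] using this)
    obtain ⟨h, hh, hh1, hth⟩ := ht.2
    obtain ⟨h', hh', hh1', hth'⟩ := ht'.2
    have e1 := hne (q.out * t * q.out⁻¹) q.out h hh hh1 (by
      calc q.out * t * q.out⁻¹ * (q.out * h * q.out⁻¹) = q.out * (t * h) * q.out⁻¹ := by group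
        _ = _ := by rw [hth]; group)
    have e2 := hne (q.out * t * q.out⁻¹) q'.out h' hh' hh1' (by
      rw [heq]
      calc q'.out * t' * q'.out⁻¹ * (q'.out * h' * q'.out⁻¹) = q'.out * (t' * h') * q'.out⁻¹ := by group
        _ = _ := by rw [hth']; group)
    have hmm := hone _ hnz _ _ e1 e2
    have hmemN : q.out⁻¹ * q'.out ∈ N := hmapeq _ (by
      rw [show (MulAut.conj (q.out⁻¹ * q'.out)).toMonoidHom =
          (MulAut.conj q.out⁻¹).toMonoidHom.comp (MulAut.conj q'.out).toMonoidHom from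
        MonoidHom.ext fun x => by simp [mul_assoc],
        ← Subgroup.map_map, ← hmm, Subgroup.map_map]
      ext x
      simp [mul_assoc])
    have hq : q = q' := by
      rw [← QuotientGroup.out_eq' q, ← QuotientGroup.out_eq' q']
      exact QuotientGroup.eq.2 hmemN
    subst hq
    simpa using heq
  let Zf : Finset G := Finset.univ.filter (· ∈ Z)
  have hconj : ∀ g a, χ (a * g * a⁻¹) = χ g := fun g a => IsIrr.isClassFunction hχ g a
  have hZnorm : ∀ z ∈ Z, ‖χ z‖ = n := fun z hz => by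
    obtain ⟨ω, hω, hval⟩ := central_scalar hχ hz
    rw [← mul_one z, hval, norm_mul, hω, one_mul, hn, Complex.norm_natCast]
  set m := Nat.card Z with hm
  have hG : (N.index : ℝ) * (∑ g ∈ T, ‖χ g‖ ^ 2) + (m : ℝ) * (n : ℝ) ^ 2 ≤ (Nat.card G : ℝ) := by
    have htot : ∑ g, ‖χ g‖ ^ 2 = (Nat.card G : ℝ) := by
      apply Complex.ofReal_injective
      rw [normsum_eq, classInner_irr_self ⟨χ, hχ⟩]
      simp
    have hdisj : Disjoint (((Finset.univ : Finset (G ⧸ N)) ×ˢ T).image f) Zf := by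
      rw [Finset.disjoint_left]
      intro x hx hxZ
      obtain ⟨⟨q, t⟩, hqt, rfl⟩ := Finset.mem_image.1 hx
      refine (Finset.mem_filter.1 (Finset.mem_product.1 hqt).2).2.1 ?_
      have := (inferInstance : (Subgroup.center G).Normal).conj_mem _ (Finset.mem_filter.1 hxZ).2 q.out⁻¹
      simpa [f, mul_assoc] using this
    rw [← htot]
    refine le_trans ?_ (Finset.sum_le_sum_of_subset_of_nonneg (Finset.subset_univ _)
      (fun x _ _ => sq_nonneg ‖χ x‖) (s := ((Finset.univ : Finset (G ⧸ N)) ×ˢ T).image f ∪ Zf))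
    rw [Finset.sum_union hdisj, Finset.sum_image hfinj, Finset.sum_product]
    simp only [f, hconj, Finset.sum_const, Finset.card_univ, nsmul_eq_mul]
    have hZsum : ∑ z ∈ Zf, ‖χ z‖ ^ 2 = (m : ℝ) * (n : ℝ) ^ 2 := by
      rw [Finset.sum_congr rfl (g := fun _ => (n : ℝ) ^ 2) fun z hz => by
        rw [hZnorm z (Finset.mem_filter.1 hz).2], Finset.sum_const, nsmul_eq_mul, hm,
        Nat.card_eq_fintype_card, Fintype.card_subtype]
    rw [hZsum, ← Nat.card_eq_fintype_card]
    exact le_rfl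
  -- inside the normaliser
  have hHN : H ≤ N := Subgroup.le_normalizer
  let M : Subgroup N := H.subgroupOf N
  haveI hMn : M.Normal := Subgroup.normal_in_normalizer
  let eM : M ≃* H := Subgroup.subgroupOfEquivOfLe hHN
  letI := Fintype.ofFinite (Cfsg.IrrCharacter N)
  obtain ⟨a, ha⟩ := IsChar.exists_sum (IsChar.restrict N (IsIrr.isCharacter hχ))
  let av : (N → ℂ) → N → ℂ := fun F x => (Nat.card M : ℂ)⁻¹ * ∑ h : M, F (x * h)
  have hMcard : (Nat.card M : ℂ) ≠ 0 := Nat.cast_ne_zero.2 Nat.card_pos.ne'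
  have hor : ∀ θ : Cfsg.IrrCharacter N, (∀ x, av θ x = (θ : N → ℂ) x) ∨ (∀ x, av θ x = 0) := fun θ => by
    rcases avg_eq_or M θ.2 with h | h
    · exact Or.inl fun x => by simp only [av, h x]; rw [← mul_assoc, inv_mul_cancel₀ hMcard, one_mul]
    · exact Or.inr fun x => by simp only [av, h x, mul_zero]
  let a1 : Cfsg.IrrCharacter N → ℕ := fun θ => if ∀ x, av θ x = (θ : N → ℂ) x then a θ else 0
  let a2 : Cfsg.IrrCharacter N → ℕ := fun θ => if ∀ x, av θ x = (θ : N → ℂ) x then 0 else a θ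
  let χN : N → ℂ := fun x => χ x
  set ψ : N → ℂ := ∑ θ, (a1 θ : ℂ) • (θ : N → ℂ) with hψ
  set φ : N → ℂ := ∑ θ, (a2 θ : ℂ) • (θ : N → ℂ) with hφ
  have hsum : ∀ x, χN x = ψ x + φ x := fun x => by
    rw [hψ, hφ, ← Pi.add_apply, ← Finset.sum_add_distrib]
    show (fun x : N => χ x) x = _
    rw [ha]
    refine congrFun (Finset.sum_congr rfl fun θ _ => ?_) x
    rw [← add_smul, ← Nat.cast_add]
    simp only [a1, a2]
    split_ifs <;> simp
  have hψav : ∀ x, ψ x = av χN x := fun x => by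
    have hχN : ∀ y : N, χN y = ∑ θ, (a θ : ℂ) * (θ : N → ℂ) y := fun y => by
      have h := congrFun ha y
      simp only [Finset.sum_apply, Pi.smul_apply, smul_eq_mul] at h
      exact h
    have : av χN x = ∑ θ, (a θ : ℂ) * av θ x := by
      simp only [av, hχN, Finset.mul_sum]
      rw [Finset.sum_comm]
      exact Finset.sum_congr rfl fun θ _ => Finset.sum_congr rfl fun h _ => by ring
    rw [this, hψ, Finset.sum_apply]
    refine Finset.sum_congr rfl fun θ _ => ?_
    simp only [a1, Pi.smul_apply, smul_eq_mul]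
    rcases hor θ with h | h
    · rw [if_pos h, h x]
    · split_ifs with h'
      · rw [h' x]
      · rw [h x]; simp
  have hav1 : ∀ x : N, av χN x = (Nat.card H : ℂ)⁻¹ * ∑ h : H, χ ((x : G) * h) := fun x => by
    simp only [av, χN]
    rw [Nat.card_congr eM.toEquiv]
    congr 1
    exact Fintype.sum_equiv eM.toEquiv _ _ fun h => rfl
  have hsplit : ∑ x, ‖χN x‖ ^ 2 = ∑ x, ‖ψ x‖ ^ 2 + ∑ x, ‖φ x‖ ^ 2 := by
    rw [hψ, hφ, normsum_sum_irr, normsum_sum_irr, ← mul_add, ← Finset.sum_add_distrib,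
      show χN = _ from ha, normsum_sum_irr]
    congr 1
    refine Finset.sum_congr rfl fun θ _ => ?_
    simp only [a1, a2]
    split_ifs <;> simp
  have hψ1 : ∀ z ∈ Z, ∀ h ∈ H, ∀ x : N, (x : G) = z * h → ‖ψ x‖ = c := by
    intro z hz h hh x hx
    obtain ⟨ω, hω, hval⟩ := central_scalar hχ hz
    rw [hψav, hav1, hx]
    simp only [mul_assoc, hval, ← Finset.mul_sum]
    rw [Fintype.sum_equiv (Equiv.mulLeft (⟨h, hh⟩ : H)) (fun k : H => χ (h * k)) (fun k : H => χ k)
      (fun k => rfl), mul_left_comm, norm_mul, hω, one_mul,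
      show (Nat.card H : ℂ)⁻¹ * ∑ k : H, χ k = (c : ℂ) from by rw [← hc, Cfsg.classInner]; simp,
      Complex.norm_natCast]
  have hfree : ∀ x : N, ¬ P x → (x : G) ∉ Z → ψ x = χN x := by
    intro x hx hxZ
    have hxf : ∀ h ∈ H, h ≠ 1 → (x : G) * h ≠ h * x := fun h hh hh1 he => hx ⟨hxZ, h, hh, hh1, he⟩
    rw [hψav, hav1, Finset.sum_congr rfl (g := fun _ => χ x) fun h _ => by
      obtain ⟨k, -, hk⟩ := fixed_free_conj H hab x.2 hxf h h.2
      rw [hk, hconj], Finset.sum_const, Finset.card_univ, nsmul_eq_mul, ← Nat.card_eq_fintype_card,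
      ← mul_assoc, inv_mul_cancel₀ (Nat.cast_ne_zero.2 Nat.card_pos.ne'), one_mul]
  have hφ1 : (Nat.card N : ℝ) ≤ ∑ x, ‖φ x‖ ^ 2 := by
    rw [hφ, normsum_sum_irr]
    refine le_mul_of_one_le_right (Nat.cast_nonneg _) ?_
    by_contra hlt
    have hz : ∀ θ, a2 θ = 0 := fun θ => by
      by_contra hθ
      refine hlt (le_trans ?_ (Finset.single_le_sum (fun i _ => sq_nonneg (a2 i : ℝ)) (Finset.mem_univ θ)))
      exact one_le_pow₀ (by exact_mod_cast Nat.one_le_iff_ne_zero.2 hθ)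
    obtain ⟨h, hh, hne'⟩ := hker
    apply hne'
    have heq : ∀ x : N, χN x = ψ x := fun x => by rw [hsum, hφ]; simp [hz]
    have hval : ∀ k, ∀ hk : k ∈ H, χ k = (Nat.card H : ℂ)⁻¹ * ∑ u : H, χ u := fun k hk => by
      rw [show χ k = χN ⟨k, hHN hk⟩ from rfl, heq, hψav, hav1]
      congr 1
      exact Fintype.sum_equiv (Equiv.mulLeft (⟨k, hk⟩ : H)) _ _ fun u => rfl
    rw [hval h hh, hval 1 (one_mem H)]
  -- split the normaliser sum
  have hlow : (Nat.card N : ℝ) + (m : ℝ) * (Nat.card H : ℝ) * (c : ℝ) ^ 2 ≤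
      (∑ g ∈ T, ‖χ g‖ ^ 2) + (m : ℝ) * (n : ℝ) ^ 2 := by
    let A : Finset N := Finset.univ.filter fun x => P x
    let B : Finset N := Finset.univ.filter fun x => (x : G) ∈ Z
    let C : Finset N := Finset.univ.filter fun x => ¬ P x ∧ (x : G) ∉ Z
    have hAB : Disjoint A B := Finset.disjoint_filter.2 fun x _ h h' => h.1 h'
    have hABC : Disjoint (A ∪ B) C := by
      rw [Finset.disjoint_union_left]
      exact ⟨Finset.disjoint_filter.2 fun x _ h h' => h'.1 h, Finset.disjoint_filter.2 fun x _ h h' => h'.2 h⟩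
    have huniv : (Finset.univ : Finset N) = (A ∪ B) ∪ C := by
      ext x
      simp only [A, B, C, Finset.mem_univ, Finset.mem_union, Finset.mem_filter, true_and, true_iff]
      by_cases h1 : P (x : G)
      · exact Or.inl (Or.inl h1)
      · by_cases h2 : (x : G) ∈ Z
        · exact Or.inl (Or.inr h2)
        · exact Or.inr ⟨h1, h2⟩
    have hA : ∑ x ∈ A, ‖χN x‖ ^ 2 = ∑ g ∈ T, ‖χ g‖ ^ 2 := by
      refine Finset.sum_bij (fun x _ => (x : G)) (fun x hx => ?_) (fun x _ y _ h => Subtype.ext h)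
        (fun g hg => ?_) (fun x _ => rfl)
      · exact Finset.mem_filter.2 ⟨Finset.mem_univ _, (Finset.mem_filter.1 hx).2⟩
      · have hg' := (Finset.mem_filter.1 hg).2
        exact ⟨⟨g, hTN g hg'⟩, Finset.mem_filter.2 ⟨Finset.mem_univ _, hg'⟩, rfl⟩
    have hZN : Z ≤ N := fun z hz => by
      rw [hN, Subgroup.mem_normalizer_iff]
      intro x
      rw [← Subgroup.mem_center_iff.1 hz x, mul_inv_cancel_right]
    have hB : ∑ x ∈ B, ‖χN x‖ ^ 2 = (m : ℝ) * (n : ℝ) ^ 2 := by
      rw [Finset.sum_congr rfl fun x hx => by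
        rw [show χN x = χ x from rfl, hZnorm _ (Finset.mem_filter.1 hx).2], Finset.sum_const,
        nsmul_eq_mul, hm]
      congr 2
      rw [← Fintype.card_subtype, ← Nat.card_eq_fintype_card]
      exact Nat.card_congr
        { toFun := fun x => ⟨(x.1 : G), x.2⟩
          invFun := fun z => ⟨⟨z.1, hZN z.2⟩, z.2⟩
          left_inv := fun x => rfl
          right_inv := fun z => rfl }
    let ι : H × Z → N := fun p => ⟨(p.2 : G) * p.1, mul_mem (hZN p.2.2) (hHN p.1.2)⟩
    have hιinj : Function.Injective ι := by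
      rintro ⟨h, z⟩ ⟨h', z'⟩ he
      have he' : (z : G) * h = z' * h' := congrArg Subtype.val he
      have h1 : (z' : G)⁻¹ * z = h' * (h : G)⁻¹ := by
        calc (z' : G)⁻¹ * z = (z' : G)⁻¹ * ((z : G) * h) * (h : G)⁻¹ := by group
          _ = _ := by rw [he']; group
      have h2 : h' * (h : G)⁻¹ ∈ H ⊓ Subgroup.center G :=
        ⟨mul_mem h'.2 (Subgroup.inv_mem H h.2), h1 ▸ (Subgroup.mul_mem Z (Subgroup.inv_mem Z z'.2) z.2)⟩
      rw [hZ, Subgroup.mem_bot] at h2
      rw [h2, inv_mul_eq_one] at h1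
      exact Prod.ext (Subtype.ext (mul_inv_eq_one.1 h2).symm) (Subtype.ext h1.symm)
    have hdisj : Disjoint C (Finset.univ.image ι) := by
      rw [Finset.disjoint_left]
      intro x hx hxi
      obtain ⟨⟨h, z⟩, -, rfl⟩ := Finset.mem_image.1 hxi
      obtain ⟨hP, hnz⟩ := (Finset.mem_filter.1 hx).2
      refine hP ⟨hnz, h, h.2, fun h1 => hnz ?_, ?_⟩
      · show (z : G) * h ∈ Z
        rw [h1, mul_one]; exact z.2
      · show (z : G) * h * h = h * ((z : G) * h)
        rw [← mul_assoc (h : G) (z : G), Subgroup.mem_center_iff.1 z.2 (h : G)]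
    have hC : ∑ x ∈ C, ‖χN x‖ ^ 2 + (m : ℝ) * (Nat.card H : ℝ) * (c : ℝ) ^ 2 ≤ ∑ x, ‖ψ x‖ ^ 2 := by
      refine le_trans (le_of_eq ?_) (Finset.sum_le_sum_of_subset_of_nonneg (Finset.subset_univ _)
        (fun x _ _ => sq_nonneg ‖ψ x‖) (s := C ∪ Finset.univ.image ι))
      rw [Finset.sum_union hdisj, Finset.sum_image (hιinj.injOn)]
      congr 1
      · refine Finset.sum_congr rfl fun x hx => ?_
        rw [hfree x (Finset.mem_filter.1 hx).2.1 (Finset.mem_filter.1 hx).2.2]
      · rw [Finset.sum_congr rfl fun p _ => by rw [hψ1 _ p.2.2 _ p.1.2 (ι p) rfl], Finset.sum_const,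
          nsmul_eq_mul, Finset.card_univ, ← Nat.card_eq_fintype_card, Nat.card_prod, hm]
        push_cast
        ring
    have hdec : ∑ x, ‖χN x‖ ^ 2 = (∑ g ∈ T, ‖χ g‖ ^ 2) + (m : ℝ) * (n : ℝ) ^ 2 + ∑ x ∈ C, ‖χN x‖ ^ 2 := by
      conv_lhs => rw [huniv]
      rw [Finset.sum_union hABC, Finset.sum_union hAB, hA, hB]
    linarith [hsplit, hdec, hC, hφ1]
  have hidx : (N.index : ℝ) * (Nat.card N : ℝ) = (Nat.card G : ℝ) := by exact_mod_cast N.index_mul_card
  have hm0 : (0 : ℝ) < m := by exact_mod_cast (Nat.card_pos : 0 < Nat.card Z)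
  have hr : (1 : ℝ) ≤ N.index := by exact_mod_cast Nat.one_le_iff_ne_zero.2 N.index_ne_zero_of_finite
  have hn0 : (0 : ℝ) < (n : ℝ) ^ 2 := by
    have h0 : n ≠ 0 := fun h0 => IsIrr.apply_one_ne_zero hχ (by rw [hn, h0]; simp)
    positivity
  by_contra hcon
  push Not at hcon
  nlinarith [mul_le_mul_of_nonneg_left hlow (le_trans zero_le_one hr), hG, hidx,
    mul_le_mul_of_nonneg_left hcon (mul_nonneg (le_trans zero_le_one hr) hm0.le), mul_pos hm0 hn0]

/-- The second inequality. -/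
theorem succ_degree_sq_gt [Fintype G] (H : Subgroup G) [Fintype H] (hab : ∀ a ∈ H, ∀ b ∈ H, a * b = b * a)
    (hZ : H ⊓ Subgroup.center G = ⊥)
    (hone : ∀ g : G, g ∉ Subgroup.center G → ∀ a b : G,
      Subgroup.centralizer ({g} : Set G) ⊓ H.map (MulAut.conj a).toMonoidHom ≠ ⊥ →
      Subgroup.centralizer ({g} : Set G) ⊓ H.map (MulAut.conj b).toMonoidHom ≠ ⊥ →
      H.map (MulAut.conj a).toMonoidHom = H.map (MulAut.conj b).toMonoidHom)
    {χ : G → ℂ} (hχ : Cfsg.IsIrrCharacter G χ) (n : ℕ) (hn : χ 1 = n) (hn1 : n ≠ 1)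
    (hgen : ∀ M : Subgroup G, M.Normal → H ≤ M → M = ⊤) :
    (Nat.card H : ℝ) < (1 + (n : ℝ)) ^ 2 := by
  classical
  letI := Fintype.ofFinite (Cfsg.IrrCharacter G)
  letI := Fintype.ofFinite (Cfsg.IrrCharacter H)
  have hn2 : 2 ≤ n := by
    have : n ≠ 0 := fun h0 => IsIrr.apply_one_ne_zero hχ (by rw [hn, h0]; simp)
    omega
  obtain ⟨mm, hmm⟩ := IsChar.exists_sum (IsChar.mul (IsIrr.isCharacter hχ) (IsChar.conj (IsIrr.isCharacter hχ)))
  have hm1 : mm (trivChar G) = 1 := by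
    have h := classInner_sum_irr (fun θ => (mm θ : ℂ)) (trivChar G)
    rw [← hmm] at h
    have h2 := classInner_irr_self (⟨χ, hχ⟩ : Cfsg.IrrCharacter G)
    simp only [Cfsg.classInner, Pi.mul_apply, trivChar_apply, map_one, mul_one] at h h2
    rw [h2] at h
    exact_mod_cast h.symm
  choose d _ hd using fun θ : Cfsg.IrrCharacter G => IsIrr.exists_degree θ.2
  choose c hc using fun θ : Cfsg.IrrCharacter G =>
    IsChar.classInner_eq_natCast (IsChar.restrict H (IsIrr.isCharacter θ.2)) (isCharacter_one (G := H))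
  obtain ⟨b, hb⟩ := IsChar.exists_sum (IsChar.restrict H (IsIrr.isCharacter hχ))
  have hbn : n = ∑ l, b l := by
    have h := congrFun hb 1
    simp only [OneMemClass.coe_one, hn, Finset.sum_apply, Pi.smul_apply, smul_eq_mul,
      CfsgLib.Clifford.apply_one_eq_one_of_commute
        (fun x y : H => Subtype.ext (hab _ x.2 _ y.2)), mul_one] at h
    exact_mod_cast h
  -- degree
  have hdeg : n * n = ∑ θ, mm θ * d θ := by
    have h := congrFun hmm 1
    simp only [Pi.mul_apply, hn, map_natCast, Finset.sum_apply, Pi.smul_apply, smul_eq_mul, hd] at h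
    exact_mod_cast h
  have hinner : ∑ l, b l * b l = ∑ θ, mm θ * c θ := by
    have h1 : Cfsg.classInner (fun h : H => χ h) (fun h : H => χ h) = ∑ l, (b l : ℂ) * b l := by
      rw [hb, classInner_sum_right]
      simp only [classInner_smul_right, classInner_sum_irr, map_natCast]
    have h2 : Cfsg.classInner (fun h : H => χ h) (fun h : H => χ h) =
        ∑ θ, (mm θ : ℂ) * Cfsg.classInner (fun h : H => (θ : G → ℂ) h) (fun _ => 1) := by
      simp only [Cfsg.classInner, map_one, mul_one, Finset.mul_sum]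
      rw [Finset.sum_comm]
      refine Finset.sum_congr rfl fun h _ => ?_
      have h' := congrFun hmm (h : G)
      simp only [Pi.mul_apply, Finset.sum_apply, Pi.smul_apply, smul_eq_mul] at h'
      rw [h', Finset.mul_sum]
      exact Finset.sum_congr rfl fun θ _ => by ring
    rw [h1] at h2
    simp only [hc] at h2
    exact_mod_cast h2
  have hd1 : d (trivChar G) = 1 := by
    have := hd (trivChar G); rw [trivChar_apply] at this; exact_mod_cast this.symm
  have hc1 : c (trivChar G) = 1 := by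
    have := hc (trivChar G)
    simp [Cfsg.classInner] at this
    exact_mod_cast this.symm
  set s := Real.sqrt (Nat.card H) with hs
  have hkey : ∀ θ : Cfsg.IrrCharacter G, θ ≠ trivChar G → s * c θ < d θ := by
    intro θ hθ
    have hk : ∃ h ∈ H, (θ : G → ℂ) h ≠ (θ : G → ℂ) 1 := by
      by_contra hcon
      push Not at hcon
      have htop := hgen (CfsgLib.Blocks.charKer θ) inferInstance hcon
      have hall : ∀ g, (θ : G → ℂ) g = (θ : G → ℂ) 1 := fun g =>
        CfsgLib.Blocks.mem_charKer.1 (htop ▸ Subgroup.mem_top g)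
      have h1 := classInner_irr_of_ne hθ
      rw [Cfsg.classInner] at h1
      simp only [hall, trivChar_apply, map_one, mul_one, Finset.sum_const, Finset.card_univ, nsmul_eq_mul,
        ← Nat.card_eq_fintype_card] at h1
      rw [← mul_assoc, inv_mul_cancel₀ (Nat.cast_ne_zero.2 Nat.card_pos.ne'), one_mul] at h1
      exact IsIrr.apply_one_ne_zero θ.2 h1
    have h := sq_degree_gt H hab hZ hone θ.2 hk (d θ) (c θ) (hd θ) (hc θ)
    refine lt_of_pow_lt_pow_left₀ 2 (Nat.cast_nonneg _) ?_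
    rw [mul_pow, hs, Real.sq_sqrt (Nat.cast_nonneg _)]
    exact h
  have hsum : s * ((∑ θ, mm θ * c θ : ℕ) - 1 : ℝ) < ((∑ θ, mm θ * d θ : ℕ) : ℝ) - 1 := by
    push_cast
    rw [← Finset.add_sum_erase _ _ (Finset.mem_univ (trivChar G)),
      ← Finset.add_sum_erase _ (fun θ => (mm θ : ℝ) * d θ) (Finset.mem_univ (trivChar G))]
    simp only [hm1, hc1, hd1, Nat.cast_one, mul_one, add_sub_cancel_left, Finset.mul_sum]
    refine Finset.sum_lt_sum (fun θ hθ => ?_) ?_
    · rw [mul_left_comm]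
      exact mul_le_mul_of_nonneg_left (hkey θ (Finset.ne_of_mem_erase hθ)).le (Nat.cast_nonneg _)
    · by_contra hcon
      push Not at hcon
      have hall : ∀ θ ∈ (Finset.univ : Finset (Cfsg.IrrCharacter G)).erase (trivChar G), mm θ = 0 := by
        intro θ hθ
        by_contra h0
        refine absurd (hcon θ hθ) (not_le.2 ?_)
        rw [mul_left_comm]
        exact mul_lt_mul_of_pos_left (hkey θ (Finset.ne_of_mem_erase hθ)) (Nat.cast_pos.2 (Nat.pos_of_ne_zero h0))
      have : n * n = 1 := by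
        rw [hdeg, ← Finset.add_sum_erase _ _ (Finset.mem_univ (trivChar G)), hm1, hd1,
          Finset.sum_eq_zero fun θ hθ => by rw [hall θ hθ, zero_mul], one_mul, add_zero]
      nlinarith
  rw [← hdeg, ← hinner] at hsum
  have hge : (n : ℝ) ≤ ((∑ l, b l * b l : ℕ) : ℝ) := by
    rw [hbn]
    exact_mod_cast Finset.sum_le_sum fun l _ => Nat.le_mul_self (b l)
  have hs0 : 0 ≤ s := Real.sqrt_nonneg _
  have hlt : s < (n : ℝ) + 1 := by
    push_cast at hsum hge
    have hn' : (2 : ℝ) ≤ n := by exact_mod_cast hn2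
    nlinarith
  have hsq := Real.sq_sqrt (Nat.cast_nonneg (α := ℝ) (Nat.card H))
  nlinarith

end CfsgLib.Char.Exceptional.SmallDegree
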