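import Mathlib
import Cfsg.Agent.Lib.Char.Complete
import Cfsg.Agent.Lib.Char.Exceptional.Virtual
import Cfsg.Agent.Lib.Char.Exceptional.Coherence3

/-! Coset averages against an extension, and Gallagher's decomposition. -/

set_option autoImplicit false

open scoped ComplexConjugate
open Finset

namespace CfsgLib.Char.Exceptional

open CfsgLib.Char

variable {G : Type*} [Group G]

/-- The average of a function over the cosets of a normal subgroup. -/
noncomputable def cosetAvg (N : Subgroup G) [Fintype N] (f : G → ℂ) : G → ℂ :=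
  fun g => (Nat.card N : ℂ)⁻¹ * ∑ n : N, f ((n : G) * g)

variable (N : Subgroup G) [Fintype N]

theorem cosetAvg_mul_left (f : G → ℂ) (m : N) (g : G) : cosetAvg N f ((m : G) * g) = cosetAvg N f g := by
  unfold cosetAvg
  congr 1
  exact Fintype.sum_equiv (Equiv.mulRight m) _ _ fun n => by simp [mul_assoc]

theorem isCharacter_cosetAvg [hN : N.Normal] {f : G → ℂ} (hf : Cfsg.IsCharacter G f) :
    Cfsg.IsCharacter G (cosetAvg N f) := by
  obtain ⟨k, σ, rfl⟩ := hf
  obtain ⟨c, hc⟩ : ∃ c, c = (Nat.card N : ℂ)⁻¹ := ⟨_, rfl⟩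
  obtain ⟨e, he⟩ : ∃ e : Module.End ℂ (Fin k → ℂ), e = c • ∑ n : N, σ (n : G) := ⟨_, rfl⟩
  have hcomm : ∀ g, e * σ g = σ g * e := by
    intro g
    rw [he, smul_mul_assoc, mul_smul_comm, Finset.sum_mul, Finset.mul_sum]
    congr 1
    refine Fintype.sum_equiv ((MulAut.conjNormal (g⁻¹) : MulAut N)).toEquiv _ _ fun n => ?_
    show σ (n : G) * σ g = σ g * σ ((MulAut.conjNormal g⁻¹ n : N) : G)
    rw [← map_mul, ← map_mul, MulAut.conjNormal_apply]
    congr 1
    group
  have hidem : e * e = e := by
    have h1 : ∀ m : N, σ (m : G) * e = e := by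
      intro m
      rw [he, mul_smul_comm, Finset.mul_sum]
      congr 1
      exact Fintype.sum_equiv (Equiv.mulLeft m) _ _ fun n => by simp
    conv_lhs => arg 1; rw [he]
    rw [smul_mul_assoc, Finset.sum_mul, Finset.sum_congr rfl (fun m _ => h1 m), Finset.sum_const,
      Finset.card_univ, ← Nat.cast_smul_eq_nsmul ℂ, smul_smul, hc, Nat.card_eq_fintype_card,
      inv_mul_cancel₀ (Nat.cast_ne_zero.2 Fintype.card_ne_zero), one_smul]
  have hfix : ∀ v ∈ LinearMap.range e, e v = v := by
    rintro _ ⟨w, rfl⟩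
    rw [← Module.End.mul_apply, hidem]
  have hinv : ∀ g, ∀ v ∈ LinearMap.range e, σ g v ∈ LinearMap.range e := by
    rintro g _ ⟨w, rfl⟩
    exact ⟨σ g w, by rw [← Module.End.mul_apply, hcomm g, Module.End.mul_apply]⟩
  let τ : Representation ℂ G (LinearMap.range e) :=
    { toFun := fun g => (σ g).restrict (hinv g)
      map_one' := LinearMap.ext fun v => Subtype.ext (by simp [LinearMap.restrict_apply])
      map_mul' := fun a b => LinearMap.ext fun v => Subtype.ext (by simp [LinearMap.restrict_apply]) }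
  convert isCharacter_rep τ using 1
  funext g
  have hall : ∀ v, (e * σ g) v ∈ LinearMap.range e := fun v => ⟨σ g v, rfl⟩
  have h : LinearMap.trace ℂ _ (e * σ g) = τ.character g := by
    rw [← LinearMap.trace_restrict_eq_of_forall_mem (LinearMap.range e) (e * σ g) hall]
    exact congrArg (LinearMap.trace ℂ (LinearMap.range e))
      (LinearMap.ext fun v => Subtype.ext (hfix _ (hinv g v v.2)))
  rw [← h, he, smul_mul_assoc, map_smul, Finset.sum_mul, map_sum, smul_eq_mul, hc]
  simp only [cosetAvg, Representation.character, map_mul]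

/-- Pairing against a function constant on cosets sees only the coset average. -/
theorem sum_mul_cosetAvg [Fintype G] {F H : G → ℂ} (hH : ∀ (n : N) (g : G), H ((n : G) * g) = H g) :
    ∑ g, F g * H g = ∑ g, cosetAvg N F g * H g := by
  have h : ∀ n : N, ∑ g, F ((n : G) * g) * H g = ∑ g, F g * H g := fun n =>
    Fintype.sum_equiv (Equiv.mulLeft (n : G)) _ _ fun g => by simp [hH]
  simp only [cosetAvg, Finset.mul_sum, Finset.sum_mul]
  rw [Finset.sum_comm]
  simp only [mul_assoc, ← Finset.mul_sum, h, Finset.sum_const, Finset.card_univ, nsmul_eq_mul,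
    Nat.card_eq_fintype_card]
  rw [← mul_assoc, inv_mul_cancel₀ (Nat.cast_ne_zero.2 Fintype.card_ne_zero), one_mul]

variable [N.Normal] [Fintype G] {χ ψ : G → ℂ}

/-- The multiplicity character: the coset average of `ψ` against the extension `χ`. -/
noncomputable def multChar (χ ψ : G → ℂ) : G → ℂ := cosetAvg N (fun g => ψ g * conj (χ g))

theorem isCharacter_multChar (hχ : Cfsg.IsIrrCharacter G χ) (hψ : Cfsg.IsIrrCharacter G ψ) :
    Cfsg.IsCharacter G (multChar N χ ψ) :=
  isCharacter_cosetAvg N (IsChar.mul (IsIrr.isCharacter hψ) (IsChar.conj (IsIrr.isCharacter hχ)))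

omit [N.Normal] [Fintype G] in
theorem multChar_one : multChar N χ ψ 1 = Cfsg.classInner (fun n : N => ψ n) (fun n : N => χ n) := by
  simp [multChar, cosetAvg, Cfsg.classInner, Nat.card_eq_fintype_card]

theorem multChar_self (hχ : Cfsg.IsIrrCharacter G χ) (hχN : Cfsg.IsIrrCharacter N (fun n : N => χ n))
    (g : G) : multChar N χ χ g = 1 := by
  have h1 : multChar N χ χ 1 = 1 := by rw [multChar_one]; exact classInner_self_of_irr hχN
  obtain ⟨l, hl⟩ := exists_linear_of_degree_one (isCharacter_multChar N hχ hχ) h1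
  have hg := congrFun hl g
  have hpow : ‖multChar N χ χ g‖ = 1 := by
    rw [hg]
    refine Complex.norm_eq_one_of_pow_eq_one ?_ (orderOf_pos g).ne'
    rw [← Units.val_pow_eq_pow_val, ← map_pow, pow_orderOf_eq_one, map_one, Units.val_one]
  have hre : multChar N χ χ g = (((Nat.card N : ℝ)⁻¹ * ∑ n : N, Complex.normSq (χ ((n : G) * g)) : ℝ) : ℂ) := by
    simp [multChar, cosetAvg, Complex.mul_conj]
  rw [hre, Complex.norm_real, Real.norm_of_nonneg
    (mul_nonneg (by positivity) (Finset.sum_nonneg fun _ _ => Complex.normSq_nonneg _))] at hpow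
  rw [hre, hpow, Complex.ofReal_one]

theorem multChar_eq_zero (hχ : Cfsg.IsIrrCharacter G χ) (hψ : Cfsg.IsIrrCharacter G ψ)
    (h : Cfsg.classInner (fun n : N => ψ n) (fun n : N => χ n) = 0) : multChar N χ ψ = 0 :=
  IsChar.eq_zero_of_apply_one (isCharacter_multChar N hχ hψ) (by rw [multChar_one, h])

/-- Gallagher: a character over an extended character is the extension times an inflated irreducible. -/
theorem multChar_spec (hχ : Cfsg.IsIrrCharacter G χ) (hχN : Cfsg.IsIrrCharacter N (fun n : N => χ n))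
    (hψ : Cfsg.IsIrrCharacter G ψ) (h : Cfsg.classInner (fun n : N => ψ n) (fun n : N => χ n) ≠ 0) :
    Cfsg.IsIrrCharacter G (multChar N χ ψ) ∧ χ * multChar N χ ψ = ψ := by
  have hη := isCharacter_multChar N hχ hψ
  set η := multChar N χ ψ with hηdef
  have hconst : ∀ (n : N) (g : G), η ((n : G) * g) = η g := fun n g => cosetAvg_mul_left N _ n g
  have hconst' : ∀ (n : N) (g : G), conj (η ((n : G) * g)) = conj (η g) := fun n g => by rw [hconst]
  have hconst'' : ∀ (n : N) (g : G), η ((n : G) * g) * conj (η ((n : G) * g)) = η g * conj (η g) :=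
    fun n g => by rw [hconst]
  have hθ : Cfsg.IsCharacter G (χ * η) := IsChar.mul (IsIrr.isCharacter hχ) hη
  obtain ⟨k, hk⟩ := IsChar.classInner_eq_natCast hη hη
  have e1 : Cfsg.classInner ψ (χ * η) = (k : ℂ) := by
    rw [← hk]
    simp only [Cfsg.classInner, Pi.mul_apply, map_mul]
    congr 1
    rw [show (∑ g, ψ g * (conj (χ g) * conj (η g))) = ∑ g, (ψ g * conj (χ g)) * conj (η g) from
      Finset.sum_congr rfl fun g _ => (mul_assoc _ _ _).symm, sum_mul_cosetAvg N hconst']
    rfl
  have e2 : Cfsg.classInner (χ * η) (χ * η) = (k : ℂ) := by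
    rw [← hk]
    simp only [Cfsg.classInner, Pi.mul_apply, map_mul]
    congr 1
    rw [show (∑ g, χ g * η g * (conj (χ g) * conj (η g))) =
        ∑ g, (χ g * conj (χ g)) * (η g * conj (η g)) from Finset.sum_congr rfl fun g _ => by ring,
      sum_mul_cosetAvg N hconst'']
    exact Finset.sum_congr rfl fun g _ => by rw [show cosetAvg N (fun x => χ x * conj (χ x)) g = 1 from
      multChar_self N hχ hχN g, one_mul]
  have e1' : Cfsg.classInner (χ * η) ψ = (k : ℂ) := by rw [← classInner_conj_symm, e1, map_natCast]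
  have hnorm : Cfsg.classInner (χ * η - (k : ℂ) • ψ) (χ * η - (k : ℂ) • ψ) = (((k : ℝ) - (k : ℝ) ^ 2 : ℝ) : ℂ) := by
    rw [classInner_sub_left, classInner_sub_right, classInner_sub_right, classInner_smul_left, classInner_smul_left,
      classInner_smul_right, classInner_smul_right, e1, e1', e2, classInner_self_of_irr hψ, map_natCast]
    push_cast; ring
  have hge := classInner_self_re_nonneg (χ * η - (k : ℂ) • ψ)
  rw [hnorm, Complex.ofReal_re] at hge
  have hk1 : k = 1 := by
    have h0 : k ≠ 0 := fun h0 => by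
      rw [h0, Nat.cast_zero] at hk
      apply h
      rw [← multChar_one N (χ := χ) (ψ := ψ), ← hηdef, IsChar.eq_zero_of_classInner_self hη hk]
      rfl
    have : k ^ 2 ≤ k := by exact_mod_cast (by linarith : ((k : ℝ)) ^ 2 ≤ (k : ℝ))
    nlinarith [Nat.pos_of_ne_zero h0]
  subst hk1
  refine ⟨IsChar.isIrr_of_classInner_eq_one hη (by simpa using hk), ?_⟩
  have h0 : χ * η - ((1 : ℕ) : ℂ) • ψ = 0 :=
    eq_zero_of_classInner_self (by rw [hnorm, Complex.ofReal_re]; norm_num)
  rw [Nat.cast_one, one_smul, sub_eq_zero] at h0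
  exact h0

end CfsgLib.Char.Exceptional
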