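import Mathlib
import Cfsg.Agent.Lib.Char.Extension
import Cfsg.Agent.Lib.Char.Exceptional.Gallagher

/-! Extensions with prescribed determinant. -/

set_option autoImplicit false

open scoped ComplexConjugate

namespace CfsgLib.Char.Exceptional

open CfsgLib.Char CfsgLib.CharExt Module

variable {G : Type*} [Group G] [Finite G] {N : Subgroup G} [hN : N.Normal]
variable {V : Type*} [AddCommGroup V] [Module ℂ V] [FiniteDimensional ℂ V]

/-- Degrees without a common prime divisor give an extension. -/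
theorem extension_of_degrees (σ : Representation ℂ N V) [σ.IsIrreducible]
    (hinv : ∀ g n, σ.character (cn g n) = σ.character n)
    (h : ∀ p : ℕ, p.Prime → ∃ m : ℤ, m ∈ scalarDegrees σ ∧ ¬ (p : ℤ) ∣ m) :
    ∃ ρ : Representation ℂ G V, ∀ n : N, ρ n = σ n := by
  refine exists_extension_of_one_mem σ hinv ?_
  obtain ⟨k, hk⟩ := Int.subgroup_cyclic (scalarDegrees σ)
  by_cases h1 : k.natAbs = 1
  · rw [hk, AddSubgroup.mem_closure_singleton]
    rcases Int.natAbs_eq k with h | h <;> rw [h, h1]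
    · exact ⟨1, by simp⟩
    · exact ⟨-1, by simp⟩
  exfalso
  obtain ⟨p, hp, hpk⟩ := Nat.exists_prime_and_dvd h1
  obtain ⟨m, hm, hpm⟩ := h p hp
  rw [hk, AddSubgroup.mem_closure_singleton] at hm
  obtain ⟨z, hz⟩ := hm
  exact hpm (by rw [← hz, smul_eq_mul]; exact Dvd.dvd.mul_left (Int.natCast_dvd.2 hpk) z)

/-- An extension of the determinant puts the degree into the group of scalar degrees. -/
theorem finrank_mem_scalarDegrees (σ : Representation ℂ N V) [σ.IsIrreducible] (μ : G →* ℂˣ)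
    (hμ : ∀ n : N, μ n = detHom σ n) : (finrank ℂ V : ℤ) ∈ scalarDegrees σ := by
  refine ⟨detTwist σ * (μ.comp (proj σ))⁻¹, fun c => ?_, fun n => ?_⟩
  · rw [MonoidHom.mul_apply, MonoidHom.inv_apply, MonoidHom.comp_apply, detTwist_scal, zpow_natCast]
    have : proj σ (scal σ c) = 1 := rfl
    rw [this, map_one, inv_one, mul_one]
  · rw [MonoidHom.mul_apply, MonoidHom.inv_apply, MonoidHom.comp_apply,
      show detTwist σ (emb σ n) = detHom σ n from rfl, proj_emb, hμ, mul_inv_cancel]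

/-- The determinantal order always lies, times the degree, among the scalar degrees. -/
theorem order_mul_finrank_mem (σ : Representation ℂ N V) [σ.IsIrreducible] :
    ((orderOf (detHom σ) * finrank ℂ V : ℕ) : ℤ) ∈ scalarDegrees σ := by
  refine ⟨detTwist σ ^ orderOf (detHom σ), fun c => ?_, fun n => ?_⟩
  · rw [MonoidHom.pow_apply, detTwist_scal, ← pow_mul, zpow_natCast, mul_comm]
  · rw [MonoidHom.pow_apply, show detTwist σ (emb σ n) = detHom σ n from rfl,
      ← MonoidHom.pow_apply, pow_orderOf_eq_one, MonoidHom.one_apply]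

/-- Extension exists when the determinant extends and the degree is prime to the index. -/
theorem extension_of_det (σ : Representation ℂ N V) [σ.IsIrreducible]
    (hinv : ∀ g n, σ.character (cn g n) = σ.character n) (μ : G →* ℂˣ) (hμ : ∀ n : N, μ n = detHom σ n)
    (hcop : Nat.Coprime N.index (finrank ℂ V)) : ∃ ρ : Representation ℂ G V, ∀ n : N, ρ n = σ n := by
  refine extension_of_degrees σ hinv fun p hp => ?_
  by_cases hpi : (p : ℤ) ∣ (N.index : ℤ)
  · refine ⟨_, finrank_mem_scalarDegrees σ μ hμ, fun hd => ?_⟩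
    rw [Int.natCast_dvd_natCast] at hd hpi
    exact hp.one_lt.ne' (Nat.eq_one_of_dvd_coprimes hcop hpi hd)
  · exact ⟨_, index_mem_scalarDegrees σ hinv N le_rfl σ fun n => rfl, hpi⟩

variable {ϑ : N → ℂ}

theorem det_restrict {W : Type*} [AddCommGroup W] [Module ℂ W] [FiniteDimensional ℂ W]
    (τ : Representation ℂ G W) (σ : Representation ℂ N V) (h : ∀ n : N, τ.character n = σ.character n) (n : N) :
    detHom τ n = detHom σ n := by
  have e : detHom (τ.comp N.subtype : Representation ℂ N W) = detHom σ :=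
    detHom_eq_of_character_eq _ σ (funext h)
  rw [← e]
  exact Units.ext rfl

/-- Reading a linear character as a homomorphism. -/
theorem exists_hom_of_linear {μ : G → ℂ} (hμ : Cfsg.IsCharacter G μ ∧ μ 1 = 1) :
    ∃ l : G →* ℂˣ, μ = fun g => (l g : ℂ) := exists_linear_of_degree_one hμ.1 hμ.2

theorem extendible_iff_det (hϑ : Cfsg.IsIrrCharacter N ϑ) (hinv : ∀ (g : G) (n : N), ϑ (cn g n) = ϑ n)
    {d : ℕ} (hd : ϑ 1 = d) (hcop : Nat.Coprime N.index d) :
    (∃ χ : G → ℂ, Cfsg.IsIrrCharacter G χ ∧ ∀ n : N, χ n = ϑ n) ↔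
      ∃ μ : G → ℂ, Cfsg.IsCharacter G μ ∧ μ 1 = 1 ∧ ∀ n : N, μ n = Cfsg.detChar ϑ n := by
  obtain ⟨k, σ, hσ, rfl⟩ := hϑ
  have hk : finrank ℂ (Fin k → ℂ) = d := by
    rw [Representation.char_one] at hd
    exact_mod_cast hd
  constructor
  · rintro ⟨χ, ⟨m, τ, hτ, rfl⟩, hres⟩
    refine ⟨fun g => (detHom τ g : ℂ), IsIrr.isCharacter (isIrrCharacter_linear _), by simp, fun n => ?_⟩
    rw [detChar_eq σ]
    show (detHom τ n : ℂ) = detHom σ n
    rw [det_restrict τ σ hres n]
  · rintro ⟨μ, hμc, hμ1, hμ⟩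
    obtain ⟨l, rfl⟩ := exists_hom_of_linear ⟨hμc, hμ1⟩
    obtain ⟨ρ, hρ⟩ := extension_of_det σ hinv l (fun n => Units.ext (by
      have := hμ n
      rw [detChar_eq σ] at this
      exact this)) (by rw [hk]; exact hcop)
    have := isIrreducible_of_restrict ρ N.subtype σ hρ
    exact ⟨ρ.character, isIrrCharacter_rep ρ, fun n => congrArg (LinearMap.trace ℂ _) (hρ n)⟩

/-- Two extensions differ by a linear character of the quotient. -/
theorem twist_of_two_extensions {χ ψ : G → ℂ} (hχ : Cfsg.IsIrrCharacter G χ) (hψ : Cfsg.IsIrrCharacter G ψ)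
    (hϑ : Cfsg.IsIrrCharacter N ϑ) (h1 : ∀ n : N, χ n = ϑ n) (h2 : ∀ n : N, ψ n = ϑ n) :
    ∃ l : G →* ℂˣ, (∀ n : N, l n = 1) ∧ ψ = fun g => (l g : ℂ) * χ g := by
  classical
  have := Fintype.ofFinite G
  have := Fintype.ofFinite N
  have e1 : (fun n : N => χ n) = ϑ := funext h1
  have e2 : (fun n : N => ψ n) = ϑ := funext h2
  have hc : Cfsg.classInner (fun n : N => ψ n) (fun n : N => χ n) = 1 := by
    rw [e1, e2]; exact classInner_self_of_irr hϑ
  obtain ⟨hη, hprod⟩ := multChar_spec N hχ (e1 ▸ hϑ) hψ (by rw [hc]; exact one_ne_zero)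
  have hone : multChar N χ ψ 1 = 1 := by rw [multChar_one, hc]
  obtain ⟨l, hl⟩ := exists_linear_of_degree_one (IsIrr.isCharacter hη) hone
  refine ⟨l, fun n => Units.ext ?_, ?_⟩
  · rw [← congrFun hl (n : G), Units.val_one, ← mul_one (n : G)]
    show cosetAvg N _ ((n : G) * 1) = 1
    rw [cosetAvg_mul_left]
    exact hone
  · rw [← hprod, hl]
    funext g
    exact mul_comm _ _

/-- Extensions with a given determinant exist and are unique. -/
theorem existsUnique_extension_det (hϑ : Cfsg.IsIrrCharacter N ϑ) {d : ℕ} (hd : ϑ 1 = d)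
    (hcop : Nat.Coprime N.index d) {η : G → ℂ} (hη : Cfsg.IsIrrCharacter G η) (hηN : ∀ n : N, η n = ϑ n)
    {μ : G → ℂ} (hμ : Cfsg.IsCharacter G μ ∧ μ 1 = 1) (hμN : ∀ n : N, μ n = Cfsg.detChar ϑ n) :
    ∃! χ : G → ℂ, Cfsg.IsIrrCharacter G χ ∧ (∀ n : N, χ n = ϑ n) ∧ Cfsg.detChar χ = μ := by
  obtain ⟨k, τ, hτ, rfl⟩ := id hη
  obtain ⟨M, rfl⟩ := exists_hom_of_linear hμ
  have hk : finrank ℂ (Fin k → ℂ) = d := by
    have h := hηN 1
    rw [OneMemClass.coe_one, Representation.char_one, hd] at h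
    exact_mod_cast h
  obtain ⟨j, σ, hσ, rfl⟩ := id hϑ
  set ν : G →* ℂˣ := M * (detHom τ)⁻¹ with hν
  have hνN : ∀ n ∈ N, ν n = 1 := fun n hn => by
    have h := hμN ⟨n, hn⟩
    rw [detChar_eq σ] at h
    rw [hν, MonoidHom.mul_apply, MonoidHom.inv_apply, det_restrict τ σ hηN ⟨n, hn⟩,
      show M n = detHom σ ⟨n, hn⟩ from Units.ext h, mul_inv_cancel]
  obtain ⟨u, v, huv⟩ := Nat.isCoprime_iff_coprime.mpr hcop.symm
  have key : ∀ l : G →* ℂˣ, (∀ n ∈ N, l n = 1) → (detHom (twistRep τ l) = M ↔ l = ν ^ u) := by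
    intro l hl
    have hlidx := hom_pow_index_eq_one l hl
    rw [detHom_twistRep, hk]
    refine Iff.trans (eq_mul_inv_iff_mul_eq (a := l ^ d) (b := M) (c := detHom τ)).symm ?_
    rw [← hν]
    constructor
    · intro h
      refine MonoidHom.ext fun g => ?_
      have e1 : l g ^ d = ν g := DFunLike.congr_fun h g
      have e2 : l g ^ N.index = 1 := DFunLike.congr_fun hlidx g
      show l g = ν g ^ u
      calc l g = l g ^ ((u : ℤ) * d + v * N.index) := by rw [huv, zpow_one]
        _ = ν g ^ u := by rw [zpow_add, mul_comm u, zpow_mul, zpow_natCast, e1, mul_comm v, zpow_mul,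
            zpow_natCast, e2, one_zpow, mul_one]
    · intro h
      refine MonoidHom.ext fun g => ?_
      have e2 : ν g ^ N.index = 1 := DFunLike.congr_fun (hom_pow_index_eq_one ν hνN) g
      rw [h]
      show (ν g ^ u) ^ d = ν g
      rw [← zpow_natCast, ← zpow_mul]
      calc ν g ^ (u * (d : ℤ)) = ν g ^ (u * (d : ℤ)) * (ν g ^ ((N.index : ℕ) : ℤ)) ^ v := by
            rw [zpow_natCast, e2, one_zpow, mul_one]
        _ = ν g := by rw [← zpow_mul, ← zpow_add, mul_comm (N.index : ℤ), huv, zpow_one]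
  have hlN : ∀ n ∈ N, (ν ^ u) n = 1 := fun n hn => by
    show ν n ^ u = 1
    rw [hνN n hn, one_zpow]
  have hirr : ∀ l : G →* ℂˣ, (∀ n ∈ N, l n = 1) →
      Cfsg.IsIrrCharacter G (twistRep τ l).character ∧ ∀ n : N, (twistRep τ l).character n = σ.character n := by
    intro l hl
    have hres : ∀ n : N, (twistRep τ l).character n = σ.character n := fun n => by
      rw [character_twistRep, ← hηN]
      simp [hl n n.2]
    obtain ⟨φ⟩ := nonempty_equiv_of_character_eq σ ((twistRep τ l).comp N.subtype) (funext fun n => (hres n).symm)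
    refine ⟨?_, hres⟩
    have := isIrreducible_of_restrict (mapEquiv (twistRep τ l) φ.toLinearEquiv.symm) N.subtype σ fun n => by
      refine LinearMap.ext fun w => ?_
      rw [mapEquiv_apply, LinearEquiv.symm_symm, LinearEquiv.symm_apply_eq]
      exact (φ.toIntertwiningMap.isIntertwining _ _ n w).symm
    have h := isIrrCharacter_rep (mapEquiv (twistRep τ l) φ.toLinearEquiv.symm)
    rwa [character_mapEquiv] at h
  refine ⟨(twistRep τ (ν ^ u)).character, ⟨(hirr _ hlN).1, (hirr _ hlN).2, ?_⟩, ?_⟩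
  · rw [detChar_eq, (key _ hlN).2 rfl]
  · rintro ψ ⟨hψ, hψN, hψdet⟩
    obtain ⟨l, hl, hψl⟩ := twist_of_two_extensions hη hψ hϑ hηN hψN
    have hl' : ∀ n ∈ N, l n = 1 := fun n hn => hl ⟨n, hn⟩
    rw [← character_twistRep] at hψl
    subst hψl
    rw [detChar_eq] at hψdet
    rw [(key l hl').1 (MonoidHom.ext fun g => Units.ext (congrFun hψdet g))]

theorem orderOf_unitsFun (l : G →* ℂˣ) : orderOf (fun g => (l g : ℂ)) = orderOf l := by
  let ev : (G →* ℂˣ) →* (G → ℂ) :=
    { toFun := fun f g => (f g : ℂ), map_one' := rfl, map_mul' := fun _ _ => rfl }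
  exact orderOf_injective ev (fun a b h => MonoidHom.ext fun g => Units.ext (congrFun h g)) l

/-- The canonical extension. -/
theorem canonical_extension (hϑ : Cfsg.IsIrrCharacter N ϑ) (hinv : ∀ (g : G) (n : N), ϑ (cn g n) = ϑ n)
    {d : ℕ} (hd : ϑ 1 = d) (hcop : Nat.Coprime N.index (Cfsg.detOrder ϑ * d)) :
    ∃ χ : G → ℂ, (Cfsg.IsIrrCharacter G χ ∧ (∀ n : N, χ n = ϑ n) ∧ Cfsg.detOrder χ = Cfsg.detOrder ϑ) ∧
      ∀ χ' : G → ℂ, Cfsg.IsIrrCharacter G χ' → (∀ n : N, χ' n = ϑ n) →
        Nat.Coprime N.index (Cfsg.detOrder χ') → χ' = χ := by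
  obtain ⟨k, σ, hσ, rfl⟩ := id hϑ
  have hk : finrank ℂ (Fin k → ℂ) = d := by
    rw [Representation.char_one] at hd
    exact_mod_cast hd
  rw [detOrder_eq] at hcop
  obtain ⟨ρ, hρ, hρo⟩ := exists_canonical_extension σ hinv (by rw [hk]; exact hcop.symm)
  have := isIrreducible_of_restrict ρ N.subtype σ hρ
  have hres : ∀ n : N, ρ.character n = σ.character n := fun n => congrArg (LinearMap.trace ℂ _) (hρ n)
  refine ⟨ρ.character, ⟨isIrrCharacter_rep ρ, hres, by rw [detOrder_eq, detOrder_eq, hρo]⟩, ?_⟩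
  intro χ' hχ' hres' hcop'
  obtain ⟨j, τ, hτ, rfl⟩ := id hχ'
  rw [detOrder_eq] at hcop'
  have hdet : detHom τ = detHom ρ := by
    set ν := detHom τ * (detHom ρ)⁻¹ with hν
    have hνN : ∀ n ∈ N, ν n = 1 := fun n hn => by
      rw [hν, MonoidHom.mul_apply, MonoidHom.inv_apply, det_restrict τ σ hres' ⟨n, hn⟩,
        det_restrict ρ σ hres ⟨n, hn⟩, mul_inv_cancel]
    have h1 : ν ^ N.index = 1 := hom_pow_index_eq_one ν hνN
    have h2 : ν ^ (orderOf (detHom τ) * orderOf (detHom ρ)) = 1 := by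
      refine MonoidHom.ext fun g => ?_
      have e1 : detHom τ g ^ orderOf (detHom τ) = 1 := by
        rw [← MonoidHom.pow_apply, pow_orderOf_eq_one, MonoidHom.one_apply]
      have e2 : detHom ρ g ^ orderOf (detHom ρ) = 1 := by
        rw [← MonoidHom.pow_apply, pow_orderOf_eq_one, MonoidHom.one_apply]
      rw [hν, MonoidHom.pow_apply, MonoidHom.mul_apply, MonoidHom.inv_apply, MonoidHom.one_apply, mul_pow,
        inv_pow, pow_mul, e1, one_pow, mul_comm (orderOf (detHom τ)), pow_mul, e2, one_pow, inv_one, one_mul]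
    have h3 := Nat.dvd_gcd (orderOf_dvd_of_pow_eq_one (x := ν) h1) (orderOf_dvd_of_pow_eq_one (x := ν) h2)
    rw [(Nat.Coprime.mul_right hcop' (hρo ▸ (Nat.Coprime.coprime_mul_right_right hcop))).gcd_eq_one,
      Nat.dvd_one, orderOf_eq_one_iff, hν] at h3
    exact mul_inv_eq_one.1 h3
  obtain ⟨χ₀, -, huniq⟩ := existsUnique_extension_det hϑ hd hcop.coprime_mul_left_right
    (isIrrCharacter_rep ρ) hres (μ := fun g => (detHom ρ g : ℂ))
    ⟨IsIrr.isCharacter (isIrrCharacter_linear _), by simp⟩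
    (fun n => by rw [detChar_eq σ, det_restrict ρ σ hres n])
  rw [huniq τ.character ⟨hχ', hres', by rw [detChar_eq, hdet]⟩,
    huniq ρ.character ⟨isIrrCharacter_rep ρ, hres, by rw [detChar_eq]⟩]

omit hN [Finite G] in
/-- For a linear character the determinant is the character itself. -/
theorem detHom_of_finrank_one {H : Type*} [Group H] (σ : Representation ℂ H V) (h1 : finrank ℂ V = 1) (n : H) :
    (detHom σ n : ℂ) = σ.character n := by
  let b := basisUnique (Fin 1) h1
  rw [detHom_apply, Representation.character, LinearMap.trace_eq_matrix_trace ℂ b, ← LinearMap.det_toMatrix b,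
    Matrix.det_fin_one, Matrix.trace_fin_one]

omit hN [Finite G] in
theorem linear_setup {H : Type*} [Group H] [Finite H] {lam : H → ℂ} (hlam : Cfsg.IsCharacter H lam ∧ lam 1 = 1) :
    Cfsg.IsIrrCharacter H lam ∧ Cfsg.detChar lam = lam ∧ Cfsg.detOrder lam = orderOf lam := by
  obtain ⟨l, hl⟩ := exists_linear_of_degree_one hlam.1 hlam.2
  have hirr : Cfsg.IsIrrCharacter H lam := hl ▸ isIrrCharacter_linear l
  obtain ⟨k, σ, hσ, hchar⟩ := id hirr
  subst hchar
  have hk : finrank ℂ (Fin k → ℂ) = 1 := by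
    have := hlam.2
    rw [Representation.char_one] at this
    exact_mod_cast this
  have h : Cfsg.detChar σ.character = σ.character := by
    rw [detChar_eq]
    exact funext fun n => detHom_of_finrank_one σ hk n
  exact ⟨hirr, h, by rw [Cfsg.detOrder, h]⟩

/-- Linear characters extend if they extend locally at the primes of their order. -/
theorem linear_extension {lam : N → ℂ} (hlam : Cfsg.IsCharacter N lam ∧ lam 1 = 1)
    (hinv : ∀ (g : G) (n : N), lam (cn g n) = lam n)
    (hsyl : ∀ p : ℕ, p.Prime → p ∣ orderOf lam → ∃ (H : Subgroup G) (hNH : N ≤ H) (ν : H → ℂ),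
      Nat.Coprime H.index p ∧ Cfsg.IsCharacter H ν ∧ ν 1 = 1 ∧ ∀ n : N, ν ⟨(n : G), hNH n.2⟩ = lam n) :
    ∃ μ : G → ℂ, Cfsg.IsCharacter G μ ∧ μ 1 = 1 ∧ ∀ n : N, μ n = lam n := by
  obtain ⟨hirr, -, hord⟩ := linear_setup hlam
  obtain ⟨k, σ, hσ, rfl⟩ := id hirr
  have hk : finrank ℂ (Fin k → ℂ) = 1 := by
    have := hlam.2
    rw [Representation.char_one] at this
    exact_mod_cast this
  obtain ⟨ρ, hρ⟩ := extension_of_degrees σ hinv fun p hp => by
    by_cases hpo : p ∣ orderOf σ.character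
    · obtain ⟨H, hNH, ν, hcop, hν, hν1, hνN⟩ := hsyl p hp hpo
      obtain ⟨l, rfl⟩ := exists_linear_of_degree_one hν hν1
      let σH : Representation ℂ H (Fin k → ℂ) :=
        { toFun := fun h => (l h : ℂ) • 1
          map_one' := by simp
          map_mul' := fun a b => by rw [map_mul, Units.val_mul, smul_mul_smul_comm, one_mul] }
      refine ⟨_, index_mem_scalarDegrees σ hinv H hNH σH fun n => ?_, fun hd => ?_⟩
      · show (l ⟨(n : G), hNH n.2⟩ : ℂ) • (1 : Module.End ℂ (Fin k → ℂ)) = σ n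
        have hn' : (l ⟨(n : G), hNH n.2⟩ : ℂ) = σ.character n := hνN n
        rw [hn', Representation.character]
        have : Nonempty (Fin 1) := ⟨0⟩
        let b := basisUnique (Fin 1) hk
        refine b.ext fun i => ?_
        rw [LinearMap.smul_apply, Module.End.one_apply, LinearMap.trace_eq_matrix_trace ℂ b, Matrix.trace_fin_one,
          LinearMap.toMatrix_apply, Subsingleton.elim i 0]
        conv_rhs => rw [← b.sum_repr (σ n (b 0)), Fin.sum_univ_one]
      · rw [Int.natCast_dvd_natCast] at hd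
        exact hp.one_lt.ne' (Nat.eq_one_of_dvd_coprimes hcop hd dvd_rfl)
    · refine ⟨_, order_mul_finrank_mem σ, fun hd => hpo ?_⟩
      rw [Int.natCast_dvd_natCast, hk, mul_one] at hd
      rwa [← hord, detOrder_eq]
  refine ⟨ρ.character, isCharacter_rep ρ, ?_, fun n => congrArg (LinearMap.trace ℂ _) (hρ n)⟩
  rw [Representation.char_one, hk, Nat.cast_one]

end CfsgLib.Char.Exceptional
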