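import Cfsg.Agent.Lib.Char.Equiv
import Cfsg.Agent.Lib.Char.Induced
import Mathlib.LinearAlgebra.Pi
import Mathlib.LinearAlgebra.StdBasis

/-!
# Homogeneous restrictions at the level of operators

`Cm ρ H` is the commutant of `ρ '' H` and `Al ρ H` the commutant of `Cm ρ H`.  When `ρ` restricted to
`H` is homogeneous, a frame identifies `Al ρ H` with the endomorphisms of the irreducible model.
-/

set_option autoImplicit false

namespace CfsgLib.Char.Exceptional.Berger

open Module CfsgLib.Char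
open scoped ComplexConjugate

variable {G : Type*} [Group G] {V : Type*} [AddCommGroup V] [Module ℂ V] [FiniteDimensional ℂ V]

/-- The commutant of the image of a subgroup. -/
def Cm (ρ : Representation ℂ G V) (H : Subgroup G) : Subalgebra ℂ (Module.End ℂ V) :=
  Subalgebra.centralizer ℂ (ρ '' (H : Set G))

/-- The bicommutant of the image of a subgroup. -/
def Al (ρ : Representation ℂ G V) (H : Subgroup G) : Subalgebra ℂ (Module.End ℂ V) :=
  Subalgebra.centralizer ℂ (Cm ρ H : Set (Module.End ℂ V))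

/-- The restriction is a multiple of one irreducible character. -/
def HomRep (ρ : Representation ℂ G V) (H : Subgroup G) : Prop :=
  ∃ (n : ℕ) (σ : Representation ℂ H (Fin n → ℂ)) (e : ℕ), σ.IsIrreducible ∧
    ∀ h : H, ρ.character h = (e : ℂ) * σ.character h

variable {ρ : Representation ℂ G V} {H : Subgroup G}

omit [FiniteDimensional ℂ V] in
theorem mem_Cm {X : Module.End ℂ V} : X ∈ Cm ρ H ↔ ∀ h ∈ H, ρ h * X = X * ρ h := by
  simp [Cm, Subalgebra.mem_centralizer_iff]

omit [FiniteDimensional ℂ V] in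
theorem mem_Al {X : Module.End ℂ V} : X ∈ Al ρ H ↔ ∀ Y ∈ Cm ρ H, Y * X = X * Y := by
  simp [Al, Subalgebra.mem_centralizer_iff]

omit [FiniteDimensional ℂ V] in
theorem rho_mem_Al {h : G} (hh : h ∈ H) : ρ h ∈ Al ρ H :=
  mem_Al.2 fun _ hY => ((mem_Cm.1 hY) h hh).symm

omit [FiniteDimensional ℂ V] in
theorem Cm_anti {H' : Subgroup G} (hle : H ≤ H') : Cm ρ H' ≤ Cm ρ H :=
  Subalgebra.centralizer_le _ _ _ (Set.image_mono hle)

omit [FiniteDimensional ℂ V] in
theorem Al_mono {H' : Subgroup G} (hle : H ≤ H') : Al ρ H ≤ Al ρ H' :=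
  Subalgebra.centralizer_le _ _ _ (Cm_anti hle)

/-- A decomposition of a representation into copies of one model. -/
structure Frame {H : Type*} [Group H] {W : Type*} [AddCommGroup W] [Module ℂ W]
    (π : Representation ℂ H V) (σ : Representation ℂ H W) (e : ℕ) where
  inj : Fin e → W →ₗ[ℂ] V
  proj : Fin e → V →ₗ[ℂ] W
  inj_comm : ∀ i h w, inj i (σ h w) = π h (inj i w)
  proj_comm : ∀ i h v, proj i (π h v) = σ h (proj i v)
  proj_inj : ∀ i j w, proj i (inj j w) = if i = j then w else 0
  sum_eq : ∀ v, ∑ i, inj i (proj i v) = v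

section Exists

variable {H : Type*} [Group H] [Finite H] {W : Type*} [AddCommGroup W] [Module ℂ W]
  [FiniteDimensional ℂ W]

theorem exists_frame (π : Representation ℂ H V) (σ : Representation ℂ H W) (e : ℕ)
    (h : ∀ x, π.character x = (e : ℂ) * σ.character x) : Nonempty (Frame π σ e) := by
  classical
  let τ : Representation ℂ H (Fin e → W) :=
    { toFun := fun x => (σ x).compLeft (Fin e)
      map_one' := by ext f i; simp
      map_mul' := fun a b => by ext f i; simp }
  have hτ : τ.character = π.character := by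
    funext x
    rw [h, Representation.character, Representation.character]
    let b := Module.finBasis ℂ W
    rw [LinearMap.trace_eq_matrix_trace ℂ (Pi.basis fun _ : Fin e => b),
      LinearMap.trace_eq_matrix_trace ℂ b, Matrix.trace, Matrix.trace, Fintype.sum_sigma]
    simp [τ, Matrix.diag, LinearMap.toMatrix_apply, Pi.basis_repr, Pi.basis_apply]
  obtain ⟨φ⟩ := nonempty_equiv_of_character_eq τ π hτ
  obtain ⟨A, hφ⟩ : ∃ A : (Fin e → W) ≃ₗ[ℂ] V, ∀ x f, A (τ x f) = π x (A f) :=
    ⟨φ.toLinearEquiv, fun x f => φ.toIntertwiningMap.isIntertwining _ _ x f⟩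
  refine ⟨{ inj := fun i => A.toLinearMap ∘ₗ LinearMap.single ℂ (fun _ : Fin e => W) i
            proj := fun i => LinearMap.proj i ∘ₗ A.symm.toLinearMap
            inj_comm := fun i x w => ?_
            proj_comm := fun i x v => ?_
            proj_inj := fun i j w => ?_
            sum_eq := fun v => ?_ }⟩
  · simp only [LinearMap.comp_apply, LinearEquiv.coe_coe, LinearMap.coe_single]
    rw [← hφ]
    congr 1
    funext k
    by_cases hk : k = i
    · subst hk; simp [τ]
    · simp [τ, Pi.single_eq_of_ne hk]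
  · simp only [LinearMap.comp_apply, LinearEquiv.coe_coe, LinearMap.proj_apply]
    obtain ⟨f, rfl⟩ := A.surjective v
    rw [← hφ, LinearEquiv.symm_apply_apply, LinearEquiv.symm_apply_apply]
    rfl
  · simp [Pi.single_apply]
  · simp only [LinearMap.comp_apply, LinearEquiv.coe_coe, LinearMap.coe_single, LinearMap.proj_apply,
      ← map_sum, Finset.univ_sum_single, LinearEquiv.apply_symm_apply]

end Exists

section Use

variable {W : Type*} [AddCommGroup W] [Module ℂ W] [FiniteDimensional ℂ W]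
  {σ : Representation ℂ H W} {e : ℕ}

/-- The operator on the whole space acting as `Y` on every copy. -/
noncomputable def Frame.lift (F : Frame (ρ.comp H.subtype) σ e) (Y : Module.End ℂ W) :
    Module.End ℂ V :=
  ∑ i, F.inj i ∘ₗ Y ∘ₗ F.proj i

omit [FiniteDimensional ℂ V] [FiniteDimensional ℂ W] in
theorem Frame.lift_one (F : Frame (ρ.comp H.subtype) σ e) : F.lift 1 = 1 := by
  ext v
  simp [Frame.lift, F.sum_eq]

omit [FiniteDimensional ℂ V] [FiniteDimensional ℂ W] in
theorem Frame.lift_mul (F : Frame (ρ.comp H.subtype) σ e) (Y Z : Module.End ℂ W) :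
    F.lift Y * F.lift Z = F.lift (Y * Z) := by
  ext v
  simp [Frame.lift, Module.End.mul_apply, map_sum, F.proj_inj, apply_ite, Finset.sum_ite_eq, Finset.sum_ite_eq']

omit [FiniteDimensional ℂ V] [FiniteDimensional ℂ W] in
theorem Frame.lift_smul (F : Frame (ρ.comp H.subtype) σ e) (c : ℂ) :
    F.lift (c • LinearMap.id) = c • 1 := by
  ext v
  simp [Frame.lift, ← Finset.smul_sum, F.sum_eq]

omit [FiniteDimensional ℂ V] [FiniteDimensional ℂ W] in
theorem Frame.lift_sigma (F : Frame (ρ.comp H.subtype) σ e) (h : H) :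
    F.lift (σ h) = ρ h := by
  ext v
  simp only [Frame.lift, LinearMap.sum_apply, LinearMap.comp_apply, F.inj_comm]
  rw [← map_sum, F.sum_eq]
  rfl

variable [σ.IsIrreducible] [Finite H]

omit [FiniteDimensional ℂ V] in
theorem Frame.lift_mem_Al (F : Frame (ρ.comp H.subtype) σ e) (Y : Module.End ℂ W) :
    F.lift Y ∈ Al ρ H := by
  classical
  haveI := Fintype.ofFinite H
  refine mem_Al.2 fun X hX => ?_
  have hsc : ∀ i j, ∃ c : ℂ, F.proj i ∘ₗ X ∘ₗ F.inj j = c • LinearMap.id := fun i j => by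
    refine exists_eq_smul_of_commute σ _ fun h => LinearMap.ext fun w => ?_
    have hx : ρ (h : G) (X (F.inj j w)) = X (ρ (h : G) (F.inj j w)) :=
      LinearMap.congr_fun (mem_Cm.1 hX (h : G) h.2) (F.inj j w)
    simp only [Module.End.mul_apply, LinearMap.comp_apply, F.inj_comm, MonoidHom.coe_comp,
      Subgroup.coe_subtype, Function.comp_apply]
    rw [← hx]
    exact F.proj_comm i h _
  choose c hc using hsc
  have hXw : ∀ j w, X (F.inj j w) = ∑ i, c i j • F.inj i w := fun j w => by
    rw [← F.sum_eq (X (F.inj j w))]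
    refine Finset.sum_congr rfl fun i _ => ?_
    rw [show F.proj i (X (F.inj j w)) = c i j • w from LinearMap.congr_fun (hc i j) w, map_smul]
  ext v
  rw [← F.sum_eq v]
  simp [Frame.lift, map_sum, hXw, F.proj_inj, apply_ite, Finset.sum_ite_eq, Finset.sum_ite_eq', Finset.smul_sum]

omit [FiniteDimensional ℂ V] [FiniteDimensional ℂ W] [σ.IsIrreducible] [Finite H] in
theorem Frame.eq_lift (F : Frame (ρ.comp H.subtype) σ e) {X : Module.End ℂ V} (hX : X ∈ Al ρ H)
    (i₀ : Fin e) : X = F.lift (F.proj i₀ ∘ₗ X ∘ₗ F.inj i₀) := by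
  classical
  have hunit : ∀ i j, F.inj i ∘ₗ F.proj j ∈ Cm ρ H := fun i j => mem_Cm.2 fun h hh => by
    ext v
    have h1 := F.proj_comm j ⟨h, hh⟩ v
    have h2 := F.inj_comm i ⟨h, hh⟩ (F.proj j v)
    simp only [MonoidHom.coe_comp, Subgroup.coe_subtype, Function.comp_apply] at h1 h2
    simp only [Module.End.mul_apply, LinearMap.comp_apply, h1, h2]
  have key : ∀ i j w, X (F.inj i w) = F.inj i (F.proj j (X (F.inj j w))) := by
    intro i j w
    have h := LinearMap.congr_fun (mem_Al.1 hX _ (hunit i j)) (F.inj j w)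
    simp only [Module.End.mul_apply, LinearMap.comp_apply, F.proj_inj, if_true] at h
    exact h.symm
  ext v
  rw [← F.sum_eq v]
  simp [Frame.lift, map_sum, F.proj_inj, apply_ite, Finset.sum_ite_eq, Finset.sum_ite_eq', ← key]

end Use

section Homogeneous

variable [Finite G] [Nontrivial V]

theorem HomRep.exists_frame (hh : HomRep ρ H) :
    ∃ (n e : ℕ) (σ : Representation ℂ H (Fin n → ℂ)), σ.IsIrreducible ∧ 0 < e ∧
      (∀ h : H, ρ.character h = (e : ℂ) * σ.character h) ∧
      Nonempty (Frame (ρ.comp H.subtype) σ e) := by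
  obtain ⟨n, σ, e, hσ, hc⟩ := hh
  refine ⟨n, e, σ, hσ, Nat.pos_of_ne_zero ?_, hc, Berger.exists_frame _ σ e hc⟩
  rintro rfl
  have h := hc 1
  rw [OneMemClass.coe_one, Representation.char_one, Nat.cast_zero, zero_mul, Nat.cast_eq_zero] at h
  exact finrank_pos.ne' h

/-- An operator in both commutants is a scalar. -/
theorem exists_scalar (hh : HomRep ρ H) {z : Module.End ℂ V} (h1 : z ∈ Cm ρ H) (h2 : z ∈ Al ρ H) :
    ∃ c : ℂ, z = c • (1 : Module.End ℂ V) := by
  obtain ⟨n, e, σ, hσ, he, -, ⟨F⟩⟩ := hh.exists_frame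
  haveI := hσ
  haveI := Fintype.ofFinite H
  have hz := F.eq_lift h2 ⟨0, he⟩
  obtain ⟨c, hc⟩ := exists_eq_smul_of_commute σ (F.proj ⟨0, he⟩ ∘ₗ z ∘ₗ F.inj ⟨0, he⟩) fun h =>
    LinearMap.ext fun w => by
      have hx : ρ (h : G) (z (F.inj ⟨0, he⟩ w)) = z (ρ (h : G) (F.inj ⟨0, he⟩ w)) :=
        LinearMap.congr_fun (mem_Cm.1 h1 (h : G) h.2) (F.inj ⟨0, he⟩ w)
      simp only [Module.End.mul_apply, LinearMap.comp_apply, F.inj_comm, MonoidHom.coe_comp,
        Subgroup.coe_subtype, Function.comp_apply]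
      rw [← hx]
      exact F.proj_comm _ h _
  exact ⟨c, by rw [hz, hc, F.lift_smul]⟩

/-- Conjugation by any element of the group is inner on a normal homogeneous subgroup. -/
theorem exists_twist [H.Normal] (hh : HomRep ρ H) (g : G) :
    ∃ T : (Module.End ℂ V)ˣ, (T : Module.End ℂ V) ∈ Al ρ H ∧
      ((T⁻¹ : (Module.End ℂ V)ˣ) : Module.End ℂ V) ∈ Al ρ H ∧
      ∀ h ∈ H, (T : Module.End ℂ V) * ρ h = ρ (g * h * g⁻¹) * (T : Module.End ℂ V) := by
  obtain ⟨n, e, σ, hσ, he, hc, ⟨F⟩⟩ := hh.exists_frame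
  haveI := hσ
  haveI := Fintype.ofFinite H
  let c : H →* H :=
    { toFun := fun h => ⟨g * h * g⁻¹, (inferInstance : H.Normal).conj_mem _ h.2 g⟩
      map_one' := Subtype.ext (by simp)
      map_mul' := fun a b => Subtype.ext (by simp) }
  obtain ⟨φ⟩ := nonempty_equiv_of_character_eq σ (σ.comp c) (funext fun h => by
    show σ.character h = σ.character (c h)
    have h1 := hc (c h)
    rw [show ρ.character ((c h : H) : G) = ρ.character h from Representation.char_conj ρ _ g,
      hc h] at h1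
    exact mul_left_cancel₀ (Nat.cast_ne_zero.2 he.ne') h1)
  let A := φ.toLinearEquiv
  refine ⟨⟨F.lift A.toLinearMap, F.lift A.symm.toLinearMap, ?_, ?_⟩, F.lift_mem_Al _,
    F.lift_mem_Al _, fun h hh => ?_⟩
  · rw [F.lift_mul, ← F.lift_one]
    exact congrArg _ (LinearMap.ext A.apply_symm_apply)
  · rw [F.lift_mul, ← F.lift_one]
    exact congrArg _ (LinearMap.ext A.symm_apply_apply)
  · show F.lift A.toLinearMap * ρ h = ρ (g * h * g⁻¹) * F.lift A.toLinearMap
    rw [← F.lift_sigma ⟨h, hh⟩,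
      show ρ (g * h * g⁻¹) = F.lift (σ (c ⟨h, hh⟩)) from (F.lift_sigma (c ⟨h, hh⟩)).symm,
      F.lift_mul, F.lift_mul]
    exact congrArg _ (LinearMap.ext fun w => φ.toIntertwiningMap.isIntertwining _ _ ⟨h, hh⟩ w)

/-- The commutant of a subgroup inside the bicommutant of a homogeneous overgroup is small. -/
theorem finrank_mul_card_le {C : Subgroup G} (hCH : C ≤ H) (hh : HomRep ρ H) :
    finrank ℂ (Cm ρ C ⊓ Al ρ H : Subalgebra ℂ (Module.End ℂ V)) * Nat.card C ≤ Nat.card H := by
  obtain ⟨n, e, σ, hσ, he, -, ⟨F⟩⟩ := hh.exists_frame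
  haveI := hσ
  haveI := Fintype.ofFinite H
  haveI := Fintype.ofFinite C
  let σC : Representation ℂ C (Fin n → ℂ) := σ.comp (Subgroup.inclusion hCH)
  haveI : Module.Finite ℂ (σC.IntertwiningMap σC) :=
    Module.Finite.of_injective
      ({ toFun := fun f => f.toLinearMap
         map_add' := fun _ _ => rfl
         map_smul' := fun _ _ => rfl } : _ →ₗ[ℂ] ((Fin n → ℂ) →ₗ[ℂ] (Fin n → ℂ)))
      (fun _ _ h => Representation.IntertwiningMap.ext h)
  let i₀ : Fin e := ⟨0, he⟩
  let f : ↥(Cm ρ C ⊓ Al ρ H) →ₗ[ℂ] σC.IntertwiningMap σC :=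
    { toFun := fun X =>
        { toLinearMap := F.proj i₀ ∘ₗ (X : Module.End ℂ V) ∘ₗ F.inj i₀
          isIntertwining' := fun x => LinearMap.ext fun w => by
            show F.proj i₀ (X.1 (F.inj i₀ (σ ⟨x, hCH x.2⟩ w))) =
              σ ⟨x, hCH x.2⟩ (F.proj i₀ (X.1 (F.inj i₀ w)))
            rw [F.inj_comm, ← F.proj_comm]
            exact congrArg _ (LinearMap.congr_fun (mem_Cm.1 X.2.1 (x : G) x.2) (F.inj i₀ w)).symm }
      map_add' := fun X Y => Representation.IntertwiningMap.ext (LinearMap.ext fun w => by simp)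
      map_smul' := fun c X => Representation.IntertwiningMap.ext (LinearMap.ext fun w => by simp) }
  have hf : Function.Injective f := fun X Y hXY => Subtype.ext (by
    rw [F.eq_lift X.2.2 i₀, F.eq_lift Y.2.2 i₀]
    exact congrArg _ (congrArg Representation.IntertwiningMap.toLinearMap hXY))
  have hd := LinearMap.finrank_le_finrank_of_injective hf
  refine (Nat.mul_le_mul_right _ hd).trans ?_
  have h1 : Cfsg.classInner σ.character σ.character = 1 :=
    (isIrreducible_iff_classInner_eq_one σ).1 hσ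
  have h2 := classInner_eq_finrank σC σC
  simp only [Cfsg.classInner] at h1 h2
  rw [inv_mul_eq_div, div_eq_iff (Nat.cast_ne_zero.2 Nat.card_pos.ne'), one_mul] at h1
  rw [inv_mul_eq_div, div_eq_iff (Nat.cast_ne_zero.2 Nat.card_pos.ne')] at h2
  have h1' := congrArg Complex.re h1
  have h2' := congrArg Complex.re h2
  simp only [Complex.re_sum, Complex.mul_conj, Complex.ofReal_re, Complex.natCast_re] at h1' h2'
  rw [← Nat.cast_le (α := ℝ), ← h1', Nat.cast_mul]
  rw [show ((finrank ℂ (σC.IntertwiningMap σC) : ℂ) * (Nat.card C : ℂ)).re =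
    (finrank ℂ (σC.IntertwiningMap σC) : ℝ) * (Nat.card C : ℝ) by simp] at h2'
  rw [← h2']
  calc ∑ x : C, Complex.normSq (σC.character x)
      = ∑ y ∈ Finset.univ.map ⟨Subgroup.inclusion hCH, Subgroup.inclusion_injective hCH⟩,
          Complex.normSq (σ.character y) := by rw [Finset.sum_map]; rfl
    _ ≤ _ := Finset.sum_le_sum_of_subset_of_nonneg (Finset.subset_univ _)
        fun _ _ _ => Complex.normSq_nonneg _

end Homogeneous

end CfsgLib.Char.Exceptional.Berger
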