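import Cfsg.Agent.Lib.Char.Exceptional.BergerOperators
import Cfsg.Agent.Lib.Char.Clifford

/-!
# An induced character gives a system of imprimitivity
-/

set_option autoImplicit false

namespace CfsgLib.Char.Exceptional.Berger

open Module CfsgLib.Char

variable {G : Type*} [Group G]

theorem out_cocycle_mem (K : Subgroup G) (g : G) (q : G ⧸ K) :
    ((g • q).out)⁻¹ * (g * q.out) ∈ K := by
  rw [← QuotientGroup.eq, QuotientGroup.out_eq']
  conv_lhs => rw [← QuotientGroup.out_eq' q]
  rfl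

/-- The monomial-type representation induced from `K`. -/
noncomputable def indRep (K : Subgroup G) {n : ℕ} (τ : Representation ℂ K (Fin n → ℂ)) :
    Representation ℂ G (G ⧸ K → Fin n → ℂ) where
  toFun g := LinearMap.pi fun q =>
    τ ⟨_, out_cocycle_mem K g (g⁻¹ • q)⟩ ∘ₗ LinearMap.proj (g⁻¹ • q)
  map_one' := by
    refine LinearMap.ext fun f => funext fun q => ?_
    simp
    exact LinearMap.congr_fun (map_one τ) _
  map_mul' a b := by
    refine LinearMap.ext fun f => funext fun q => ?_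
    simp only [LinearMap.pi_apply, LinearMap.comp_apply, LinearMap.proj_apply, Module.End.mul_apply,
      mul_inv_rev, ← mul_smul]
    rw [← Module.End.mul_apply, ← map_mul]
    refine congrFun (congrArg DFunLike.coe (congrArg τ (Subtype.ext ?_))) _
    simp only [Subgroup.coe_mul, ← mul_smul, mul_inv_cancel, one_smul, mul_inv_cancel_left,
      inv_mul_cancel_left, one_mul, mul_assoc]

theorem indRep_apply (K : Subgroup G) {n : ℕ} (τ : Representation ℂ K (Fin n → ℂ)) (g : G)
    (f : G ⧸ K → Fin n → ℂ) (q : G ⧸ K) :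
    indRep K τ g f q = τ ⟨_, out_cocycle_mem K g (g⁻¹ • q)⟩ (f (g⁻¹ • q)) := rfl

variable [Fintype G]

theorem character_indRep (K : Subgroup G) {n : ℕ} (τ : Representation ℂ K (Fin n → ℂ)) :
    (indRep K τ).character = Cfsg.indFun K τ.character := by
  classical
  haveI := Fintype.ofFinite (G ⧸ K)
  funext g
  rw [CfsgLib.Clifford.indFun_eq_sum_quotient K (isClassFunction_rep τ)]
  simp only [Representation.character]
  rw [LinearMap.trace_eq_matrix_trace ℂ (Pi.basis fun _ : G ⧸ K => Pi.basisFun ℂ (Fin n)),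
    Matrix.trace, Fintype.sum_sigma]
  refine Finset.sum_congr rfl fun q _ => ?_
  have hval : ∀ i, Matrix.diag (LinearMap.toMatrix (Pi.basis fun _ : G ⧸ K => Pi.basisFun ℂ (Fin n))
      (Pi.basis fun _ : G ⧸ K => Pi.basisFun ℂ (Fin n)) (indRep K τ g)) ⟨q, i⟩ =
      τ ⟨_, out_cocycle_mem K g (g⁻¹ • q)⟩ ((Pi.single q (Pi.single i (1 : ℂ)) :
        G ⧸ K → Fin n → ℂ) (g⁻¹ • q)) i := fun i => by
    simp [Matrix.diag, LinearMap.toMatrix_apply, Pi.basis_repr, Pi.basis_apply, indRep_apply]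
  rw [Finset.sum_congr rfl fun i _ => hval i]
  by_cases hq : g⁻¹ • q = q
  · have hq' : g • q = q := by conv_lhs => rw [← hq, ← mul_smul, mul_inv_cancel, one_smul]
    have ht : q.out⁻¹ * g * q.out ∈ K := by
      have := out_cocycle_mem K g q
      rwa [hq', ← mul_assoc] at this
    rw [extendByZero_of_mem K _ ht]
    show _ = LinearMap.trace ℂ _ (τ ⟨_, ht⟩)
    rw [LinearMap.trace_eq_matrix_trace ℂ (Pi.basisFun ℂ (Fin n)), Matrix.trace]
    refine Finset.sum_congr rfl fun i _ => ?_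
    simp only [Matrix.diag, LinearMap.toMatrix_apply, Pi.basisFun_repr, Pi.basisFun_apply, hq,
      Pi.single_eq_same]
    simp only [hq', mul_assoc]
  · rw [extendByZero_of_notMem]
    · simp [Pi.single_eq_of_ne hq]
    · intro ht
      rw [mul_assoc, ← QuotientGroup.eq, QuotientGroup.out_eq'] at ht
      refine hq ?_
      rw [inv_smul_eq_iff]
      conv_rhs => rw [← QuotientGroup.out_eq' q]
      exact ht

omit [Fintype G] in
theorem system_indRep (K : Subgroup G) {n : ℕ} (hn : n ≠ 0) (τ : Representation ℂ K (Fin n → ℂ)) :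
    System (indRep K τ) K
      (⨅ q ∈ {q : G ⧸ K | q ≠ ((1 : G) : G ⧸ K)},
        LinearMap.ker (LinearMap.proj q : (G ⧸ K → Fin n → ℂ) →ₗ[ℂ] Fin n → ℂ)) := by
  classical
  set U := ⨅ q ∈ {q : G ⧸ K | q ≠ ((1 : G) : G ⧸ K)},
        LinearMap.ker (LinearMap.proj q : (G ⧸ K → Fin n → ℂ) →ₗ[ℂ] Fin n → ℂ) with hU
  have hmem : ∀ f, f ∈ U ↔ ∀ q, q ≠ ((1 : G) : G ⧸ K) → f q = 0 := fun f => by
    simp [hU, Submodule.mem_iInf]
  have hsupp : ∀ g, ∀ v ∈ U.map (indRep K τ g), ∀ q, q ≠ (g : G ⧸ K) → v q = 0 := by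
    rintro g _ ⟨f, hf, rfl⟩ q hq
    rw [indRep_apply, (hmem f).1 hf _ fun h => hq ?_, map_zero]
    rw [inv_smul_eq_iff] at h
    rw [h]
    show ((g * 1 : G) : G ⧸ K) = _
    rw [mul_one]
  refine ⟨fun h => ?_, fun k hk f hf => (hmem _).2 fun q hq => ?_, fun q => ?_⟩
  · obtain ⟨i⟩ : Nonempty (Fin n) := ⟨⟨0, Nat.pos_of_ne_zero hn⟩⟩
    have hx : Pi.single ((1 : G) : G ⧸ K) (Pi.single i (1 : ℂ)) ∈ U :=
      (hmem _).2 fun q hq => Pi.single_eq_of_ne hq _
    rw [h, Submodule.mem_bot] at hx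
    have := congrFun (congrFun hx ((1 : G) : G ⧸ K)) i
    simp at this
  · refine hsupp k _ (Submodule.mem_map_of_mem hf) q fun h => hq ?_
    rw [h, QuotientGroup.eq]
    simpa using hk
  · rw [Submodule.disjoint_def]
    intro v hv hv'
    funext j
    by_cases hj : j = q
    · subst hj
      have hle : (⨆ (i) (_ : i ≠ j), U.map (indRep K τ i.out)) ≤
          LinearMap.ker (LinearMap.proj j : (G ⧸ K → Fin n → ℂ) →ₗ[ℂ] Fin n → ℂ) := by
        refine iSup₂_le fun i hi w hw => ?_
        exact hsupp _ w hw j (by rw [QuotientGroup.out_eq']; exact fun h => hi h.symm)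
      exact hle hv'
    · exact hsupp _ v hv j (by rwa [QuotientGroup.out_eq'])

omit [Fintype G] in
theorem System.map_equiv {V W : Type*} [AddCommGroup V] [Module ℂ V] [FiniteDimensional ℂ V]
    [AddCommGroup W] [Module ℂ W] {π : Representation ℂ G V} {ρ : Representation ℂ G W}
    (e : V ≃ₗ[ℂ] W) (he : ∀ g v, e (π g v) = ρ g (e v)) {K : Subgroup G} {U : Submodule ℂ V}
    (hS : System π K U) : System ρ K (U.map e.toLinearMap) := by
  have hcomm : ∀ g, (U.map e.toLinearMap).map (ρ g) = (U.map (π g)).map e.toLinearMap := fun g => by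
    rw [← Submodule.map_comp, ← Submodule.map_comp]
    congr 1
    exact LinearMap.ext fun v => (he g v).symm
  refine ⟨fun h => hS.ne_bot (Submodule.map_injective_of_injective e.injective
    (h.trans (Submodule.map_bot _).symm)), ?_, ?_⟩
  · rintro k hk _ ⟨u, hu, rfl⟩
    exact ⟨π k u, hS.stable k hk u hu, he k u⟩
  · simp only [hcomm]
    exact hS.indep.map_orderIso (Submodule.orderIsoMapComap e)

end CfsgLib.Char.Exceptional.Berger
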