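import Cfsg.Agent.Lib.Char.Exceptional.BergerFrame
import Cfsg.Agent.Lib.Char.Weights
import Mathlib.LinearAlgebra.Projection
import Mathlib.LinearAlgebra.Eigenspace.Pi
import Mathlib.RingTheory.Norm.Defs

/-!
# Systems of imprimitivity and the operators that permute them
-/

set_option autoImplicit false

namespace CfsgLib.Char.Exceptional.Berger

open Module CfsgLib.Char

variable {G : Type*} [Group G] {V : Type*} [AddCommGroup V] [Module ℂ V] [FiniteDimensional ℂ V]

/-- A nonzero subspace stable under `K` with independent translates. -/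
structure System (ρ : Representation ℂ G V) (K : Subgroup G) (U : Submodule ℂ V) : Prop where
  ne_bot : U ≠ ⊥
  stable : ∀ k ∈ K, ∀ u ∈ U, ρ k u ∈ U
  indep : iSupIndep fun q : G ⧸ K => U.map (ρ q.out)

/-- No proper system of imprimitivity over `N`. -/
def Primitive (ρ : Representation ℂ G V) (N : Subgroup G) : Prop :=
  ∀ (K : Subgroup G) (U : Submodule ℂ V), N ≤ K → K ≠ ⊤ → System ρ K U → False

section Basic

variable (ρ : Representation ℂ G V)

omit [FiniteDimensional ℂ V] in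
theorem rho_mul_apply (g h : G) (v : V) : ρ (g * h) v = ρ g (ρ h v) := by
  rw [map_mul]; rfl

omit [FiniteDimensional ℂ V] in
theorem rho_inv_mul (g : G) : ρ g⁻¹ * ρ g = 1 := by rw [← map_mul, inv_mul_cancel, map_one]

omit [FiniteDimensional ℂ V] in
theorem rho_mul_inv (g : G) : ρ g * ρ g⁻¹ = 1 := by rw [← map_mul, mul_inv_cancel, map_one]

/-- Conjugation by the operator of a group element. -/
def cj (g : G) (X : Module.End ℂ V) : Module.End ℂ V := ρ g * X * ρ g⁻¹

omit [FiniteDimensional ℂ V] in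
theorem cj_mul (g : G) (X Y : Module.End ℂ V) : cj ρ g (X * Y) = cj ρ g X * cj ρ g Y := by
  unfold cj
  rw [show ρ g * X * ρ g⁻¹ * (ρ g * Y * ρ g⁻¹) = ρ g * X * (ρ g⁻¹ * ρ g) * Y * ρ g⁻¹ by
    simp only [mul_assoc], rho_inv_mul, mul_one]
  simp only [mul_assoc]

omit [FiniteDimensional ℂ V] in
theorem cj_cj (g h : G) (X : Module.End ℂ V) : cj ρ g (cj ρ h X) = cj ρ (g * h) X := by
  simp only [cj, mul_inv_rev, map_mul, mul_assoc]

omit [FiniteDimensional ℂ V] in
theorem cj_one (X : Module.End ℂ V) : cj ρ 1 X = X := by simp [cj]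

omit [FiniteDimensional ℂ V] in
theorem cj_cj_inv (g : G) (X : Module.End ℂ V) : cj ρ g (cj ρ g⁻¹ X) = X := by
  rw [cj_cj, mul_inv_cancel, cj_one]

omit [FiniteDimensional ℂ V] in
theorem cj_mul_rho (g : G) (X : Module.End ℂ V) : cj ρ g X * ρ g = ρ g * X := by
  rw [cj, mul_assoc, rho_inv_mul, mul_one]

omit [FiniteDimensional ℂ V] in
theorem cj_rho (g h : G) : cj ρ g (ρ h) = ρ (g * h * g⁻¹) := by
  simp only [cj, map_mul]

omit [FiniteDimensional ℂ V] in
theorem cj_mem_Cm (H : Subgroup G) [hH : H.Normal] (g : G) {X : Module.End ℂ V}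
    (hX : X ∈ Cm ρ H) : cj ρ g X ∈ Cm ρ H := by
  refine mem_Cm.2 fun h hh => ?_
  have h1 := congrArg (cj ρ g) (mem_Cm.1 hX (g⁻¹ * h * g⁻¹⁻¹) (hH.conj_mem h hh g⁻¹))
  rw [← cj_rho ρ g⁻¹ h, cj_mul, cj_mul, cj_cj_inv] at h1
  exact h1

omit [FiniteDimensional ℂ V] in
theorem cj_mem_Al (H : Subgroup G) [H.Normal] (g : G) {X : Module.End ℂ V}
    (hX : X ∈ Al ρ H) : cj ρ g X ∈ Al ρ H := by
  refine mem_Al.2 fun Y hY => ?_
  have h1 := congrArg (cj ρ g) (mem_Al.1 hX (cj ρ g⁻¹ Y) (cj_mem_Cm ρ H g⁻¹ hY))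
  rw [cj_mul, cj_mul, cj_cj_inv] at h1
  exact h1

end Basic

section Pieces

variable {ρ : Representation ℂ G V} {K : Subgroup G} {U : Submodule ℂ V} (hS : System ρ K U)

include hS

omit [FiniteDimensional ℂ V] in
theorem System.map_eq (g : G) : U.map (ρ g) = U.map (ρ (g : G ⧸ K).out) := by
  obtain ⟨k, hk⟩ := QuotientGroup.mk_out_eq_mul K g
  rw [hk]
  ext v
  constructor
  · rintro ⟨u, hu, rfl⟩
    exact ⟨ρ (k : G)⁻¹ u, hS.stable _ (K.inv_mem k.2) u hu, by
      rw [rho_mul_apply, ρ.self_inv_apply]⟩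
  · rintro ⟨u, hu, rfl⟩
    exact ⟨ρ (k : G) u, hS.stable _ k.2 u hu, by rw [rho_mul_apply]⟩

omit [FiniteDimensional ℂ V] in
theorem System.map_one : U.map (ρ ((1 : G) : G ⧸ K).out) = U := by
  rw [← hS.map_eq, _root_.map_one]
  exact Submodule.map_id U

omit [FiniteDimensional ℂ V] in
theorem System.map_ne_bot (g : G) : U.map (ρ g) ≠ ⊥ := fun h =>
  hS.ne_bot (Submodule.map_injective_of_injective (ρ.apply_bijective g).1
    (h.trans (Submodule.map_bot _).symm))

omit [FiniteDimensional ℂ V] in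
theorem System.coset_eq_of_le {g h : G} (hle : U.map (ρ g) ≤ U.map (ρ h)) :
    (g : G ⧸ K) = (h : G ⧸ K) := by
  by_contra hne
  refine hS.map_ne_bot g ?_
  rw [hS.map_eq g, hS.map_eq h] at hle
  have hd : Disjoint (U.map (ρ (g : G ⧸ K).out)) (U.map (ρ (h : G ⧸ K).out)) :=
    hS.indep.pairwiseDisjoint hne
  rw [hS.map_eq g]
  exact le_bot_iff.1 (hd le_rfl hle)

omit [FiniteDimensional ℂ V] in
theorem System.iSup_eq_top [ρ.IsIrreducible] : ⨆ q : G ⧸ K, U.map (ρ q.out) = ⊤ := by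
  refine CfsgLib.CharWeights.eq_top_of_invariant ρ _ (fun g v hv => ?_) fun h => ?_
  · induction hv using Submodule.iSup_induction' with
    | mem q x hx =>
      obtain ⟨u, hu, rfl⟩ := hx
      refine Submodule.mem_iSup_of_mem ((g * q.out : G) : G ⧸ K) ?_
      rw [← hS.map_eq, ← rho_mul_apply]
      exact Submodule.mem_map_of_mem hu
    | zero => simp
    | add x y _ _ hx hy => rw [_root_.map_add]; exact add_mem hx hy
  · refine hS.map_ne_bot ((1 : G) : G ⧸ K).out (le_bot_iff.1 ?_)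
    rw [← h]
    exact le_iSup (fun q : G ⧸ K => U.map (ρ q.out)) _

omit [FiniteDimensional ℂ V] in
theorem System.map_map_of_normal (C : Subgroup G) [hC : C.Normal] (hCK : C ≤ K) {c : G}
    (hc : c ∈ C) (q : G ⧸ K) : (U.map (ρ q.out)).map (ρ c) = U.map (ρ q.out) := by
  rw [← Submodule.map_comp, ← Module.End.mul_eq_comp, ← _root_.map_mul, hS.map_eq (c * q.out)]
  congr 3
  conv_rhs => rw [← QuotientGroup.out_eq' q]
  rw [QuotientGroup.eq]
  refine hCK ?_
  have := hC.conj_mem c⁻¹ (C.inv_mem hc) q.out⁻¹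
  rwa [mul_inv_rev, show q.out⁻¹ * c⁻¹ * q.out = q.out⁻¹ * c⁻¹ * q.out⁻¹⁻¹ by rw [inv_inv]]

omit [FiniteDimensional ℂ V] in
/-- The projection onto a piece commutes with a normal subgroup of the stabiliser. -/
theorem System.exists_projection [ρ.IsIrreducible] (C : Subgroup G) [C.Normal] (hCK : C ≤ K)
    (q : G ⧸ K) : ∃ P : Module.End ℂ V, P ∈ Cm ρ C ∧ (∀ v, P v ∈ U.map (ρ q.out)) ∧
      (∀ v ∈ U.map (ρ q.out), P v = v) ∧
      ∀ q', q' ≠ q → ∀ v ∈ U.map (ρ q'.out), P v = 0 := by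
  set W' := ⨆ (j) (_ : j ≠ q), U.map (ρ j.out) with hW'
  have hc : IsCompl (U.map (ρ q.out)) W' := by
    refine ⟨hS.indep q, codisjoint_iff.2 (top_le_iff.1 ?_)⟩
    rw [← hS.iSup_eq_top]
    refine iSup_le fun j => ?_
    by_cases hj : j = q
    · subst hj; exact le_sup_left
    · exact le_sup_of_le_right (le_iSup₂ (f := fun (j : G ⧸ K) (_ : j ≠ q) => U.map (ρ j.out)) j hj)
  refine ⟨(U.map (ρ q.out)).projection W' hc, ?_, fun v => Submodule.projection_apply_mem hc v,
    fun v hv => Submodule.projection_apply_of_mem_left hc hv, fun j hj v hv =>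
      Submodule.projection_apply_of_mem_right hc
        (le_iSup₂ (f := fun (j : G ⧸ K) (_ : j ≠ q) => U.map (ρ j.out)) j hj hv)⟩
  refine mem_Cm.2 fun c hcC => LinearMap.ext fun v => ?_
  have h1 : ∀ a ∈ U.map (ρ q.out), ρ c a ∈ U.map (ρ q.out) := fun a ha => by
    rw [← hS.map_map_of_normal C hCK hcC q]
    exact Submodule.mem_map_of_mem ha
  have h2 : ∀ b ∈ W', ρ c b ∈ W' := fun b hb => by
    have : W'.map (ρ c) = W' := by
      simp only [hW', Submodule.map_iSup, hS.map_map_of_normal C hCK hcC]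
    rw [← this]
    exact Submodule.mem_map_of_mem hb
  obtain ⟨a, ha, b, hb, rfl⟩ := Submodule.mem_sup.1 (hc.sup_eq_top.symm ▸ Submodule.mem_top (x := v))
  simp only [Module.End.mul_apply, _root_.map_add,
    Submodule.projection_apply_of_mem_left hc ha, Submodule.projection_apply_of_mem_right hc hb,
    Submodule.projection_apply_of_mem_left hc (h1 a ha),
    Submodule.projection_apply_of_mem_right hc (h2 b hb), map_zero, add_zero]

omit [FiniteDimensional ℂ V] in
theorem System.mapsTo_of_mem_Al [ρ.IsIrreducible] (C : Subgroup G) [C.Normal] (hCK : C ≤ K)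
    {T : Module.End ℂ V} (hT : T ∈ Al ρ C) (g : G) {v : V} (hv : v ∈ U.map (ρ g)) :
    T v ∈ U.map (ρ g) := by
  rw [hS.map_eq g] at hv ⊢
  obtain ⟨P, hP, hPm, hPi, -⟩ := hS.exists_projection C hCK (g : G ⧸ K)
  have h := LinearMap.congr_fun (mem_Al.1 hT P hP) v
  rw [Module.End.mul_apply, Module.End.mul_apply, hPi v hv] at h
  rw [← h]
  exact hPm _

end Pieces

section Coarse

omit [FiniteDimensional ℂ V] in
/-- Enlarging the stabiliser of a system. -/
theorem System.enlarge {ρ : Representation ℂ G V} {K K' : Subgroup G} {U : Submodule ℂ V}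
    (hS : System ρ K U) (hle : K ≤ K') :
    System ρ K' (⨆ k : K', U.map (ρ (k : G))) := by
  set U' := ⨆ k : K', U.map (ρ (k : G)) with hU'
  let π : G ⧸ K → G ⧸ K' := Quotient.map' id fun a b h => by
    rw [QuotientGroup.leftRel_apply] at h ⊢
    exact hle h
  refine ⟨fun h => hS.map_ne_bot ((1 : K') : G) (le_bot_iff.1 (h ▸ le_iSup (fun k : K' => U.map (ρ (k : G))) 1)),
    fun k hk u hu => ?_, fun q => ?_⟩
  · induction hu using Submodule.iSup_induction' with
    | mem j x hx =>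
      obtain ⟨w, hw, rfl⟩ := hx
      exact Submodule.mem_iSup_of_mem (⟨k * j, K'.mul_mem hk j.2⟩ : K')
        ⟨w, hw, rho_mul_apply ρ k j w⟩
    | zero => simp
    | add x y _ _ hx hy => rw [_root_.map_add]; exact add_mem hx hy
  · have hle1 : ∀ q : G ⧸ K', U'.map (ρ q.out) ≤
        ⨆ j ∈ {j : G ⧸ K | π j = q}, U.map (ρ j.out) := by
      intro q
      rw [hU', Submodule.map_iSup]
      refine iSup_le fun k => ?_
      rw [← Submodule.map_comp, ← Module.End.mul_eq_comp, ← _root_.map_mul,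
        hS.map_eq (q.out * k)]
      refine le_iSup₂ (f := fun (j : G ⧸ K) (_ : j ∈ {j : G ⧸ K | π j = q}) => U.map (ρ j.out)) _ ?_
      show ((q.out * k : G) : G ⧸ K') = q
      rw [QuotientGroup.mk_mul_of_mem _ k.2, QuotientGroup.out_eq']
    refine Disjoint.mono (hle1 q) ?_ (hS.indep.disjoint_biSup_biSup
      (s := {j : G ⧸ K | π j = q}) (t := {j : G ⧸ K | π j ≠ q})
      (Set.disjoint_left.2 fun x hx hx' => hx' hx))
    refine iSup₂_le fun j hj => (hle1 j).trans (biSup_mono fun i (hi : π i = j) => ?_)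
    show π i ≠ q
    rw [hi]
    exact hj

end Coarse

end CfsgLib.Char.Exceptional.Berger
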