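import Cfsg.Agent.Lib.Char.Exceptional.BergerRight
import Cfsg.Agent.Lib.Char.Exceptional.SuperMonomial
import Mathlib.LinearAlgebra.Eigenspace.Triangularizable
import Mathlib.Data.Int.GCD

/-!
# Berger's theorem at the level of representations

An irreducible representation of a solvable group with homogeneous restriction to every normal
subgroup has no proper system of imprimitivity.
-/

set_option autoImplicit false

namespace CfsgLib.Char.Exceptional.Berger

open Module CfsgLib.Char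

variable {G : Type*} [Group G] {V : Type*} [AddCommGroup V] [Module ℂ V] [FiniteDimensional ℂ V]

/-- A common eigenvector of a commuting family. -/
theorem exists_common_eigen {ι : Type*} [Nontrivial V] (X : ι → Module.End ℂ V)
    (hX : ∀ i j, Commute (X i) (X j)) :
    ∃ μ : ι → ℂ, (⨅ i, (X i).eigenspace (μ i)) ≠ ⊥ := by
  classical
  have hmem : ∃ n, ∃ p : Submodule ℂ V, p ≠ ⊥ ∧ (∀ i, ∀ v ∈ p, X i v ∈ p) ∧ finrank ℂ p = n :=
    ⟨_, ⊤, top_ne_bot, fun _ _ _ => Submodule.mem_top, rfl⟩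
  obtain ⟨p, hp0, hpX, hpn⟩ := Nat.find_spec hmem
  haveI : Nontrivial p := Submodule.nontrivial_iff_ne_bot.2 hp0
  have hsc : ∀ i, ∃ c : ℂ, p ≤ (X i).eigenspace c := fun i => by
    obtain ⟨c, hc⟩ := Module.End.exists_eigenvalue ((X i).restrict (hpX i))
    obtain ⟨v, hv, hv0⟩ := hc.exists_hasEigenvector
    rw [Module.End.mem_eigenspace_iff] at hv
    let q : Submodule ℂ V := p ⊓ (X i).eigenspace c
    have hq0 : q ≠ ⊥ := fun h => hv0 (Subtype.ext ((Submodule.mem_bot ℂ).1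
      (h ▸ ⟨v.2, Module.End.mem_eigenspace_iff.2 (congrArg Subtype.val hv)⟩ : (v : V) ∈ (⊥ : Submodule ℂ V))))
    have hqX : ∀ j, ∀ w ∈ q, X j w ∈ q := fun j w hw => by
      refine ⟨hpX j w hw.1, Module.End.mem_eigenspace_iff.2 ?_⟩
      rw [← Module.End.mul_apply, (hX i j).eq, Module.End.mul_apply,
        Module.End.mem_eigenspace_iff.1 hw.2, map_smul]
    have hle : finrank ℂ p ≤ finrank ℂ q := hpn ▸ Nat.find_min' hmem ⟨q, hq0, hqX, rfl⟩
    have hqp : q = p := Submodule.eq_of_le_of_finrank_le inf_le_left hle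
    exact ⟨c, hqp ▸ inf_le_right⟩
  choose μ hμ using hsc
  exact ⟨μ, fun h => hp0 (le_bot_iff.1 (h ▸ le_iInf hμ))⟩

omit [FiniteDimensional ℂ V] in
/-- Joint eigenspaces of a commuting family are independent. -/
theorem iSupIndep_eigen {ι : Type*} (X : ι → Module.End ℂ V) (hX : ∀ i j, Commute (X i) (X j)) :
    iSupIndep fun μ : ι → ℂ => ⨅ i, (X i).eigenspace (μ i) :=
  (Module.End.independent_iInf_maxGenEigenspace_of_forall_mapsTo X fun i j φ =>
    Module.End.mapsTo_maxGenEigenspace_of_comm (hX j i) φ).mono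
      fun _ => iInf_mono fun _ => Module.End.eigenspace_le_maxGenEigenspace

variable {ρ : Representation ℂ G V}

omit [FiniteDimensional ℂ V] in
/-- The eigenspace system attached to a commuting family permuted up to scalars. -/
theorem System.of_eigen {ι : Type*} (X : ι → Module.End ℂ V) (hX : ∀ i j, Commute (X i) (X j))
    (hperm : ∀ g : G, ∀ i, ∃ j, ∃ c : ℂ, X i * ρ g = c • (ρ g * X j)) {μ : ι → ℂ}
    (hμ : (⨅ i, (X i).eigenspace (μ i)) ≠ ⊥) :
    ∃ T : Subgroup G, (∀ b : G, (∀ i, Commute (X i) (ρ b)) → b ∈ T) ∧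
      System ρ T (⨅ i, (X i).eigenspace (μ i)) := by
  classical
  set E : (ι → ℂ) → Submodule ℂ V := fun ν => ⨅ i, (X i).eigenspace (ν i) with hE
  have hmem : ∀ ν v, v ∈ E ν ↔ ∀ i, X i v = ν i • v := fun ν v => by
    simp [hE, Submodule.mem_iInf, Module.End.mem_eigenspace_iff]
  choose j c hjc using hperm
  let act : G → (ι → ℂ) → ι → ℂ := fun g ν i => c g i * ν (j g i)
  have hmap : ∀ g ν, (E ν).map (ρ g) ≤ E (act g ν) := by
    rintro g ν _ ⟨v, hv, rfl⟩
    refine (hmem _ _).2 fun i => ?_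
    rw [← Module.End.mul_apply, hjc g i, LinearMap.smul_apply, Module.End.mul_apply,
      (hmem ν v).1 hv, map_smul, smul_smul]
  have huniq : ∀ ν ν', E ν ≠ ⊥ → E ν ≤ E ν' → ν = ν' := fun ν ν' h0 hle => by
    obtain ⟨v, hv, hv0⟩ := (Submodule.ne_bot_iff _).1 h0
    exact funext fun i => smul_left_injective ℂ hv0
      (((hmem ν v).1 hv i).symm.trans ((hmem ν' v).1 (hle hv) i))
  have hne : ∀ g, (E μ).map (ρ g) ≠ ⊥ := fun g h =>
    hμ (Submodule.map_injective_of_injective (ρ.apply_bijective g).1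
      (h.trans (Submodule.map_bot _).symm))
  have heq : ∀ g, (E μ).map (ρ g) = E (act g μ) := by
    intro g
    refine le_antisymm (hmap g μ) fun v hv => ?_
    have hback : ∀ w ∈ E (act g μ), ρ g⁻¹ w ∈ E (act g⁻¹ (act g μ)) := fun w hw =>
      hmap g⁻¹ _ (Submodule.mem_map_of_mem hw)
    have hfix : μ = act g⁻¹ (act g μ) := huniq _ _ hμ fun w hw => by
      have := hback _ (hmap g μ (Submodule.mem_map_of_mem hw))
      rwa [ρ.inv_self_apply] at this
    exact ⟨ρ g⁻¹ v, show ρ g⁻¹ v ∈ E μ by rw [hfix]; exact hback v hv, ρ.self_inv_apply _ _⟩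
  let T : Subgroup G :=
    { carrier := {g | (E μ).map (ρ g) = E μ}
      mul_mem' := fun {a b} (ha : (E μ).map (ρ a) = E μ) (hb : (E μ).map (ρ b) = E μ) => by
        show (E μ).map (ρ (a * b)) = E μ
        rw [_root_.map_mul, Module.End.mul_eq_comp, Submodule.map_comp, hb, ha]
      one_mem' := by show (E μ).map (ρ 1) = E μ; rw [_root_.map_one]; exact Submodule.map_id _
      inv_mem' := fun {a} (ha : (E μ).map (ρ a) = E μ) => by
        show (E μ).map (ρ a⁻¹) = E μ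
        conv_lhs => rw [← ha, ← Submodule.map_comp, ← Module.End.mul_eq_comp, ← _root_.map_mul,
          inv_mul_cancel, _root_.map_one]
        exact Submodule.map_id _ }
  refine ⟨T, fun b hb => ?_, hμ, fun k hk u hu => ?_, ?_⟩
  · show (E μ).map (ρ b) = E μ
    rw [heq]
    congr 1
    refine (huniq _ _ (by rw [← heq]; exact hne b) ?_)
    rw [← heq]
    rintro _ ⟨v, hv, rfl⟩
    refine (hmem _ _).2 fun i => ?_
    rw [← Module.End.mul_apply, (hb i).eq, Module.End.mul_apply, (hmem μ v).1 hv, map_smul]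
  · have h : (E μ).map (ρ k) = E μ := hk
    show ρ k u ∈ E μ
    rw [← h]
    exact Submodule.mem_map_of_mem hu
  · have hinj : Function.Injective fun q : G ⧸ T => act q.out μ := by
      intro q r hqr
      rw [← QuotientGroup.out_eq' q, ← QuotientGroup.out_eq' r, QuotientGroup.eq]
      have h : (E μ).map (ρ q.out) = (E μ).map (ρ r.out) := by
        rw [heq, heq]; exact congrArg E hqr
      show (E μ).map (ρ (q.out⁻¹ * r.out)) = E μ
      rw [_root_.map_mul, Module.End.mul_eq_comp, Submodule.map_comp, ← h, ← Submodule.map_comp,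
        ← Module.End.mul_eq_comp, ← _root_.map_mul, inv_mul_cancel, _root_.map_one]
      exact Submodule.map_id _
    have := (iSupIndep_eigen X hX).comp hinj
    refine this.mono fun q => ?_
    exact le_of_eq (heq q.out)

/-- An operator implementing conjugation by `g` on the middle algebra. -/
def Imp (ρ : Representation ℂ G V) (C L : Subgroup G) (g : G) (W : Module.End ℂ V) : Prop :=
  W ∈ Mid ρ C L ∧ ∀ y ∈ Mid ρ C L, cj ρ g y * W = W * y

omit [FiniteDimensional ℂ V] in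
theorem cj_mem_Mid {C L : Subgroup G} [C.Normal] [L.Normal] (g : G) {y : Module.End ℂ V}
    (hy : y ∈ Mid ρ C L) : cj ρ g y ∈ Mid ρ C L :=
  ⟨cj_mem_Cm ρ C g hy.1, cj_mem_Al ρ L g hy.2⟩

omit [FiniteDimensional ℂ V] in
theorem Imp.mul {C L : Subgroup G} [C.Normal] [L.Normal] {g h : G} {W W' : Module.End ℂ V}
    (hW : Imp ρ C L g W) (hW' : Imp ρ C L h W') : Imp ρ C L (g * h) (W * W') :=
  ⟨(Mid ρ C L).mul_mem hW.1 hW'.1, fun y hy => by
    rw [← cj_cj, ← mul_assoc, hW.2 _ (cj_mem_Mid h hy), mul_assoc, hW'.2 y hy, mul_assoc]⟩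

omit [FiniteDimensional ℂ V] in
theorem Imp.one {C L : Subgroup G} {c : G} (hc : c ∈ C) : Imp ρ C L c 1 :=
  ⟨(Mid ρ C L).one_mem, fun y hy => by
    rw [mul_one, one_mul, cj, mem_Cm.1 hy.1 c hc, mul_assoc, rho_mul_inv, mul_one]⟩

variable [Finite G] [ρ.IsIrreducible]

/-- Such operators exist, are invertible and are unique up to scalars. -/
theorem exists_imp {C L : Subgroup G} [C.Normal] [L.Normal] (hCL : C ≤ L) {U : Submodule ℂ V}
    {d : ℕ} (hR : RightData ρ C L U d) (hC : HomRep ρ C) (hL : HomRep ρ L) (g : G) :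
    ∃ W : (Mid ρ C L)ˣ, Imp ρ C L g ((W : Mid ρ C L) : Module.End ℂ V) ∧
      ∀ W' : Module.End ℂ V, Imp ρ C L g W' →
        ∃ c : ℂ, W' = c • ((W : Mid ρ C L) : Module.End ℂ V) := by
  haveI := nontrivial_of_irreducible ρ
  obtain ⟨A, hA, hAi, hAc⟩ := exists_twist hC g
  obtain ⟨B, hB, hBi, hBc⟩ := exists_twist hL g
  have hinv : ∀ (M : Subgroup G) (T : (Module.End ℂ V)ˣ),
      (∀ h ∈ M, (T : Module.End ℂ V) * ρ h = ρ (g * h * g⁻¹) * (T : Module.End ℂ V)) →
      ∀ h ∈ M, ρ h * ((T⁻¹ : (Module.End ℂ V)ˣ) : Module.End ℂ V) =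
        ((T⁻¹ : (Module.End ℂ V)ˣ) : Module.End ℂ V) * ρ (g * h * g⁻¹) := by
    intro M T hT h hh
    refine T.mul_right_inj.1 ?_
    rw [← mul_assoc, hT h hh, mul_assoc, Units.mul_inv, mul_one, ← mul_assoc, Units.mul_inv,
      one_mul]
  let W0 : (Module.End ℂ V)ˣ := A⁻¹ * B
  have hW0 : (W0 : Module.End ℂ V) ∈ Cm ρ C := mem_Cm.2 fun h hh => by
    show ρ h * (_ * _) = (_ * _) * ρ h
    rw [← mul_assoc, hinv C A hAc h hh, mul_assoc _ (ρ (g * h * g⁻¹)), ← hBc h (hCL hh), mul_assoc]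
  have hW0i : ((W0⁻¹ : (Module.End ℂ V)ˣ) : Module.End ℂ V) ∈ Cm ρ C := mem_Cm.2 fun h hh =>
    (Commute.units_inv_right (show Commute (ρ h) (W0 : Module.End ℂ V) from mem_Cm.1 hW0 h hh)).eq
  have hW1 : (W0 : Module.End ℂ V) ∈ Mid ρ C L :=
    ⟨hW0, (Al ρ L).mul_mem (Al_mono hCL hAi) hB⟩
  have hW2 : ((W0⁻¹ : (Module.End ℂ V)ˣ) : Module.End ℂ V) ∈ Mid ρ C L :=
    ⟨hW0i, by
      show ((A⁻¹ * B)⁻¹ : (Module.End ℂ V)ˣ).val ∈ Al ρ L
      rw [mul_inv_rev, inv_inv, Units.val_mul]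
      exact (Al ρ L).mul_mem hBi (Al_mono hCL hA)⟩
  let W : (Mid ρ C L)ˣ :=
    ⟨⟨_, hW1⟩, ⟨_, hW2⟩, Subtype.ext W0.mul_inv, Subtype.ext W0.inv_mul⟩
  have himp : ∀ y ∈ Mid ρ C L, cj ρ g y * (W0 : Module.End ℂ V) = W0 * y := by
    intro y hy
    have hX : ((B⁻¹ : (Module.End ℂ V)ˣ) : Module.End ℂ V) * ρ g ∈ Cm ρ L := mem_Cm.2 fun h hh => by
      rw [← mul_assoc, hinv L B hBc h hh, mul_assoc _ (ρ (g * h * g⁻¹)), mul_assoc _ (ρ g) (ρ h),
        ← map_mul, ← map_mul, inv_mul_cancel_right]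
    have h1 : cj ρ g y * (B : Module.End ℂ V) = B * y := by
      have h := mem_Al.1 hy.2 _ hX
      have h2 : ρ g * y = (B : Module.End ℂ V) * y * ((B⁻¹ : (Module.End ℂ V)ˣ) : Module.End ℂ V) * ρ g := by
        rw [mul_assoc ((B : Module.End ℂ V) * y), mul_assoc (B : Module.End ℂ V), ← h,
          ← mul_assoc (B : Module.End ℂ V), ← mul_assoc (B : Module.End ℂ V), Units.mul_inv, one_mul]
      rw [cj, h2, mul_assoc _ (ρ g), rho_mul_inv, mul_one, mul_assoc, Units.inv_mul, mul_one]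
    show cj ρ g y * (_ * _) = (_ * _) * y
    rw [← mul_assoc, mem_Al.1 hAi _ (cj_mem_Cm ρ C g hy.1), mul_assoc, h1, mul_assoc]
  refine ⟨W, ⟨hW1, himp⟩, fun W' hW' => ?_⟩
  set z := ((W0⁻¹ : (Module.End ℂ V)ˣ) : Module.End ℂ V) * W' with hz
  have hzMid : z ∈ Mid ρ C L := (Mid ρ C L).mul_mem hW2 hW'.1
  have hzc : ∀ y ∈ Mid ρ C L, z * y = y * z := fun y hy => by
    have h : ((W0⁻¹ : (Module.End ℂ V)ˣ) : Module.End ℂ V) * cj ρ g y =
        y * ((W0⁻¹ : (Module.End ℂ V)ˣ) : Module.End ℂ V) := by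
      refine W0.mul_left_inj.1 ?_
      rw [mul_assoc, himp y hy, mul_assoc, Units.inv_mul, mul_one, ← mul_assoc, Units.inv_mul,
        one_mul]
    rw [hz, mul_assoc, ← hW'.2 y hy, ← mul_assoc, h, mul_assoc]
  have hzL : z ∈ Cm ρ L := mem_Cm.2 fun l hl => by
    obtain ⟨S, hSm, T, hT, he, -, -⟩ := hR.apply_L l hl
    rw [he, mul_assoc, ← hzc S hSm, ← mul_assoc, ← mem_Al.1 hT z hzMid.1, mul_assoc]
  obtain ⟨c, hc⟩ := exists_scalar hL hzL hzMid.2
  refine ⟨c, ?_⟩
  show W' = c • (W0 : Module.End ℂ V)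
  rw [← one_mul W', ← W0.mul_inv, mul_assoc, ← hz, hc, mul_smul_comm, mul_one]

variable [Group.IsSolvable G]

theorem primitive_step {N : Subgroup G} (hhom : ∀ M : Subgroup G, M.Normal → N ≤ M → HomRep ρ M)
    (ih : ∀ M : Subgroup G, M.Normal → N < M → Primitive ρ M) [hN : N.Normal] : Primitive ρ N := by
  classical
  haveI := Fintype.ofFinite G
  haveI := nontrivial_of_irreducible ρ
  intro K₀ U₀ hNK₀ hK₀ hS₀
  obtain ⟨K, hK, hKle⟩ := (eq_top_or_exists_le_coatom K₀).resolve_left hK₀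
  have hS := hS₀.enlarge hKle
  set U := ⨆ k : K, U₀.map (ρ (k : G))
  set C := K.normalCore with hCdef
  have hNC : N ≤ C := Subgroup.normal_le_normalCore.2 (hNK₀.trans hKle)
  have hCK : C ≤ K := Subgroup.normalCore_le K
  obtain ⟨L, A, B, hLn, hBn, hCA, hAK, hLB, hLK, hsup, hBK, hcop, hne, hcomm⟩ :=
    exists_homog_data hK hCK (fun M hM h => by
      haveI := hM
      exact Subgroup.normal_le_normalCore.2 h) inferInstance
  haveI := hLn
  haveI := hBn
  have hCL : C ≤ L := hLK ▸ inf_le_left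
  have hhC := hhom C inferInstance hNC
  have hhL := hhom L hLn (hNC.trans hCL)
  have hR := rightData hS hLK hsup hhC hhL
  obtain ⟨u₀, hu₀, hu₀0⟩ := (Submodule.ne_bot_iff _).1 hS.ne_bot
  have hU1 : U.map (ρ 1) = U := by rw [map_one]; exact Submodule.map_id U
  -- the degenerate case
  by_cases hL : L = ⊤
  · obtain ⟨P, hP, hPm, hPi, hP0⟩ := hS.exists_projection C hCK ((1 : G) : G ⧸ K)
    have hall : ∀ Y : Module.End ℂ V, Y ∈ Al ρ L := fun Y => mem_Al.2 fun X hX => by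
      obtain ⟨c, rfl⟩ := exists_eq_smul_of_commute ρ X fun h =>
        (mem_Cm.1 hX h (hL ▸ Subgroup.mem_top h)).symm
      ext v
      simp
    have h1 : (1 : Module.End ℂ V) - P = 0 := by
      refine hR.kill _ ⟨(Cm ρ C).sub_mem (Cm ρ C).one_mem hP, hall _⟩ u₀ hu₀ hu₀0 ?_
      rw [LinearMap.sub_apply, Module.End.one_apply, hPi u₀ (by rw [hS.map_one]; exact hu₀), sub_self]
    obtain ⟨g, hg⟩ : ∃ g, g ∉ K := by
      by_contra h
      push Not at h
      exact hK.1 (top_le_iff.1 fun x _ => h x)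
    obtain ⟨v, hv, hv0⟩ := (Submodule.ne_bot_iff _).1 (hS.map_ne_bot (g : G ⧸ K).out)
    refine hv0 ?_
    have h2 := LinearMap.congr_fun h1 v
    rw [LinearMap.sub_apply, Module.End.one_apply, hP0 _ (fun h => hg ?_) v hv, sub_zero] at h2
    · exact h2
    · rw [eq_comm, QuotientGroup.eq] at h
      simpa using h
  have hAC : A ≠ C := hne.resolve_left hL
  have hA_conj : ∀ k ∈ K, ∀ a ∈ A, k * a * k⁻¹ ∈ A := fun k hk a ha => by
    rw [← hBK] at ha ⊢
    exact ⟨hBn.conj_mem a ha.1 k, K.mul_mem (K.mul_mem hk ha.2) (K.inv_mem hk)⟩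
  choose W hW hWu using exists_imp (ρ := ρ) hCL hR hhC hhL
  let w : G → Module.End ℂ V := fun g => ((W g : Mid ρ C L) : Module.End ℂ V)
  have hwimp : ∀ g, Imp ρ C L g (w g) := hW
  have hw0 : ∀ g, w g ≠ 0 := fun g h => (W g).ne_zero (Subtype.ext h)
  -- powers
  have hpow : ∀ (a : G) (k : ℕ), Imp ρ C L (a ^ k) (w a ^ k) := by
    intro a k
    induction k with
    | zero => rw [pow_zero, pow_zero]; exact Imp.one C.one_mem
    | succ k ih => rw [pow_succ, pow_succ]; exact ih.mul (hwimp a)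
  have hmid0 : Nontrivial (Mid ρ C L) := ⟨1, 0, fun h =>
    one_ne_zero (α := Module.End ℂ V) (congrArg Subtype.val h)⟩
  have hn : ∀ a ∈ A, ∃ c : ℂ, c ≠ 0 ∧ w a ^ C.relIndex A = c • (1 : Module.End ℂ V) := by
    intro a ha
    have hmem : a ^ C.relIndex A ∈ C :=
      Subgroup.mem_subgroupOf.1 ((C.subgroupOf A).pow_index_mem ⟨a, ha⟩)
    obtain ⟨c1, hc1⟩ := hWu _ _ (hpow a (C.relIndex A))
    obtain ⟨c2, hc2⟩ := hWu _ _ (Imp.one (ρ := ρ) (L := L) hmem)
    have hc20 : c2 ≠ 0 := fun h => one_ne_zero (α := Module.End ℂ V) (by rw [hc2, h, zero_smul])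
    refine ⟨c1 / c2, fun h => ?_, ?_⟩
    · have h0 : c1 = 0 := by
        rw [div_eq_zero_iff] at h
        exact h.resolve_right hc20
      rw [h0, zero_smul] at hc1
      exact ((W a) ^ C.relIndex A).ne_zero (Subtype.ext (by simpa [w] using hc1))
    · rw [hc2, smul_smul, div_mul_cancel₀ _ hc20, hc1]
  have hcom : ∀ a ∈ A, ∀ b ∈ A, w a * w b = w b * w a := by
    intro a ha b hb
    obtain ⟨c1, hc1⟩ := hWu _ _ ((hwimp a).mul (hwimp b))
    have hba := ((hwimp b).mul (hwimp a)).mul (Imp.one (hcomm a ha b hb))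
    rw [mul_inv_cancel_left, mul_one] at hba
    obtain ⟨c2, hc2⟩ := hWu _ _ hba
    have hc20 : c2 ≠ 0 := fun h => by
      rw [h, zero_smul] at hc2
      exact (W b * W a).ne_zero (Subtype.ext (by simpa [w] using hc2))
    set ω := c1 / c2 with hω
    have hab : w a * w b = ω • (w b * w a) := by
      rw [hc2, smul_smul, hω, div_mul_cancel₀ _ hc20, hc1]
    have hk : ∀ k : ℕ, w a ^ k * w b = ω ^ k • (w b * w a ^ k) := by
      intro k
      induction k with
      | zero => simp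
      | succ k ih =>
        rw [pow_succ (w a), mul_assoc, hab, mul_smul_comm, ← mul_assoc, ih, smul_mul_assoc,
          smul_smul, mul_assoc, pow_succ ω, mul_comm ω]
    obtain ⟨c, hc0, hc⟩ := hn a ha
    have hω1 : ω ^ C.relIndex A = 1 := by
      have h := hk (C.relIndex A)
      rw [hc, smul_mul_assoc, one_mul, mul_smul_comm, mul_one, smul_smul] at h
      have h' := smul_left_injective ℂ (hw0 b) h
      exact (mul_left_eq_self₀.1 h'.symm).resolve_right hc0
    have hω2 : ω ^ K.index = 1 := by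
      have h : (W a : Mid ρ C L) * W b = algebraMap ℂ _ ω * (W b * W a) :=
        Subtype.ext (by
          show w a * w b = _
          rw [hab, Algebra.smul_def]
          rfl)
      have h' := congrArg (Algebra.norm ℂ) h
      rw [map_mul, map_mul, map_mul, Algebra.norm_algebraMap, hR.finrank_eq,
        mul_comm (Algebra.norm ℂ (W b : Mid ρ C L))] at h'
      have hu : Algebra.norm ℂ (W a : Mid ρ C L) * Algebra.norm ℂ (W b : Mid ρ C L) ≠ 0 :=
        mul_ne_zero ((W a).map (Algebra.norm ℂ)).ne_zero ((W b).map (Algebra.norm ℂ)).ne_zero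
      exact (mul_left_eq_self₀.1 h'.symm).resolve_right hu
    have h1 : ω = 1 := by
      have := pow_gcd_eq_one (a := ω) (m := C.relIndex A) (n := K.index) |>.2 ⟨hω1, hω2⟩
      rwa [hcop.gcd_eq_one, pow_one] at this
    rw [hab, h1, one_smul]
  -- some operator is not a scalar
  have hns : ∃ a ∈ A, ∀ c : ℂ, w a ≠ c • (1 : Module.End ℂ V) := by
    by_contra hcon
    push Not at hcon
    refine hAC (le_antisymm (fun a ha => ?_) hCA)
    obtain ⟨c, hc⟩ := hcon a ha
    have hc0 : c ≠ 0 := fun h => hw0 a (by rw [hc, h, zero_smul])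
    have hl : ∀ l ∈ L, l⁻¹ * a * l ∈ K := fun l hl => by
      have hle : U.map (ρ (a * l)) ≤ U.map (ρ l) := by
        rintro _ ⟨u, hu, rfl⟩
        obtain ⟨S, hSm, v, hv, he, hSv⟩ := hR.piece_le l hl _ (Submodule.mem_map_of_mem hu)
        have hfix := (hwimp a).2 S hSm
        rw [hc, mul_smul_comm, mul_one, smul_mul_assoc, one_mul] at hfix
        have hfix' : cj ρ a S = S := by
          have := congrArg (fun x => c⁻¹ • x) hfix
          simpa [smul_smul, inv_mul_cancel₀ hc0] using this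
        rw [rho_mul_apply, he, ← Module.End.mul_apply, ← cj_mul_rho, hfix', Module.End.mul_apply]
        exact hSv _ (hS.stable a (hAK ha) v hv)
      have h := (hS.coset_eq_of_le hle).symm
      rwa [QuotientGroup.eq, ← mul_assoc] at h
    intro x
    obtain ⟨l, hl', k, hk, hx⟩ :=
      Subgroup.mem_sup_of_normal_left.1 (hsup.symm ▸ Subgroup.mem_top x⁻¹ : x⁻¹ ∈ L ⊔ K)
    obtain rfl : x = (l * k)⁻¹ := by rw [hx, inv_inv]
    rw [show (l * k)⁻¹ * a * ((l * k)⁻¹)⁻¹ = k⁻¹ * (l⁻¹ * a * l) * k by group]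
    exact K.mul_mem (K.mul_mem (K.inv_mem hk) (hl l hl')) hk
  -- right multiplications
  choose F hF using hR.exists_right
  have hFL : ∀ g, ∀ l ∈ L, F (w g) * ρ l = ρ l * F (w g) := by
    intro g l hl
    refine hR.ext _ _ fun x hx u hu => ?_
    obtain ⟨S, hSm, T, hT, he, hTU, -⟩ := hR.apply_L l hl
    have hSx : S * x ∈ Mid ρ C L := (Mid ρ C L).mul_mem hSm hx
    have h1 : ρ l (x u) = (S * x) (T u) := by
      rw [he]
      exact (LinearMap.congr_fun (mem_Al.1 hT _ hSx.1) u).symm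
    have h2 := LinearMap.congr_fun (mem_Al.1 hT _ ((Cm ρ C).mul_mem hSx.1 (hwimp g).1.1)) u
    simp only [Module.End.mul_apply] at h2 ⊢
    rw [h1, hF _ _ hSx _ (hTU u hu), hF _ _ hx u hu, he]
    exact h2
  have hFK : ∀ k ∈ K, ∀ (v v' : Module.End ℂ V) (c : ℂ), cj ρ k v = c • v' →
      ρ k * F v = c • (F v' * ρ k) := by
    intro k hk v v' c hv
    refine hR.ext _ _ fun x hx u hu => ?_
    have h1 : ∀ (y : Module.End ℂ V) (z : V), ρ k (y z) = cj ρ k y (ρ k z) := fun y z =>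
      (LinearMap.congr_fun (cj_mul_rho ρ k y) z).symm
    simp only [Module.End.mul_apply, LinearMap.smul_apply]
    rw [hF v x hx u hu, h1 x (v u), h1 v u, hv, LinearMap.smul_apply, map_smul, h1 x u,
      hF v' _ (cj_mem_Mid k hx) _ (hS.stable k hk u hu)]
  let X : A → Module.End ℂ V := fun a => F (w a)
  have hXX : ∀ a b, Commute (X a) (X b) := fun a b => by
    refine hR.ext _ _ fun x hx u hu => ?_
    simp only [Module.End.mul_apply, X]
    rw [hF _ x hx u hu, hF _ x hx u hu, ← Module.End.mul_apply x, ← Module.End.mul_apply x,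
      hF _ _ ((Mid ρ C L).mul_mem hx (hwimp _).1) u hu,
      hF _ _ ((Mid ρ C L).mul_mem hx (hwimp _).1) u hu]
    have := LinearMap.congr_fun (congrArg (x * ·) (hcom b.1 b.2 a.1 a.2)) u
    simpa [Module.End.mul_apply] using this
  have hperm : ∀ g : G, ∀ a : A, ∃ b : A, ∃ c : ℂ, X a * ρ g = c • (ρ g * X b) := by
    intro g a
    obtain ⟨l, hl, k, hk, rfl⟩ :=
      Subgroup.mem_sup_of_normal_left.1 (hsup.symm ▸ Subgroup.mem_top g : g ∈ L ⊔ K)
    have hb : k⁻¹ * a * k ∈ A := by simpa using hA_conj k⁻¹ (K.inv_mem hk) a a.2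
    have himp : Imp ρ C L (a : G) (cj ρ k (w (k⁻¹ * a * k))) := by
      refine ⟨cj_mem_Mid k (hwimp _).1, fun y hy => ?_⟩
      have h := congrArg (cj ρ k) ((hwimp (k⁻¹ * a * k)).2 _ (cj_mem_Mid k⁻¹ hy))
      simp only [cj_mul, cj_cj, mul_inv_cancel, cj_one] at h
      rwa [show k * ((k⁻¹ * a * k) * k⁻¹) = (a : G) by group] at h
    obtain ⟨c, hc⟩ := hWu _ _ himp
    have hc0 : c ≠ 0 := fun h => by
      rw [h, zero_smul] at hc
      refine hw0 (k⁻¹ * a * k) ?_
      have := congrArg (cj ρ k⁻¹) hc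
      rwa [cj_cj, inv_mul_cancel, cj_one, cj, mul_zero, zero_mul] at this
    refine ⟨⟨_, hb⟩, c⁻¹, ?_⟩
    simp only [X, map_mul]
    rw [← mul_assoc, hFL _ l hl, mul_assoc, mul_assoc, hFK k hk _ _ c hc, mul_smul_comm, smul_smul,
      inv_mul_cancel₀ hc0, one_smul]
  obtain ⟨μ, hμ⟩ := exists_common_eigen X hXX
  obtain ⟨T, hT, hST⟩ := System.of_eigen X hXX hperm hμ
  refine ih B hBn (lt_of_le_not_ge (hNC.trans (hCL.trans hLB)) fun h => ?_) T _ (fun b hb => ?_)
    (fun hTop => ?_) hST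
  · exact hK.1 (top_le_iff.1 (hsup ▸ sup_le ((hLB.trans h).trans (hNC.trans hCK)) le_rfl))
  · obtain ⟨l, hl, k, hk, rfl⟩ :=
      Subgroup.mem_sup_of_normal_left.1 (hsup.symm ▸ Subgroup.mem_top b : b ∈ L ⊔ K)
    have hkA : k ∈ A := by
      rw [← hBK]
      exact ⟨by simpa using B.mul_mem (B.inv_mem (hLB hl)) hb, hk⟩
    refine T.mul_mem (hT l fun a => hFL _ l hl) (hT k fun a => ?_)
    have hfix : cj ρ k (w a) = (1 : ℂ) • w a := by
      have h := (hwimp k).2 _ (hwimp (a : G)).1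
      rw [← hcom a.1 a.2 k hkA] at h
      rw [one_smul]
      exact ((W k).map (Mid ρ C L).val.toRingHom.toMonoidHom).mul_left_inj.1 h
    have := hFK k hk _ _ 1 hfix
    rw [one_smul] at this
    exact this.symm
  · obtain ⟨a, ha, hna⟩ := hns
    have htop : (⨅ i, (X i).eigenspace (μ i)) = ⊤ :=
      CfsgLib.CharWeights.eq_top_of_invariant ρ _
        (fun g v hv => hST.stable g (hTop ▸ Subgroup.mem_top g) v hv) hμ
    refine hna (μ ⟨a, ha⟩) ?_
    have h : ∀ v, X ⟨a, ha⟩ v = μ ⟨a, ha⟩ • v := fun v =>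
      Module.End.mem_eigenspace_iff.1 ((Submodule.mem_iInf _).1
        (show v ∈ ⨅ i, (X i).eigenspace (μ i) by rw [htop]; exact Submodule.mem_top) _)
    refine sub_eq_zero.1 (hR.kill _ ((Mid ρ C L).sub_mem (hwimp a).1
      ((Mid ρ C L).smul_mem (Mid ρ C L).one_mem _)) u₀ hu₀ hu₀0 ?_)
    have h1 := hF (w a) 1 (Mid ρ C L).one_mem u₀ hu₀
    rw [Module.End.one_apply, Module.End.one_apply] at h1
    rw [LinearMap.sub_apply, LinearMap.smul_apply, Module.End.one_apply, ← h1]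
    exact sub_eq_zero.2 (h u₀)

theorem primitive_of_homogeneous (N : Subgroup G) (hN : N.Normal)
    (hhom : ∀ M : Subgroup G, M.Normal → N ≤ M → HomRep ρ M) : Primitive ρ N := by
  haveI : Fintype (Subgroup G) := Fintype.ofFinite _
  induction N using WellFoundedGT.induction with
  | _ N ih =>
    haveI := hN
    exact primitive_step hhom fun M hM hlt => ih M hlt hM fun M' h1 h2 => hhom M' h1 (hlt.le.trans h2)

end CfsgLib.Char.Exceptional.Berger
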