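import Cfsg.Agent.Lib.Char.Exceptional.BergerOperators

/-!
# Right multiplications on a system of imprimitivity over a supplement

`L` is a normal supplement of `K` with `L ⊓ K = C`; both restrictions are homogeneous.  The space is
`Cm C ⊓ Al L` tensor the piece, and the commutant acts on the first factor from the right.
-/

set_option autoImplicit false

namespace CfsgLib.Char.Exceptional.Berger

open Module CfsgLib.Char

variable {G : Type*} [Group G] {V : Type*} [AddCommGroup V] [Module ℂ V] [FiniteDimensional ℂ V]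

variable {ρ : Representation ℂ G V} {K C L : Subgroup G} {U : Submodule ℂ V}

/-- The algebra permuting the pieces. -/
abbrev Mid (ρ : Representation ℂ G V) (C L : Subgroup G) : Subalgebra ℂ (Module.End ℂ V) :=
  Cm ρ C ⊓ Al ρ L

/-- What the supplement provides. -/
structure RightData (ρ : Representation ℂ G V) (C L : Subgroup G) (U : Submodule ℂ V) (d : ℕ) :
    Prop where
  finrank_eq : finrank ℂ (Mid ρ C L) = d
  kill : ∀ a ∈ Mid ρ C L, ∀ u ∈ U, u ≠ 0 → a u = 0 → a = 0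
  ext : ∀ F F' : Module.End ℂ V, (∀ a ∈ Mid ρ C L, ∀ u ∈ U, F (a u) = F' (a u)) → F = F'
  exists_right : ∀ w : Module.End ℂ V, ∃ F : Module.End ℂ V,
    ∀ a ∈ Mid ρ C L, ∀ u ∈ U, F (a u) = a (w u)
  apply_L : ∀ l ∈ L, ∃ S ∈ Mid ρ C L, ∃ T ∈ Al ρ C, ρ l = T * S ∧
    (∀ u ∈ U, T u ∈ U) ∧ ∀ u ∈ U, S u ∈ U.map (ρ l)
  piece_le : ∀ l ∈ L, ∀ p ∈ U.map (ρ l), ∃ S ∈ Mid ρ C L, ∃ u ∈ U, p = S u ∧
    ∀ u' ∈ U, S u' ∈ U.map (ρ l)

variable [Finite G] [ρ.IsIrreducible]

theorem rightData (hS : System ρ K U) [C.Normal] [L.Normal] (hLK : L ⊓ K = C) (hsup : L ⊔ K = ⊤)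
    (hC : HomRep ρ C) (hL : HomRep ρ L) : RightData ρ C L U K.index := by
  classical
  haveI := nontrivial_of_irreducible ρ
  haveI := Fintype.ofFinite (G ⧸ K)
  have hCK : C ≤ K := hLK ▸ inf_le_right
  have hCL : C ≤ L := hLK ▸ inf_le_left
  choose T hT hTi hTc using exists_twist (ρ := ρ) hC
  let S : G → Module.End ℂ V := fun g => ((T g)⁻¹ : (Module.End ℂ V)ˣ) * ρ g
  have hTS : ∀ g, ρ g = (T g : Module.End ℂ V) * S g := fun g => by
    simp only [S, ← mul_assoc, Units.mul_inv, one_mul]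
  have hSCm : ∀ g, S g ∈ Cm ρ C := fun g => mem_Cm.2 fun c hc => by
    refine (T g).mul_right_inj.1 ?_
    simp only [S, ← mul_assoc, hTc g c hc]
    rw [mul_assoc (ρ (g * c * g⁻¹)), Units.mul_inv, mul_one, one_mul, ← map_mul,
      ← map_mul, inv_mul_cancel_right]
  have hSMid : ∀ l ∈ L, S l ∈ Mid ρ C L := fun l hl =>
    ⟨hSCm l, (Al ρ L).mul_mem (Al_mono hCL (hTi l)) (rho_mem_Al hl)⟩
  have hSmap : ∀ g, ∀ u ∈ U, S g u ∈ U.map (ρ g) := fun g u hu =>
    hS.mapsTo_of_mem_Al C hCK (hTi g) g (Submodule.mem_map_of_mem hu)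
  have hSsurj : ∀ g, ∀ p ∈ U.map (ρ g), ∃ u ∈ U, p = S g u := fun g p hp => by
    obtain ⟨u, hu, he⟩ := Submodule.mem_map.1 (hS.mapsTo_of_mem_Al C hCK (hT g) g hp)
    refine ⟨u, hu, ?_⟩
    show p = ((T g)⁻¹ : (Module.End ℂ V)ˣ).val (ρ g u)
    rw [he, ← Module.End.mul_apply, Units.inv_mul, Module.End.one_apply]
  have hSinj : ∀ g v, S g v = 0 → v = 0 := fun g v hv => by
    refine (ρ.apply_bijective g).1 ?_
    rw [hTS g, Module.End.mul_apply, hv, map_zero, Module.End.mul_apply, map_zero, map_zero]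
  have hℓ : ∀ q : G ⧸ K, ∃ l ∈ L, (l : G ⧸ K) = q := fun q => by
    obtain ⟨l, hl, k, hk, he⟩ :=
      Subgroup.mem_sup_of_normal_left.1 (hsup.symm ▸ Subgroup.mem_top q.out : q.out ∈ L ⊔ K)
    refine ⟨l, hl, ?_⟩
    rw [← QuotientGroup.out_eq' q, ← he, QuotientGroup.mk_mul_of_mem _ hk]
  choose ℓ hℓL hℓq using hℓ
  have hzero : ∀ f : G ⧸ K → V, (∀ q, f q ∈ U) → (∑ q, S (ℓ q) (f q)) = 0 → ∀ q, f q = 0 := by
    intro f hf h0 q
    refine hSinj (ℓ q) _ ((iSupIndep_iff_finset_sum_eq_zero_imp_eq_zero _).1 hS.indep Finset.univ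
      (fun q => S (ℓ q) (f q)) (fun q _ => ?_) h0 q (Finset.mem_univ _))
    have := hSmap (ℓ q) (f q) (hf q)
    rwa [hS.map_eq, hℓq] at this
  obtain ⟨u₀, hu₀, hu₀0⟩ := (Submodule.ne_bot_iff _).1 hS.ne_bot
  let b : G ⧸ K → Mid ρ C L := fun q => ⟨S (ℓ q), hSMid _ (hℓL q)⟩
  have hli : LinearIndependent ℂ b := by
    refine Fintype.linearIndependent_iff.2 fun c hc q => ?_
    have h := congrArg (fun X : Mid ρ C L => (X : Module.End ℂ V) u₀) hc
    simp only [AddSubmonoidClass.coe_finsetSum, SetLike.val_smul, b, LinearMap.sum_apply,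
      LinearMap.smul_apply, ZeroMemClass.coe_zero, LinearMap.zero_apply, ← map_smul] at h
    have := hzero (fun q => c q • u₀) (fun q => U.smul_mem _ hu₀) h q
    exact (smul_eq_zero.1 this).resolve_right hu₀0
  have hcard : Nat.card L = K.index * Nat.card C := by
    have h1 : L.index = L.relIndex K := by
      rw [← Subgroup.relIndex_sup_right (H := K) (K := L), sup_comm, hsup,
        Subgroup.relIndex_top_right]
    have h2 : L.relIndex K = C.relIndex K := by rw [← hLK, Subgroup.inf_relIndex_right]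
    have h3 : Nat.card C * C.relIndex K = Nat.card K := by
      rw [← Subgroup.relIndex_bot_left, ← Subgroup.relIndex_bot_left,
        Subgroup.relIndex_mul_relIndex _ _ _ bot_le hCK]
    have h4 := L.index_mul_card
    rw [← K.index_mul_card, h1, h2, ← h3] at h4
    refine Nat.eq_of_mul_eq_mul_left (Nat.pos_of_ne_zero (n := C.relIndex K) ?_) (h4.trans ?_)
    · intro h0
      rw [h0, mul_zero] at h3
      exact absurd h3.symm Nat.card_pos.ne'
    · ring
  have hidx : Fintype.card (G ⧸ K) = K.index := by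
    rw [Subgroup.index, Nat.card_eq_fintype_card]
  have hfr : finrank ℂ (Mid ρ C L) = K.index := by
    refine le_antisymm (Nat.le_of_mul_le_mul_right ?_ (Nat.card_pos (α := C)))
      (hidx ▸ hli.fintype_card_le_finrank)
    exact hcard ▸ finrank_mul_card_le hCL hL
  have hspan : ∀ a ∈ Mid ρ C L, ∃ c : G ⧸ K → ℂ, a = ∑ q, c q • S (ℓ q) := fun a ha => by
    haveI : Nonempty (G ⧸ K) := ⟨((1 : G) : G ⧸ K)⟩
    have h := hli.span_eq_top_of_card_eq_finrank (hidx.trans hfr.symm)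
    obtain ⟨c, hc⟩ := (Submodule.mem_span_range_iff_exists_fun ℂ).1
      (h.symm ▸ Submodule.mem_top (x := (⟨a, ha⟩ : Mid ρ C L)))
    refine ⟨c, ?_⟩
    have h' := congrArg Subtype.val hc
    simpa [b] using h'.symm
  let E1 : (G ⧸ K → U) →ₗ[ℂ] V :=
    ∑ q, S (ℓ q) ∘ₗ U.subtype ∘ₗ LinearMap.proj q
  have hE1 : ∀ f, E1 f = ∑ q, S (ℓ q) (f q : V) := fun f => by simp [E1]
  have hbij : Function.Bijective E1 := by
    refine ⟨(injective_iff_map_eq_zero E1).2 fun f hf => funext fun q => Subtype.ext ?_,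
      LinearMap.range_eq_top.1 (top_le_iff.1 ?_)⟩
    · exact hzero (fun q => (f q : V)) (fun q => (f q).2) (by rw [← hE1, hf]) q
    · rw [← hS.iSup_eq_top]
      refine iSup_le fun q => fun p hp => ?_
      have hp' : p ∈ U.map (ρ (ℓ q)) := by rwa [hS.map_eq, hℓq]
      obtain ⟨u, hu, rfl⟩ := hSsurj _ p hp'
      refine ⟨Pi.single q ⟨u, hu⟩, ?_⟩
      rw [hE1, Finset.sum_eq_single q (fun j _ hj => by simp [Pi.single_eq_of_ne hj])
        fun h => absurd (Finset.mem_univ q) h, Pi.single_eq_same]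
  let E := LinearEquiv.ofBijective E1 hbij
  refine ⟨hfr, fun a ha u hu hu0 hau => ?_, fun F F' h => LinearMap.ext fun v => ?_, fun w => ?_,
    fun l hl => ?_, fun l hl p hp => ?_⟩
  · obtain ⟨c, rfl⟩ := hspan a ha
    simp only [LinearMap.sum_apply, LinearMap.smul_apply, ← map_smul] at hau
    have := hzero (fun q => c q • u) (fun q => U.smul_mem _ hu) hau
    simp [fun q => (smul_eq_zero.1 (this q)).resolve_right hu0]
  · obtain ⟨f, rfl⟩ := hbij.2 v
    rw [hE1, map_sum, map_sum]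
    exact Finset.sum_congr rfl fun q _ => h _ (hSMid _ (hℓL q)) _ (f q).2
  · let F : Module.End ℂ V :=
      (∑ q, S (ℓ q) ∘ₗ w ∘ₗ U.subtype ∘ₗ LinearMap.proj q) ∘ₗ E.symm.toLinearMap
    refine ⟨F, fun a ha u hu => ?_⟩
    have hF : ∀ q, F (S (ℓ q) u) = S (ℓ q) (w u) := fun q => by
      have hEq : E.symm (S (ℓ q) u) = Pi.single q ⟨u, hu⟩ := by
        rw [LinearEquiv.symm_apply_eq]
        show _ = E1 _
        rw [hE1, Finset.sum_eq_single q (fun j _ hj => by simp [Pi.single_eq_of_ne hj])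
          fun h => absurd (Finset.mem_univ q) h, Pi.single_eq_same]
      simp only [F, LinearMap.comp_apply, LinearEquiv.coe_coe, hEq, LinearMap.sum_apply,
        LinearMap.proj_apply, Submodule.coe_subtype]
      rw [Finset.sum_eq_single q (fun j _ hj => by simp [Pi.single_eq_of_ne hj])
        fun h => absurd (Finset.mem_univ q) h, Pi.single_eq_same]
    obtain ⟨c, rfl⟩ := hspan a ha
    simp only [LinearMap.sum_apply, LinearMap.smul_apply, map_sum, map_smul, hF]
  · refine ⟨S l, hSMid l hl, T l, hT l, hTS l, fun u hu => ?_, hSmap l⟩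
    have h1 : U.map (ρ 1) = U := by rw [_root_.map_one]; exact Submodule.map_id U
    rw [← h1] at hu ⊢
    exact hS.mapsTo_of_mem_Al C hCK (hT l) 1 hu
  · obtain ⟨u, hu, rfl⟩ := hSsurj l p hp
    exact ⟨S l, hSMid l hl, u, hu, rfl, hSmap l⟩

end CfsgLib.Char.Exceptional.Berger
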