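import Mathlib
import Cfsg.Agent.Lib.Char.Brauer
import Cfsg.Agent.Lib.Char.Complete
import Cfsg.Agent.Lib.Char.Exceptional.Gallagher
import Cfsg.Agent.Lib.Core.Hall
import Cfsg.Agent.Lib.SolvStruct.NilFactor

/-! Indicators of sections of elements of order prime to `m` are integral combinations of
irreducible characters. -/

set_option autoImplicit false

open scoped ComplexConjugate

namespace CfsgLib.Char.Exceptional

open CfsgLib.Char

variable {G : Type*} [Group G]

/-- The exponent picking the part of order dividing `n`. -/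
theorem exists_part_exponent {m n : ℕ} (hcop : m.Coprime n) :
    ∃ k : ℕ, m ∣ k ∧ k ≡ 1 [MOD n] :=
  ⟨Nat.chineseRemainder hcop 0 1,
    (Nat.modEq_zero_iff_dvd.1 (Nat.chineseRemainder hcop 0 1).2.1),
    (Nat.chineseRemainder hcop 0 1).2.2⟩

theorem dvd_of_coprime_of_dvd_mul {a m n : ℕ} (h : a ∣ m * n) (hc : a.Coprime n) : a ∣ m :=
  hc.dvd_of_dvd_mul_right h

theorem pow_part_of_decomp [Finite G] {m n k : ℕ} (hmn : Nat.card G ∣ m * n) (hm : m ∣ k)
    (hk : k ≡ 1 [MOD n]) {u v : G} (huv : Commute u v) (hu : (orderOf u).Coprime n)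
    (hv : (orderOf v).Coprime m) : (u * v) ^ k = v := by
  have h1 : orderOf u ∣ m := dvd_of_coprime_of_dvd_mul ((orderOf_dvd_natCard u).trans hmn) hu
  have h2 : orderOf v ∣ n :=
    dvd_of_coprime_of_dvd_mul (((orderOf_dvd_natCard v).trans hmn).trans (dvd_of_eq (mul_comm m n))) hv
  rw [huv.mul_pow, orderOf_dvd_iff_pow_eq_one.1 (h1.trans hm), one_mul]
  conv_rhs => rw [← pow_one v]
  exact pow_eq_pow_iff_modEq.2 (hk.of_dvd h2)

theorem exists_decomp [Finite G] {m n k : ℕ} (hmn : Nat.card G ∣ m * n) (hcop : m.Coprime n)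
    (hm : m ∣ k) (hk : k ≡ 1 [MOD n]) (x : G) :
    ∃ u : G, x = u * x ^ k ∧ Commute u (x ^ k) ∧ (orderOf u).Coprime n ∧
      (orderOf (x ^ k)).Coprime m := by
  have hx : x ^ (m * n) = 1 := orderOf_dvd_iff_pow_eq_one.1 ((orderOf_dvd_natCard x).trans hmn)
  refine ⟨x * (x ^ k)⁻¹, by group, ?_, ?_, ?_⟩
  · exact ((Commute.self_pow x k).mul_left (Commute.refl (x ^ k)).inv_left)
  · refine Nat.Coprime.coprime_dvd_left (orderOf_dvd_iff_pow_eq_one.2 ?_) hcop
    rw [((Commute.self_pow x k).inv_right).mul_pow, inv_pow, ← pow_mul, mul_inv_eq_one]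
    refine pow_eq_pow_iff_modEq.2 ?_
    refine Nat.ModEq.of_dvd ((orderOf_dvd_natCard x).trans hmn) ?_
    have h := Nat.ModEq.mul_left' m hk.symm
    rw [mul_one, mul_comm m k] at h
    exact h
  · refine Nat.Coprime.coprime_dvd_left (orderOf_dvd_iff_pow_eq_one.2 ?_) hcop.symm
    obtain ⟨c, rfl⟩ := hm
    rw [← pow_mul, mul_right_comm, pow_mul, hx, one_pow]

/-- A nilpotent group is the product of its parts of order dividing `m` and `n`. -/
theorem nilpotent_split (E : Type*) [Group E] [Finite E] [Group.IsNilpotent E] {m n : ℕ}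
    (hmn : Nat.card E ∣ m * n) (hcop : m.Coprime n) :
    ∃ U W : Subgroup E, U.Normal ∧ Nat.card U ∣ m ∧ Nat.card W ∣ n ∧
      Function.Bijective (fun x : U × W => (x.1 : E) * x.2) ∧
      ∀ u ∈ U, ∀ w ∈ W, Commute u w := by
  have hcard : Nat.card E = (Nat.card E).gcd m * (Nat.card E).gcd n := by
    rw [← Nat.Coprime.gcd_mul _ hcop, Nat.gcd_eq_left hmn]
  have hc : ((Nat.card E).gcd m).Coprime ((Nat.card E).gcd n) :=
    (hcop.coprime_dvd_left (Nat.gcd_dvd_right _ _)).coprime_dvd_right (Nat.gcd_dvd_right _ _)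
  obtain ⟨U, hU⟩ := CfsgLib.Core.exists_subgroup_card_eq hcard hc
  obtain ⟨W, hW⟩ := CfsgLib.Core.exists_subgroup_card_eq (hcard.trans (mul_comm _ _)) hc.symm
  have hUW : Subgroup.IsComplement' U W :=
    Subgroup.isComplement'_of_coprime (by rw [hU, hW, ← hcard]) (by rw [hU, hW]; exact hc)
  have hcomm : ∀ u ∈ U, ∀ w ∈ W, Commute u w := fun u hu w hw =>
    CfsgLib.SolvStruct.commute_of_coprime_orderOf_of_isNilpotent
      ((hc.coprime_dvd_left (hU ▸ Subgroup.orderOf_dvd_natCard U hu)).coprime_dvd_right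
        (hW ▸ Subgroup.orderOf_dvd_natCard W hw))
  refine ⟨U, W, ⟨fun u hu e => ?_⟩, hU ▸ Nat.gcd_dvd_right _ _, hW ▸ Nat.gcd_dvd_right _ _, hUW,
    hcomm⟩
  obtain ⟨⟨a, b⟩, rfl⟩ := hUW.2 e
  have h : (b : E) * u = u * b := (hcomm u hu b b.2).symm
  have he : (a : E) * b * u * ((a : E) * b)⁻¹ = (a : E) * u * (a : E)⁻¹ := by
    rw [mul_assoc (a : E) b u, h]
    group
  rw [he]
  exact mul_mem (mul_mem a.2 hu) (inv_mem a.2)

/-- Pairing a section indicator with a character of a nilpotent group. -/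
theorem nilpotent_indicator_integral {E : Type*} [Group E] [Fintype E] [Group.IsNilpotent E]
    {m n k : ℕ} (hmn : Nat.card E ∣ m * n) (hcop : m.Coprime n) (hm : m ∣ k) (hk : k ≡ 1 [MOD n])
    (F : E → ℂ) (hF : ∀ e, IsIntegral ℤ (F e)) {ψ : E → ℂ} (hψ : Cfsg.IsCharacter E ψ) :
    IsIntegral ℤ ((Nat.card E : ℂ)⁻¹ * ∑ e, (n : ℂ) * F (e ^ k) * ψ e) := by
  classical
  obtain ⟨U, W, hUn, hUm, hWn, hbij, hcomm⟩ := nilpotent_split E hmn hcop
  obtain ⟨d, hd⟩ := hWn
  have hsum : ∑ e, (n : ℂ) * F (e ^ k) * ψ e =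
      (n : ℂ) * (Nat.card U : ℂ) * ∑ w : W, F w * cosetAvg U ψ w := by
    rw [← hbij.sum_comp, Fintype.sum_prod_type, Finset.sum_comm, Finset.mul_sum]
    refine Finset.sum_congr rfl fun w _ => ?_
    rw [cosetAvg, ← mul_assoc, ← mul_assoc, Finset.mul_sum]
    refine Finset.sum_congr rfl fun u _ => ?_
    rw [pow_part_of_decomp hmn hm hk (hcomm u u.2 w w.2)
      (hcop.coprime_dvd_left ((Subgroup.orderOf_dvd_natCard U u.2).trans hUm))
      (hcop.symm.coprime_dvd_left ((Subgroup.orderOf_dvd_natCard W w.2).trans ⟨d, hd⟩))]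
    have : (Nat.card U : ℂ) ≠ 0 := Nat.cast_ne_zero.2 Nat.card_pos.ne'
    field_simp
  have hE : (Nat.card E : ℂ) = (Nat.card U : ℂ) * (Nat.card W : ℂ) := by
    rw [← Nat.card_congr (Equiv.ofBijective _ hbij), Nat.card_prod, Nat.cast_mul]
  have hU0 : (Nat.card U : ℂ) ≠ 0 := Nat.cast_ne_zero.2 Nat.card_pos.ne'
  have hW0 : (Nat.card W : ℂ) ≠ 0 := Nat.cast_ne_zero.2 Nat.card_pos.ne'
  have hval : (Nat.card E : ℂ)⁻¹ * ∑ e, (n : ℂ) * F (e ^ k) * ψ e =
      (d : ℂ) * ∑ w : W, F w * cosetAvg U ψ w := by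
    rw [hsum, hE, show (n : ℂ) = (Nat.card W : ℂ) * d by rw [hd, Nat.cast_mul]]
    field_simp
  rw [hval]
  exact (isIntegral_algebraMap (x := (d : ℤ))).mul
    (IsIntegral.sum _ fun w _ => (hF w).mul (IsChar.isIntegral (isCharacter_cosetAvg U hψ) _))

variable [Fintype G]

open Classical in
/-- The indicator, scaled by `n`, of the elements whose part of order dividing `n` meets `S`. -/
theorem indicator_classInner_integral {m n k : ℕ} (hmn : Nat.card G ∣ m * n) (hcop : m.Coprime n)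
    (hm : m ∣ k) (hk : k ≡ 1 [MOD n]) (F : G → ℂ) (hFc : Cfsg.IsClassFunction G F)
    (hF : ∀ x, IsIntegral ℤ (F x)) (χ : Cfsg.IrrCharacter G) :
    IsIntegral ℤ (Cfsg.classInner (fun x => (n : ℂ) * F (x ^ k)) (χ : G → ℂ)) := by
  have hθ : Cfsg.IsClassFunction G (fun x => (n : ℂ) * F (x ^ k)) := by
    intro g h
    simp only [conj_pow, hFc _ h]
  have key : ∀ f ∈ CfsgLib.Brauer.elemSpan G, IsIntegral ℤ
      (Cfsg.classInner (f * fun x => (n : ℂ) * F (x ^ k)) (χ : G → ℂ)) := by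
    intro f hf
    induction hf using AddSubgroup.closure_induction with
    | zero => rw [zero_mul, classInner_zero_left]; exact isIntegral_zero
    | add a b _ _ ha hb => rw [add_mul, classInner_add_left]; exact ha.add hb
    | neg a _ ha => rw [neg_mul, classInner_neg_left]; exact ha.neg
    | mem a ha =>
      obtain ⟨E, lam, ⟨p, hp, hel⟩, rfl⟩ := ha
      rw [CfsgLib.Brauer.indFun_mul E _ hθ, frobenius_reciprocity E _ (IsIrr.isClassFunction χ.2)]
      have := CfsgLib.Brauer.isNilpotent_of_isElementary hp hel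
      have h := nilpotent_indicator_integral (E := E)
        ((Subgroup.card_subgroup_dvd_card E).trans hmn) hcop hm hk (fun e : E => F e) (fun e => hF e)
        (IsChar.mul (IsIrr.isCharacter (isIrrCharacter_linear lam))
          (IsChar.conj (IsChar.restrict E (IsIrr.isCharacter χ.2))))
      convert h using 1
      simp only [Cfsg.classInner, Pi.mul_apply, Subgroup.coe_pow]
      congr 1
      exact Finset.sum_congr rfl fun e _ => by ring
  have h := key 1 CfsgLib.Brauer.one_mem_elemSpan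
  rwa [one_mul] at h

end CfsgLib.Char.Exceptional
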