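import Mathlib
import Cfsg.Agent.Lib.Char.Brauer
import Cfsg.Agent.Lib.Char.Artin
import Cfsg.Agent.Lib.Char.Exceptional.SectionIndicator

/-! A multiple of the trivial character by a number prime to `p` is a combination of characters
induced from `p`-elementary subgroups. -/

set_option autoImplicit false

open scoped ComplexConjugate

namespace CfsgLib.Char.Exceptional

open CfsgLib.Char

/-- Induction commutes with inflation. -/
theorem indFun_comap_comp {E W : Type*} [Group E] [Fintype E] [Group W] [Fintype W] (π : E →* W)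
    (hπ : Function.Surjective π) (D : Subgroup W) (f : D → ℂ) (x : E) :
    Cfsg.indFun (D.comap π) (fun y => f ⟨π y, y.2⟩) x = Cfsg.indFun D f (π x) := by
  classical
  have hval : ∀ z : E, Cfsg.extendByZero (D.comap π) (fun y => f ⟨π y, y.2⟩) z =
      Cfsg.extendByZero D f (π z) := by
    intro z
    by_cases hz : π z ∈ D
    · rw [extendByZero_of_mem (D.comap π) _ hz, extendByZero_of_mem D f hz]
    · rw [extendByZero_of_notMem (D.comap π) _ hz, extendByZero_of_notMem D f hz]
  have hfib : ∀ w : W, (Finset.univ.filter fun y : E => π y = w).card = Nat.card π.ker := by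
    intro w
    obtain ⟨y0, rfl⟩ := hπ w
    rw [Nat.card_eq_fintype_card, Fintype.card_subtype]
    refine Finset.card_equiv (Equiv.mulLeft y0⁻¹) fun y => ?_
    simp only [Finset.mem_filter, Finset.mem_univ, true_and, Equiv.coe_mulLeft, MonoidHom.mem_ker,
      map_mul, map_inv, inv_mul_eq_one]
    exact eq_comm
  have hcard : Nat.card (D.comap π) = Nat.card π.ker * Nat.card D := by
    have h1 := (D.comap π).index_mul_card
    have h2 := π.ker.index_mul_card
    rw [Subgroup.index_comap_of_surjective D hπ] at h1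
    rw [Subgroup.index_ker, MonoidHom.range_eq_top.2 hπ, Subgroup.card_top, ← D.index_mul_card] at h2
    refine Nat.eq_of_mul_eq_mul_left (Nat.pos_of_ne_zero D.index_ne_zero_of_finite) ?_
    rw [h1, ← h2]
    ring
  simp only [Cfsg.indFun, hval, map_mul, map_inv]
  rw [← Finset.sum_fiberwise (Finset.univ : Finset E) π,
    Finset.sum_congr rfl (g := fun w => (Nat.card π.ker : ℂ) * Cfsg.extendByZero D f (w⁻¹ * π x * w))
      fun w _ => ?_, ← Finset.mul_sum, hcard, Nat.cast_mul]
  · have h1 : (Nat.card π.ker : ℂ) ≠ 0 := Nat.cast_ne_zero.2 Nat.card_pos.ne'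
    have h2 : (Nat.card D : ℂ) ≠ 0 := Nat.cast_ne_zero.2 Nat.card_pos.ne'
    field_simp
  · rw [Finset.sum_congr rfl (g := fun _ => Cfsg.extendByZero D f (w⁻¹ * π x * w)) fun y hy => by
      rw [(Finset.mem_filter.1 hy).2], Finset.sum_const, nsmul_eq_mul, hfib]

/-- Combinations of generalized characters induced from `p`-elementary subgroups. -/
noncomputable def pSpan (p : ℕ) (G : Type*) [Group G] [Fintype G] : AddSubgroup (G → ℂ) :=
  AddSubgroup.closure {f | ∃ (E : Subgroup G) (θ : E → ℂ), Cfsg.IsElementary p E ∧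
    Cfsg.IsGeneralizedCharacter E θ ∧ f = Cfsg.indFun E θ}

variable {G : Type*} [Group G] [Fintype G] {p : ℕ}

theorem indFun_mem_pSpan (hp : p.Prime) (T : Subgroup G) [Fintype T] {f : T → ℂ}
    (hf : f ∈ pSpan p T) : Cfsg.indFun T f ∈ pSpan p G := by
  induction hf using AddSubgroup.closure_induction with
  | zero => rw [indFun_zero]; exact zero_mem _
  | add a b _ _ ha hb => rw [indFun_add]; exact add_mem ha hb
  | neg a _ ha =>
    rw [← zero_sub a, indFun_sub, indFun_zero]
    exact sub_mem (zero_mem _) ha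
  | mem a ha =>
    obtain ⟨K, θ, hel, hθ, rfl⟩ := ha
    let f : (K.map T.subtype) →* K :=
      (K.equivMapOfInjective T.subtype T.subtype_injective).symm.toMonoidHom
    refine AddSubgroup.subset_closure ⟨K.map T.subtype, fun x => θ (f x), ?_, IsGen.comp f hθ, ?_⟩
    · exact CfsgLib.QE.isElementary_of_injective hp f (MulEquiv.injective _) hel
    · rw [← indFun_indFun (K.map T.subtype) T (Subgroup.map_subtype_le K)]
      refine congrArg _ (CfsgLib.Clifford.indFun_congr ?_ fun x => ?_)
      · exact (Subgroup.comap_map_eq_self_of_injective T.subtype_injective K).symm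
      · refine congrArg θ ?_
        refine (K.equivMapOfInjective T.subtype T.subtype_injective).injective ?_
        refine Eq.trans ?_ (MulEquiv.apply_symm_apply _ _).symm
        rfl

/-- A linear character of a nilpotent group, multiplied by the order of its part prime to `p`. -/
theorem nilpotent_smul_mem_pSpan {E : Type*} [Group E] [Fintype E] [Group.IsNilpotent E]
    (hp : p.Prime) {a n : ℕ} (hdvd : Nat.card E ∣ p ^ a * n) (hpn : ¬ p ∣ n) {χ : E → ℂ}
    (hχ : Cfsg.IsGeneralizedCharacter E χ) : (n : ℂ) • χ ∈ pSpan p E := by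
  classical
  have hcop : (p ^ a).Coprime n := (hp.coprime_iff_not_dvd.2 hpn).pow_left _
  obtain ⟨U, W, hUn, hU, hW, hbij, hcomm⟩ := nilpotent_split E hdvd hcop
  obtain ⟨k, hk1, hk2⟩ := exists_part_exponent hcop
  have hpart : ∀ u : U, ∀ w : W, ((u : E) * w) ^ k = w := fun u w =>
    pow_part_of_decomp hdvd hk1 hk2 (hcomm u u.2 w w.2)
      (hcop.coprime_dvd_left ((Subgroup.orderOf_dvd_natCard U u.2).trans hU))
      (hcop.symm.coprime_dvd_left ((Subgroup.orderOf_dvd_natCard W w.2).trans hW))
  have hmem : ∀ e : E, e ^ k ∈ W := fun e => by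
    obtain ⟨⟨u, w⟩, rfl⟩ := hbij.2 e
    rw [hpart u w]
    exact w.2
  let π : E →* W := MonoidHom.mk' (fun e => ⟨e ^ k, hmem e⟩) fun e e' => Subtype.ext (by
    obtain ⟨⟨u, w⟩, rfl⟩ := hbij.2 e
    obtain ⟨⟨u', w'⟩, rfl⟩ := hbij.2 e'
    have h : ((u : E) * w) * ((u' : E) * w') = ((u * u' : U) : E) * ((w * w' : W) : E) := by
      simp only [Subgroup.coe_mul, mul_assoc]
      rw [← mul_assoc (w : E) (u' : E) (w' : E), ← (hcomm u' u'.2 w w.2).eq, mul_assoc]
    show (((u : E) * w) * ((u' : E) * w')) ^ k = ((u : E) * w) ^ k * ((u' : E) * w') ^ k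
    rw [h, hpart, hpart, hpart, Subgroup.coe_mul])
  have hπw : ∀ w : W, π w = w := fun w => Subtype.ext (by
    have h := hpart 1 w
    rwa [Subgroup.coe_one, one_mul] at h)
  have hπ : Function.Surjective π := fun w => ⟨w, hπw w⟩
  haveI := Fintype.ofFinite (Subgroup W)
  have hone : (fun _ : E => (Nat.card W : ℂ)) = ∑ D ∈ Finset.univ.filter (fun D : Subgroup W => IsCyclic D),
      Cfsg.indFun (D.comap π) (fun y => CfsgLib.Artin.genFun D ⟨π y, y.2⟩) := by
    funext x
    rw [Finset.sum_apply, Finset.sum_congr rfl fun D _ => indFun_comap_comp π hπ D _ x, ← Finset.sum_apply,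
      CfsgLib.Artin.sum_indFun_genFun W]
  have helem : ∀ D : Subgroup W, IsCyclic D → Cfsg.IsElementary p (D.comap π) := by
    intro D hD
    obtain ⟨d, hd⟩ := IsCyclic.exists_generator (α := D)
    let d' : E := ((d : W) : E)
    have hd' : d' ∈ D.comap π := by
      show π ((d : W) : E) ∈ D
      rw [hπw]
      exact d.2
    have hord : orderOf (⟨d', hd'⟩ : D.comap π) = Nat.card D := by
      rw [Subgroup.orderOf_mk, Subgroup.orderOf_coe, Subgroup.orderOf_coe, ← Nat.card_zpowers,
        show Subgroup.zpowers d = ⊤ from (Subgroup.eq_top_iff' _).2 hd, Subgroup.card_top]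
    refine ⟨⟨d', hd'⟩, ?_, ?_, ?_⟩
    · rw [Subgroup.mem_center_iff]
      rintro ⟨y, hy⟩
      obtain ⟨⟨u, w⟩, rfl⟩ := hbij.2 y
      have hwD : w ∈ D := by
        have : π ((u : E) * w) = w := Subtype.ext (hpart u w)
        exact this ▸ hy
      obtain ⟨i, hi⟩ := Subgroup.mem_zpowers_iff.1 (hd ⟨w, hwD⟩)
      have hwd : (w : E) = d' ^ i := by
        have h2 : w = (d : W) ^ i := by rw [← Subgroup.coe_zpow, hi]
        rw [h2, Subgroup.coe_zpow]
      refine Subtype.ext ?_
      show ((u : E) * w) * d' = d' * ((u : E) * w)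
      rw [hwd]
      exact ((hcomm u u.2 _ (d : W).2).mul_left ((Commute.refl d').zpow_left i)).eq
    · rw [hord]
      refine Nat.Coprime.symm ((hp.coprime_iff_not_dvd).2 fun h => hpn ?_)
      exact h.trans ((Subgroup.card_subgroup_dvd_card D).trans hW)
    · obtain ⟨i, -, hi⟩ := (Nat.dvd_prime_pow hp).1 hU
      refine ⟨i, ?_⟩
      have h1 := (Subgroup.zpowers (⟨d', hd'⟩ : D.comap π)).index_mul_card
      rw [Nat.card_zpowers, hord] at h1
      have hker : Nat.card π.ker = Nat.card U := by
        refine (Nat.card_congr (Equiv.ofBijective (fun u : U => (⟨(u : E), ?_⟩ : π.ker)) ⟨?_, ?_⟩)).symm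
        · have h := hpart u 1
          rw [Subgroup.coe_one, mul_one] at h
          exact Subtype.ext h
        · intro x y h
          exact Subtype.ext (congrArg (fun z : π.ker => (z : E)) h)
        · rintro ⟨x, hx⟩
          obtain ⟨⟨u, w⟩, rfl⟩ := hbij.2 x
          refine ⟨u, Subtype.ext ?_⟩
          have : π ((u : E) * w) = w := Subtype.ext (hpart u w)
          have hw1 : w = 1 := this.symm.trans hx
          show (u : E) = (u : E) * w
          rw [hw1, Subgroup.coe_one, mul_one]
      have h3 : Nat.card (D.comap π) = Nat.card π.ker * Nat.card D := by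
        have e1 := (D.comap π).index_mul_card
        have e2 := π.ker.index_mul_card
        rw [Subgroup.index_comap_of_surjective D hπ] at e1
        rw [Subgroup.index_ker, MonoidHom.range_eq_top.2 hπ, Subgroup.card_top, ← D.index_mul_card] at e2
        refine Nat.eq_of_mul_eq_mul_left (Nat.pos_of_ne_zero D.index_ne_zero_of_finite) ?_
        rw [e1, ← e2]
        ring
      rw [← hi, ← hker]
      exact Nat.eq_of_mul_eq_mul_right Nat.card_pos (h1.trans h3)
  obtain ⟨c, hc⟩ := hW
  have hsmul : (Nat.card W : ℂ) • χ ∈ pSpan p E := by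
    rw [show (Nat.card W : ℂ) • χ = (fun _ : E => (Nat.card W : ℂ)) * χ by funext g; simp, hone,
      Finset.sum_mul]
    refine AddSubgroup.sum_mem _ fun D hD => ?_
    have hDc : IsCyclic D := (Finset.mem_filter.1 hD).2
    rw [CfsgLib.Brauer.indFun_mul (D.comap π) _ (IsGen.isClassFunction hχ)]
    refine AddSubgroup.subset_closure ⟨_, _, helem D hDc, ?_, rfl⟩
    exact IsGen.mul (IsGen.comp (MonoidHom.mk' (fun y : D.comap π => (⟨π y, y.2⟩ : D))
      fun y z => Subtype.ext (map_mul π _ _)) (CfsgLib.Artin.isGen_genFun hDc)) (IsGen.restrict _ hχ)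
  have : (n : ℂ) • χ = ((c : ℤ) : ℂ) • ((Nat.card W : ℂ) • χ) := by
    rw [smul_smul, hc]
    push_cast
    rw [mul_comm]
  rw [this, Int.cast_smul_eq_zsmul]
  exact zsmul_mem hsmul _

/-- The part of `|G|` prime to `p`, times the trivial character. -/
theorem smul_one_mem_pSpan (hp : p.Prime) {a n : ℕ} (hdvd : Nat.card G ∣ p ^ a * n) (hpn : ¬ p ∣ n) :
    (n : ℂ) • (1 : G → ℂ) ∈ pSpan p G := by
  classical
  suffices key : ∀ f ∈ CfsgLib.Brauer.elemSpan G, (n : ℂ) • f ∈ pSpan p G from
    key 1 CfsgLib.Brauer.one_mem_elemSpan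
  intro f hf
  induction hf using AddSubgroup.closure_induction with
  | zero => rw [smul_zero]; exact zero_mem _
  | add x y _ _ hx hy => rw [smul_add]; exact add_mem hx hy
  | neg x _ hx => rw [smul_neg]; exact neg_mem hx
  | mem x hx =>
    obtain ⟨E, lam, ⟨q, hq, hel⟩, rfl⟩ := hx
    haveI := CfsgLib.Brauer.isNilpotent_of_isElementary hq hel
    rw [← indFun_smul]
    exact indFun_mem_pSpan hp E (nilpotent_smul_mem_pSpan hp
      ((Subgroup.card_subgroup_dvd_card E).trans hdvd) hpn (IsGen.of_irr (isIrrCharacter_linear lam)))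

end CfsgLib.Char.Exceptional
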