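import Mathlib
import Cfsg.Agent.Lib.Char.CliffordCorr
import Cfsg.Agent.Lib.Char.Exceptional.PElementarySpan

/-! An invariant character over a `p`-index normal subgroup has an invariant constituent of
multiplicity prime to `p` on a `p`-elementary supplement. -/

set_option autoImplicit false

open scoped ComplexConjugate

namespace CfsgLib.Char.Exceptional

open CfsgLib.Char CfsgLib.Clifford

/-- Over a `p`-quotient, an integral invariant pairing not divisible by `p` needs a fixed point. -/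
theorem exists_fixed_of_pairing {E : Type*} [Group E] [Fintype E] {S : Subgroup E} [Fintype S]
    [hS : S.Normal] {p j : ℕ} (hp : p.Prime) (hidx : S.index = p ^ j) {ξ : S → ℂ}
    (hξ : Cfsg.IsCharacter S ξ) (hξinv : ∀ g : E, conjFn hS ξ g = ξ) {θ : E → ℂ}
    (hθ : Cfsg.IsGeneralizedCharacter E θ)
    (hnd : ¬ ∃ z : ℤ, Cfsg.classInner ((fun s : S => θ s) * ξ) ξ = (p : ℂ) * (z : ℂ)) :
    ∃ φ : Cfsg.IrrCharacter S, (∀ g : E, conjFn hS (φ : S → ℂ) g = φ) ∧
      ∃ m : ℕ, ¬ p ∣ m ∧ Cfsg.classInner ξ (φ : S → ℂ) = m := by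
  classical
  have := Fintype.ofFinite (Cfsg.IrrCharacter S)
  by_contra hcon
  push Not at hcon
  choose m hm using fun φ : Cfsg.IrrCharacter S => IsChar.classInner_eq_natCast hξ (IsIrr.isCharacter φ.2)
  set η : S → ℂ := (fun s : S => θ s) * ξ with hη
  have hηgen : Cfsg.IsGeneralizedCharacter S η := IsGen.mul (IsGen.restrict S hθ) (IsGen.of_isCharacter hξ)
  choose b hb using fun φ : Cfsg.IrrCharacter S => IsGen.classInner_eq_int hηgen (IsGen.of_irr φ.2)
  have hηinv : ∀ g : E, conjFn hS η g = η := fun g => funext fun s => by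
    show θ (g * (s : E) * g⁻¹) * conjFn hS ξ g s = θ s * ξ s
    rw [hξinv, IsGen.isClassFunction hθ (s : E) g]
  have hpair : Cfsg.classInner η ξ = ((∑ φ, b φ * (m φ : ℤ) : ℤ) : ℂ) := by
    rw [classInner_eq_sum (IsGen.isClassFunction hηgen) ξ]
    push_cast
    exact Finset.sum_congr rfl fun φ _ => by rw [hb, hm, map_natCast]
  refine hnd ?_
  suffices h : (p : ℤ) ∣ ∑ φ, b φ * (m φ : ℤ) by
    obtain ⟨z, hz⟩ := h
    exact ⟨z, by rw [hpair, hz]; push_cast; ring⟩
  let cj : E → Cfsg.IrrCharacter S → Cfsg.IrrCharacter S := fun g φ =>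
    ⟨conjFn hS (φ : S → ℂ) g, isIrrCharacter_conjFn hS φ.2 g⟩
  let orb : Cfsg.IrrCharacter S → Finset (S → ℂ) := fun φ => Finset.univ.image (conjFn hS (φ : S → ℂ))
  have hclassinv : ∀ (ω : S → ℂ), (∀ g, conjFn hS ω g = ω) → ∀ g φ,
      Cfsg.classInner ω (conjFn hS φ g) = Cfsg.classInner ω φ := by
    intro ω hω g φ
    have h := classInner_comp_equiv ((@MulAut.conjNormal E _ S hS) g) ω φ
    rw [← h]
    congr 1
    exact (hω g).symm
  rw [← Finset.sum_fiberwise_of_maps_to (g := orb) (t := Finset.univ.image orb)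
    (fun φ _ => Finset.mem_image_of_mem _ (Finset.mem_univ φ))]
  refine Finset.dvd_sum fun O hO => ?_
  obtain ⟨φ0, -, rfl⟩ := Finset.mem_image.1 hO
  have hmemfib : ∀ φ, orb φ = orb φ0 → ∃ g, cj g φ0 = φ := by
    intro φ h
    have : (φ : S → ℂ) ∈ orb φ0 := h ▸ Finset.mem_image.2 ⟨1, Finset.mem_univ _, conjFn_one hS _⟩
    obtain ⟨g, -, hg⟩ := Finset.mem_image.1 this
    exact ⟨g, Subtype.ext hg⟩
  have horb : ∀ g, orb (cj g φ0) = orb φ0 := by
    intro g
    ext ψ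
    simp only [orb, cj, Finset.mem_image, Finset.mem_univ, true_and]
    constructor
    · rintro ⟨k, rfl⟩
      exact ⟨g * k, conjFn_mul hS _ g k⟩
    · rintro ⟨k, rfl⟩
      exact ⟨g⁻¹ * k, by rw [← conjFn_mul, mul_inv_cancel_left]⟩
  have hval : ∀ φ ∈ Finset.univ.filter (fun φ => orb φ = orb φ0),
      b φ * (m φ : ℤ) = b φ0 * (m φ0 : ℤ) := by
    intro φ hφ
    obtain ⟨g, rfl⟩ := hmemfib φ (Finset.mem_filter.1 hφ).2
    have h1 : b (cj g φ0) = b φ0 := Int.cast_injective (α := ℂ) (by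
      rw [← hb, ← hb]; exact hclassinv η hηinv g _)
    have h2 : m (cj g φ0) = m φ0 := Nat.cast_injective (R := ℂ) (by
      rw [← hm, ← hm]; exact hclassinv ξ hξinv g _)
    rw [h1, h2]
  rw [Finset.sum_congr rfl hval, Finset.sum_const, nsmul_eq_mul]
  have hcard : (Finset.univ.filter fun φ => orb φ = orb φ0).card = (inertia hS (φ0 : S → ℂ)).index := by
    have h : (Finset.univ.filter fun φ => orb φ = orb φ0).card = (orb φ0).card := by
      refine Finset.card_nbij (fun φ => (φ : S → ℂ)) (fun φ hφ => ?_) (fun _ _ _ _ h => Subtype.ext h) ?_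
      · obtain ⟨g, rfl⟩ := hmemfib φ (Finset.mem_filter.1 hφ).2
        exact Finset.mem_image.2 ⟨g, Finset.mem_univ _, rfl⟩
      · intro ψ hψ
        obtain ⟨g, -, rfl⟩ := Finset.mem_image.1 (Finset.mem_coe.1 hψ)
        exact ⟨cj g φ0, Finset.mem_coe.2 (Finset.mem_filter.2 ⟨Finset.mem_univ _, horb g⟩), rfl⟩
    rw [h]
    convert card_orbit hS (φ0 : S → ℂ)
  rw [hcard]
  have hdvd : (inertia hS (φ0 : S → ℂ)).index ∣ p ^ j :=
    hidx ▸ Subgroup.index_dvd_of_le (le_inertia hS (IsIrr.isClassFunction φ0.2))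
  obtain ⟨i, -, hi⟩ := (Nat.dvd_prime_pow hp).1 hdvd
  rcases Nat.eq_zero_or_pos i with rfl | hi0
  · rw [pow_zero, Subgroup.index_eq_one] at hi
    have hfix : ∀ g : E, conjFn hS (φ0 : S → ℂ) g = φ0 := fun g =>
      mem_inertia.1 (hi ▸ Subgroup.mem_top g)
    refine Dvd.dvd.mul_left (Dvd.dvd.mul_left ?_ _) _
    refine Int.natCast_dvd_natCast.2 ?_
    by_contra h
    exact hcon φ0 hfix (m φ0) h (hm φ0)
  · refine Dvd.dvd.mul_right ?_ _
    rw [hi]
    exact Int.natCast_dvd_natCast.2 (dvd_pow_self p hi0.ne')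

/-- The pairing functional on an induced function. -/
theorem functional_indFun {G : Type*} [Group G] [Fintype G] (N E : Subgroup G) [hN : N.Normal]
    [Fintype N] [Fintype (N.subgroupOf E)] {ϑ : N → ℂ} (hinv : ∀ g : G, conjFn hN ϑ g = ϑ)
    (θ : E → ℂ) :
    (Nat.card N : ℂ)⁻¹ * ∑ s : N, Cfsg.indFun E θ s * (ϑ s * conj (ϑ s)) =
      ((N ⊔ E).index : ℂ) * Cfsg.classInner
        ((fun s : N.subgroupOf E => θ s) * fun s : N.subgroupOf E => ϑ ⟨((s : E) : G), s.2⟩)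
        (fun s : N.subgroupOf E => ϑ ⟨((s : E) : G), s.2⟩) := by
  classical
  let F : N → ℂ := fun s => Cfsg.extendByZero E θ s * (ϑ s * conj (ϑ s))
  have hx : ∀ x : G, ∑ s : N, Cfsg.extendByZero E θ (x⁻¹ * (s : G) * x) * (ϑ s * conj (ϑ s)) = ∑ s, F s := by
    intro x
    refine Fintype.sum_equiv ((@MulAut.conjNormal G _ N hN) x⁻¹).toEquiv _ _ fun s => ?_
    show _ = Cfsg.extendByZero E θ ((MulAut.conjNormal x⁻¹ s : N) : G) *
      (ϑ (MulAut.conjNormal x⁻¹ s) * conj (ϑ (MulAut.conjNormal x⁻¹ s)))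
    have h : ϑ (MulAut.conjNormal x⁻¹ s) = ϑ s := congrFun (hinv x⁻¹) s
    rw [h, MulAut.conjNormal_apply, inv_inv]
  have hS : ∑ s, F s = ∑ y : (N.subgroupOf E), θ y * (ϑ ⟨((y : E) : G), y.2⟩ * conj (ϑ ⟨((y : E) : G), y.2⟩)) := by
    rw [← Finset.sum_subset (Finset.subset_univ (Finset.univ.filter fun s : N => (s : G) ∈ E))
      (fun s _ hs => by
        simp only [F]
        rw [extendByZero_of_notMem E θ (fun h => hs (Finset.mem_filter.2 ⟨Finset.mem_univ _, h⟩)), zero_mul])]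
    symm
    refine Finset.sum_bij (fun y _ => (⟨((y : E) : G), y.2⟩ : N)) (fun y _ => Finset.mem_filter.2 ⟨Finset.mem_univ _, (y : E).2⟩)
      (fun a _ b _ h => Subtype.ext (Subtype.ext (congrArg (fun z : N => (z : G)) h))) (fun s hs =>
        ⟨⟨⟨(s : G), (Finset.mem_filter.1 hs).2⟩, s.2⟩, Finset.mem_univ _, rfl⟩) fun y _ => ?_
    simp only [F]
    rw [extendByZero_of_mem E θ (y : E).2]
  have hidx : (N ⊔ E).index * (Nat.card N * Nat.card E) = Nat.card G * Nat.card (N.subgroupOf E) := by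
    have h1 : N.relIndex E * Nat.card (N.subgroupOf E) = Nat.card E := (N.subgroupOf E).index_mul_card
    have h2 : N.relIndex (N ⊔ E) * (N ⊔ E).index = N.index := Subgroup.relIndex_mul_index le_sup_left
    rw [show N.relIndex (N ⊔ E) = N.relIndex E by rw [sup_comm, Subgroup.relIndex_sup_right]] at h2
    rw [← N.index_mul_card, ← h1, ← h2]
    ring
  simp only [Cfsg.indFun, mul_assoc (Nat.card E : ℂ)⁻¹, Finset.sum_mul]
  rw [← Finset.mul_sum, Finset.sum_comm, Finset.sum_congr rfl fun x _ => hx x, Finset.sum_const,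
    Finset.card_univ, nsmul_eq_mul, ← Nat.card_eq_fintype_card, hS]
  simp only [Cfsg.classInner, Pi.mul_apply]
  have hN0 : (Nat.card N : ℂ) ≠ 0 := Nat.cast_ne_zero.2 Nat.card_pos.ne'
  have hE0 : (Nat.card E : ℂ) ≠ 0 := Nat.cast_ne_zero.2 Nat.card_pos.ne'
  have hS0 : (Nat.card (N.subgroupOf E) : ℂ) ≠ 0 := Nat.cast_ne_zero.2 Nat.card_pos.ne'
  have hc := congrArg (fun i : ℕ => (i : ℂ)) hidx
  push_cast at hc
  have h : ∀ X : ℂ, (Nat.card N : ℂ)⁻¹ * ((Nat.card E : ℂ)⁻¹ * ((Nat.card G : ℂ) * X)) =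
      ((N ⊔ E).index : ℂ) * ((Nat.card (N.subgroupOf E) : ℂ)⁻¹ * X) := fun X => by
    field_simp
    linear_combination -X * hc
  rw [h]
  congr 2
  refine Finset.sum_congr ?_ fun y _ => (mul_assoc _ _ _).symm
  ext y
  simp

/-- Existence of the supplement and the constituent. -/
theorem exists_elementary_supplement {G : Type*} [Group G] [Fintype G] {p : ℕ} (hp : p.Prime)
    (N : Subgroup G) [hN : N.Normal] [Fintype N] (hind : ∃ k : ℕ, N.index = p ^ k) {ϑ : N → ℂ}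
    (hϑ : Cfsg.IsIrrCharacter N ϑ) (hinv : ∀ g : G, conjFn hN ϑ g = ϑ) :
    ∃ E : Subgroup G, Cfsg.IsElementary p E ∧ E ⊔ N = ⊤ ∧
      ∃ (_ : Fintype (N.subgroupOf E)) (φ : Cfsg.IrrCharacter (N.subgroupOf E)),
        (∀ g : E, conjFn (hN.subgroupOf E) (φ : N.subgroupOf E → ℂ) g = φ) ∧
        ∃ m : ℕ, ¬ p ∣ m ∧
          Cfsg.classInner (fun s : N.subgroupOf E => ϑ ⟨((s : E) : G), s.2⟩) (φ : N.subgroupOf E → ℂ) = m := by
  classical
  obtain ⟨k, hk⟩ := hind
  set a := (Nat.card G).factorization p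
  set n := Nat.card G / p ^ a
  have hdvd : Nat.card G ∣ p ^ a * n := (Nat.ordProj_mul_ordCompl_eq_self _ p).symm.dvd
  have hpn : ¬ p ∣ n := Nat.not_dvd_ordCompl hp Nat.card_pos.ne'
  let Φ : (G → ℂ) → ℂ := fun f => (Nat.card N : ℂ)⁻¹ * ∑ s : N, f s * (ϑ s * conj (ϑ s))
  by_contra hcon
  have key : ∀ f ∈ pSpan p G, ∃ z : ℤ, Φ f = (p : ℂ) * (z : ℂ) := by
    intro f hf
    induction hf using AddSubgroup.closure_induction with
    | zero => exact ⟨0, by simp [Φ]⟩
    | add x y _ _ hx hy =>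
      obtain ⟨z, hz⟩ := hx
      obtain ⟨w, hw⟩ := hy
      refine ⟨z + w, ?_⟩
      simp only [Φ] at hz hw ⊢
      simp only [Pi.add_apply, add_mul, Finset.sum_add_distrib, mul_add, hz, hw]
      push_cast; ring
    | neg x _ hx =>
      obtain ⟨z, hz⟩ := hx
      refine ⟨-z, ?_⟩
      simp only [Φ] at hz ⊢
      simp only [Pi.neg_apply, neg_mul, Finset.sum_neg_distrib, mul_neg, hz]
      push_cast; ring
    | mem x hx =>
      obtain ⟨E, θ, hel, hθ, rfl⟩ := hx
      haveI hSn : (N.subgroupOf E).Normal := hN.subgroupOf E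
      letI := Fintype.ofFinite (N.subgroupOf E)
      rw [show Φ (Cfsg.indFun E θ) = _ from functional_indFun N E hinv θ]
      set ξ : N.subgroupOf E → ℂ := fun s => ϑ ⟨((s : E) : G), s.2⟩ with hξdef
      have hξ : Cfsg.IsCharacter (N.subgroupOf E) ξ :=
        IsChar.comp (MonoidHom.mk' (fun s : N.subgroupOf E => (⟨((s : E) : G), s.2⟩ : N)) fun _ _ => rfl)
          (IsIrr.isCharacter hϑ)
      have hξinv : ∀ g : E, conjFn hSn ξ g = ξ := fun g => funext fun s =>
        congrFun (hinv (g : G)) ⟨((s : E) : G), s.2⟩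
      obtain ⟨z, hz⟩ := IsGen.classInner_eq_int
        (IsGen.mul (IsGen.restrict (N.subgroupOf E) hθ) (IsGen.of_isCharacter hξ)) (IsGen.of_isCharacter hξ)
      have hdv : (N ⊔ E).index ∣ p ^ k := hk ▸ Subgroup.index_dvd_of_le le_sup_left
      obtain ⟨i, -, hi⟩ := (Nat.dvd_prime_pow hp).1 hdv
      rcases Nat.eq_zero_or_pos i with rfl | hi0
      · rw [hi, pow_zero, Nat.cast_one, one_mul]
        rw [pow_zero, Subgroup.index_eq_one, sup_comm] at hi
        by_contra hnd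
        obtain ⟨j, hj⟩ : ∃ j, (N.subgroupOf E).index = p ^ j := by
          obtain ⟨j, -, hj⟩ := (Nat.dvd_prime_pow hp).1
            (show N.relIndex E ∣ p ^ k from hk ▸ Subgroup.relIndex_dvd_index_of_normal N E)
          exact ⟨j, hj⟩
        obtain ⟨φ, hφ, hm⟩ := exists_fixed_of_pairing hp hj hξ hξinv hθ hnd
        exact hcon ⟨E, hel, hi, inferInstance, φ, hφ, hm⟩
      · obtain ⟨i', rfl⟩ := Nat.exists_eq_succ_of_ne_zero hi0.ne'
        refine ⟨(p : ℤ) ^ i' * z, ?_⟩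
        rw [hz, hi]
        simp only [Nat.succ_eq_add_one, pow_succ]
        push_cast
        ring
  obtain ⟨z, hz⟩ := key _ (smul_one_mem_pSpan hp hdvd hpn)
  have hnorm : Cfsg.classInner ϑ ϑ = 1 := classInner_irr_self ⟨ϑ, hϑ⟩
  simp only [Cfsg.classInner] at hnorm
  have hΦ : Φ ((n : ℂ) • (1 : G → ℂ)) = (n : ℂ) := by
    simp only [Φ, Pi.smul_apply, Pi.one_apply, smul_eq_mul, mul_one, ← Finset.mul_sum]
    rw [mul_left_comm, hnorm, mul_one]
  rw [hΦ] at hz
  refine hpn (Int.natCast_dvd_natCast.1 ⟨z, ?_⟩)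
  exact_mod_cast hz

end CfsgLib.Char.Exceptional
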