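import Mathlib
import Cfsg.Agent.Lib.Char.Exceptional.ElementarySupplement
import Cfsg.Agent.Lib.Char.Exceptional.DetExtension
import Cfsg.Agent.Lib.Char.AbelianInertia

/-! Invariant characters extend over a `p`-quotient when linear characters of the Sylow intersection do. -/

set_option autoImplicit false

open scoped ComplexConjugate
open CfsgLib.Char CfsgLib.CharExt Module

namespace CfsgLib.Char.Exceptional.CentralSylow

variable {G : Type*} [Group G] [Finite G] {N : Subgroup G} [hN : N.Normal]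
variable {V : Type*} [AddCommGroup V] [Module ℂ V] [FiniteDimensional ℂ V]

/-- An eigenspace of a supplement meeting `N` centrally gives its dimension as a scalar degree. -/
theorem eigen_mem_scalarDegrees (σ : Representation ℂ N V) [σ.IsIrreducible] (E : Subgroup G)
    (hEN : E ⊔ N = ⊤) (μ : E →* ℂˣ)
    (hcentral : ∀ g ∈ E, ∀ s : N, (s : G) ∈ E → cn g s = s) [Fintype (N.subgroupOf E)] {m : ℕ}
    (hm : (Nat.card (N.subgroupOf E) : ℂ)⁻¹ *
      ∑ s : N.subgroupOf E, (((μ s)⁻¹ : ℂˣ) : ℂ) * σ.character ⟨((s : E) : G), s.2⟩ = m) :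
    (m : ℤ) ∈ scalarDegrees σ := by
  classical
  let ι : N.subgroupOf E →* N := MonoidHom.mk' (fun s => ⟨((s : E) : G), s.2⟩) fun _ _ => rfl
  let τ : Representation ℂ (N.subgroupOf E) V :=
    { toFun := fun s => (((μ s)⁻¹ : ℂˣ) : ℂ) • σ (ι s)
      map_one' := by simp
      map_mul' := fun a b => by
        rw [map_mul, map_mul, Subgroup.coe_mul, map_mul, mul_inv, Units.val_mul, smul_mul_smul_comm] }
  haveI : Invertible (Nat.card (N.subgroupOf E) : ℂ) := invertibleOfNonzero (Nat.cast_ne_zero.2 Nat.card_pos.ne')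
  haveI : Invertible (Fintype.card (N.subgroupOf E) : ℂ) := invertibleOfNonzero (Nat.cast_ne_zero.2 Fintype.card_ne_zero)
  set W := Representation.invariants τ with hW
  have hfin : finrank ℂ W = m := by
    have h := (Representation.isProj_averageMap τ).trace
    have h2 : LinearMap.trace ℂ V (Representation.averageMap τ) = (m : ℂ) := by
      rw [← hm]
      simp [Representation.averageMap, GroupAlgebra.average, Representation.character, τ, map_sum, map_smul, ι,
        Finset.mul_sum, Nat.card_eq_fintype_card, invOf_eq_inv]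
    rw [h2] at h
    exact_mod_cast h.symm
  -- pairs over `E`
  set H : Subgroup (twistGroup σ) := E.comap (proj σ) with hH
  have hpres : ∀ x : H, ∀ v ∈ W,
      ((((μ ⟨proj σ x, x.2⟩)⁻¹ : ℂˣ) : ℂ) • (op σ (x : twistGroup σ) : Module.End ℂ V)) v ∈ W := by
    intro x v hv
    rw [hW, Representation.mem_invariants] at hv ⊢
    intro s
    have h1 : (op σ (x : twistGroup σ) : Module.End ℂ V) * σ (ι s) =
        σ (cn (proj σ (x : twistGroup σ)) (ι s)) * (op σ (x : twistGroup σ) : Module.End ℂ V) := (x : twistGroup σ).2 (ι s)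
    rw [hcentral _ x.2 (ι s) (s : E).2] at h1
    have h2 := LinearMap.congr_fun h1 v
    simp only [Module.End.mul_apply] at h2
    have h3 := hv s
    simp only [τ, MonoidHom.coe_mk, OneHom.coe_mk, LinearMap.smul_apply] at h3 ⊢
    rw [map_smul, ← h2, smul_comm, ← map_smul, h3]
  let r : H →* Module.End ℂ W :=
    { toFun := fun x => ((((μ ⟨proj σ x, x.2⟩)⁻¹ : ℂˣ) : ℂ) • (op σ (x : twistGroup σ) : Module.End ℂ V)).restrict (hpres x)
      map_one' := by
        refine LinearMap.ext fun v => Subtype.ext ?_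
        show ((((μ ⟨proj σ ((1 : H) : twistGroup σ), _⟩)⁻¹ : ℂˣ) : ℂ) • (op σ ((1 : H) : twistGroup σ) : Module.End ℂ V)) v = v
        rw [show (⟨proj σ ((1 : H) : twistGroup σ), (1 : H).2⟩ : E) = 1 from Subtype.ext (map_one _)]
        simp
      map_mul' := fun x y => by
        refine LinearMap.ext fun v => Subtype.ext ?_
        show ((((μ ⟨proj σ ((x * y : H) : twistGroup σ), _⟩)⁻¹ : ℂˣ) : ℂ) • (op σ ((x * y : H) : twistGroup σ) : Module.End ℂ V)) v =
          ((((μ ⟨proj σ x, x.2⟩)⁻¹ : ℂˣ) : ℂ) • (op σ (x : twistGroup σ) : Module.End ℂ V))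
            (((((μ ⟨proj σ y, y.2⟩)⁻¹ : ℂˣ) : ℂ) • (op σ (y : twistGroup σ) : Module.End ℂ V)) v)
        rw [show (⟨proj σ ((x * y : H) : twistGroup σ), (x * y).2⟩ : E) = ⟨proj σ x, x.2⟩ * ⟨proj σ y, y.2⟩ from
          Subtype.ext (map_mul _ _ _), map_mul μ, mul_inv, Units.val_mul]
        simp only [Subgroup.coe_mul, map_mul, Units.val_mul, Module.End.mul_apply, LinearMap.smul_apply, map_smul,
          smul_smul]
        rw [mul_comm (((μ ⟨proj σ x, x.2⟩)⁻¹ : ℂˣ) : ℂ)] }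
  let δ : H →* ℂˣ := (Units.map (LinearMap.det : Module.End ℂ W →* ℂ)).comp r.toHomUnits
  have hδscal : ∀ (c : ℂˣ) (h : scal σ c ∈ H), δ ⟨scal σ c, h⟩ = c ^ m := fun c h => by
    apply Units.ext
    show LinearMap.det (r ⟨scal σ c, h⟩) = _
    have : r ⟨scal σ c, h⟩ = (c : ℂ) • (1 : Module.End ℂ W) := by
      refine LinearMap.ext fun v => Subtype.ext ?_
      show ((((μ ⟨proj σ (scal σ c), h⟩)⁻¹ : ℂˣ) : ℂ) • (op σ (scal σ c) : Module.End ℂ V)) v = _
      rw [show (⟨proj σ (scal σ c), h⟩ : E) = 1 from Subtype.ext (proj_scal σ c), op_scal, scalarUnit_val]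
      simp
    rw [this, LinearMap.det_smul, map_one, mul_one, hfin, Units.val_pow_eq_pow_val]
  have hδemb : ∀ (s : N) (h : emb σ s ∈ H), δ ⟨emb σ s, h⟩ = 1 := fun s h => by
    apply Units.ext
    show LinearMap.det (r ⟨emb σ s, h⟩) = _
    have : r ⟨emb σ s, h⟩ = 1 := by
      refine LinearMap.ext fun v => Subtype.ext ?_
      show ((((μ ⟨proj σ (emb σ s), h⟩)⁻¹ : ℂˣ) : ℂ) • (op σ (emb σ s) : Module.End ℂ V)) v = v
      have hv := (Representation.mem_invariants τ v.1).1 v.2 ⟨⟨(s : G), h⟩, s.2⟩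
      rw [op_emb]
      exact hv
    rw [this, map_one, Units.val_one]
  -- extend along `N`
  have hdec : ∀ x : twistGroup σ, ∃ n : N, x * (emb σ n)⁻¹ ∈ H := fun x => by
    have hx : proj σ x ∈ E ⊔ N := hEN ▸ Subgroup.mem_top _
    rw [← SetLike.mem_coe, Subgroup.mul_normal] at hx
    obtain ⟨a, ha, n, hn, he⟩ := Set.mem_mul.1 hx
    refine ⟨⟨n, hn⟩, ?_⟩
    rw [hH, Subgroup.mem_comap, map_mul, map_inv, proj_emb, ← he, mul_inv_cancel_right]
    exact ha
  choose f hf using hdec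
  have hwd : ∀ (x : twistGroup σ) (n : N) (h : x * (emb σ n)⁻¹ ∈ H),
      δ ⟨x * (emb σ n)⁻¹, h⟩ = δ ⟨x * (emb σ (f x))⁻¹, hf x⟩ := fun x n h => by
    have hk : emb σ (n * (f x)⁻¹) ∈ H := by
      have := Subgroup.mul_mem H (Subgroup.inv_mem H h) (hf x)
      rwa [mul_inv_rev, inv_inv, mul_assoc, inv_mul_cancel_left, ← map_inv, ← map_mul] at this
    rw [show (⟨x * (emb σ (f x))⁻¹, hf x⟩ : H) = ⟨x * (emb σ n)⁻¹, h⟩ * ⟨_, hk⟩ from Subtype.ext (by
      show _ = x * (emb σ n)⁻¹ * emb σ (n * (f x)⁻¹)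
      rw [map_mul, map_inv]; group), map_mul, hδemb, mul_one]
  let T : twistGroup σ →* ℂˣ := MonoidHom.mk' (fun x => δ ⟨x * (emb σ (f x))⁻¹, hf x⟩) fun x y => by
    set h1 : H := ⟨x * (emb σ (f x))⁻¹, hf x⟩
    set h2 : H := ⟨y * (emb σ (f y))⁻¹, hf y⟩
    have he : x * y * (emb σ (cn (proj σ (h2 : twistGroup σ))⁻¹ (f x) * f y))⁻¹ = ((h1 * h2 : H) : twistGroup σ) := by
      rw [map_mul, ← map_inv, ← conj_emb]
      show x * y * _ = x * (emb σ (f x))⁻¹ * (y * (emb σ (f y))⁻¹)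
      group
      simp [h2, mul_assoc]
    rw [← hwd (x * y) _ (he ▸ (h1 * h2).2), ← map_mul]
    exact congrArg δ (Subtype.ext he)
  refine ⟨T, fun c => ?_, fun s => ?_⟩
  · show δ _ = _
    have h0 : scal σ c * (emb σ 1)⁻¹ ∈ H := by
      rw [map_one, inv_one, mul_one, hH, Subgroup.mem_comap, proj_scal]; exact E.one_mem
    rw [← hwd _ 1 h0, zpow_natCast]
    have h' : scal σ c ∈ H := by simpa using h0
    rw [show (⟨_, h0⟩ : H) = ⟨scal σ c, h'⟩ from Subtype.ext (by simp)]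
    exact hδscal c h'
  · show δ _ = 1
    have h0 : emb σ s * (emb σ s)⁻¹ ∈ H := by rw [mul_inv_cancel]; exact one_mem _
    rw [← hwd _ s h0, show (⟨_, h0⟩ : H) = 1 from Subtype.ext (mul_inv_cancel _), map_one]

theorem extends_of_central_sylow {G : Type*} [Group G] [Fintype G] (p : ℕ) [hp : Fact p.Prime] (N : Subgroup G)
    [hN : N.Normal] (hind : ∃ k : ℕ, N.index = p ^ k) (P : Sylow p G)
    (hcent : ∀ x ∈ (P : Subgroup G) ⊓ N, ∀ y ∈ (P : Subgroup G), x * y = y * x)
    (hlin : ∀ lam : ↥((P : Subgroup G) ⊓ N) → ℂ, Cfsg.IsCharacter ↥((P : Subgroup G) ⊓ N) lam → lam 1 = 1 →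
      ∃ μ : ↥(P : Subgroup G) → ℂ, Cfsg.IsCharacter ↥(P : Subgroup G) μ ∧ μ 1 = 1 ∧
        ∀ x : ↥((P : Subgroup G) ⊓ N), μ ⟨(x : G), x.2.1⟩ = lam x)
    {ϑ : N → ℂ} (hϑ : Cfsg.IsIrrCharacter N ϑ)
    (hinv : ∀ (g : G) (n : N), ϑ ⟨g * n * g⁻¹, hN.conj_mem (n : G) n.2 g⟩ = ϑ n) :
    ∃ χ : G → ℂ, Cfsg.IsIrrCharacter G χ ∧ ∀ n : N, χ n = ϑ n := by
  classical
  haveI := Fintype.ofFinite N
  obtain ⟨d, σ, hσ, hσc⟩ := id hϑ
  haveI := hσ
  have hinv' : ∀ g n, σ.character (cn g n) = σ.character n := fun g n => by rw [hσc]; exact hinv g n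
  obtain ⟨E, ⟨x, hxc, hxp, k, hxi⟩, hsup, instM, φ, -, m, hmp, hm⟩ :=
    exists_elementary_supplement hp.out N hind hϑ fun g => funext fun n => hinv g n
  letI := instM
  set B := Subgroup.zpowers x with hB
  have hpx : ¬ p ∣ orderOf x := fun h => hp.out.ne_one (Nat.eq_one_of_dvd_coprimes hxp.symm dvd_rfl h)
  -- `x ∈ N`
  have hxN : (x : G) ∈ N := by
    obtain ⟨k0, hk0⟩ := hind
    have h1 : ((x : G) : G ⧸ N) ^ p ^ k0 = 1 := by
      rw [← hk0, Subgroup.index_eq_card]; exact pow_card_eq_one'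
    have h2 : ((x : G) : G ⧸ N) ^ orderOf x = 1 := by
      rw [← QuotientGroup.mk_pow, ← Subgroup.coe_pow, pow_orderOf_eq_one]; rfl
    have h3 := pow_gcd_eq_one.mpr ⟨h1, h2⟩
    rw [(Nat.Coprime.pow_left k0 hxp.symm : Nat.gcd (p ^ k0) (orderOf x) = 1), pow_one] at h3
    exact (QuotientGroup.eq_one_iff _).1 h3
  have hBN : B ≤ N.subgroupOf E := by rw [hB, Subgroup.zpowers_le]; exact hxN
  obtain ⟨A⟩ : Nonempty (Sylow p E) := inferInstance
  -- `E` is the product of `A` and `B`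
  have hBc : ∀ b ∈ B, ∀ g : E, g * b = b * g := fun b hb g => by
    obtain ⟨i, rfl⟩ := Subgroup.mem_zpowers_iff.1 hb
    exact ((Subgroup.mem_center_iff.1 (zpow_mem hxc i)) g)
  let ψ : ↥(A : Subgroup E) × ↥B →* E := MonoidHom.mk' (fun q => (q.1 : E) * q.2) fun q q' => by
    show (q.1 : E) * q'.1 * (q.2 * q'.2) = q.1 * q.2 * (q'.1 * q'.2)
    rw [mul_assoc, ← mul_assoc (q'.1 : E) (q.2 : E), hBc q.2 q.2.2 q'.1]
    group
  have hψbij : Function.Bijective ψ := by
    refine (Nat.bijective_iff_injective_and_card ψ).2 ⟨(injective_iff_map_eq_one ψ).2 ?_, ?_⟩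
    · rintro ⟨a, b⟩ hab
      have hab' : (a : E) * b = 1 := hab
      have hb : (b : E) = 1 := by
        rw [← orderOf_eq_one_iff]
        obtain ⟨j, hj⟩ := IsPGroup.iff_orderOf.1 A.2 a
        have h1 : orderOf (b : E) = orderOf (a : E) := by
          rw [eq_inv_of_mul_eq_one_right hab', orderOf_inv]
        refine Nat.eq_one_of_dvd_coprimes (Nat.Coprime.pow_right j hxp) ?_
          (h1 ▸ (by rw [Subgroup.orderOf_coe, hj] : orderOf (a : E) ∣ p ^ j))
        rw [← Nat.card_zpowers x]; exact Subgroup.orderOf_dvd_natCard _ b.2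
      rw [hb, mul_one] at hab'
      exact Prod.ext (Subtype.ext hab') (Subtype.ext hb)
    · rw [Nat.card_prod, A.card_eq_multiplicity, ← B.index_mul_card, hxi, hB, Nat.card_zpowers,
        Nat.factorization_mul (pow_pos hp.out.pos k).ne' (orderOf_pos x).ne']
      simp [hp.out.factorization_self, Nat.factorization_eq_zero_of_not_dvd hpx]
  let eψ : ↥(A : Subgroup E) × ↥B ≃* E := MulEquiv.ofBijective ψ hψbij
  -- a conjugate of `A` lies in `P`
  obtain ⟨S, hS⟩ := (A.2.map E.subtype).exists_le_sylow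
  obtain ⟨g₀, hg₀⟩ := MulAction.exists_smul_eq G S P
  have hcA : ∀ a : (A : Subgroup E), g₀ * ((a : E) : G) * g₀⁻¹ ∈ (P : Subgroup G) := fun a => by
    rw [← hg₀]; exact ⟨_, hS ⟨a, a.2, rfl⟩, rfl⟩
  let cA : (A : Subgroup E) →* (P : Subgroup G) :=
    MonoidHom.mk' (fun a => ⟨g₀ * ((a : E) : G) * g₀⁻¹, hcA a⟩) fun a b => Subtype.ext (by simp [mul_assoc])
  have hMc : ∀ g : E, ∀ s ∈ N.subgroupOf E, g * s = s * g := by
    intro g s hs
    obtain ⟨⟨a, b⟩, rfl⟩ := eψ.surjective s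
    obtain ⟨⟨a', b'⟩, rfl⟩ := eψ.surjective g
    have haN : ((a : E) : G) ∈ N := by
      have h := Subgroup.mul_mem _ hs (Subgroup.inv_mem _ (hBN b.2))
      rw [show (eψ (a, b) : E) = (a : E) * b from rfl, mul_inv_cancel_right] at h
      exact h
    have haa : Commute (a', b') ((a, b) : ↥(A : Subgroup E) × ↥B) := by
      refine Prod.ext (Subtype.ext (Subtype.ext ?_)) (Subtype.ext (hBc b b.2 b'))
      have h := hcent _ ⟨hcA a, hN.conj_mem _ haN g₀⟩ _ (hcA a')
      show ((a' : E) : G) * (a : E) = (a : E) * (a' : E)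
      simp only [mul_assoc, inv_mul_cancel_left] at h
      have h' := mul_left_cancel h
      rw [← mul_assoc, ← mul_assoc (((a' : E) : G))] at h'
      exact (mul_right_cancel h').symm
    rw [← map_mul, haa.eq, map_mul]
  -- the linear constituent and its extension
  have hcomm : ∀ u v : N.subgroupOf E, u * v = v * u := fun u v => Subtype.ext (hMc u v v.2)
  obtain ⟨l, hl⟩ := exists_linear_of_degree_one (IsIrr.isCharacter φ.2)
    (CfsgLib.Clifford.apply_one_eq_one_of_commute hcomm φ)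
  let AN : Subgroup (A : Subgroup E) := (N.subgroupOf E).subgroupOf (A : Subgroup E)
  let D : Subgroup G := (P : Subgroup G) ⊓ N
  letI : CommGroup D :=
    { (inferInstance : Group D) with mul_comm := fun u v => Subtype.ext (hcent u u.2 v v.2.1) }
  let c' : AN →* D := MonoidHom.mk' (fun a => ⟨g₀ * (((a : (A : Subgroup E)) : E) : G) * g₀⁻¹, hcA a,
    hN.conj_mem _ a.2 g₀⟩) fun a b => Subtype.ext (by simp [mul_assoc])
  have hc' : Function.Injective c' := fun a b h => by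
    have h' : g₀ * (((a : (A : Subgroup E)) : E) : G) * g₀⁻¹ = g₀ * (((b : (A : Subgroup E)) : E) : G) * g₀⁻¹ :=
      congrArg Subtype.val h
    exact Subtype.ext (Subtype.ext (Subtype.ext (by simpa using h')))
  let eR := MonoidHom.ofInjective hc'
  let lA : AN →* ℂˣ := l.comp (MonoidHom.mk' (fun a => (⟨((a : (A : Subgroup E)) : E), a.2⟩ : N.subgroupOf E))
    fun _ _ => rfl)
  obtain ⟨L, hL⟩ := MonoidHom.domRestrict_surjective ℂ c'.range (lA.comp eR.symm.toMonoidHom)
  have hirrL : Cfsg.IsCharacter D fun u => (L u : ℂ) := IsIrr.isCharacter (isIrrCharacter_linear L)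
  obtain ⟨μP, hμc, hμ1, hμr⟩ := hlin (fun u => (L u : ℂ)) hirrL (by simp)
  obtain ⟨lP, hlP⟩ := exists_linear_of_degree_one hμc hμ1
  let μ0 : ↥(A : Subgroup E) × ↥B →* ℂˣ :=
    ((lP.comp cA).comp (MonoidHom.fst _ _)) * ((l.comp (Subgroup.inclusion hBN)).comp (MonoidHom.snd _ _))
  let μ : E →* ℂˣ := μ0.comp eψ.symm.toMonoidHom
  have hμM : ∀ s : N.subgroupOf E, μ s = l s := by
    intro s
    obtain ⟨⟨a, b⟩, hab⟩ := eψ.surjective (s : E)
    have haN : (a : E) ∈ N.subgroupOf E := by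
      have h := Subgroup.mul_mem _ s.2 (Subgroup.inv_mem _ (hBN b.2))
      rw [← hab, show (eψ (a, b) : E) = (a : E) * b from rfl, mul_inv_cancel_right] at h
      exact h
    have h1 : lP (cA a) = l ⟨(a : E), haN⟩ := by
      have e1 := hμr (c' ⟨a, haN⟩)
      rw [hlP] at e1
      have e2 : L (c' ⟨a, haN⟩) = lA ⟨a, haN⟩ := by
        have e3 := congrArg (fun F : c'.range →* ℂˣ => F (eR ⟨a, haN⟩)) hL
        simp at e3
        exact e3
      have e4 := Units.ext e1
      rw [e2] at e4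
      exact e4
    show μ0 (eψ.symm (s : E)) = _
    rw [← hab, eψ.symm_apply_apply]
    show lP (cA a) * l (Subgroup.inclusion hBN b) = _
    rw [h1, ← map_mul]
    exact congrArg l (Subtype.ext hab)
  have hmem : (m : ℤ) ∈ scalarDegrees σ := by
    refine eigen_mem_scalarDegrees σ E hsup μ (fun g hg s hs => ?_) ?_
    · refine Subtype.ext ?_
      have h := congrArg Subtype.val (hMc ⟨g, hg⟩ ⟨s, hs⟩ s.2)
      show g * (s : G) * g⁻¹ = s
      rw [show g * (s : G) = s * g from h, mul_inv_cancel_right]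
    · rw [← hm, Cfsg.classInner]
      congr 1
      refine Finset.sum_congr rfl fun s _ => ?_
      have hconj : conj ((φ : N.subgroupOf E → ℂ) s) = (((l s)⁻¹ : ℂˣ) : ℂ) := by
        rw [← IsIrr.map_inv φ.2 s, hl]
        simp
      rw [hσc, hμM, hconj, mul_comm]
  obtain ⟨ρ, hρ⟩ := extension_of_degrees σ hinv' fun q hq => by
    by_cases hqp : q = p
    · subst hqp
      exact ⟨m, hmem, fun h => hmp (Int.natCast_dvd_natCast.1 h)⟩
    · obtain ⟨k0, hk0⟩ := hind
      refine ⟨_, index_mem_scalarDegrees σ hinv' N le_rfl σ fun n => rfl, fun h => hqp ?_⟩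
      rw [Int.natCast_dvd_natCast, hk0] at h
      exact (Nat.prime_dvd_prime_iff_eq hq hp.out).1 (hq.dvd_of_dvd_pow h)
  haveI : ρ.IsIrreducible := isIrreducible_of_restrict ρ N.subtype σ hρ
  refine ⟨ρ.character, isIrrCharacter_rep ρ, fun n => ?_⟩
  rw [← hσc]
  simp [Representation.character, hρ]

end CfsgLib.Char.Exceptional.CentralSylow
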