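import Mathlib
import Cfsg.Agent.Lib.Char.CliffordCorr
import Cfsg.Agent.Lib.Char.AbelianInertia

/-! Restriction of an invariant irreducible character across an abelian chief factor. -/

set_option autoImplicit false

open scoped ComplexConjugate

namespace CfsgLib.Char.Exceptional

open CfsgLib.Char CfsgLib.Clifford CfsgLib.Gallagher

variable {K : Type*} [Group K] [Fintype K] {M : Subgroup K} [Fintype M] [hM : M.Normal]

/-- If the support of `ϑ` together with `M` generates everything, the restriction is irreducible. -/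
theorem restrict_irr_of_support (hab : ∀ x y : K, x * y * x⁻¹ * y⁻¹ ∈ M) {ϑ : K → ℂ}
    (hϑ : Cfsg.IsIrrCharacter K ϑ) (hsupp : Subgroup.closure ((M : Set K) ∪ {x | ϑ x ≠ 0}) = ⊤) :
    Cfsg.IsIrrCharacter M (fun m : M => ϑ m) := by
  classical
  have := Fintype.ofFinite (Cfsg.IrrCharacter (K ⧸ M))
  refine IsChar.isIrr_of_classInner_eq_one (IsChar.restrict M (IsIrr.isCharacter hϑ)) ?_
  rw [← frobenius_reciprocity M _ (IsIrr.isClassFunction hϑ),
    indFun_restrict_eq_sum (IsIrr.isClassFunction hϑ), classInner_sum_left,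
    Finset.sum_eq_single (trivChar (K ⧸ M))]
  · rw [classInner_smul_left, trivChar_apply, one_mul]
    have he : twistBy ϑ ((trivChar (K ⧸ M) : Cfsg.IrrCharacter (K ⧸ M)) : K ⧸ M → ℂ) = ϑ := by
      funext g; rw [twistBy_apply, trivChar_apply, one_mul]
    rw [he]
    exact classInner_irr_self ⟨ϑ, hϑ⟩
  · intro β _ hβ
    have hcomm : ∀ a b : K ⧸ M, a * b = b * a := by
      intro a b
      induction a using QuotientGroup.induction_on with
      | H x =>
        induction b using QuotientGroup.induction_on with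
        | H y =>
          rw [← QuotientGroup.mk_mul, ← QuotientGroup.mk_mul, QuotientGroup.eq]
          have h := hab y⁻¹ x⁻¹
          rwa [show y⁻¹ * x⁻¹ * y⁻¹⁻¹ * x⁻¹⁻¹ = (x * y)⁻¹ * (y * x) by group] at h
    obtain ⟨L, hL⟩ := exists_linear_of_degree_one (IsIrr.isCharacter β.2)
      (apply_one_eq_one_of_commute hcomm β)
    have hchar : Cfsg.IsCharacter K (twistBy ϑ (β : K ⧸ M → ℂ)) :=
      isCharacter_twistBy (IsIrr.isCharacter hϑ) (IsIrr.isCharacter β.2)
    have hnorm : ∀ g : K ⧸ M, ((L g : ℂ)) * conj ((L g : ℂ)) = 1 := by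
      intro g
      rw [Complex.mul_conj, Complex.normSq_eq_norm_sq,
        Complex.norm_eq_one_of_pow_eq_one (n := orderOf g) ?_ (orderOf_pos g).ne']
      · simp
      · rw [← Units.val_pow_eq_pow_val, ← map_pow, pow_orderOf_eq_one, map_one, Units.val_one]
    have hirr : Cfsg.IsIrrCharacter K (twistBy ϑ (β : K ⧸ M → ℂ)) := by
      refine IsChar.isIrr_of_classInner_eq_one hchar ?_
      refine Eq.trans ?_ (classInner_irr_self ⟨ϑ, hϑ⟩)
      simp only [Cfsg.classInner, twistBy_apply, map_mul, hL]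
      congr 1
      refine Finset.sum_congr rfl fun t _ => ?_
      linear_combination (ϑ t * conj (ϑ t)) * hnorm (QuotientGroup.mk' M t)
    rw [classInner_smul_left]
    refine mul_eq_zero_of_right _ (classInner_irr_of_ne (χ := ⟨_, hirr⟩) (ψ := ⟨ϑ, hϑ⟩) fun h => hβ ?_)
    have heq : twistBy ϑ (β : K ⧸ M → ℂ) = ϑ := congrArg Subtype.val h
    have hker : ∀ g : K, L (QuotientGroup.mk' M g) = 1 := by
      have hle : Subgroup.closure ((M : Set K) ∪ {x | ϑ x ≠ 0}) ≤ (L.comp (QuotientGroup.mk' M)).ker := by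
        rw [Subgroup.closure_le]
        rintro x (hx | hx)
        · show L (QuotientGroup.mk' M x) = 1
          rw [show QuotientGroup.mk' M x = 1 from (QuotientGroup.eq_one_iff x).2 hx, map_one]
        · have h1 := congrFun heq x
          rw [twistBy_apply, hL] at h1
          exact Units.ext (mul_eq_right₀ hx |>.1 h1)
      rw [hsupp] at hle
      exact fun g => hle (Subgroup.mem_top g)
    refine irr_ext fun q => ?_
    obtain ⟨g, rfl⟩ := QuotientGroup.mk'_surjective M q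
    rw [hL, trivChar_apply]
    exact (congrArg Units.val (hker g)).trans Units.val_one
  · exact fun h => absurd (Finset.mem_univ _) h

omit hM in
/-- If `ϑ` vanishes off `M` then its restriction has norm the index. -/
theorem classInner_restrict_of_vanish {ϑ : K → ℂ} (hϑ : Cfsg.IsIrrCharacter K ϑ)
    (hvan : ∀ x, x ∉ M → ϑ x = 0) :
    Cfsg.classInner (fun m : M => ϑ m) (fun m : M => ϑ m) = (M.index : ℂ) := by
  classical
  have h1 : Cfsg.classInner ϑ ϑ = 1 := classInner_irr_self ⟨ϑ, hϑ⟩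
  simp only [Cfsg.classInner] at h1 ⊢
  have hsum : ∑ m : M, ϑ m * conj (ϑ m) = ∑ x : K, ϑ x * conj (ϑ x) := by
    rw [← Finset.sum_subtype (Finset.univ.filter (· ∈ M)) (fun x => by simp) fun x => ϑ x * conj (ϑ x)]
    refine Finset.sum_subset (Finset.subset_univ _) fun x _ hx => ?_
    rw [hvan x (by simpa using hx), zero_mul]
  rw [hsum, ← mul_left_cancel₀ (inv_ne_zero (Nat.cast_ne_zero.2 Nat.card_pos.ne' : (Nat.card K : ℂ) ≠ 0))
    ((h1.trans (inv_mul_cancel₀ (Nat.cast_ne_zero.2 Nat.card_pos.ne' : (Nat.card K : ℂ) ≠ 0)).symm).symm),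
    ← M.index_mul_card, Nat.cast_mul]
  have : (Nat.card M : ℂ) ≠ 0 := Nat.cast_ne_zero.2 Nat.card_pos.ne'
  field_simp

/-- Norm of a restriction in Clifford form. -/
theorem classInner_restrict_clifford {ϑ : K → ℂ} (hϑ : Cfsg.IsIrrCharacter K ϑ) :
    ∃ (φ : M → ℂ) (c : ℕ) (F : Finset (M → ℂ)), Cfsg.IsIrrCharacter M φ ∧ 0 < c ∧
      Cfsg.classInner (fun m : M => ϑ m) φ ≠ 0 ∧
      (∀ ψ ∈ F, Cfsg.IsIrrCharacter M ψ) ∧ F.card = (inertia hM φ).index ∧
      (fun m : M => ϑ m) = (c : ℂ) • ∑ ψ ∈ F, ψ ∧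
      Cfsg.classInner (fun m : M => ϑ m) (fun m : M => ϑ m) = ((c ^ 2 * F.card : ℕ) : ℂ) ∧
      (∀ g, conjFn hM φ g ∈ F) ∧
      (∀ ψ ∈ F, ∃ g, conjFn hM φ g = ψ) := by
  classical
  have hne : (fun m : M => ϑ m) ≠ 0 := fun h =>
    IsIrr.apply_one_ne_zero hϑ (by simpa using congrFun h 1)
  obtain ⟨φ, hφ⟩ := exists_constituent (IsChar.isClassFunction (IsChar.restrict M (IsIrr.isCharacter hϑ))) hne
  obtain ⟨c, hc⟩ := IsChar.classInner_eq_natCast (IsChar.restrict M (IsIrr.isCharacter hϑ)) (IsIrr.isCharacter φ.2)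
  set F := Finset.univ.image (conjFn hM (φ : M → ℂ)) with hF
  have hFirr : ∀ ψ ∈ F, Cfsg.IsIrrCharacter M ψ := fun ψ hψ => by
    obtain ⟨g, -, rfl⟩ := Finset.mem_image.1 hψ
    exact isIrrCharacter_conjFn hM φ.2 g
  have hres : (fun m : M => ϑ m) = (c : ℂ) • ∑ ψ ∈ F, ψ := by
    have h := restrict_eq_smul_orbit_sum hM hϑ φ.2 hφ
    rw [hc] at h
    convert h
  refine ⟨φ, c, F, φ.2, Nat.pos_of_ne_zero fun h => hφ (by rw [hc, h, Nat.cast_zero]), hφ, hFirr,
    by convert card_orbit hM (φ : M → ℂ), hres, ?_, fun g => Finset.mem_image.2 ⟨g, Finset.mem_univ _, rfl⟩,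
    fun ψ hψ => by obtain ⟨g, -, hg⟩ := Finset.mem_image.1 hψ; exact ⟨g, hg⟩⟩
  rw [hres, classInner_smul_left, classInner_smul_right, classInner_sum_left,
    Finset.sum_congr rfl (g := fun _ => (1 : ℂ)) fun ψ hψ => ?_, Finset.sum_const, nsmul_eq_mul,
    mul_one, map_natCast]
  · push_cast; ring
  rw [classInner_sum_right, Finset.sum_eq_single ψ (fun ψ' hψ' hne' =>
    classInner_irr_of_ne (χ := ⟨ψ, hFirr ψ hψ⟩) (ψ := ⟨ψ', hFirr ψ' hψ'⟩)
      fun e => hne' (congrArg Subtype.val e).symm) (fun h => absurd hψ h)]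
  exact classInner_irr_self ⟨ψ, hFirr ψ hψ⟩

end CfsgLib.Char.Exceptional
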