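import Cfsg.Agent.Lib.Char.Exceptional.CoverTools
import Mathlib.FieldTheory.Finite.Basic

/-!
# No class of a `p`-element covers a coprime module, `p` odd

If a `p`-subgroup `P` (`p` odd) acts faithfully on an abelian normal `p'`-subgroup `V` and `a ∈ P` has
order `p`, some element of `V` commutes with no conjugate of `a` by the normaliser of `P`.
-/

set_option autoImplicit false

namespace CfsgLib.ClassCover

open Subgroup
open scoped commutatorElement Pointwise IsMulCommutative

variable {G : Type*} [Group G] [Finite G] {p : ℕ} [hp : Fact p.Prime]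
variable {V : Subgroup G} [hVn : V.Normal] [hVc : IsMulCommutative V]

/-- The product of the translates of `v` under `B`. -/
noncomputable def norm (B : Subgroup G) (v : V) : V :=
  letI := Fintype.ofFinite B
  ∏ b : B, MulAut.conjNormal (b : G) v

theorem norm_mul (B : Subgroup G) (v w : V) : norm B (v * w) = norm B v * norm B w := by
  letI := Fintype.ofFinite B
  simp only [norm, map_mul, Finset.prod_mul_distrib]

/-- The norm as a homomorphism. -/
noncomputable def normHom (B : Subgroup G) : V →* V := MonoidHom.mk' (norm B) (norm_mul B)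

theorem norm_conj (g : G) (B B' : Subgroup G) (hB : B' = MulAut.conj g • B) (v : V) :
    norm B' (MulAut.conjNormal g v) = MulAut.conjNormal g (norm B v) := by
  letI := Fintype.ofFinite B
  letI := Fintype.ofFinite B'
  simp only [norm, map_prod]
  refine (Fintype.prod_equiv ((Subgroup.equivSMul (MulAut.conj g) B).toEquiv.trans
    (Equiv.subtypeEquivRight fun x => by rw [hB])) _ _ fun b => ?_).symm
  show _ = MulAut.conjNormal (g * (b : G) * g⁻¹) (MulAut.conjNormal g v)
  rw [← MulAut.mul_apply, ← MulAut.mul_apply, ← map_mul, ← map_mul, inv_mul_cancel_right]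

theorem conjNormal_eq_iff (g : G) (v : V) : MulAut.conjNormal g v = v ↔ Commute g (v : G) := by
  rw [Subtype.ext_iff, MulAut.conjNormal_apply, mul_inv_eq_iff_eq_mul]
  rfl

theorem norm_fixed (B : Subgroup G) {b : G} (hb : b ∈ B) (v : V) :
    MulAut.conjNormal b (norm B v) = norm B v := by
  letI := Fintype.ofFinite B
  simp only [norm, map_prod]
  exact Fintype.prod_equiv (Equiv.mulLeft (⟨b, hb⟩ : B)) _ _ fun x => by
    simp [map_mul]

theorem norm_of_fixed (B : Subgroup G) (v : V) (h : ∀ b ∈ B, Commute b (v : G)) :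
    norm B v = v ^ Nat.card B := by
  letI := Fintype.ofFinite B
  simp only [norm]
  rw [Finset.prod_congr rfl fun (b : B) _ => (conjNormal_eq_iff (b : G) v).2 (h b b.2),
    Finset.prod_const, Finset.card_univ, Nat.card_eq_fintype_card]

theorem smul_eq_of_commute {b : G} {B : Subgroup G} (h : ∀ x ∈ B, Commute b x) :
    MulAut.conj b • B = B := by
  ext x
  rw [Subgroup.mem_pointwise_smul_iff_inv_smul_mem, ← map_inv, MulAut.smul_def, MulAut.conj_apply,
    inv_inv]
  constructor
  · intro hx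
    have e : b * (b⁻¹ * x * b) * b⁻¹ = b⁻¹ * x * b := by rw [(h _ hx).eq, mul_inv_cancel_right]
    rw [show b * (b⁻¹ * x * b) * b⁻¹ = x by group] at e
    rwa [← e] at hx
  · intro hx
    rwa [mul_assoc, ← (h x hx).eq, inv_mul_cancel_left]

theorem commute_of_pow (hcop : ¬ p ∣ Nat.card V) {M : Subgroup G} (hM : IsPGroup p M) (g : G) {v : V}
    (h : Commute g ((v ^ Nat.card M : V) : G)) : Commute g (v : G) := by
  obtain ⟨k, hk⟩ := IsPGroup.iff_card.1 hM
  have hc : (Nat.card V).Coprime (Nat.card M) := by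
    rw [hk]
    exact (((Nat.Prime.coprime_iff_not_dvd hp.out).2 hcop).pow_left k).symm
  rw [← conjNormal_eq_iff] at h ⊢
  exact (powCoprime hc).injective ((map_pow (MulAut.conjNormal g) v _).symm.trans h)

theorem index_facts {M B : Subgroup G} (hB : B ≤ M) (hi : B.relIndex M = p) :
    (∀ m ∈ M, m ∉ B → ∀ H : Subgroup G, B ≤ H → m ∈ H → M ≤ H) ∧ ¬ M ≤ B := by
  refine ⟨fun m hm hmB H hBH hmH => ?_, fun h => ?_⟩
  · rcases hp.out.eq_one_or_self_of_dvd _ (hi ▸ Dvd.intro_left _ (relIndex_mul_relIndex B (M ⊓ H) M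
      (le_inf hB hBH) inf_le_left) : (M ⊓ H).relIndex M ∣ p) with h | h
    · exact fun x hx => (relIndex_eq_one.1 h hx).2
    · have h' := relIndex_mul_relIndex B (M ⊓ H) M (le_inf hB hBH) inf_le_left
      rw [h, hi] at h'
      have h1 : B.relIndex (M ⊓ H) = 1 :=
        Nat.eq_of_mul_eq_mul_right hp.out.pos (h'.trans (one_mul p).symm)
      exact absurd (relIndex_eq_one.1 h1 ⟨hm, hmH⟩) hmB
  · rw [relIndex_eq_one.2 h] at hi
    exact hp.out.one_lt.ne hi

/-- The hyperplanes of `M` with fixed points outside those of `M`. -/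
def Supported (p : ℕ) (V M B : Subgroup G) : Prop :=
  B ≤ M ∧ B.relIndex M = p ∧ ¬ V ⊓ centralizer (B : Set G) ≤ centralizer (M : Set G)

theorem centralizes_of_mem_supported (hcop : ¬ p ∣ Nat.card V) {M : Subgroup G}
    (hM : Cfsg.IsElementaryAbelian p M) {m : G} (hm : m ∈ M)
    (h : ∀ B, Supported p V M B → m ∈ B) : ∀ v ∈ V, Commute m v := by
  have hle : M ≤ normalizer (V : Set G) := by rw [normalizer_eq_top]; exact le_top
  have key := CfsgLib.Signalizer.le_of_hyperplanes_le (Y := V ⊓ centralizer ({m} : Set G)) hM hcop hle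
    fun B hB hi => ?_
  · exact fun v hv => (mem_centralizer_singleton_iff.1 (key hv).2).symm
  rintro v ⟨hv, hvB⟩
  refine ⟨hv, mem_centralizer_singleton_iff.2 ?_⟩
  by_cases hBM : M ≤ B
  · exact (hvB m (hBM hm)).symm
  have hi' : B.relIndex M = p := by
    refine le_antisymm hi ?_
    have h1 : B.relIndex M ∣ Nat.card M := by
      rw [← relIndex_bot_left, ← relIndex_mul_relIndex ⊥ B M bot_le hB]
      exact Dvd.intro_left _ rfl
    obtain ⟨k, hk⟩ := IsPGroup.iff_card.1 (CfsgLib.Signalizer.elementary_isPGroup hM)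
    obtain ⟨j, -, hj⟩ := (Nat.dvd_prime_pow hp.out).1 (hk ▸ h1)
    rw [hj]
    exact Nat.le_self_pow (fun h0 => hBM (relIndex_eq_one.1 (by rw [hj, h0, pow_zero]))) p
  by_cases hs : V ⊓ centralizer (B : Set G) ≤ centralizer (M : Set G)
  · exact (hs ⟨hv, hvB⟩ m hm).symm
  · exact (hvB m (h B ⟨hB, hi', hs⟩)).symm

/-- An element supported exactly on a given set of hyperplanes. -/
theorem exists_with_support (hcop : ¬ p ∣ Nat.card V) {M : Subgroup G}
    (hM : Cfsg.IsElementaryAbelian p M) (S : Finset (Subgroup G))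
    (hS : ∀ B ∈ S, Supported p V M B) :
    ∃ v : V, ∀ B, Supported p V M B →
      (B ∈ S ↔ ∃ m ∈ M, ¬ Commute m ((norm B v : V) : G)) := by
  classical
  have hw : ∀ B, ∃ w : V, Supported p V M B →
      (∀ b ∈ B, Commute b (w : G)) ∧ ∃ m ∈ M, ¬ Commute m (w : G) := fun B => by
    by_cases h : Supported p V M B
    · obtain ⟨w, ⟨hwV, hwB⟩, hwM⟩ := SetLike.not_le_iff_exists.1 h.2.2
      refine ⟨⟨w, hwV⟩, fun _ => ⟨fun b hb => hwB b hb, ?_⟩⟩
      by_contra hcon
      push Not at hcon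
      exact hwM fun m hm => hcon m hm
    · exact ⟨1, fun h' => absurd h' h⟩
  choose w hw using hw
  refine ⟨∏ B ∈ S, w B, fun B hB => ?_⟩
  have hother : ∀ B' ∈ S, B' ≠ B → ∀ m ∈ M,
      MulAut.conjNormal m (norm B (w B')) = norm B (w B') := by
    intro B' hB' hne m hm
    have hB'' := hS B' hB'
    obtain ⟨b, hb, hbB⟩ : ∃ b ∈ B', b ∉ B := by
      by_contra hcon
      push Not at hcon
      refine hne (eq_of_le_of_card_ge hcon (le_of_eq ?_))
      have h1 := relIndex_mul_relIndex ⊥ B M bot_le hB.1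
      have h2 := relIndex_mul_relIndex ⊥ B' M bot_le hB''.1
      rw [relIndex_bot_left, relIndex_bot_left, hB.2.1] at h1
      rw [relIndex_bot_left, relIndex_bot_left, hB''.2.1] at h2
      exact Nat.eq_of_mul_eq_mul_right hp.out.pos (h1.trans h2.symm)
    let H : Subgroup G :=
      { carrier := {g | MulAut.conjNormal g (norm B (w B')) = norm B (w B')}
        one_mem' := by simp
        mul_mem' := fun {x y} (hx : _ = _) (hy : _ = _) => by
          show MulAut.conjNormal (x * y) _ = _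
          rw [map_mul, MulAut.mul_apply, hy, hx]
        inv_mem' := fun {x} (hx : _ = _) => by
          show MulAut.conjNormal x⁻¹ _ = _
          conv_lhs => rw [← hx]
          rw [← MulAut.mul_apply, ← map_mul, inv_mul_cancel, map_one]
          rfl }
    refine (index_facts hB.1 hB.2.1).1 b (hB''.1 hb) hbB H (fun x hx => norm_fixed B hx _) ?_ hm
    show MulAut.conjNormal b (norm B (w B')) = norm B (w B')
    have hcomm : MulAut.conj b • B = B := smul_eq_of_commute fun x hx =>
      congrArg Subtype.val (hM.1.is_comm.comm (⟨b, hB''.1 hb⟩ : M) ⟨x, hB.1 hx⟩)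
    rw [← norm_conj b B B hcomm.symm, (conjNormal_eq_iff b _).2 ((hw B' hB'').1 b hb)]
  by_cases hBS : B ∈ S
  · refine iff_of_true hBS ?_
    obtain ⟨m, hm, hmw⟩ := (hw B hB).2
    refine ⟨m, hm, fun hc => hmw ?_⟩
    refine commute_of_pow hcop ((CfsgLib.Signalizer.elementary_isPGroup hM).to_le hB.1) m
      ((conjNormal_eq_iff m _).1 ?_)
    have h := (conjNormal_eq_iff m _).2 hc
    rw [← normHom_apply B, map_prod, ← Finset.mul_prod_erase S _ hBS, map_mul, map_prod] at h
    rw [Finset.prod_congr rfl (fun B' hB' => show MulAut.conjNormal m (normHom B (w B')) = normHom B (w B')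
      from hother B' (Finset.mem_of_mem_erase hB') (Finset.ne_of_mem_erase hB') m hm)] at h
    have h' := mul_right_cancel h
    rwa [normHom_apply, norm_of_fixed B _ (hw B hB).1] at h'
  · refine iff_of_false hBS ?_
    rintro ⟨m, hm, hc⟩
    refine hc ((conjNormal_eq_iff m _).1 ?_)
    rw [← normHom_apply B, map_prod, map_prod]
    exact Finset.prod_congr rfl fun B' hB' => hother B' hB' (fun e => hBS (e ▸ hB')) m hm
where
  normHom_apply (B : Subgroup G) {v : V} : normHom B v = norm B v := rfl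

theorem support_conj {M : Subgroup G} {g : G} (hgM : MulAut.conj g • M = M) {B : Subgroup G}
    (h : Supported p V M B) : Supported p V M (MulAut.conj g • B) := by
  refine ⟨?_, ?_, fun hle => h.2.2 ?_⟩
  · rw [← hgM]; exact Subgroup.pointwise_smul_le_pointwise_smul_iff.2 h.1
  · conv_lhs => rw [← hgM]
    rw [relIndex_pointwise_smul, h.2.1]
  · rintro x ⟨hxV, hxB⟩ m hm
    have h1 : g * x * g⁻¹ ∈ V ⊓ centralizer ((MulAut.conj g • B : Subgroup G) : Set G) := by
      refine ⟨hVn.conj_mem x hxV g, ?_⟩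
      rintro _ ⟨b, hb, rfl⟩
      show g * b * g⁻¹ * (g * x * g⁻¹) = g * x * g⁻¹ * (g * b * g⁻¹)
      rw [show g * b * g⁻¹ * (g * x * g⁻¹) = g * (b * x) * g⁻¹ by group, hxB b hb]
      group
    have h2 := hle h1 (g * m * g⁻¹) (hgM ▸ ⟨m, hm, rfl⟩)
    rw [show g * m * g⁻¹ * (g * x * g⁻¹) = g * (m * x) * g⁻¹ by group,
      show g * x * g⁻¹ * (g * m * g⁻¹) = g * (x * m) * g⁻¹ by group] at h2
    exact mul_left_cancel (mul_right_cancel h2)

/-- An element fixing a vector preserves its support. -/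
theorem support_stable {M : Subgroup G} {g : G} (hgM : MulAut.conj g • M = M) {v : V}
    (hg : Commute g (v : G)) {B : Subgroup G}
    (h : ∃ m ∈ M, ¬ Commute m ((norm B v : V) : G)) :
    ∃ m ∈ M, ¬ Commute m ((norm (MulAut.conj g • B) v : V) : G) := by
  obtain ⟨m, hm, hnc⟩ := h
  refine ⟨g * m * g⁻¹, hgM ▸ ⟨m, hm, rfl⟩, fun hc => hnc ?_⟩
  have e : norm (MulAut.conj g • B) v = MulAut.conjNormal g (norm B v) := by
    conv_lhs => rw [← (conjNormal_eq_iff g v).2 hg]
    exact norm_conj g B _ rfl v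
  rw [e, MulAut.conjNormal_apply] at hc
  have h' := hc.eq
  rw [show g * m * g⁻¹ * (g * (norm B v : V) * g⁻¹) = g * (m * (norm B v : V)) * g⁻¹ by group,
    show g * (norm B v : V) * g⁻¹ * (g * m * g⁻¹) = g * ((norm B v : V) * m) * g⁻¹ by group] at h'
  exact mul_left_cancel (mul_right_cancel h')

/-- An element of a `p`-group fixing every supported hyperplane centralises `M` modulo the kernel. -/
theorem mem_of_fix_all {M : Subgroup G} (hM : Cfsg.IsElementaryAbelian p M) {g : G} {k : ℕ}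
    (hg : g ^ p ^ k = 1) (hgM : MulAut.conj g • M = M)
    (hfix : ∀ B, Supported p V M B → MulAut.conj g • B = B) {m : G} (hm : m ∈ M) :
    ∀ B, Supported p V M B → ⁅g, m⁆ ∈ B := by
  intro B hB
  have hfB := hfix B hB
  have hgm : ∀ x ∈ M, g * x * g⁻¹ ∈ M := fun x hx => hgM ▸ ⟨x, hx, rfl⟩
  have hcB : ∀ x ∈ B, g * x * g⁻¹ ∈ B := fun x hx => hfB ▸ ⟨x, hx, rfl⟩
  rw [commutatorElement_def]
  by_cases hmB : m ∈ B
  · exact B.mul_mem (hcB m hmB) (B.inv_mem hmB)
  -- `M` modulo `B` is generated by `m`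
  have hgen : ∀ x ∈ M, ∃ i : ℕ, x * (m ^ i)⁻¹ ∈ B := by
    intro x hx
    let H : Subgroup G :=
      { carrier := {y | y ∈ M ∧ ∃ i : ℕ, y * (m ^ i)⁻¹ ∈ B}
        one_mem' := ⟨M.one_mem, 0, by simp⟩
        mul_mem' := by
          rintro a b ⟨ha, i, hi⟩ ⟨hb, j, hj⟩
          refine ⟨M.mul_mem ha hb, i + j, ?_⟩
          have hc : Commute (b * (m ^ j)⁻¹) (m ^ i)⁻¹ :=
            congrArg Subtype.val (hM.1.is_comm.comm (⟨_, hB.1 hj⟩ : M) ⟨_, M.inv_mem (M.pow_mem hm i)⟩)
          rw [pow_add, mul_inv_rev, show a * b * ((m ^ j)⁻¹ * (m ^ i)⁻¹) =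
            a * ((b * (m ^ j)⁻¹) * (m ^ i)⁻¹) by group, hc.eq, ← mul_assoc]
          exact B.mul_mem hi hj
        inv_mem' := by
          rintro a ⟨ha, i, hi⟩
          refine ⟨M.inv_mem ha, i * (p - 1), ?_⟩
          have hc : Commute a⁻¹ (m ^ i) :=
            congrArg Subtype.val (hM.1.is_comm.comm (⟨_, M.inv_mem ha⟩ : M) ⟨_, M.pow_mem hm i⟩)
          have e : (m ^ (i * (p - 1)))⁻¹ = m ^ i := by
            rw [inv_eq_iff_mul_eq_one, ← pow_add, show i * (p - 1) + i = p * i by
              obtain ⟨q, hq⟩ : ∃ q, p = q + 1 := ⟨p - 1, by have := hp.out.pos; omega⟩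
              rw [hq, Nat.add_sub_cancel]; ring, pow_mul, hM.2 m hm, one_pow]
          rw [e, hc.eq]
          simpa using B.inv_mem hi }
    exact ((index_facts hB.1 hB.2.1).1 m hm hmB H (fun y hy => ⟨hB.1 hy, 0, by simpa using hy⟩)
      ⟨hm, 1, by simp⟩ hx).2
  obtain ⟨i, hi⟩ := hgen _ (hgm m hm)
  -- iterate
  have hit : ∀ j : ℕ, g ^ j * m * (g ^ j)⁻¹ * (m ^ (i ^ j))⁻¹ ∈ B := by
    intro j
    induction j with
    | zero => simp
    | succ j ih =>
      have h1 := hcB _ ih
      have h2 : g * (g ^ j * m * (g ^ j)⁻¹ * (m ^ i ^ j)⁻¹) * g⁻¹ =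
          (g ^ (j + 1) * m * (g ^ (j + 1))⁻¹) * ((g * m * g⁻¹) ^ (i ^ j))⁻¹ := by
        rw [conj_pow, pow_succ' g]; group
      have hc : Commute (g * m * g⁻¹) (m ^ i)⁻¹ :=
        congrArg Subtype.val (hM.1.is_comm.comm (⟨_, hgm m hm⟩ : M) ⟨_, M.inv_mem (M.pow_mem hm i)⟩)
      have h3 : ((g * m * g⁻¹) ^ (i ^ j)) * (m ^ (i ^ (j + 1)))⁻¹ ∈ B := by
        have h := B.pow_mem hi (i ^ j)
        rwa [hc.mul_pow, inv_pow, ← pow_mul, ← pow_succ'] at h
      have h := B.mul_mem h1 h3
      rw [h2, mul_assoc, inv_mul_cancel_left] at h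
      exact h
  have hk := hit (p ^ k)
  rw [hg, one_mul, inv_one, mul_one] at hk
  have hi1 : (i : ZMod p) = 1 := by
    have hz' : ∀ n : ℕ, ((i : ZMod p)) ^ p ^ n = i := fun n => by
      induction n with
      | zero => simp
      | succ n ih => rw [pow_succ, pow_mul, ih, ZMod.pow_card]
    have hz := hz' k
    by_contra hne
    have hnd : ¬ (p : ℤ) ∣ (1 - (i ^ p ^ k : ℕ) : ℤ) := fun h => by
      have h' := (ZMod.intCast_zmod_eq_zero_iff_dvd _ p).2 h
      push_cast at h'
      rw [hz, sub_eq_zero] at h'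
      exact hne h'.symm
    refine hmB ?_
    have hco : IsCoprime (p : ℤ) (1 - (i ^ p ^ k : ℕ) : ℤ) :=
      (Nat.prime_iff_prime_int.1 hp.out).coprime_iff_not_dvd.2 hnd
    obtain ⟨x, y, hxy⟩ := hco
    have : m = (m ^ (p : ℤ)) ^ x * (m ^ (1 - (i ^ p ^ k : ℕ) : ℤ)) ^ y := by
      rw [← zpow_mul, ← zpow_mul, ← zpow_add, mul_comm (p : ℤ), mul_comm (1 - _ : ℤ), hxy, zpow_one]
    rw [this, zpow_natCast, hM.2 m hm, one_zpow, one_mul, zpow_sub, zpow_one, zpow_natCast]
    exact B.zpow_mem hk y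
  obtain ⟨q, hq⟩ : ∃ q, i = q * p + 1 := by
    have h : i % p = 1 := by
      have := congrArg ZMod.val hi1
      rwa [ZMod.val_natCast, ZMod.val_one] at this
    exact ⟨i / p, by rw [mul_comm, ← h]; exact (Nat.div_add_mod i p).symm⟩
  rwa [hq, pow_succ, pow_mul', hM.2 m hm, one_pow, one_mul] at hi

/-- Fixed-point free vectors for groups of class two and exponent `p`. -/
theorem exists_regular_class_two (hp2 : p ≠ 2) (hcop : ¬ p ∣ Nat.card V) (E : Subgroup G)
    (hexp : ∀ x ∈ E, x ^ p = 1) (hcl : ∀ x ∈ E, ∀ y ∈ E, ∀ z ∈ E, ⁅x, y⁆ * z = z * ⁅x, y⁆)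
    (hfaith : ∀ x ∈ E, (∀ v ∈ V, Commute x v) → x = 1) :
    ∃ v : V, ∀ x ∈ E, Commute x (v : G) → x = 1 := by
  classical
  haveI := Fintype.ofFinite (Subgroup G)
  obtain ⟨B, hBmem, hBmax'⟩ := Finset.exists_max_image
    (Finset.univ.filter fun B : Subgroup G => B ≤ E ∧ IsMulCommutative B) (fun B => Nat.card B)
    ⟨⊥, Finset.mem_filter.2 ⟨Finset.mem_univ _, bot_le, inferInstance⟩⟩
  obtain ⟨hBE, hBc⟩ := (Finset.mem_filter.1 hBmem).2
  have hBmax : ∀ B' : Subgroup G, B' ≤ E → IsMulCommutative B' → Nat.card B' ≤ Nat.card B :=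
    fun B' h1 h2 => hBmax' B' (Finset.mem_filter.2 ⟨Finset.mem_univ _, h1, h2⟩)
  have hB : Cfsg.IsElementaryAbelian p B := ⟨hBc, fun b hb => hexp b (hBE hb)⟩
  have hmax : ∀ x ∈ E, (∀ b ∈ B, Commute x b) → x ∈ B := by
    intro x hx hxB
    have hab : IsMulCommutative (B ⊔ zpowers x : Subgroup G) := by
      rw [← closure_eq B, zpowers_eq_closure, ← Subgroup.closure_union]
      refine Subgroup.isMulCommutative_closure ?_
      rintro a (ha | rfl) b (hb | rfl)
      · exact congrArg Subtype.val (hBc.is_comm.comm (⟨a, ha⟩ : B) ⟨b, hb⟩)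
      · exact (hxB a ha).eq.symm
      · exact (hxB b hb).eq
      · rfl
    have := eq_of_le_of_card_ge (le_sup_left (b := zpowers x))
      (hBmax _ (sup_le hBE (zpowers_le.2 hx)) hab)
    exact this ▸ mem_sup_right (mem_zpowers x)
  have hcomm : ∀ x ∈ E, ∀ y ∈ E, ⁅x, y⁆ ∈ B := fun x hx y hy =>
    hmax _ (by rw [commutatorElement_def]; exact E.mul_mem (E.mul_mem (E.mul_mem hx hy) (E.inv_mem hx)) (E.inv_mem hy))
      fun b hb => hcl x hx y hy b (hBE hb)
  have hnorm : ∀ x ∈ E, MulAut.conj x • B = B := fun x hx => by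
    refine eq_of_le_of_card_ge ?_ (le_of_eq (Nat.card_congr (Subgroup.equivSMul (MulAut.conj x) B).toEquiv))
    rintro _ ⟨b, hb, rfl⟩
    show x * b * x⁻¹ ∈ B
    rw [show x * b * x⁻¹ = ⁅x, b⁆ * b by rw [commutatorElement_def]; group]
    exact B.mul_mem (hcomm x hx b (hBE hb)) hb
  have hBfix : ∀ b ∈ B, ∀ D : Subgroup G, D ≤ B → MulAut.conj b • D = D := fun b hb D hD =>
    smul_eq_of_commute fun x hx =>
      congrArg Subtype.val (hBc.is_comm.comm (⟨b, hb⟩ : B) ⟨x, hD hx⟩)
  -- orbit representatives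
  let act : MulAction E (Subgroup G) := MulAction.compHom _ (MulAut.conj.comp E.subtype)
  have hact : ∀ (x : E) (D : Subgroup G), x • D = MulAut.conj (x : G) • D := fun _ _ => rfl
  let rp : Subgroup G → Subgroup G := fun D =>
    (Quotient.mk (MulAction.orbitRel E (Subgroup G)) D).out
  have hrp : ∀ D, ∃ x : E, x • rp D = D := fun D => by
    have := Quotient.mk_out (s := MulAction.orbitRel E (Subgroup G)) D
    obtain ⟨x, hx⟩ := MulAction.orbitRel_apply.1 this
    exact ⟨x⁻¹, inv_smul_eq_iff.2 hx.symm⟩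
  have hrpinv : ∀ (x : E) D, rp (x • D) = rp D := fun x D => by
    show Quotient.out _ = Quotient.out _
    congr 1
    exact Quotient.sound (MulAction.orbitRel_apply.2 ⟨x, rfl⟩)
  let S : Finset (Subgroup G) := Finset.univ.filter fun D =>
    Supported p V B D ∧ (D ≠ rp D ∨ ∀ x : E, x • D = D)
  obtain ⟨v, hv⟩ := exists_with_support (p := p) hcop hB S fun D hD => (Finset.mem_filter.1 hD).2.1
  refine ⟨v, fun x hx hxv => ?_⟩
  let xE : E := ⟨x, hx⟩
  have hsupp : ∀ (y : E) D, Supported p V B D → Supported p V B (y • D) := fun y D hD =>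
    support_conj (hnorm y y.2) hD
  have hSx : ∀ D ∈ S, xE • D ∈ S := fun D hD => by
    have hD' := (Finset.mem_filter.1 hD).2.1
    exact (hv _ (hsupp xE D hD')).2 (support_stable (hnorm x hx) hxv ((hv D hD').1 hD))
  have hSx' : ∀ D, xE • D ∈ S → D ∈ S := fun D hD => by
    have : S.image (fun D => xE • D) = S := Finset.eq_of_subset_of_card_le
      (Finset.image_subset_iff.2 hSx) (by rw [Finset.card_image_of_injective _ (MulAction.injective xE)])
    rw [← this] at hD
    obtain ⟨D', hD', he⟩ := Finset.mem_image.1 hD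
    rwa [← MulAction.injective xE he]
  have hxfix : ∀ D, Supported p V B D → xE • D = D := by
    intro D hD
    by_cases htriv : ∀ y : E, y • D = D
    · exact htriv xE
    obtain ⟨y, hy⟩ := hrp D
    have hr : Supported p V B (rp D) := by
      rw [show rp D = y⁻¹ • D by rw [eq_inv_smul_iff, hy]]
      exact hsupp _ D hD
    have hrr : rp (rp D) = rp D := by
      have := hrpinv y (rp D)
      rw [hy] at this
      exact this.symm
    have hrS : rp D ∉ S := fun h => by
      rcases (Finset.mem_filter.1 h).2.2 with h' | h'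
      · exact h' hrr.symm
      · refine htriv fun z => ?_
        rw [← hy, ← mul_smul, h', h']
    have hfix : xE • rp D = rp D := by
      by_contra hne
      refine hrS (hSx' _ (Finset.mem_filter.2 ⟨Finset.mem_univ _, hsupp _ _ hr, Or.inl ?_⟩))
      rw [hrpinv, hrr]
      exact hne
    have hcom : xE * y = ⟨⁅x, (y : G)⁆, E.mul_mem (E.mul_mem (E.mul_mem hx y.2) (E.inv_mem hx))
        (E.inv_mem y.2)⟩ * (y * xE) :=
      Subtype.ext (by show x * (y : G) = ⁅x, (y : G)⁆ * ((y : G) * x); rw [commutatorElement_def]; group)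
    conv_lhs => rw [← hy]
    rw [← mul_smul, hcom, mul_smul, mul_smul, hfix, hy, hact]
    exact hBfix _ (hcomm x hx y y.2) D hD.1
  have hxB : x ∈ B := hmax x hx fun b hb => by
    refine commutatorElement_eq_one_iff_commute.1 (hfaith _ (hBE (hcomm x hx b (hBE hb))) ?_)
    refine centralizes_of_mem_supported hcop hB (hcomm x hx b (hBE hb)) fun D hD => ?_
    exact mem_of_fix_all hB (g := x) (k := 1) (by rw [pow_one]; exact hexp x hx) (hnorm x hx)
      (fun D hD => hxfix D hD) hb D hD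
  refine hfaith x hx (centralizes_of_mem_supported hcop hB hxB fun D hD => ?_)
  have hin : ∀ D ∈ S, x ∈ D := by
    intro D hD
    obtain ⟨hDs, -⟩ := (Finset.mem_filter.1 hD).2
    obtain ⟨m, hm, hmv⟩ := (hv D hDs).1 hD
    by_contra hxD
    refine hmv ?_
    have hfixn : MulAut.conjNormal x (norm D v) = norm D v := by
      rw [← norm_conj x D D (hBfix x hxB D hDs.1).symm, (conjNormal_eq_iff x v).2 hxv]
    have hle : B ≤ centralizer ({((norm D v : V) : G)} : Set G) :=
      (index_facts hDs.1 hDs.2.1).1 x hxB hxD _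
        (fun d hd => mem_centralizer_singleton_iff.2 ((conjNormal_eq_iff d _).1 (norm_fixed D hd v)).eq)
        (mem_centralizer_singleton_iff.2 ((conjNormal_eq_iff x _).1 hfixn).eq)
    exact mem_centralizer_singleton_iff.1 (hle hm)
  by_cases htriv : ∀ y : E, y • D = D
  · exact hin D (Finset.mem_filter.2 ⟨Finset.mem_univ _, hD, Or.inr htriv⟩)
  by_cases hDr : D ≠ rp D
  · exact hin D (Finset.mem_filter.2 ⟨Finset.mem_univ _, hD, Or.inl hDr⟩)
  push Not at hDr
  push Not at htriv
  obtain ⟨y, hy⟩ := htriv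
  have hy2 : (y * y) • D ≠ D := fun h => by
    refine hy ?_
    have hy1 : y ^ p = 1 := Subtype.ext (hexp y y.2)
    obtain ⟨j, hj⟩ := hp.out.odd_of_ne_two hp2
    have h2 : ∀ i : ℕ, (y * y) ^ i • D = D := fun i => by
      induction i with
      | zero => simp
      | succ i ih => rw [pow_succ, mul_smul, h, ih]
    have h3 : (y * y) ^ (j + 1) = y := by
      rw [← pow_two, ← pow_mul, show 2 * (j + 1) = p + 1 by omega, pow_succ, hy1, one_mul]
    have := h2 (j + 1)
    rwa [h3] at this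
  have hmem : ∀ z : E, z • D ≠ D → (z : G)⁻¹ * x * z ∈ D := fun z hz => by
    have hS' : z • D ∈ S := Finset.mem_filter.2 ⟨Finset.mem_univ _, hsupp z D hD,
      Or.inl (by rw [hrpinv, ← hDr]; exact hz)⟩
    have h := hin _ hS'
    rw [hact, Subgroup.mem_pointwise_smul_iff_inv_smul_mem, ← map_inv, MulAut.smul_def,
      MulAut.conj_apply, inv_inv] at h
    exact h
  have h1 := hmem y hy
  have h2 := hmem (y * y) hy2
  set c := ⁅(y : G)⁻¹, x⁆ with hc
  have hyc : Commute c (y : G) := hcl _ (E.inv_mem y.2) x hx y y.2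
  have e1 : (y : G)⁻¹ * x * y = c * x := by rw [hc, commutatorElement_def, inv_inv]; group
  have e2 : ((y * y : E) : G)⁻¹ * x * (y * y : E) = c * (c * x) := by
    rw [Subgroup.coe_mul, mul_inv_rev, show (y : G)⁻¹ * (y : G)⁻¹ * x * ((y : G) * (y : G)) =
      (y : G)⁻¹ * ((y : G)⁻¹ * x * y) * y by group, e1, ← mul_assoc _ c, ← (hyc.inv_right).eq,
      mul_assoc c, mul_assoc c, e1]
  rw [e1] at h1
  rw [e2] at h2
  have hcD : c ∈ D := by simpa [mul_assoc] using D.mul_mem h2 (D.inv_mem h1)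
  simpa using D.mul_mem (D.inv_mem hcD) h1

theorem le_normalizer_centralizer_of_le_normalizer {M : Subgroup G} {g : G}
    (hg : g ∈ normalizer (M : Set G)) : g ∈ normalizer (centralizer (M : Set G) : Set G) := by
  have key : ∀ g ∈ normalizer (M : Set G), ∀ x ∈ centralizer (M : Set G),
      g * x * g⁻¹ ∈ centralizer (M : Set G) := by
    intro g hg x hx m hm
    have h1 : g⁻¹ * m * g ∈ M := ((mem_normalizer_iff'').1 hg m).1 hm
    calc m * (g * x * g⁻¹) = g * ((g⁻¹ * m * g) * x) * g⁻¹ := by group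
      _ = g * (x * (g⁻¹ * m * g)) * g⁻¹ := by rw [hx _ h1]
      _ = g * x * g⁻¹ * m := by group
  refine mem_normalizer_iff.2 fun x => ⟨key g hg x, fun h => ?_⟩
  have := key g⁻¹ (inv_mem hg) _ h
  rwa [inv_inv, show g⁻¹ * (g * x * g⁻¹) * g = x by group] at this

/-- The covering theorem. -/
theorem exists_not_commute (hp2 : p ≠ 2) (hcop : ¬ p ∣ Nat.card V) (P : Subgroup G)
    (hP : IsPGroup p P) (hfaith : ∀ x ∈ P, (∀ v ∈ V, Commute x v) → x = 1) {a : G} (ha : a ∈ P)
    (hap : a ^ p = 1) (ha1 : a ≠ 1) :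
    ∃ v : V, ∀ h ∈ normalizer (P : Set G), ¬ Commute (h * a * h⁻¹) (v : G) := by
  classical
  haveI := Fintype.ofFinite (Subgroup G)
  have hnP : ∀ g ∈ normalizer (P : Set G), ∀ x ∈ P, g * x * g⁻¹ ∈ P := fun g hg x hx =>
    ((mem_normalizer_iff).1 hg x).1 hx
  let good : Subgroup G → Prop := fun M => M ≤ P ∧ Cfsg.IsElementaryAbelian p M ∧
    normalizer (P : Set G) ≤ normalizer (M : Set G)
  obtain ⟨M, hMmem, hMmax'⟩ := Finset.exists_max_image
    (Finset.univ.filter good) (fun M => Nat.card M)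
    ⟨⊥, Finset.mem_filter.2 ⟨Finset.mem_univ _, bot_le, ⟨inferInstance, fun x hx => by
      rw [Subgroup.mem_bot.1 hx, one_pow]⟩, le_top.trans (normalizer_eq_top (H := (⊥ : Subgroup G))).ge⟩⟩
  obtain ⟨hMP, hMe, hMn⟩ := (Finset.mem_filter.1 hMmem).2
  have hMmax : ∀ M', good M' → Nat.card M' ≤ Nat.card M :=
    fun M' h' => hMmax' M' (Finset.mem_filter.2 ⟨Finset.mem_univ _, h'⟩)
  have hgM : ∀ g ∈ normalizer (P : Set G), MulAut.conj g • M = M := fun g hg =>
    Subgroup.mem_normalizer_iff_map_conj_eq.1 (hMn hg)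
  set C := P ⊓ centralizer (M : Set G) with hC
  have hnC : normalizer (P : Set G) ≤ normalizer (C : Set G) :=
    fun g hg => inf_normalizer_le_normalizer_inf ⟨hg, le_normalizer_centralizer_of_le_normalizer (hMn hg)⟩
  by_cases haC : a ∈ C
  · set E := closure {x | x ∈ C ∧ x ^ p = 1} with hE
    have hEC : E ≤ C := (closure_le _).2 fun x hx => hx.1
    have hME : M ≤ E := fun m hm => subset_closure ⟨⟨hMP hm, fun y hy =>
      congrArg Subtype.val (hMe.1.is_comm.comm (⟨y, hy⟩ : M) ⟨m, hm⟩)⟩, hMe.2 m hm⟩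
    have hnE : normalizer (P : Set G) ≤ normalizer (E : Set G) := by
      intro g hg
      rw [Subgroup.mem_normalizer_iff_map_conj_eq, hE, MonoidHom.map_closure]
      congr 1
      ext x
      constructor
      · rintro ⟨y, ⟨hy, hyp⟩, rfl⟩
        exact ⟨((mem_normalizer_iff).1 (hnC hg) y).1 hy, by rw [← map_pow, hyp, map_one]⟩
      · rintro ⟨hx, hxp⟩
        refine ⟨g⁻¹ * x * g, ⟨?_, ?_⟩, by simp [mul_assoc]⟩
        · exact ((mem_normalizer_iff'').1 (hnC hg) x).1 hx
        · have := conj_pow (a := g⁻¹) (b := x) (i := p)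
          rwa [inv_inv, hxp, mul_one, inv_mul_cancel] at this
    have hEP : IsPGroup p E := hP.to_le (hEC.trans inf_le_left)
    obtain ⟨hcl, hexp⟩ := class_two_of_central hp2 E hEP _ subset_closure (fun x hx => hx.2) rfl
      fun L hLE hL hLn => by
        have hLC := hLE.trans hEC
        have hLM : L ⊔ M = M := by
          refine (eq_of_le_of_card_ge le_sup_right (hMmax _ ⟨sup_le (hLC.trans inf_le_left) hMP,
            ⟨?_, ?_⟩, fun g hg => ?_⟩)).symm
          · rw [← closure_eq L, ← closure_eq M, ← Subgroup.closure_union]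
            refine Subgroup.isMulCommutative_closure ?_
            rintro x (hx | hx) y (hy | hy)
            · exact congrArg Subtype.val (hL.1.is_comm.comm (⟨x, hx⟩ : L) ⟨y, hy⟩)
            · exact ((hLC hx).2 y hy).symm
            · exact (hLC hy).2 x hx
            · exact congrArg Subtype.val (hMe.1.is_comm.comm (⟨x, hx⟩ : M) ⟨y, hy⟩)
          · intro x hx
            have hMnL : M ≤ normalizer (L : Set G) := fun m hm => by
              rw [mem_normalizer_iff]
              intro l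
              have hL' : ∀ l ∈ L, m * l * m⁻¹ = l := fun l hl => by
                rw [(hLC hl).2 m hm, mul_inv_cancel_right]
              refine ⟨fun hl => by rwa [hL' l hl], fun hl => ?_⟩
              have e : m * l * m⁻¹ = l := mul_left_cancel (mul_right_cancel (hL' _ hl))
              rwa [← e]
            obtain ⟨m, hm, l, hl, rfl⟩ := (CfsgLib.Core.mem_sup_iff_mul hMnL).1
              (sup_comm L M ▸ hx)
            rw [(show Commute m l from (hLC hl).2 m hm).mul_pow, hL.2 l hl, hMe.2 m hm, one_mul]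
          · rw [Subgroup.mem_normalizer_iff_map_conj_eq, Subgroup.map_sup,
              Subgroup.mem_normalizer_iff_map_conj_eq.1 (hLn (hnE hg)),
              Subgroup.mem_normalizer_iff_map_conj_eq.1 (hMn hg)]
        rw [Subgroup.commutator_eq_bot_iff_le_centralizer]
        exact fun l hl e he => ((hEC he).2 l (hLM ▸ mem_sup_left hl)).symm
    obtain ⟨v, hv⟩ := exists_regular_class_two hp2 hcop E hexp hcl fun x hx =>
      hfaith x (hEC hx).1
    refine ⟨v, fun h hh hc => ha1 ?_⟩
    have := hv _ (((mem_normalizer_iff).1 (hnE hh) a).1 (subset_closure ⟨haC, hap⟩)) hc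
    exact conj_eq_one_iff.1 this
  · let act : MulAction P (Subgroup G) := MulAction.compHom _ (MulAut.conj.comp P.subtype)
    let Y : Finset (Subgroup G) := Finset.univ.filter (Supported p V M)
    have hPn : P ≤ normalizer (P : Set G) := le_normalizer
    obtain ⟨S, hSY, hS⟩ := exists_regular_subset hp2 (X := Subgroup G) hP Y ⊤ fun g _ B hB =>
      Finset.mem_filter.2 ⟨Finset.mem_univ _, support_conj (hgM g (hPn g.2)) (Finset.mem_filter.1 hB).2⟩
    obtain ⟨v, hv⟩ := exists_with_support (p := p) hcop hMe S fun B hB => (Finset.mem_filter.1 (hSY hB)).2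
    refine ⟨v, fun h hh hc => haC ⟨ha, ?_⟩⟩
    set x := h * a * h⁻¹ with hx
    have hxP : x ∈ P := hnP h hh a ha
    have hfix := hS ⟨x, hxP⟩ (mem_top _) fun B hB => by
      have hB' := (Finset.mem_filter.1 (hSY hB)).2
      exact (hv _ (support_conj (hgM x (hPn hxP)) hB')).2
        (support_stable (hgM x (hPn hxP)) hc ((hv B hB').1 hB))
    have hxM : ∀ m ∈ M, Commute x m := fun m hm => by
      have hmem : ⁅x, m⁆ ∈ M := by
        rw [commutatorElement_def]
        exact M.mul_mem (hgM x (hPn hxP) ▸ ⟨m, hm, rfl⟩) (M.inv_mem hm)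
      refine commutatorElement_eq_one_iff_commute.1 (hfaith _ (hMP hmem) ?_)
      refine centralizes_of_mem_supported hcop hMe hmem (mem_of_fix_all hMe (k := 1) ?_
        (hgM x (hPn hxP)) (fun B hB => hfix B (Finset.mem_filter.2 ⟨Finset.mem_univ _, hB⟩)) hm)
      rw [pow_one, hx, conj_pow, hap, mul_one, mul_inv_cancel]
    have hxC : x ∈ C := ⟨hxP, fun m hm => (hxM m hm).symm⟩
    have := ((mem_normalizer_iff).1 (hnC hh) a).2 hxC
    exact this.2

end CfsgLib.ClassCover
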