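import Mathlib
import Cfsg.Agent.Lib.Char.Exceptional.Coherence3

/-! Extending coherence by one conjugate pair. -/

set_option autoImplicit false

open scoped ComplexConjugate
open Finset

namespace CfsgLib.Char.Exceptional

open CfsgLib.Char

variable {L : Type*} [Group L] [Fintype L] {G : Type*} [Group G] [Fintype G]

omit [Fintype G] in
theorem oMap_add {T : Finset (L → ℂ)} {v : (L → ℂ) → (G → ℂ)} (f g : L → ℂ) :
    oMap T v (f + g) = oMap T v f + oMap T v g := extMap_add f g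

omit [Fintype G] in
theorem oMap_sub {T : Finset (L → ℂ)} {v : (L → ℂ) → (G → ℂ)} (f g : L → ℂ) :
    oMap T v (f - g) = oMap T v f - oMap T v g := extMap_sub f g

omit [Fintype G] in
theorem oMap_smul {T : Finset (L → ℂ)} {v : (L → ℂ) → (G → ℂ)} (c : ℂ) (f : L → ℂ) :
    oMap T v (c • f) = c • oMap T v f := extMap_smul c f

theorem IsOrthFamily.subset {T U : Finset (L → ℂ)} (hT : IsOrthFamily T) (h : U ⊆ T) : IsOrthFamily U :=
  ⟨fun ξ hξ η hη => hT.orth ξ (h hξ) η (h hη), fun ξ hξ => hT.ne ξ (h hξ)⟩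

omit [Fintype L] in
theorem char_int_apply_one {S : Set (L → ℂ)} (hchar : ∀ ξ ∈ S, Cfsg.IsCharacter L ξ) {f : L → ℂ}
    (hf : f ∈ Cfsg.zspan S) : ∃ t : ℤ, f 1 = t := by
  induction hf using Submodule.span_induction with
  | mem x hx => exact IsGen.exists_apply_one (IsGen.of_char (hchar x hx))
  | zero => exact ⟨0, by simp⟩
  | add x y _ _ ihx ihy =>
    obtain ⟨a, ha⟩ := ihx
    obtain ⟨b, hb⟩ := ihy
    exact ⟨a + b, by simp [ha, hb]⟩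
  | smul n x _ ih =>
    obtain ⟨a, ha⟩ := ih
    exact ⟨n * a, by simp [ha]⟩

open scoped Classical in
/-- Two coherent pieces glue as soon as their images are orthonormal and one cross relation holds. -/
theorem orth_glue {X Y : Finset (L → ℂ)} (hT : IsOrthFamily (X ∪ Y)) (hchar : ∀ ξ ∈ X ∪ Y, Cfsg.IsCharacter L ξ)
    {α v : (L → ℂ) → (G → ℂ)}
    (hα : Cfsg.IsLinearIsometryOn (Cfsg.zspanOn (↑(X ∪ Y) : Set (L → ℂ)) ({1}ᶜ : Set L)) α)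
    (hv : ∀ ξ ∈ X ∪ Y, ∀ η ∈ X ∪ Y, Cfsg.classInner (v ξ) (v η) = Cfsg.classInner ξ η)
    (hgen : ∀ ξ ∈ X ∪ Y, Cfsg.IsGeneralizedCharacter G (v ξ))
    (hX : ∀ θ ∈ Cfsg.zspanOn (↑X : Set (L → ℂ)) ({1}ᶜ : Set L), oMap X v θ = α θ)
    (hY : ∀ θ ∈ Cfsg.zspanOn (↑Y : Set (L → ℂ)) ({1}ᶜ : Set L), oMap Y v θ = α θ)
    {χ₀ η₀ : L → ℂ} (hχ₀ : χ₀ ∈ X) (hη₀ : η₀ ∈ Y) (hne : χ₀ ≠ η₀) {p q : ℕ} (hp : χ₀ 1 = p) (hq : η₀ 1 = q)
    (hp0 : (p : ℂ) ≠ 0) (hq0 : (q : ℂ) ≠ 0)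
    (hcross : α ((p : ℂ) • η₀ - (q : ℂ) • χ₀) = (p : ℂ) • v η₀ - (q : ℂ) • v χ₀) :
    Cfsg.IsCoherent (↑(X ∪ Y) : Set (L → ℂ)) ({1}ᶜ : Set L) α := by
  have hmX : χ₀ ∈ X ∪ Y := Finset.mem_union_left _ hχ₀
  have hmY : η₀ ∈ X ∪ Y := Finset.mem_union_right _ hη₀
  set β := (p : ℂ) • η₀ - (q : ℂ) • χ₀ with hβ
  have hβmem : β ∈ Cfsg.zspanOn (↑(X ∪ Y) : Set (L → ℂ)) ({1}ᶜ : Set L) :=
    combo_mem_zspanOn_one hmY hmX hq hp
  refine ⟨⟨β, hβmem, fun h => ?_⟩, oMap (X ∪ Y) v, oMap_isometry hT hv hgen, ?_⟩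
  · have h1 : Cfsg.classInner β η₀ = 0 := by rw [h, classInner_zero_left]
    rw [hβ, classInner_sub_left, classInner_smul_left, classInner_smul_left,
      hT.orth _ hmX _ hmY hne, mul_zero, sub_zero] at h1
    exact mul_ne_zero hp0 (hT.ne _ hmY) h1
  intro θ hθ
  have hspan : θ ∈ Submodule.span ℤ (↑X ∪ ↑Y : Set (L → ℂ)) := by
    rw [← Finset.coe_union]; exact hθ.1
  rw [Submodule.span_union, Submodule.mem_sup] at hspan
  obtain ⟨a, ha, b, hb, rfl⟩ := hspan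
  obtain ⟨t, ht⟩ := char_int_apply_one (S := (↑X : Set (L → ℂ)))
    (fun ξ hξ => hchar ξ (Finset.mem_union_left _ hξ)) ha
  have ht' : b 1 = -(t : ℂ) := by
    have := hθ.2 1 (by simp)
    rw [Pi.add_apply, ht] at this
    linear_combination this
  set u := (p : ℂ) • a - (t : ℂ) • χ₀ with hu
  set w := (q : ℂ) • b + (t : ℂ) • η₀ with hw
  have hu' : u ∈ Cfsg.zspanOn (↑X : Set (L → ℂ)) ({1}ᶜ : Set L) := by
    refine ⟨(Submodule.span ℤ (↑X : Set (L → ℂ))).sub_mem (natCast_smul_mem_zspan p ha) ?_, ?_⟩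
    · rw [Int.cast_smul_eq_zsmul]
      exact (Submodule.span ℤ (↑X : Set (L → ℂ))).smul_mem _ (Submodule.subset_span hχ₀)
    · intro x hx
      simp only [Set.mem_compl_iff, Set.mem_singleton_iff, not_not] at hx
      subst hx
      simp [hu, ht, hp]; ring
  have hw' : w ∈ Cfsg.zspanOn (↑Y : Set (L → ℂ)) ({1}ᶜ : Set L) := by
    refine ⟨(Submodule.span ℤ (↑Y : Set (L → ℂ))).add_mem (natCast_smul_mem_zspan q hb) ?_, ?_⟩
    · rw [Int.cast_smul_eq_zsmul]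
      exact (Submodule.span ℤ (↑Y : Set (L → ℂ))).smul_mem _ (Submodule.subset_span hη₀)
    · intro x hx
      simp only [Set.mem_compl_iff, Set.mem_singleton_iff, not_not] at hx
      subst hx
      simp [hw, ht', hq]; ring
  have hsX : (↑X : Set (L → ℂ)) ⊆ ↑(X ∪ Y) := by simp
  have hsY : (↑Y : Set (L → ℂ)) ⊆ ↑(X ∪ Y) := by simp
  have hu2 := zspanOn_subset ({1}ᶜ : Set L) hsX hu'
  have hw2 := zspanOn_subset ({1}ᶜ : Set L) hsY hw'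
  have hagree : ∀ x ∈ Cfsg.zspanOn (↑X : Set (L → ℂ)) ({1}ᶜ : Set L), oMap (X ∪ Y) v x = α x :=
    fun x hx => (oMap_congr hT (hT.subset Finset.subset_union_left) Finset.subset_union_left (fun _ _ => rfl) hx.1).trans (hX x hx)
  have hagree' : ∀ x ∈ Cfsg.zspanOn (↑Y : Set (L → ℂ)) ({1}ᶜ : Set L), oMap (X ∪ Y) v x = α x :=
    fun x hx => (oMap_congr hT (hT.subset Finset.subset_union_right) Finset.subset_union_right (fun _ _ => rfl) hx.1).trans (hY x hx)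
  have hagreeβ : oMap (X ∪ Y) v β = α β := by
    rw [hcross, hβ, oMap_sub, oMap_smul, oMap_smul, oMap_apply_mem hT hmX, oMap_apply_mem hT hmY]
  have hid : ((p * q : ℕ) : ℂ) • (a + b) = ((q : ℤ) : ℂ) • u + (((p : ℤ) : ℂ) • w + ((-t : ℤ) : ℂ) • β) := by
    ext x; simp [hu, hw, hβ]; ring
  have m1 := zsmul_mem_zspanOn hu2 (q : ℤ)
  have m2 := zsmul_mem_zspanOn hw2 (p : ℤ)
  have m3 := zsmul_mem_zspanOn hβmem (-t)
  have m23 : ((p : ℤ) : ℂ) • w + ((-t : ℤ) : ℂ) • β ∈ Cfsg.zspanOn (↑(X ∪ Y) : Set (L → ℂ)) ({1}ᶜ : Set L) :=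
    ⟨(Submodule.span ℤ (↑(X ∪ Y) : Set (L → ℂ))).add_mem m2.1 m3.1,
      fun x hx => by rw [Pi.add_apply, m2.2 x hx, m3.2 x hx, add_zero]⟩
  have hlin : ∀ (n : ℤ) (x : L → ℂ), x ∈ Cfsg.zspanOn (↑(X ∪ Y) : Set (L → ℂ)) ({1}ᶜ : Set L) →
      α ((n : ℂ) • x) = (n : ℂ) • α x := fun n x hx => by
    rw [Int.cast_smul_eq_zsmul, hα.2.1 x hx n, Int.cast_smul_eq_zsmul]
  have hfin : ((p * q : ℕ) : ℂ) • oMap (X ∪ Y) v (a + b) = ((p * q : ℕ) : ℂ) • α (a + b) := by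
    rw [← oMap_smul, ← iso_map_natCast_smul hα hθ, hid, hα.1 _ m1 _ m23, hα.1 _ m2 _ m3,
      hlin _ _ hu2, hlin _ _ hw2, hlin _ _ hβmem, oMap_add, oMap_add, oMap_smul, oMap_smul, oMap_smul,
      hagree u hu', hagree' w hw', hagreeβ]
  exact smul_right_injective (G → ℂ) (show ((p * q : ℕ) : ℂ) ≠ 0 by push_cast; exact mul_ne_zero hp0 hq0) hfin


open scoped Classical in
/-- A coherent closed subfamily absorbs one more conjugate pair below the degree bound. -/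
theorem coherenceSystem_extend {S : Set (L → ℂ)} {τ : (L → ℂ) → (G → ℂ)} {R : (L → ℂ) → Finset (G → ℂ)}
    (hS : Cfsg.IsCoherenceSystem S τ R) {d n : (L → ℂ) → ℕ} (hd : ∀ φ ∈ S, φ 1 = (d φ : ℂ))
    (hn : ∀ φ ∈ S, Cfsg.classInner φ φ = (n φ : ℂ)) {S₁ : Finset (L → ℂ)} (hS₁ : ↑S₁ ⊆ S)
    (hS₁c : ∀ φ ∈ S₁, Cfsg.conjFun φ ∈ S₁) (hcoh : Cfsg.IsCoherent (↑S₁ : Set (L → ℂ)) ({1}ᶜ : Set L) τ)
    {χ : L → ℂ} (hχ : χ ∈ S) (hχ₁ : χ ∉ S₁) (hχ₂ : Cfsg.conjFun χ ∉ S₁) {χ₁ : L → ℂ} (hχ₁S : χ₁ ∈ S₁)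
    (hdvd : d χ₁ ∣ d χ) (hineq : (2 * d χ * d χ₁ : ℝ) < ∑ φ ∈ S₁, ((d φ : ℝ) ^ 2 / (n φ : ℝ))) :
    Cfsg.IsCoherent (↑S₁ ∪ {χ, Cfsg.conjFun χ} : Set (L → ℂ)) ({1}ᶜ : Set L) τ := by
  obtain ⟨-, τ₁, hτ₁, hext⟩ := hcoh
  obtain ⟨m, hm⟩ := hdvd
  have hχc := hS.conj_mem χ hχ
  have hne := hS.conj_ne χ hχ
  have hT : ↑S₁ ∪ {χ, Cfsg.conjFun χ} = ((S₁ ∪ {χ, Cfsg.conjFun χ} : Finset (L → ℂ)) : Set (L → ℂ)) := by
    simp
  have hUS : (↑(S₁ ∪ {χ, Cfsg.conjFun χ}) : Set (L → ℂ)) ⊆ S := by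
    rw [Finset.coe_union, Finset.coe_pair]
    exact Set.union_subset hS₁ (Set.insert_subset hχ (Set.singleton_subset_iff.2 hχc))
  have horth := sys_orth hS hUS
  have hnpos : ∀ φ ∈ S, 0 < n φ := fun φ hφ => by
    obtain ⟨k, hk, hk'⟩ := sys_norm hS hφ
    rw [hn φ hφ, Nat.cast_inj] at hk'
    omega
  have hdpos : ∀ φ ∈ S, 0 < d φ := fun φ hφ => Nat.pos_of_ne_zero fun h0 => by
    have h := hd φ hφ
    rw [h0, Nat.cast_zero] at h
    apply hS.conj_ne φ hφ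
    obtain ⟨k, ρ, rfl⟩ := hS.isCharacter φ hφ
    rw [Representation.char_one, Nat.cast_eq_zero] at h
    have : Subsingleton (Fin k → ℂ) := Module.finrank_zero_iff.1 h
    funext g
    simp [Cfsg.conjFun, Representation.character, Subsingleton.elim (ρ g) 0]
  have hm0 : 0 < m := Nat.pos_of_ne_zero fun h => by
    have := hdpos χ hχ
    rw [hm, h, mul_zero] at this
    omega
  have hd1 := hdpos χ₁ (hS₁ hχ₁S)
  obtain ⟨β, hβ⟩ : ∃ β, β = χ - (m : ℂ) • χ₁ := ⟨_, rfl⟩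
  have hβmem : β ∈ Cfsg.zspanOn S ({1}ᶜ : Set L) := by
    refine ⟨hβ ▸ (Submodule.span ℤ S).sub_mem (mem_zspan_self hχ)
      (natCast_smul_mem_zspan m (mem_zspan_self (hS₁ hχ₁S))), fun x hx => ?_⟩
    simp only [Set.mem_compl_iff, Set.mem_singleton_iff, not_not] at hx
    subst hx
    simp [hβ, hd χ hχ, hd χ₁ (hS₁ hχ₁S), hm, mul_comm]
  have hvin : ∀ φ ∈ S₁, ∀ ψ ∈ S₁, Cfsg.classInner (τ₁ φ) (τ₁ ψ) = if φ = ψ then (n φ : ℂ) else 0 := by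
    intro φ hφ ψ hψ
    rw [hτ₁.2.2.1 φ (mem_zspan_self hφ) ψ (mem_zspan_self hψ)]
    split_ifs with e
    · subst e; exact hn φ (hS₁ hφ)
    · exact hS.orthogonal φ (hS₁ hφ) ψ (hS₁ hψ) e
  have hvgen : ∀ φ ∈ S₁, Cfsg.IsGeneralizedCharacter G (τ₁ φ) := fun φ hφ => hτ₁.2.2.2 φ (mem_zspan_self hφ)
  have hperp : ∀ φ ∈ S₁, ∀ α ∈ R χ, Cfsg.classInner (τ₁ φ) α = 0 := fun φ hφ α hα =>
    sys_image_perp hS hS₁ hS₁c hτ₁ hext hφ hχ (fun e => hχ₁ (e ▸ hφ)) (fun e => hχ₂ (e ▸ hφ)) α hα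
  have hθgen := hS.isometry.2.2.2 β hβmem
  choose! a ha using fun φ (hφ : φ ∈ S₁) => IsGen.classInner_eq_int hθgen (hvgen φ hφ)
  choose! c hc using fun α (hα : α ∈ R χ) => IsGen.classInner_eq_int hθgen (hS.virtual χ hχ α hα)
  have hβφ : ∀ φ ∈ S₁, Cfsg.classInner β φ = -((m : ℂ) * if χ₁ = φ then (n φ : ℂ) else 0) := by
    intro φ hφ
    rw [hβ, classInner_sub_left, classInner_smul_left,
      hS.orthogonal χ hχ φ (hS₁ hφ) (fun e => hχ₁ (e ▸ hφ))]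
    split_ifs with e
    · subst e; rw [hn _ (hS₁ hφ)]; ring
    · rw [hS.orthogonal χ₁ (hS₁ hχ₁S) φ (hS₁ hφ) e]; ring
  have hβχ : Cfsg.classInner β χ = (n χ : ℂ) := by
    rw [hβ, classInner_sub_left, classInner_smul_left, hn χ hχ,
      hS.orthogonal χ₁ (hS₁ hχ₁S) χ hχ (fun e => hχ₁ (e ▸ hχ₁S))]
    ring
  have hβc : Cfsg.classInner β (Cfsg.conjFun χ) = 0 := by
    rw [hβ, classInner_sub_left, classInner_smul_left, hS.orthogonal χ hχ _ hχc hne.symm,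
      hS.orthogonal χ₁ (hS₁ hχ₁S) _ hχc (fun e => hχ₂ (e ▸ hχ₁S))]
    ring
  have hnorm : Cfsg.classInner (τ β) (τ β) = ((n χ + m ^ 2 * n χ₁ : ℕ) : ℂ) := by
    rw [hS.isometry.2.2.1 β hβmem β hβmem]
    conv_lhs => arg 2; rw [hβ]
    rw [classInner_sub_right, classInner_smul_right, hβχ, hβφ χ₁ hχ₁S, if_pos rfl, map_natCast]
    push_cast; ring
  -- proportionality of the coefficients
  obtain ⟨x, hx⟩ : ∃ x : ℤ, x = a χ₁ + (m : ℤ) * n χ₁ := ⟨_, rfl⟩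
  have hrel : ∀ φ ∈ S₁, (a φ : ℝ) = (x : ℝ) / (d χ₁ : ℝ) * (d φ : ℝ) -
      if φ = χ₁ then (m : ℝ) * (n χ₁ : ℝ) else 0 := by
    intro φ hφ
    have h1 : (d χ₁ : ℝ) ≠ 0 := Nat.cast_ne_zero.2 hd1.ne'
    by_cases e : φ = χ₁
    · subst e
      rw [if_pos rfl, div_mul_cancel₀ _ h1, hx]
      push_cast; ring
    · rw [if_neg e, sub_zero, div_mul_eq_mul_div, eq_div_iff h1]
      have hmem := combo_mem_zspanOn_one (S := (↑S₁ : Set (L → ℂ))) hφ hχ₁S (hd φ (hS₁ hφ)) (hd χ₁ (hS₁ hχ₁S))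
      have h := hS.isometry.2.2.1 β hβmem _ (zspanOn_subset _ hS₁ hmem)
      rw [← hext _ hmem, iso_map_sub hτ₁ (natCast_smul_mem_zspan _ (mem_zspan_self hφ))
        (natCast_smul_mem_zspan _ (mem_zspan_self hχ₁S)), iso_map_natCast_smul hτ₁ (mem_zspan_self hφ),
        iso_map_natCast_smul hτ₁ (mem_zspan_self hχ₁S), classInner_sub_right, classInner_sub_right,
        classInner_smul_right, classInner_smul_right, classInner_smul_right, classInner_smul_right,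
        ha φ hφ, ha χ₁ hχ₁S, hβφ φ hφ, hβφ χ₁ hχ₁S, if_neg (Ne.symm e), if_pos rfl, map_natCast, map_natCast] at h
      have h' : ((a φ * d χ₁ : ℤ) : ℂ) = ((x * d φ : ℤ) : ℂ) := by
        rw [hx]; push_cast; linear_combination h
      exact_mod_cast h'
  -- Bessel's inequality forces the coefficients to vanish
  have hsum : τ (χ - Cfsg.conjFun χ) = ∑ α ∈ R χ, α := hS.sum_eq χ hχ
  have hcsum : ∑ α ∈ R χ, c α = (n χ : ℤ) := by
    have h := hS.isometry.2.2.1 β hβmem _ (sys_sum_mem hS hχ)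
    rw [hsum, classInner_sum_right, classInner_sub_right, hβχ, hβc, sub_zero, Finset.sum_congr rfl hc] at h
    rw [← Int.cast_sum] at h
    exact_mod_cast h
  obtain ⟨hA, hA'⟩ := bessel_split (R χ) id (τ β) c (fun _ => 1) (fun _ _ => one_pos)
    (fun i hi j hj => by simpa using hS.orthonormal χ hχ i hi j hj) hc
  simp only [Nat.cast_one, div_one, id] at hA hA'
  have hco : ∀ φ ∈ S₁, Cfsg.classInner (τ β - ∑ α ∈ R χ, (c α : ℂ) • α) (τ₁ φ) = a φ := by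
    intro φ hφ
    rw [classInner_sub_left, classInner_sum_left, ha φ hφ, Finset.sum_eq_zero (fun α hα => by
      rw [classInner_smul_left, ← classInner_conj_symm, hperp φ hφ α hα]; simp), sub_zero]
  obtain ⟨-, hB'⟩ := bessel_split S₁ τ₁ (τ β - ∑ α ∈ R χ, (c α : ℂ) • α) a n (fun φ hφ => hnpos φ (hS₁ hφ))
    hvin hco
  have hx0 : x = 0 := by
    by_contra hx0
    have h0 := classInner_self_re_nonneg
      (τ β - ∑ α ∈ R χ, (c α : ℂ) • α - ∑ φ ∈ S₁, ((a φ : ℂ) / (n φ : ℂ)) • τ₁ φ)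
    rw [hB', hA', hnorm, Complex.natCast_re] at h0
    push_cast at h0
    have hc2 : (n χ : ℝ) ≤ ∑ α ∈ R χ, (c α : ℝ) ^ 2 := by
      have : ((n χ : ℤ) : ℝ) ≤ ((∑ α ∈ R χ, c α ^ 2 : ℤ) : ℝ) := by
        rw [Int.cast_le, ← hcsum]
        exact Finset.sum_le_sum fun α _ => Int.le_self_sq _
      exact_mod_cast this
    rw [Finset.sum_congr rfl (g := fun φ => ((x : ℝ) / d χ₁) ^ 2 * ((d φ : ℝ) ^ 2 / n φ) -
        if φ = χ₁ then (2 * (x : ℝ) * m - (m : ℝ) ^ 2 * n χ₁) else 0) (fun φ hφ => by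
      have h1 : (d χ₁ : ℝ) ≠ 0 := Nat.cast_ne_zero.2 hd1.ne'
      have h2 : (n φ : ℝ) ≠ 0 := Nat.cast_ne_zero.2 (hnpos φ (hS₁ hφ)).ne'
      rw [hrel φ hφ]
      split_ifs with e
      · subst e; field_simp; ring
      · ring), Finset.sum_sub_distrib, ← Finset.mul_sum, Finset.sum_ite_eq', if_pos hχ₁S] at h0
    set D := ∑ φ ∈ S₁, (d φ : ℝ) ^ 2 / (n φ : ℝ) with hD
    have h1 : (0 : ℝ) < (d χ₁ : ℝ) := Nat.cast_pos.2 hd1
    have h2 : 2 * (m : ℝ) * (d χ₁ : ℝ) ^ 2 < D := by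
      rw [hm] at hineq
      push_cast at hineq
      calc 2 * (m : ℝ) * (d χ₁ : ℝ) ^ 2 = 2 * ((d χ₁ : ℝ) * m) * d χ₁ := by ring
        _ < D := hineq
    have h3 : (x : ℝ) ≤ (x : ℝ) ^ 2 := by exact_mod_cast Int.le_self_sq x
    have h4 : (0 : ℝ) < (x : ℝ) ^ 2 := by positivity
    have h5 : 2 * (m : ℝ) * (x : ℝ) ^ 2 < ((x : ℝ) / d χ₁) ^ 2 * D := by
      calc 2 * (m : ℝ) * (x : ℝ) ^ 2 = ((x : ℝ) / d χ₁) ^ 2 * (2 * (m : ℝ) * (d χ₁ : ℝ) ^ 2) := by field_simp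
        _ < _ := mul_lt_mul_of_pos_left h2 (by positivity)
    have h6 : 2 * (m : ℝ) * x ≤ 2 * (m : ℝ) * (x : ℝ) ^ 2 := mul_le_mul_of_nonneg_left h3 (by positivity)
    linarith
  have ha0 : ∀ φ ∈ S₁, a φ = if φ = χ₁ then -((m : ℤ) * n χ₁) else 0 := fun φ hφ => by
    have h := hrel φ hφ
    rw [hx0, Int.cast_zero, zero_div, zero_mul, zero_sub] at h
    split_ifs at h ⊢ with e
    · exact_mod_cast h
    · have h' : (a φ : ℝ) = 0 := by rw [h, neg_zero]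
      exact_mod_cast h'
  obtain ⟨Z, hZ⟩ : ∃ Z, Z = τ β + (m : ℂ) • τ₁ χ₁ := ⟨_, rfl⟩
  obtain ⟨SR, hSR0⟩ : ∃ s : G → ℂ, s = ∑ α ∈ R χ, α := ⟨_, rfl⟩
  have hvR : ∀ φ ∈ S₁, Cfsg.classInner (τ₁ φ) SR = 0 := fun φ hφ => by
    rw [hSR0, classInner_sum_right]; exact Finset.sum_eq_zero (hperp φ hφ)
  have hZv : ∀ φ ∈ S₁, Cfsg.classInner Z (τ₁ φ) = 0 := fun φ hφ => by
    rw [hZ, classInner_add_left, classInner_smul_left, ha φ hφ, ha0 φ hφ, hvin χ₁ hχ₁S φ hφ]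
    by_cases e : φ = χ₁
    · subst e; simp
    · rw [if_neg e, if_neg (Ne.symm e)]; simp
  have hZZ : Cfsg.classInner Z Z = (n χ : ℂ) := by
    have h1 := hZv χ₁ hχ₁S
    conv_lhs => arg 2; rw [hZ]
    rw [classInner_add_right, classInner_smul_right, h1, mul_zero, add_zero, hZ, classInner_add_left,
      classInner_smul_left, hnorm, ← classInner_conj_symm (τ β) (τ₁ χ₁), ha χ₁ hχ₁S, ha0 χ₁ hχ₁S, if_pos rfl,
      map_intCast]
    push_cast; ring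
  have hZR : Cfsg.classInner Z SR = (n χ : ℂ) := by
    rw [hZ, classInner_add_left, classInner_smul_left, hvR χ₁ hχ₁S, mul_zero, add_zero, hSR0, ← hsum,
      hS.isometry.2.2.1 β hβmem _ (sys_sum_mem hS hχ), classInner_sub_right, hβχ, hβc, sub_zero]
  have hRR : Cfsg.classInner SR SR = 2 * (n χ : ℂ) := by
    rw [hSR0, ← hsum, hS.isometry.2.2.1 _ (sys_sum_mem hS hχ) _ (sys_sum_mem hS hχ), classInner_sub_left,
      classInner_sub_right, classInner_sub_right, sys_conj_inner, hn χ hχ, map_natCast,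
      hS.orthogonal χ hχ _ hχc hne.symm, hS.orthogonal _ hχc χ hχ hne]
    ring
  have hRgen : Cfsg.IsGeneralizedCharacter G SR := hSR0 ▸ IsGen.sum _ fun α hα => hS.virtual χ hχ α hα
  have hZgen : Cfsg.IsGeneralizedCharacter G Z :=
    hZ ▸ IsGen.add hθgen (by simpa using IsGen.intCast_smul (m : ℤ) (hvgen χ₁ hχ₁S))
  let V : (L → ℂ) → (G → ℂ) := fun ξ => if ξ = χ then Z else if ξ = Cfsg.conjFun χ then Z - SR else τ₁ ξ
  have hVS : ∀ φ ∈ S₁, V φ = τ₁ φ := fun φ hφ => by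
    simp only [V, if_neg (fun e : φ = χ => hχ₁ (e ▸ hφ)), if_neg (fun e : φ = Cfsg.conjFun χ => hχ₂ (e ▸ hφ))]
  have hVχ : V χ = Z := if_pos rfl
  have hVc : V (Cfsg.conjFun χ) = Z - SR := by simp only [V, if_neg hne, if_pos]
  have hχU : χ ∈ ({χ, Cfsg.conjFun χ} : Finset (L → ℂ)) := by simp
  have hcU : Cfsg.conjFun χ ∈ ({χ, Cfsg.conjFun χ} : Finset (L → ℂ)) := by simp
  rw [hT]
  refine orth_glue (v := V) horth (fun ξ hξ => hS.isCharacter ξ (hUS hξ))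
    (IsLinearIsometryOn.mono hS.isometry (zspanOn_subset _ hUS)) ?_ ?_ ?_ ?_ hχ₁S hχU
    (fun e => hχ₁ (e ▸ hχ₁S)) (hd χ₁ (hS₁ hχ₁S)) (hd χ hχ) (Nat.cast_ne_zero.2 hd1.ne')
    (Nat.cast_ne_zero.2 (hdpos χ hχ).ne') ?_
  · intro ξ hξ η hη
    have hoS : ∀ φ ∈ S₁, Cfsg.classInner φ χ = 0 ∧ Cfsg.classInner φ (Cfsg.conjFun χ) = 0 := fun φ hφ =>
      ⟨hS.orthogonal φ (hS₁ hφ) χ hχ (fun e => hχ₁ (e ▸ hφ)),
        hS.orthogonal φ (hS₁ hφ) _ hχc (fun e => hχ₂ (e ▸ hφ))⟩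
    simp only [Finset.mem_union, Finset.mem_insert, Finset.mem_singleton] at hξ hη
    rcases hξ with hξ | rfl | rfl <;> rcases hη with hη | rfl | rfl
    · rw [hVS ξ hξ, hVS η hη, hτ₁.2.2.1 ξ (mem_zspan_self hξ) η (mem_zspan_self hη)]
    · rw [hVS ξ hξ, hVχ, ← classInner_conj_symm, hZv ξ hξ, (hoS ξ hξ).1, map_zero]
    · rw [hVS ξ hξ, hVc, classInner_sub_right, hvR ξ hξ, ← classInner_conj_symm, hZv ξ hξ, (hoS ξ hξ).2,
        map_zero, sub_zero]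
    · rw [hVS η hη, hVχ, hZv η hη, ← classInner_conj_symm η, (hoS η hη).1, map_zero]
    · rw [hVχ, hZZ, hn _ hχ]
    · rw [hVχ, hVc, classInner_sub_right, hZZ, hZR, sub_self, hS.orthogonal _ hχ _ hχc hne.symm]
    · rw [hVS η hη, hVc, classInner_sub_left, hZv η hη, ← classInner_conj_symm (τ₁ η), hvR η hη,
        ← classInner_conj_symm η, (hoS η hη).2]
      simp
    · rw [hVc, hVχ, classInner_sub_left, hZZ, ← classInner_conj_symm Z, hZR, map_natCast, sub_self,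
        hS.orthogonal _ hχc _ hχ hne]
    · rw [hVc, classInner_sub_left, classInner_sub_right, classInner_sub_right, hZZ, hZR, hRR,
        ← classInner_conj_symm Z SR, hZR, map_natCast, sys_conj_inner, hn χ hχ, map_natCast]
      ring
  · intro ξ hξ
    simp only [Finset.mem_union, Finset.mem_insert, Finset.mem_singleton] at hξ
    rcases hξ with hξ | rfl | rfl
    · rw [hVS ξ hξ]; exact hvgen ξ hξ
    · rw [hVχ]; exact hZgen
    · rw [hVc]; exact IsGen.sub hZgen hRgen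
  · intro θ hθ
    have h1 : IsOrthFamily S₁ := sys_orth hS hS₁
    rw [oMap_congr h1 h1 subset_rfl hVS hθ.1, iso_map_combo hτ₁ h1 hθ.1, hext θ hθ]
  · intro θ hθ
    obtain ⟨k, hk⟩ := mem_zspan_iff_sum.1 hθ.1
    rw [Finset.sum_pair hne.symm] at hk
    have h0 := hθ.2 1 (by simp)
    rw [hk, Pi.add_apply, Pi.smul_apply, Pi.smul_apply, sys_deg_conj hS hχ, smul_eq_mul, smul_eq_mul,
      hd χ hχ, ← add_mul, mul_eq_zero] at h0
    have h1 := h0.resolve_right (Nat.cast_ne_zero.2 (hdpos χ hχ).ne')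
    have hθ' : θ = (k χ : ℂ) • (χ - Cfsg.conjFun χ) := by
      rw [hk, eq_neg_of_add_eq_zero_right h1, neg_smul, ← sub_eq_add_neg, smul_sub]
    have hU := horth.subset (Finset.subset_union_right : ({χ, Cfsg.conjFun χ} : Finset (L → ℂ)) ⊆ _)
    rw [hθ', oMap_smul, oMap_sub, oMap_apply_mem hU hχU, oMap_apply_mem hU hcU, hVχ, hVc, sub_sub_cancel,
      Int.cast_smul_eq_zsmul, Int.cast_smul_eq_zsmul, hS.isometry.2.1 _ (sys_sum_mem hS hχ), hsum, hSR0]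
  · rw [hVχ, hVS χ₁ hχ₁S, hZ, smul_add, smul_smul, hm, Nat.cast_mul]
    have e : (d χ₁ : ℂ) • χ - ((d χ₁ : ℂ) * (m : ℂ)) • χ₁ = (d χ₁ : ℂ) • β := by
      rw [hβ, smul_sub, smul_smul]
    rw [e, iso_map_natCast_smul hS.isometry hβmem, add_sub_cancel_right]

end CfsgLib.Char.Exceptional
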