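import Mathlib.LinearAlgebra.Eigenspace.Triangularizable
import Mathlib.LinearAlgebra.FiniteDimensional.Lemmas

/-!
# Commuting pairs of an element and an inverter

Over an algebraically closed field, `k` commuting pairs `(c, t)` with `c ^ 2` nontrivial semisimple and
`t` inverting `c` need a space of dimension at least `2 k`.
-/

set_option autoImplicit false

namespace CfsgLib.CrossChar

open Module

variable {L : Type*} [Field L] {U : Type*} [AddCommGroup U] [Module L U] [FiniteDimensional L U]
  {J : Type*} {c t : J → Module.End L U} {m : ℕ}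

/-- The hypotheses on a family of pairs. -/
structure Pairs (c t : J → Module.End L U) (m : ℕ) : Prop where
  cast_ne : (m : L) ≠ 0
  pos : 1 ≤ m
  pow_eq : ∀ i, c i ^ m = 1
  cc : ∀ i j, Commute (c i) (c j)
  ct : ∀ i j, i ≠ j → Commute (c i) (t j)
  tc : ∀ i, t i * c i = c i ^ (m - 1) * t i
  ct' : ∀ i, c i * t i = t i * c i ^ (m - 1)
  inj : ∀ i, Function.Injective (t i)

/-- Pairs without fixed points give an exponential dimension. -/
theorem Pairs.two_pow_le [IsAlgClosed L] (h : Pairs c t m) :
    ∀ (s : Finset J) (W : Submodule L U), W ≠ ⊥ → (∀ i ∈ s, ∀ w ∈ W, c i w ∈ W ∧ t i w ∈ W) →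
      (∀ i ∈ s, ∀ w ∈ W, (c i ^ 2) w = w → w = 0) → 2 ^ s.card ≤ finrank L W := by
  classical
  intro s
  induction s using Finset.induction_on with
  | empty =>
    intro W hW _ _
    simpa using Submodule.one_le_finrank_iff.2 hW
  | insert j s hj ih =>
    intro W hW hinv hfree
    haveI : Nontrivial W := Submodule.nontrivial_iff_ne_bot.2 hW
    have hjm := Finset.mem_insert_self j s
    obtain ⟨lam, hlam⟩ := Module.End.exists_eigenvalue ((c j).restrict fun w hw => (hinv j hjm w hw).1)
    obtain ⟨v, hv, hv0⟩ := hlam.exists_hasEigenvector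
    rw [Module.End.mem_eigenspace_iff] at hv
    have hv' : c j (v : U) = lam • (v : U) := congrArg Subtype.val hv
    let X : Submodule L U := W ⊓ (c j).eigenspace lam
    have hvX : (v : U) ∈ X := ⟨v.2, Module.End.mem_eigenspace_iff.2 hv'⟩
    have hv0' : (v : U) ≠ 0 := fun e => hv0 (Subtype.ext e)
    have hX0 : X ≠ ⊥ := fun e => hv0' ((Submodule.mem_bot L).1 (e ▸ hvX))
    have hsm : ∀ i ∈ s, i ∈ insert j s := fun i hi => Finset.mem_insert_of_mem hi
    have hXinv : ∀ i ∈ s, ∀ w ∈ X, c i w ∈ X ∧ t i w ∈ X := by
      intro i hi w hw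
      have hij : j ≠ i := fun e => hj (e ▸ hi)
      refine ⟨⟨(hinv i (hsm i hi) w hw.1).1, ?_⟩, ⟨(hinv i (hsm i hi) w hw.1).2, ?_⟩⟩
      · refine Module.End.mem_eigenspace_iff.2 ?_
        rw [← Module.End.mul_apply, (h.cc j i).eq, Module.End.mul_apply,
          Module.End.mem_eigenspace_iff.1 hw.2, map_smul]
      · refine Module.End.mem_eigenspace_iff.2 ?_
        rw [← Module.End.mul_apply, (h.ct j i hij).eq, Module.End.mul_apply,
          Module.End.mem_eigenspace_iff.1 hw.2, map_smul]
    have hk := ih X hX0 hXinv fun i hi w hw => hfree i (hsm i hi) w hw.1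
    -- the other eigenvalue
    have hpow : ∀ (k : ℕ) (w : U), c j w = lam • w → (c j ^ k) w = lam ^ k • w := by
      intro k w hw
      induction k with
      | zero => simp
      | succ k ihk => rw [pow_succ', Module.End.mul_apply, ihk, map_smul, hw, smul_smul, pow_succ]
    let Y : Submodule L U := X.map (t j)
    have hYW : Y ≤ W := by
      rintro _ ⟨w, hw, rfl⟩
      exact (hinv j hjm w hw.1).2
    have hdisj : Disjoint X Y := by
      rw [Submodule.disjoint_def]
      rintro _ hxX ⟨w, hw, rfl⟩
      have e1 : c j (t j w) = lam ^ (m - 1) • t j w := by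
        rw [← Module.End.mul_apply, h.ct', Module.End.mul_apply,
          hpow _ w (Module.End.mem_eigenspace_iff.1 hw.2), map_smul]
      have e2 := Module.End.mem_eigenspace_iff.1 hxX.2
      by_contra hne
      have e3 : lam ^ (m - 1) = lam := smul_left_injective L hne (e1.symm.trans e2)
      have e4 : lam ^ m = 1 := by
        refine smul_left_injective L hv0' ?_
        show lam ^ m • (v : U) = (1 : L) • (v : U)
        rw [← hpow m _ hv', h.pow_eq, one_smul]
        rfl
      have e5 : lam ^ 2 = 1 := by
        rw [← e4, show m = m - 1 + 1 by have := h.pos; omega, pow_succ lam (m - 1), e3, sq]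
      refine hv0' (hfree j hjm _ v.2 ?_)
      rw [hpow 2 _ hv', e5, one_smul]
    have hYfr : finrank L Y = finrank L X :=
      (Submodule.equivMapOfInjective (t j) (h.inj j) X).finrank_eq.symm
    have hsum : finrank L X + finrank L Y ≤ finrank L W := by
      rw [← Submodule.finrank_sup_add_finrank_inf_eq, disjoint_iff.1 hdisj, finrank_bot, add_zero]
      exact Submodule.finrank_mono (sup_le inf_le_left hYW)
    rw [Finset.card_insert_of_notMem hj, pow_succ]
    omega

/-- The bound. -/
theorem Pairs.two_mul_card_le [IsAlgClosed L] (h : Pairs c t m) :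
    ∀ (k : ℕ) (W : Submodule L U), finrank L W ≤ k → (∀ i, ∀ w ∈ W, c i w ∈ W ∧ t i w ∈ W) →
      ∀ s : Finset J, (∀ i ∈ s, ∃ w ∈ W, (c i ^ 2) w ≠ w) → 2 * s.card ≤ finrank L W := by
  classical
  intro k
  induction k with
  | zero =>
    intro W hW _ s hs
    rcases s.eq_empty_or_nonempty with rfl | ⟨i, hi⟩
    · simp
    obtain ⟨w, hw, hne⟩ := hs i hi
    have : W = ⊥ := Submodule.finrank_eq_zero.1 (Nat.le_zero.1 hW)
    rw [this, Submodule.mem_bot] at hw
    exact absurd (by rw [hw, map_zero]) hne
  | succ k ih =>
    intro W hW hinv s hs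
    rcases s.eq_empty_or_nonempty with rfl | ⟨i₀, hi₀⟩
    · simp
    by_cases hsplit : ∃ j ∈ s, ∃ w ∈ W, (c j ^ 2) w = w ∧ w ≠ 0
    · obtain ⟨j, hj, w₀, hw₀, hfix₀, hw₀0⟩ := hsplit
      let f : Module.End L U := c j ^ 2 - 1
      have hfW : ∀ w ∈ W, f w ∈ W := fun w hw => by
        show (c j ^ 2) w - w ∈ W
        rw [pow_two, Module.End.mul_apply]
        exact W.sub_mem (hinv j _ (hinv j w hw).1).1 hw
      let A : Submodule L U := W ⊓ LinearMap.ker f
      let B : Submodule L U := W.map f
      have hBW : B ≤ W := by rintro _ ⟨w, hw, rfl⟩; exact hfW w hw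
      have hAB : Disjoint A B := by
        rw [Submodule.disjoint_def]
        rintro _ hA ⟨u, -, rfl⟩
        have hfix : (c j ^ 2) (f u) = f u := sub_eq_zero.1 hA.2
        have hit : ∀ n : ℕ, ((c j ^ 2) ^ n) u = u + n • f u := by
          intro n
          induction n with
          | zero => simp
          | succ n ihn =>
            have hu : (c j ^ 2) u = u + f u := by simp [f]
            rw [pow_succ', Module.End.mul_apply, ihn, map_add, map_nsmul, hfix, hu, succ_nsmul']
            abel
        have := hit m
        rw [← pow_mul, mul_comm, pow_mul, h.pow_eq, one_pow, Module.End.one_apply, left_eq_add,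
          ← Nat.cast_smul_eq_nsmul L, smul_eq_zero] at this
        exact this.resolve_left h.cast_ne
      have hrank : finrank L A + finrank L B = finrank L W := by
        have := LinearMap.finrank_range_add_finrank_ker (f.domRestrict W)
        rw [LinearMap.range_domRestrict, LinearMap.ker_domRestrict] at this
        rw [← this, add_comm]
        congr 1
        exact (Submodule.comapSubtypeEquivOfLe (p := A) (q := W) inf_le_left).finrank_eq.symm.trans
          (by rw [Submodule.comap_inf, Submodule.comap_subtype_self, top_inf_eq])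
      have hmix : ∀ (g : Module.End L U), Commute g (c j) → ∀ w, f (g w) = g (f w) := fun g hg w => by
        have e : (c j ^ 2) (g w) = g ((c j ^ 2) w) := by
          rw [← Module.End.mul_apply, ← (hg.pow_right 2).eq, Module.End.mul_apply]
        simp [f, e]
      have hinvA : ∀ i, ∀ w ∈ A, c i w ∈ A ∧ t i w ∈ A := by
        intro i w hw
        refine ⟨⟨(hinv i w hw.1).1, ?_⟩, ⟨(hinv i w hw.1).2, ?_⟩⟩
        · show f (c i w) = 0
          rw [hmix _ (h.cc i j), hw.2, map_zero]
        · show f (t i w) = 0
          by_cases hij : i = j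
          · subst hij
            have hfix : (c i ^ 2) w = w := sub_eq_zero.1 hw.2
            have hfix' : ((c i ^ 2) ^ (m - 1)) w = w := by
              generalize m - 1 = n
              induction n with
              | zero => simp
              | succ n ihn => rw [pow_succ, Module.End.mul_apply, hfix, ihn]
            have e : c i ^ 2 * t i = t i * (c i ^ 2) ^ (m - 1) := by
              rw [pow_two, mul_assoc, h.ct', ← mul_assoc, h.ct', mul_assoc, ← (Commute.refl (c i)).mul_pow]
            show (c i ^ 2) (t i w) - t i w = 0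
            rw [← Module.End.mul_apply, e, Module.End.mul_apply, hfix', sub_self]
          · rw [hmix _ (h.ct j i (Ne.symm hij)).symm, hw.2, map_zero]
      have hinvB : ∀ i, ∀ w ∈ B, c i w ∈ B ∧ t i w ∈ B := by
        rintro i _ ⟨u, hu, rfl⟩
        refine ⟨⟨c i u, (hinv i u hu).1, hmix _ (h.cc i j) u⟩, ?_⟩
        by_cases hij : i = j
        · subst hij
          have e : t i * c i ^ 2 = (c i ^ 2) ^ (m - 1) * t i := by
            rw [pow_two, ← mul_assoc, h.tc, mul_assoc, h.tc, ← mul_assoc, ← (Commute.refl (c i)).mul_pow]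
          have hgeo : ∀ (n : ℕ), ∀ v ∈ W, ((c i ^ 2) ^ n) v - v ∈ B := by
            intro n v hv
            induction n with
            | zero => simp
            | succ n ihn =>
              have hmemW : ((c i ^ 2) ^ n) v ∈ W := by
                have := W.add_mem (hBW ihn) hv
                simpa using this
              have : ((c i ^ 2) ^ (n + 1)) v - v = f (((c i ^ 2) ^ n) v) + (((c i ^ 2) ^ n) v - v) := by
                simp [f, pow_succ', Module.End.mul_apply]
              rw [this]
              exact B.add_mem (Submodule.mem_map_of_mem hmemW) ihn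
          show t i ((c i ^ 2) u - u) ∈ B
          rw [map_sub, ← Module.End.mul_apply, e, Module.End.mul_apply]
          exact hgeo _ _ (hinv i u hu).2
        · exact ⟨t i u, (hinv i u hu).2, hmix _ (h.ct j i (Ne.symm hij)).symm u⟩
      have hApos : 0 < finrank L A := Nat.pos_of_ne_zero fun h0 => hw₀0 (by
        have hmem : w₀ ∈ A := ⟨hw₀, by show (c j ^ 2) w₀ - w₀ = 0; rw [hfix₀, sub_self]⟩
        rw [Submodule.finrank_eq_zero.1 h0, Submodule.mem_bot] at hmem
        exact hmem)
      have hBpos : 0 < finrank L B := Nat.pos_of_ne_zero fun h0 => by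
        obtain ⟨w, hw, hne⟩ := hs j hj
        have hmem : f w ∈ B := Submodule.mem_map_of_mem hw
        rw [Submodule.finrank_eq_zero.1 h0, Submodule.mem_bot] at hmem
        exact hne (sub_eq_zero.1 hmem)
      let sA := s.filter fun i => ∃ w ∈ A, (c i ^ 2) w ≠ w
      let sB := s.filter fun i => ∃ w ∈ B, (c i ^ 2) w ≠ w
      have hcover : s ⊆ sA ∪ sB := by
        intro i hi
        by_contra hnot
        simp only [sA, sB, Finset.mem_union, Finset.mem_filter, hi, true_and] at hnot
        push Not at hnot
        obtain ⟨w, hw, hne⟩ := hs i hi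
        have htop : A ⊔ B = W := Submodule.eq_of_le_of_finrank_eq (sup_le inf_le_left hBW) (by
          have := Submodule.finrank_sup_add_finrank_inf_eq A B
          rw [disjoint_iff.1 hAB, finrank_bot, add_zero, hrank] at this
          exact this)
        obtain ⟨a, ha, b, hb, rfl⟩ := Submodule.mem_sup.1 (htop.ge hw)
        exact hne (by rw [map_add, hnot.1 a ha, hnot.2 b hb])
      have h1 := ih A (by omega) hinvA sA fun i hi => (Finset.mem_filter.1 hi).2
      have h2 := ih B (by omega) hinvB sB fun i hi => (Finset.mem_filter.1 hi).2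
      have h3 := (Finset.card_le_card hcover).trans (Finset.card_union_le _ _)
      omega
    · push Not at hsplit
      obtain ⟨w, hw, hne⟩ := hs i₀ hi₀
      have hW0 : W ≠ ⊥ := fun e => hne (by
        rw [e, Submodule.mem_bot] at hw
        rw [hw, map_zero])
      have h2 := h.two_pow_le s W hW0 (fun i _ => hinv i) hsplit
      refine le_trans ?_ h2
      have key : ∀ n : ℕ, 2 * (n + 1) ≤ 2 ^ (n + 1) := by
        intro n
        induction n with
        | zero => norm_num
        | succ n ihn => rw [pow_succ]; omega
      obtain ⟨n, hn⟩ : ∃ n, s.card = n + 1 :=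
        ⟨s.card - 1, by have := Finset.card_pos.2 ⟨i₀, hi₀⟩; omega⟩
      rw [hn]
      exact key n

end CfsgLib.CrossChar
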