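import Cfsg.Prelude.Def_Transfer
import Cfsg.Agent.Lib.Signalizer.Basic
import Mathlib.GroupTheory.Commutator.Basic
import Mathlib.GroupTheory.Nilpotent
import Mathlib.GroupTheory.PGroup

/-!
# Tools for fixed vectors of conjugates of a `p`-element, `p` odd

Regular subsets for `p`-groups, and the class of a `p`-group generated by elements of order `p` in
which invariant elementary abelian subgroups are central.
-/

set_option autoImplicit false

namespace CfsgLib.ClassCover

open Subgroup
open scoped commutatorElement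

variable {p : ℕ} [hp : Fact p.Prime]

/-- A finite `p`-group, `p` odd, has a regular subset on each finite invariant set. -/
theorem exists_regular_subset (hp2 : p ≠ 2) {Q X : Type*} [Group Q] [Finite Q] [MulAction Q X]
    (hQ : IsPGroup p Q) :
    ∀ (Y : Finset X) (Q' : Subgroup Q), (∀ g ∈ Q', ∀ y ∈ Y, g • y ∈ Y) →
      ∃ S : Finset X, S ⊆ Y ∧ ∀ g ∈ Q', (∀ s ∈ S, g • s ∈ S) → ∀ y ∈ Y, g • y = y := by
  classical
  intro Y
  induction Y using Finset.strongInduction with
  | _ Y ih =>
    intro Q' hinv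
    haveI := Fintype.ofFinite Q
    by_cases hsplit : ∃ O : Finset X, O ⊂ Y ∧ O.Nonempty ∧ ∀ g ∈ Q', ∀ y ∈ O, g • y ∈ O
    · obtain ⟨O, hOY, hOne, hOinv⟩ := hsplit
      obtain ⟨S₁, hS₁, h₁⟩ := ih O hOY Q' hOinv
      have hdiff : Y \ O ⊂ Y := Finset.sdiff_ssubset hOY.subset hOne
      have hinv' : ∀ g ∈ Q', ∀ y ∈ Y \ O, g • y ∈ Y \ O := fun g hg y hy => by
        rw [Finset.mem_sdiff] at hy ⊢
        refine ⟨hinv g hg y hy.1, fun h => hy.2 ?_⟩
        simpa using hOinv g⁻¹ (Q'.inv_mem hg) _ h
      obtain ⟨S₂, hS₂, h₂⟩ := ih _ hdiff Q' hinv'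
      refine ⟨S₁ ∪ S₂, Finset.union_subset (hS₁.trans hOY.subset) (hS₂.trans Finset.sdiff_subset),
        fun g hg hS y hy => ?_⟩
      by_cases hyO : y ∈ O
      · refine h₁ g hg (fun s hs => ?_) y hyO
        rcases Finset.mem_union.1 (hS s (Finset.mem_union_left _ hs)) with h | h
        · exact h
        · exact absurd (hOinv g hg s (hS₁ hs)) (Finset.mem_sdiff.1 (hS₂ h)).2
      · refine h₂ g hg (fun s hs => ?_) y (Finset.mem_sdiff.2 ⟨hy, hyO⟩)
        rcases Finset.mem_union.1 (hS s (Finset.mem_union_right _ hs)) with h | h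
        · exact absurd (hS₁ h) (Finset.mem_sdiff.1 (hinv' g hg s (hS₂ hs))).2
        · exact h
    rcases Finset.eq_empty_or_nonempty Y with rfl | ⟨y₀, hy₀⟩
    · exact ⟨∅, Finset.Subset.refl _, fun g _ _ y hy => absurd hy (Finset.notMem_empty y)⟩
    -- `Q'` is transitive on `Y`
    have htrans : ∀ y ∈ Y, ∃ g ∈ Q', g • y₀ = y := by
      intro y hy
      by_contra hne
      push Not at hne
      refine hsplit ⟨Y.filter fun z => ∃ g ∈ Q', g • y₀ = z,
        Finset.filter_ssubset.2 ⟨y, hy, fun ⟨g, hg, h⟩ => hne g hg h⟩,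
        ⟨y₀, Finset.mem_filter.2 ⟨hy₀, 1, Q'.one_mem, one_smul _ _⟩⟩, fun g hg z hz => ?_⟩
      obtain ⟨hz1, k, hk, rfl⟩ := Finset.mem_filter.1 hz
      exact Finset.mem_filter.2 ⟨hinv g hg _ hz1, g * k, Q'.mul_mem hg hk, mul_smul _ _ _⟩
    set St : Subgroup Q' := MulAction.stabilizer Q' y₀ with hSt
    by_cases hStop : St = ⊤
    · refine ⟨∅, Finset.empty_subset _, fun g hg _ y hy => ?_⟩
      obtain ⟨k, hk, rfl⟩ := htrans y hy
      have h1 : ∀ x ∈ Q', x • y₀ = y₀ := fun x hx => by
        have : (⟨x, hx⟩ : Q') ∈ St := hStop ▸ mem_top _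
        exact this
      rw [← mul_smul, h1 _ (Q'.mul_mem hg hk), h1 k hk]
    obtain ⟨N', hN', hle⟩ := (eq_top_or_exists_le_coatom St).resolve_left hStop
    haveI : Group.IsNilpotent Q' := (hQ.to_subgroup Q').isNilpotent
    have hnorm : N'.Normal :=
      NormalizerCondition.normal_of_coatom N' (normalizerCondition_of_isNilpotent) hN'
    set N : Subgroup Q := N'.map Q'.subtype with hN
    have hNQ : N ≤ Q' := map_subtype_le N'
    set B : Finset X := Y.filter fun z => ∃ g ∈ N, g • y₀ = z with hB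
    have hBinv : ∀ g ∈ N, ∀ z ∈ B, g • z ∈ B := fun g hg z hz => by
      obtain ⟨hz1, k, hk, rfl⟩ := Finset.mem_filter.1 hz
      exact Finset.mem_filter.2 ⟨hinv g (hNQ hg) _ hz1, g * k, N.mul_mem hg hk, mul_smul _ _ _⟩
    have hnor : ∀ g ∈ Q', ∀ n ∈ N, g * n * g⁻¹ ∈ N := by
      rintro g hg _ ⟨n, hn, rfl⟩
      exact ⟨⟨g, hg⟩ * n * (⟨g, hg⟩ : Q')⁻¹, hnorm.conj_mem n hn _, rfl⟩
    have hmemN : ∀ g ∈ Q', g • y₀ ∈ B → g ∈ N := by
      intro g hg h
      obtain ⟨-, n, hn, he⟩ := Finset.mem_filter.1 h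
      have hs : (⟨n⁻¹ * g, Q'.mul_mem (Q'.inv_mem (hNQ hn)) hg⟩ : Q') ∈ St := by
        show (n⁻¹ * g) • y₀ = y₀
        rw [mul_smul, ← he, inv_smul_smul]
      have := N.mul_mem hn (mem_map_of_mem Q'.subtype (hle hs))
      simpa using this
    have hBY : B ⊂ Y := by
      obtain ⟨g, hg, hgN⟩ : ∃ g ∈ Q', g ∉ N := by
        by_contra hall
        push Not at hall
        refine hN'.1 (eq_top_iff.2 fun x _ => ?_)
        obtain ⟨x', hx', he⟩ := hall x x.2
        rwa [← Subtype.ext (a1 := x') (a2 := x) he]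
      exact Finset.filter_ssubset.2 ⟨g • y₀, hinv g hg y₀ hy₀, fun ⟨n, hn, he⟩ =>
        hgN (hmemN g hg (Finset.mem_filter.2 ⟨hinv g hg y₀ hy₀, n, hn, he⟩))⟩
    have hBodd : Odd B.card := by
      have e : B.card = Nat.card (MulAction.orbit N y₀) := by
        rw [← Nat.card_eq_finsetCard]
        refine Nat.card_congr (Equiv.subtypeEquivRight fun z => ?_)
        constructor
        · intro hz
          obtain ⟨-, n, hn, he⟩ := Finset.mem_filter.1 hz
          exact ⟨⟨n, hn⟩, he⟩
        · rintro ⟨n, rfl⟩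
          exact Finset.mem_filter.2 ⟨hinv n (hNQ n.2) y₀ hy₀, n, n.2, rfl⟩
      haveI : Finite (MulAction.orbit N y₀) := Set.Finite.to_subtype (Set.finite_range _)
      obtain ⟨k, hk⟩ := (hQ.to_subgroup N).card_orbit y₀
      rw [e, hk]
      exact (hp.out.odd_of_ne_two hp2).pow
    obtain ⟨S₀, hS₀, h₀⟩ := ih B hBY N hBinv
    -- coset representatives
    choose t ht hty using htrans
    let pt : X → Finset X := fun y => if h : y ∈ Y then B.image (fun b => t y h • b) else ∅
    let rep : Finset X → Option Q := fun T =>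
      if h : ∃ g ∈ Q', B.image (fun b => g • b) = T then some h.choose else none
    have hrep : ∀ y, ∀ hy : y ∈ Y, ∃ g, rep (pt y) = some g ∧ g ∈ Q' ∧
        B.image (fun b => g • b) = pt y := fun y hy => by
      have h : ∃ g ∈ Q', B.image (fun b => g • b) = pt y := ⟨t y hy, ht y hy, by simp [pt, hy]⟩
      exact ⟨_, dif_pos h, h.choose_spec.1, h.choose_spec.2⟩
    choose r hr hrQ hrB using hrep
    -- the set
    let S : Finset X := S₀ ∪ Y.filter fun y => y ∉ B ∧ ∃ hy : y ∈ Y, (r y hy)⁻¹ • y ∉ S₀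
    have hblock : ∀ g ∈ Q', ∀ g' ∈ Q', g⁻¹ * g' ∈ N →
        B.image (fun b => g • b) = B.image (fun b => g' • b) := by
      intro g hg g' hg' h
      ext z
      simp only [Finset.mem_image]
      constructor
      · rintro ⟨b, hb, rfl⟩
        refine ⟨(g'⁻¹ * g) • b, hBinv _ (by simpa using N.inv_mem h) b hb, ?_⟩
        rw [← mul_smul, mul_inv_cancel_left]
      · rintro ⟨b, hb, rfl⟩
        exact ⟨(g⁻¹ * g') • b, hBinv _ h b hb, by rw [← mul_smul, mul_inv_cancel_left]⟩
    have hblock' : ∀ g ∈ Q', ∀ g' ∈ Q', B.image (fun b => g • b) = B.image (fun b => g' • b) →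
        g⁻¹ * g' ∈ N := by
      intro g hg g' hg' h
      have hy₀B : y₀ ∈ B := Finset.mem_filter.2 ⟨hy₀, 1, N.one_mem, one_smul _ _⟩
      have : g' • y₀ ∈ B.image (fun b => g • b) := h ▸ Finset.mem_image_of_mem _ hy₀B
      obtain ⟨b, hb, he⟩ := Finset.mem_image.1 this
      refine hmemN _ (Q'.mul_mem (Q'.inv_mem hg) hg') ?_
      rw [mul_smul, ← he, inv_smul_smul]
      exact hb
    have hpt : ∀ g ∈ Q', ∀ b ∈ B, pt (g • b) = B.image (fun c => g • c) := by
      intro g hg b hb
      have hy : g • b ∈ Y := hinv g hg b (Finset.mem_filter.1 hb).1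
      rw [show pt (g • b) = B.image (fun c => t (g • b) hy • c) by simp [pt, hy]]
      refine hblock _ (ht _ hy) g hg ?_
      refine hmemN _ (Q'.mul_mem (Q'.inv_mem (ht _ hy)) hg) ?_
      obtain ⟨-, n, hn, rfl⟩ := Finset.mem_filter.1 hb
      have h1 : t (g • n • y₀) hy • y₀ = g • n • y₀ := hty _ hy
      have h2 : ((t (g • n • y₀) hy)⁻¹ * (g * n)) • y₀ = y₀ := by
        rw [mul_smul, mul_smul, inv_smul_eq_iff]
        exact h1.symm
      have h3 : (⟨(t (g • n • y₀) hy)⁻¹ * (g * n),
          Q'.mul_mem (Q'.inv_mem (ht _ hy)) (Q'.mul_mem hg (hNQ hn))⟩ : Q') ∈ St := h2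
      have h4 : (t (g • n • y₀) hy)⁻¹ * (g * n) ∈ N := mem_map_of_mem Q'.subtype (hle h3)
      have h5 := N.mul_mem h4 (N.inv_mem hn)
      rw [mul_assoc, mul_inv_cancel_right] at h5
      exact Finset.mem_filter.2 ⟨hinv _ (hNQ h5) y₀ hy₀, _, h5, rfl⟩
    have hr_eq : ∀ g ∈ Q', ∀ b ∈ B, ∀ hy : g • b ∈ Y, g⁻¹ * r (g • b) hy ∈ N := by
      intro g hg b hb hy
      exact hblock' g hg _ (hrQ _ hy) ((hpt g hg b hb).symm.trans (hrB _ hy).symm)
    have hr_const : ∀ g ∈ Q', ∀ b ∈ B, ∀ b' ∈ B, ∀ (hy : g • b ∈ Y) (hy' : g • b' ∈ Y),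
        r (g • b) hy = r (g • b') hy' := by
      intro g hg b hb b' hb' hy hy'
      have h1 := hr _ hy
      have h2 := hr _ hy'
      rw [hpt g hg b hb] at h1
      rw [hpt g hg b' hb', h1] at h2
      exact Option.some.inj h2
    refine ⟨S, Finset.union_subset (hS₀.trans hBY.subset) (Finset.filter_subset _ _),
      fun g hg hS => ?_⟩
    have hmemS : ∀ x ∈ B, (x ∈ S ↔ x ∈ S₀) := fun x hx => by simp [S, hx]
    have hmemS' : ∀ x, x ∉ B → ∀ hy : x ∈ Y, (x ∈ S ↔ (r x hy)⁻¹ • x ∉ S₀) := fun x hx hy => by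
      simp only [S, Finset.mem_union, Finset.mem_filter]
      constructor
      · rintro (h | ⟨-, -, _, h⟩)
        · exact absurd (hS₀ h) hx
        · exact h
      · exact fun h => Or.inr ⟨hy, hx, hy, h⟩
    have hSinj : ∀ s, g • s ∈ S → s ∈ S := by
      intro s hs
      have : S.image (fun x => g • x) = S := Finset.eq_of_subset_of_card_le
        (Finset.image_subset_iff.2 hS) (by rw [Finset.card_image_of_injective _ (MulAction.injective g)])
      rw [← this] at hs
      obtain ⟨s', hs', he⟩ := Finset.mem_image.1 hs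
      rwa [← MulAction.injective g he]
    by_cases hgN : g ∈ N
    · -- inside `N` every block is fixed
      have hB0 := h₀ g hgN (fun s hs => (hmemS _ (hBinv g hgN s (hS₀ hs))).1
        (hS s ((hmemS s (hS₀ hs)).2 hs)))
      intro y hy
      by_cases hyB : y ∈ B
      · exact hB0 y hyB
      obtain ⟨b, hb, hbe⟩ := Finset.mem_image.1
        (show y ∈ B.image (fun b => r y hy • b) by
          rw [hrB]
          simp only [pt, hy, dite_true]
          exact Finset.mem_image.2 ⟨y₀, Finset.mem_filter.2 ⟨hy₀, 1, N.one_mem, one_smul _ _⟩, hty y hy⟩)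
      set c := r y hy with hc
      have hcQ : c ∈ Q' := hrQ y hy
      have hcN : c⁻¹ * g * c ∈ N := by
        have := hnor c⁻¹ (Q'.inv_mem hcQ) g hgN
        rwa [inv_inv] at this
      have hfix := h₀ (c⁻¹ * g * c) hcN (fun s hs => ?_) b hb
      · rw [← hbe]
        calc g • c • b = c • (c⁻¹ * g * c) • b := by simp [mul_smul, smul_inv_smul]
          _ = c • b := by rw [hfix]
      · by_contra hns
        have hcb : c ∉ N := fun h => hyB (hbe ▸ hBinv c h b hb)
        have hout : ∀ x ∈ B, c • x ∉ B := fun x hx h => by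
          obtain ⟨-, n, hn, rfl⟩ := Finset.mem_filter.1 hx
          rw [← mul_smul] at h
          exact hcb (by simpa using N.mul_mem (hmemN _ (Q'.mul_mem hcQ (hNQ hn)) h) (N.inv_mem hn))
        have hsB : s ∈ B := hS₀ hs
        have hy1 : c • s ∈ Y := hinv c hcQ s (Finset.mem_filter.1 hsB).1
        have hr1 : r (c • s) hy1 = c := by
          have hyb : c • b ∈ Y := hinv c hcQ b (Finset.mem_filter.1 hb).1
          rw [hr_const c hcQ s hsB b hb hy1 hyb]
          simp only [hbe]
          rfl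
        have hnotS : c • s ∉ S := fun h => by
          have := (hmemS' _ (hout s hsB) hy1).1 h
          rw [hr1, inv_smul_smul] at this
          exact this hs
        have hg' : g • c • s = c • (c⁻¹ * g * c) • s := by simp [mul_smul, smul_inv_smul]
        have hsB' : (c⁻¹ * g * c) • s ∈ B := hBinv _ hcN s hsB
        have hy2 : c • (c⁻¹ * g * c) • s ∈ Y := hinv c hcQ _ (Finset.mem_filter.1 hsB').1
        have hr2 : r (c • (c⁻¹ * g * c) • s) hy2 = c := by
          have hyb : c • b ∈ Y := hinv c hcQ b (Finset.mem_filter.1 hb).1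
          rw [hr_const c hcQ _ hsB' b hb hy2 hyb]
          simp only [hbe]
          rfl
        refine hnotS (hSinj _ ?_)
        rw [hg', hmemS' _ (hout _ hsB') hy2, hr2, inv_smul_smul]
        exact hns
    · -- otherwise two unequal pieces would match
      exfalso
      have hout : ∀ x ∈ B, g • x ∉ B := fun x hx h => by
        obtain ⟨-, n, hn, rfl⟩ := Finset.mem_filter.1 hx
        rw [← mul_smul] at h
        exact hgN (by simpa using N.mul_mem (hmemN _ (Q'.mul_mem hg (hNQ hn)) h) (N.inv_mem hn))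
      have hy₀B : y₀ ∈ B := Finset.mem_filter.2 ⟨hy₀, 1, N.one_mem, one_smul _ _⟩
      have hyg : g • y₀ ∈ Y := hinv g hg y₀ hy₀
      set c := r (g • y₀) hyg with hc
      have hn := hr_eq g hg y₀ hy₀B hyg
      have hiff : ∀ x ∈ B, (x ∈ S₀ ↔ (c⁻¹ * g) • x ∉ S₀) := by
        intro x hx
        have hy1 : g • x ∈ Y := hinv g hg x (Finset.mem_filter.1 hx).1
        rw [← hmemS x hx, mul_smul]
        have h1 : r (g • x) hy1 = c := hr_const g hg x hx y₀ hy₀B hy1 hyg
        refine ⟨fun h => ?_, fun h => hSinj _ ((hmemS' _ (hout x hx) hy1).2 (h1.symm ▸ h))⟩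
        have := (hmemS' _ (hout x hx) hy1).1 (hS x h)
        rwa [h1] at this
      have hcN : c⁻¹ * g ∈ N := by simpa using N.inv_mem hn
      have himg : S₀.image (fun x => (c⁻¹ * g) • x) = B \ S₀ := by
        ext x
        simp only [Finset.mem_image, Finset.mem_sdiff]
        constructor
        · rintro ⟨s, hs, rfl⟩
          exact ⟨hBinv _ hcN s (hS₀ hs), (hiff s (hS₀ hs)).1 hs⟩
        · rintro ⟨hx, hxS⟩
          have hxB : (c⁻¹ * g)⁻¹ • x ∈ B := hBinv _ (N.inv_mem hcN) x hx
          exact ⟨_, (hiff _ hxB).2 (by rwa [smul_inv_smul]), smul_inv_smul _ _⟩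
      have hcard := congrArg Finset.card himg
      rw [Finset.card_image_of_injective _ (MulAction.injective _),
        Finset.card_sdiff_of_subset hS₀] at hcard
      have hle : S₀.card ≤ B.card := Finset.card_le_card hS₀
      obtain ⟨m, hm⟩ := hBodd
      omega

variable {G : Type*} [Group G] [Finite G]

/-- A `p`-subgroup generated by elements of order `p` in which every elementary abelian subgroup
with the same normaliser is central has class two and exponent `p`. -/
theorem class_two_of_central (hp2 : p ≠ 2) (E : Subgroup G) (hE : IsPGroup p E) (K : Set G)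
    (hK : K ⊆ E) (hK1 : ∀ x ∈ K, x ^ p = 1) (hKE : Subgroup.closure K = E)
    (hcen : ∀ L : Subgroup G, L ≤ E → Cfsg.IsElementaryAbelian p L →
      Subgroup.normalizer (E : Set G) ≤ Subgroup.normalizer (L : Set G) → ⁅L, E⁆ = ⊥) :
    (∀ x ∈ E, ∀ y ∈ E, ∀ z ∈ E, ⁅x, y⁆ * z = z * ⁅x, y⁆) ∧ ∀ x ∈ E, x ^ p = 1 := by
  classical
  haveI : Group.IsNilpotent E := hE.isNilpotent
  obtain ⟨c, hc⟩ := (Subgroup.isNilpotent_iff_lowerCentralSeries (S := E)).1 inferInstance
  set γ := E.lowerCentralSeries with hγ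
  have hγE : ∀ n, γ n ≤ E := E.lowerCentralSeries_le_self
  have hγN : ∀ n, Subgroup.normalizer (E : Set G) ≤ Subgroup.normalizer (γ n : Set G) := by
    intro n g hg
    rw [Subgroup.mem_normalizer_iff_map_conj_eq] at hg ⊢
    rw [hγ, Subgroup.map_lowerCentralSeries, hg]
  -- raising a product to the power `p`
  have hpow : ∀ u e z : G, e * u * e⁻¹ = z * u → Commute z u → Commute z e →
      ∀ k : ℕ, (u * e) ^ k = z ^ (k * (k - 1) / 2) * u ^ k * e ^ k := by
    intro u e z hz hzu hze k
    have hcomm : ∀ k : ℕ, e ^ k * u = z ^ k * u * e ^ k := by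
      intro k
      induction k with
      | zero => simp
      | succ k ih =>
        have h1 : e * u = z * u * e := by rw [← hz]; group
        calc e ^ (k + 1) * u = e * (e ^ k * u) := by rw [pow_succ' e, mul_assoc]
          _ = z ^ k * (e * u) * e ^ k := by
            rw [ih, ← mul_assoc, ← mul_assoc, ((hze.pow_left k).eq).symm, mul_assoc (z ^ k)]
          _ = _ := by rw [h1, pow_succ z, pow_succ' e]; simp only [mul_assoc]
    induction k with
    | zero => simp
    | succ k ih =>
      have h2 : (k + 1) * (k + 1 - 1) / 2 = k * (k - 1) / 2 + k := by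
        rw [← Finset.sum_range_id, ← Finset.sum_range_id, Finset.sum_range_succ]
      calc (u * e) ^ (k + 1) = z ^ (k * (k - 1) / 2) * u ^ k * (e ^ k * u) * e := by
            rw [pow_succ, ih]; simp only [mul_assoc]
        _ = z ^ (k * (k - 1) / 2) * (u ^ k * z ^ k) * u * (e ^ k * e) := by
            rw [hcomm]; simp only [mul_assoc]
        _ = _ := by
            rw [← ((hzu.pow_pow k k).eq), h2, pow_add, pow_succ u, pow_succ e]
            simp only [mul_assoc]
  obtain ⟨m, hm⟩ : p ∣ p * (p - 1) / 2 := by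
    obtain ⟨j, hj⟩ := hp.out.odd_of_ne_two hp2
    refine ⟨j, ?_⟩
    have : p * (p - 1) = 2 * (p * j) := by rw [hj, Nat.add_sub_cancel]; ring
    rw [this, Nat.mul_div_cancel_left _ (by norm_num)]
  have hclass : γ 2 = ⊥ := by
    by_contra h2
    have hex : ∃ n, γ n = ⊥ := ⟨c, hc⟩
    set n := Nat.find hex with hn
    have hn3 : 3 ≤ n := by
      by_contra h
      push Not at h
      exact h2 (le_bot_iff.1 ((E.lowerCentralSeries_antitone (show n ≤ 2 by omega)).trans
        (Nat.find_spec hex).le))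
    obtain ⟨j, hj⟩ : ∃ j, n = j + 3 := ⟨n - 3, by omega⟩
    have hj3 : γ (j + 3) = ⊥ := hj ▸ Nat.find_spec hex
    have hj2 : γ (j + 2) ≠ ⊥ := fun h => Nat.find_min hex (show j + 2 < n by omega) h
    refine hj2 ?_
    have hzero : ∀ w ∈ γ (j + 2), ∀ e ∈ E, Commute w e := fun w hw e he => by
      rw [← commutatorElement_eq_one_iff_commute, ← Subgroup.mem_bot, ← hj3]
      exact Subgroup.commutator_mem_commutator hw he
    have habel : IsMulCommutative (γ (j + 1)) := by
      have h3 : ⁅⁅E, E⁆, γ (j + 1)⁆ = ⊥ := by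
        have e1 : ⁅⁅γ (j + 1), E⁆, E⁆ = ⊥ := hj3
        have e2 : ⁅⁅E, γ (j + 1)⁆, E⁆ = ⊥ := by
          rw [Subgroup.commutator_comm E]; exact e1
        exact Subgroup.commutator_commutator_eq_bot_of_rotate e2 e1
      have h4 : γ (j + 1) ≤ ⁅E, E⁆ := E.lowerCentralSeries_antitone (show 1 ≤ j + 1 by omega)
      refine ⟨⟨fun a b => Subtype.ext ?_⟩⟩
      exact commutatorElement_eq_one_iff_commute.1
        ((Subgroup.mem_bot).1 (h3 ▸ Subgroup.commutator_mem_commutator (h4 a.2) b.2))
    have helem : Cfsg.IsElementaryAbelian p (γ (j + 1)) := by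
      refine ⟨habel, ?_⟩
      have hgen : ∀ l ∈ γ j, ∀ e ∈ E, ⁅l, e⁆ ^ p = 1 := by
        intro l hl e he
        have hmem : ∀ e ∈ E, ⁅l, e⁆ ∈ γ (j + 1) := fun e he =>
          Subgroup.commutator_mem_commutator hl he
        have hnorm : ∀ e ∈ E, ∀ w ∈ γ (j + 1), e * w * e⁻¹ ∈ γ (j + 1) := fun e he w hw =>
          ((Subgroup.mem_normalizer_iff).1 (E.self_le_normalizer_lowerCentralSeries _ he) w).1 hw
        rw [← hKE] at he
        induction he using Subgroup.closure_induction with
        | mem e he =>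
          set u := ⁅l, e⁆ with hu
          have heE := hK he
          have hue : u ∈ γ (j + 1) := hmem e heE
          set z := ⁅e, u⁆ with hz
          have hzm : z ∈ γ (j + 2) := by
            show z ∈ ⁅γ (j + 1), E⁆
            rw [Subgroup.commutator_comm]
            exact Subgroup.commutator_mem_commutator heE hue
          have hzu : Commute z u := hzero z hzm u (hγE _ hue)
          have hze : Commute z e := hzero z hzm e heE
          have hz' : e * u * e⁻¹ = z * u := by rw [hz, commutatorElement_def]; group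
          have hzp : z ^ p = 1 := by
            have h := fun k => hpow u e z hz' hzu hze k
            have hk : ∀ k : ℕ, e ^ k * u * (e ^ k)⁻¹ = z ^ k * u := by
              intro k
              induction k with
              | zero => simp
              | succ k ih =>
                calc e ^ (k + 1) * u * (e ^ (k + 1))⁻¹
                    = e * (e ^ k * u * (e ^ k)⁻¹) * e⁻¹ := by
                      rw [pow_succ' e]; simp only [mul_inv_rev, mul_assoc]
                  _ = z ^ k * (e * u * e⁻¹) := by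
                      rw [ih, ← mul_assoc, ← ((hze.pow_left k).eq)]; simp only [mul_assoc]
                  _ = _ := by rw [hz', pow_succ z, mul_assoc]
            have := hk p
            rw [hK1 e he, one_mul, inv_one, mul_one] at this
            exact mul_eq_right.1 this.symm
          have h1 : (u * e) ^ p = 1 := by
            rw [show u * e = l * e * l⁻¹ by rw [hu, commutatorElement_def]; group, conj_pow,
              hK1 e he, mul_one, mul_inv_cancel]
          rw [hpow u e z hz' hzu hze p, hm, pow_mul, hzp, one_pow, one_mul, hK1 e he, mul_one] at h1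
          exact h1
        | one => simp
        | mul a b ha hb iha ihb =>
          rw [hKE] at ha hb
          have hab : ⁅l, a * b⁆ = ⁅l, a⁆ * (a * ⁅l, b⁆ * a⁻¹) := by
            simp only [commutatorElement_def, mul_inv_rev]; group
          have hc : Commute ⁅l, a⁆ (a * ⁅l, b⁆ * a⁻¹) :=
            congrArg Subtype.val (habel.is_comm.comm (⟨_, hmem a ha⟩ : γ (j + 1))
              ⟨_, hnorm a ha _ (hmem b hb)⟩)
          rw [hab, hc.mul_pow, iha, one_mul, conj_pow, ihb, mul_one, mul_inv_cancel]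
        | inv a ha iha =>
          have hab : ⁅l, a⁻¹⁆ = a⁻¹ * ⁅l, a⁆⁻¹ * (a⁻¹)⁻¹ := by
            simp only [commutatorElement_def, mul_inv_rev, inv_inv]; group
          rw [hab, conj_pow, inv_pow, iha, inv_one, mul_one, mul_inv_cancel]
      intro x hx
      rw [hγ, Subgroup.mem_lowerCentralSeries_succ_iff] at hx
      induction hx using Subgroup.closure_induction with
      | mem x hx => obtain ⟨l, hl, e, he, rfl⟩ := hx; exact hgen l hl e he
      | one => simp
      | mul a b ha hb iha ihb =>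
        have hc : Commute a b := congrArg Subtype.val
          (habel.is_comm.comm (⟨a, ha⟩ : γ (j + 1)) ⟨b, hb⟩)
        rw [hc.mul_pow, iha, ihb, one_mul]
      | inv a _ iha => rw [inv_pow, iha, inv_one]
    exact hcen _ (hγE _) helem (hγN _)
  have hcent : ∀ x ∈ E, ∀ y ∈ E, ∀ z ∈ E, ⁅x, y⁆ * z = z * ⁅x, y⁆ := by
    intro x hx y hy z hz
    refine commutatorElement_eq_one_iff_commute.1 ?_
    rw [← Subgroup.mem_bot, ← hclass]
    exact Subgroup.commutator_mem_commutator (Subgroup.commutator_mem_commutator hx hy) hz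
  refine ⟨hcent, fun x hx => ?_⟩
  rw [← hKE] at hx
  induction hx using Subgroup.closure_induction with
  | mem x hx => exact hK1 x hx
  | one => simp
  | mul a b ha hb iha ihb =>
    rw [hKE] at ha hb
    have hzu : Commute ⁅b, a⁆ a := hcent b hb a ha a ha
    have hzb : Commute ⁅b, a⁆ b := hcent b hb a ha b hb
    have hz : b * a * b⁻¹ = ⁅b, a⁆ * a := by rw [commutatorElement_def]; group
    have hzp : ⁅b, a⁆ ^ p = 1 := by
      have h1 : ∀ k : ℕ, b ^ k * a * (b ^ k)⁻¹ = ⁅b, a⁆ ^ k * a := by
        intro k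
        induction k with
        | zero => simp
        | succ k ih =>
          calc b ^ (k + 1) * a * (b ^ (k + 1))⁻¹ = b * (b ^ k * a * (b ^ k)⁻¹) * b⁻¹ := by
                rw [pow_succ' b]; simp only [mul_inv_rev, mul_assoc]
            _ = ⁅b, a⁆ ^ k * (b * a * b⁻¹) := by
                rw [ih, ← mul_assoc, ← ((hzb.pow_left k).eq)]; simp only [mul_assoc]
            _ = _ := by rw [hz, pow_succ ⁅b, a⁆, mul_assoc]
      have := h1 p
      rw [ihb, one_mul, inv_one, mul_one] at this
      exact mul_eq_right.1 this.symm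
    rw [hpow a b _ hz hzu hzb p, hm, pow_mul, hzp, one_pow, iha, ihb, one_mul, mul_one]
  | inv a _ iha => rw [inv_pow, iha, inv_one]

end CfsgLib.ClassCover
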