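import Mathlib.Algebra.Group.AddChar
import Mathlib.FieldTheory.IsAlgClosed.AlgebraicClosure
import Mathlib.FieldTheory.Finite.Basic
import Mathlib.LinearAlgebra.Eigenspace.Pi
import Mathlib.LinearAlgebra.Eigenspace.Triangularizable
import Mathlib.LinearAlgebra.Matrix.GeneralLinearGroup.Defs
import Mathlib.LinearAlgebra.Matrix.ToLin
import Mathlib.RingTheory.LinearDisjoint

/-!
# Weights of abelian subgroups in cross characteristic

An elementary abelian group of exponent prime to the characteristic acts with a nontrivial weight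
unless it acts trivially; conjugation permutes weights, and distinct weights are independent.
-/

set_option autoImplicit false

namespace CfsgLib.CrossChar

open Module

variable {L : Type*} [Field L] {U : Type*} [AddCommGroup U] [Module L U] {G : Type*} [Group G]
  {V : Type*} [AddCommGroup V]

/-- The weight `μ` occurs. -/
def Has (R : G →* Module.End L U) (ι : Multiplicative V →* G) (μ : AddChar V L) : Prop :=
  ∃ x : U, x ≠ 0 ∧ ∀ v : V, R (ι (Multiplicative.ofAdd v)) x = μ v • x

theorem has_conj {R : G →* Module.End L U} {ι : Multiplicative V →* G} {μ : AddChar V L}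
    (hμ : Has R ι μ) (g : G) (f : V →+ V)
    (hg : ∀ v, g * ι (Multiplicative.ofAdd v) * g⁻¹ = ι (Multiplicative.ofAdd (f v))) :
    Has R ι (μ.compAddMonoidHom f) := by
  obtain ⟨x, hx0, hx⟩ := hμ
  refine ⟨R g⁻¹ x, fun h => hx0 ?_, fun v => ?_⟩
  · rw [show x = (R g * R g⁻¹) x by rw [← map_mul, mul_inv_cancel, map_one]; rfl,
      Module.End.mul_apply, h, map_zero]
  · have e : ι (Multiplicative.ofAdd v) * g⁻¹ = g⁻¹ * ι (Multiplicative.ofAdd (f v)) := by
      rw [← hg]; group
    rw [← Module.End.mul_apply, ← map_mul, e, map_mul, Module.End.mul_apply, hx, map_smul]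
    rfl

/-- A nonzero invariant subspace of a commuting family contains a common eigenvector. -/
theorem exists_common_eigen [IsAlgClosed L] [FiniteDimensional L U] {J : Type*}
    (X : J → Module.End L U) (hX : ∀ i j, Commute (X i) (X j)) (W : Submodule L U) (hW : W ≠ ⊥)
    (hinv : ∀ i, ∀ w ∈ W, X i w ∈ W) :
    ∃ x ∈ W, x ≠ 0 ∧ ∃ μ : J → L, ∀ i, X i x = μ i • x := by
  classical
  have hex : ∃ n, ∃ p : Submodule L U, p ≠ ⊥ ∧ p ≤ W ∧ (∀ i, ∀ v ∈ p, X i v ∈ p) ∧ finrank L p = n :=
    ⟨_, W, hW, le_rfl, hinv, rfl⟩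
  obtain ⟨p, hp0, hpW, hpX, hpn⟩ := Nat.find_spec hex
  haveI : Nontrivial p := Submodule.nontrivial_iff_ne_bot.2 hp0
  have hsc : ∀ i, ∃ c : L, ∀ v ∈ p, X i v = c • v := fun i => by
    obtain ⟨c, hc⟩ := Module.End.exists_eigenvalue ((X i).restrict (hpX i))
    obtain ⟨v, hv, hv0⟩ := hc.exists_hasEigenvector
    rw [Module.End.mem_eigenspace_iff] at hv
    let q : Submodule L U := p ⊓ (X i).eigenspace c
    have hvq : (v : U) ∈ q := ⟨v.2, Module.End.mem_eigenspace_iff.2 (congrArg Subtype.val hv)⟩
    have hq0 : q ≠ ⊥ := fun h => hv0 (Subtype.ext ((Submodule.mem_bot L).1 (h ▸ hvq)))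
    have hqX : ∀ j, ∀ w ∈ q, X j w ∈ q := fun j w hw => by
      refine ⟨hpX j w hw.1, Module.End.mem_eigenspace_iff.2 ?_⟩
      rw [← Module.End.mul_apply, (hX i j).eq, Module.End.mul_apply,
        Module.End.mem_eigenspace_iff.1 hw.2, map_smul]
    have hle : finrank L p ≤ finrank L q := hpn ▸ Nat.find_min' hex
      ⟨q, hq0, inf_le_left.trans hpW, hqX, rfl⟩
    have hqp : q = p := Submodule.eq_of_le_of_finrank_le inf_le_left hle
    exact ⟨c, fun w hw => Module.End.mem_eigenspace_iff.1 (hqp.ge hw).2⟩
  choose μ hμ using hsc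
  obtain ⟨x, hx, hx0⟩ := (Submodule.ne_bot_iff _).1 hp0
  exact ⟨x, hpW hx, hx0, μ, fun i => hμ i x hx⟩

/-- A nontrivially acting group of exponent prime to the characteristic has a nontrivial weight. -/
theorem exists_has_ne_one [IsAlgClosed L] [FiniteDimensional L U] (R : G →* Module.End L U)
    (ι : Multiplicative V →* G) {p : ℕ} (hp : (p : L) ≠ 0) (hexp : ∀ v : V, p • v = 0) (v₀ : V)
    (hv₀ : R (ι (Multiplicative.ofAdd v₀)) ≠ 1) :
    ∃ μ : AddChar V L, μ ≠ 1 ∧ Has R ι μ := by
  set X : V → Module.End L U := fun v => R (ι (Multiplicative.ofAdd v)) with hXdef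
  have hXadd : ∀ v w, X (v + w) = X v * X w := fun v w => by
    simp only [hXdef, ofAdd_add, map_mul]
  have hX0 : X 0 = 1 := by simp only [hXdef, ofAdd_zero, map_one]
  have hcomm : ∀ v w, Commute (X v) (X w) := fun v w => by
    rw [Commute, SemiconjBy, ← hXadd, ← hXadd, add_comm]
  set N := X v₀ - 1 with hN
  have hWinv : ∀ v, ∀ w ∈ LinearMap.range N, X v w ∈ LinearMap.range N := by
    rintro v _ ⟨u, rfl⟩
    refine ⟨X v u, ?_⟩
    rw [← Module.End.mul_apply, ← Module.End.mul_apply, hN, sub_mul, one_mul, mul_sub, mul_one,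
      (hcomm v v₀).eq]
  have hW : LinearMap.range N ≠ ⊥ := fun h => hv₀ (sub_eq_zero.1 (LinearMap.range_eq_bot.1 h))
  obtain ⟨x, ⟨u, hu⟩, hx0, μ, hμ⟩ := exists_common_eigen X hcomm _ hW hWinv
  have hμadd : ∀ v w, μ (v + w) = μ v * μ w := fun v w => by
    refine smul_left_injective L hx0 ?_
    show μ (v + w) • x = (μ v * μ w) • x
    rw [← hμ, hXadd, Module.End.mul_apply, hμ w, map_smul, hμ v, smul_smul, mul_comm]
  have hμ0 : μ 0 = 1 := smul_left_injective L hx0 (by
    show μ 0 • x = (1 : L) • x
    rw [← hμ, hX0, one_smul]; rfl)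
  refine ⟨⟨μ, hμ0, hμadd⟩, fun h => ?_, x, hx0, hμ⟩
  have h1 : μ v₀ = 1 := DFunLike.congr_fun h v₀
  have hfix : X v₀ x = x := by rw [hμ, h1, one_smul]
  -- `X v₀` adds `x` to `u`, so its `p`th power adds `p • x`
  have hit : ∀ k : ℕ, X (k • v₀) u = u + k • x := by
    intro k
    induction k with
    | zero => simp [hX0]
    | succ k ih =>
      have hNu : X v₀ u = u + x := by
        rw [← hu, hN, LinearMap.sub_apply, Module.End.one_apply, add_sub_cancel]
      rw [succ_nsmul', hXadd, Module.End.mul_apply, ih, map_add, map_nsmul, hfix, hNu, succ_nsmul']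
      abel
  have := hit p
  rw [hexp, hX0, Module.End.one_apply, left_eq_add, ← Nat.cast_smul_eq_nsmul L,
    smul_eq_zero] at this
  exact this.elim hp hx0

/-- Distinct weights are independent. -/
theorem card_le_finrank [FiniteDimensional L U] (R : G →* Module.End L U)
    (ι : Multiplicative V →* G) {J : Type*} [Fintype J] (μ : J → AddChar V L)
    (hinj : Function.Injective μ) (h : ∀ j, Has R ι (μ j)) : Fintype.card J ≤ finrank L U := by
  choose x hx0 hx using h
  set X : V → Module.End L U := fun v => R (ι (Multiplicative.ofAdd v)) with hXdef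
  have hcomm : ∀ v w, Commute (X v) (X w) := fun v w => by
    rw [Commute, SemiconjBy, hXdef]
    simp only [← map_mul, ← ofAdd_add, add_comm]
  have hind := (Module.End.independent_iInf_maxGenEigenspace_of_forall_mapsTo X fun i j φ =>
    Module.End.mapsTo_maxGenEigenspace_of_comm (hcomm j i) φ).comp
      (f := fun j => (μ j : V → L)) fun a b hab => hinj (DFunLike.coe_injective hab)
  refine LinearIndependent.fintype_card_le_finrank (b := x)
    (hind.linearIndependent _ (fun j => ?_) hx0)
  simp only [Function.comp_apply, Submodule.mem_iInf]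
  exact fun v => Module.End.eigenspace_le_maxGenEigenspace (Module.End.mem_eigenspace_iff.2 (hx j v))

section Dot

variable {F : Type*} [Field F] {J : Type*} [Fintype J]

/-- The character `x ↦ ψ (x · y)`. -/
def dotChar (ψ : AddChar F L) (y : J → F) : AddChar (J → F) L :=
  ψ.compAddMonoidHom
    { toFun := fun x => ∑ i, x i * y i
      map_zero' := by simp
      map_add' := fun a b => by simp [add_mul, Finset.sum_add_distrib] }

theorem dotChar_apply (ψ : AddChar F L) (y x : J → F) : dotChar ψ y x = ψ (∑ i, x i * y i) := rfl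

/-- Every character of a finite vector space is `x ↦ ψ (x · y)`. -/
theorem exists_dot [Fintype F] (μ : AddChar (J → F) L) (hμ : μ ≠ 1) :
    ∃ ψ : AddChar F L, Function.Injective (dotChar ψ (J := J)) ∧
      ∃ y : J → F, y ≠ 0 ∧ μ = dotChar ψ y := by
  classical
  obtain ⟨i₀, a, ha⟩ : ∃ i a, μ (Pi.single i a) ≠ 1 := by
    by_contra h
    push Not at h
    refine hμ (DFunLike.ext _ _ fun x => ?_)
    rw [← Finset.univ_sum_single x, AddChar.one_apply]
    have key : ∀ s : Finset J, μ (∑ i ∈ s, Pi.single i (x i)) = 1 := fun s => by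
      induction s using Finset.induction_on with
      | empty => simp
      | insert i s hi ih => rw [Finset.sum_insert hi, AddChar.map_add_eq_mul, h, ih, one_mul]
    exact key _
  let ψ : AddChar F L := μ.compAddMonoidHom (AddMonoidHom.single (fun _ : J => F) i₀)
  have hinj : Function.Injective (dotChar ψ (J := J)) := by
    intro y y' h
    funext i
    by_contra hne
    have h' := DFunLike.congr_fun h (Pi.single i (a / (y i - y' i)))
    simp only [dotChar_apply, Pi.single_apply, ite_mul, zero_mul, Finset.sum_ite_eq',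
      Finset.mem_univ, if_true] at h'
    refine ha ?_
    have : ψ a = 1 := by
      rw [show a = a / (y i - y' i) * y i - a / (y i - y' i) * y' i by
        rw [← mul_sub, div_mul_cancel₀ _ (sub_ne_zero.2 hne)], AddChar.map_sub_eq_div, h', div_self]
      exact fun h0 => by
        have := AddChar.map_add_eq_mul ψ (a / (y i - y' i) * y' i) (-(a / (y i - y' i) * y' i))
        rw [add_neg_cancel, AddChar.map_zero_eq_one, h0, zero_mul] at this
        exact one_ne_zero this
    exact this
  refine ⟨ψ, hinj, ?_⟩
  by_cases h : ∃ y, μ = dotChar ψ y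
  · obtain ⟨y, hy⟩ := h
    refine ⟨y, fun h0 => hμ ?_, hy⟩
    rw [hy, h0]
    exact DFunLike.ext _ _ fun x => by simp [dotChar_apply]
  exfalso
  push Not at h
  -- too many independent characters
  let f : Option (J → F) → (Multiplicative (J → F) →* L) := fun o =>
    AddChar.toMonoidHom (o.elim μ (dotChar ψ))
  have hf : Function.Injective f := by
    intro a b hab
    have hab' : a.elim μ (dotChar ψ) = b.elim μ (dotChar ψ) :=
      DFunLike.ext _ _ fun x => DFunLike.congr_fun hab (Multiplicative.ofAdd x)
    cases a <;> cases b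
    · rfl
    · exact absurd hab' (h _)
    · exact absurd hab'.symm (h _)
    · exact congrArg some (hinj hab')
  have hli := (linearIndependent_monoidHom (Multiplicative (J → F)) L).comp f hf
  have := hli.fintype_card_le_finrank
  rw [Module.finrank_fintype_fun_eq_card, Fintype.card_option, Fintype.card_multiplicative] at this
  omega

end Dot

/-- Base change of a matrix representation to the algebraic closure, as operators. -/
noncomputable def closureRep {K : Type*} [Field K] {d : ℕ} (ρ : G →* GL (Fin d) K) :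
    G →* Module.End (AlgebraicClosure K) (Fin d → AlgebraicClosure K) :=
  (((Matrix.toLinAlgEquiv' (R := AlgebraicClosure K) (n := Fin d)) :
      Matrix (Fin d) (Fin d) (AlgebraicClosure K) →* Module.End (AlgebraicClosure K) _).comp
    ((algebraMap K (AlgebraicClosure K)).mapMatrix (m := Fin d)).toMonoidHom).comp
    ((Units.coeHom _).comp ρ)

theorem closureRep_eq_one_iff {K : Type*} [Field K] {d : ℕ} (ρ : G →* GL (Fin d) K) (g : G) :
    closureRep ρ g = 1 ↔ g ∈ ρ.ker := by
  rw [MonoidHom.mem_ker]
  constructor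
  · intro h
    refine Units.ext ((Matrix.map_injective (algebraMap K (AlgebraicClosure K)).injective) ?_)
    refine (Matrix.toLinAlgEquiv' (R := AlgebraicClosure K) (n := Fin d)).injective ?_
    show closureRep ρ g = Matrix.toLinAlgEquiv' _
    rw [h]
    simp
  · intro h
    simp [closureRep, h]

end CfsgLib.CrossChar
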