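import Mathlib

/-! The arithmetic and inequalities behind the determination of groups with a dihedral centraliser. -/

set_option autoImplicit false

namespace CfsgLib.Char.Exceptional.D8Centralizer

/-- Two signed supports of sizes three and four with inner product two share exactly one member. -/
theorem split_supports {ι : Type*} [Fintype ι] [DecidableEq ι] (o : ι) (m m' : ι → ℤ) (hm : ∑ i, m i * m i = 3)
    (hm' : ∑ i, m' i * m' i = 4) (ho : m o = 1) (ho' : m' o = 1) (hmm : ∑ i, m i * m' i = 2) :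
    ∃ a b c d : ι, [o, a, b, c, d].Nodup ∧ (m a = 1 ∨ m a = -1) ∧ m' a = m a ∧ (m b = 1 ∨ m b = -1) ∧
      (m' c = 1 ∨ m' c = -1) ∧ (m' d = 1 ∨ m' d = -1) ∧
      (∀ i, i ∉ ({o, a, b} : Finset ι) → m i = 0) ∧ (∀ i, i ∉ ({o, a, c, d} : Finset ι) → m' i = 0) := by
  classical
  have hsq : ∀ x : ℤ, x * x < 4 → x = 0 ∨ x = 1 ∨ x = -1 := fun x hx => by
    have h1 : x ≤ 1 := by nlinarith
    have h2 : -1 ≤ x := by nlinarith
    omega
  have herase : ∀ f : ι → ℤ, ∑ i, f i = f o + ∑ i ∈ Finset.univ.erase o, f i := fun f =>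
    (Finset.add_sum_erase _ _ (Finset.mem_univ o)).symm
  rw [herase] at hm hm' hmm
  rw [ho, ho'] at hmm
  rw [ho] at hm
  rw [ho'] at hm'
  set E := (Finset.univ : Finset ι).erase o
  have hval : ∀ i ∈ E, (m i = 0 ∨ m i = 1 ∨ m i = -1) ∧ (m' i = 0 ∨ m' i = 1 ∨ m' i = -1) := fun i hi => by
    have h1 := Finset.single_le_sum (fun j _ => mul_self_nonneg (m j)) hi
    have h2 := Finset.single_le_sum (fun j _ => mul_self_nonneg (m' j)) hi
    exact ⟨hsq _ (by linarith), hsq _ (by linarith)⟩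
  set S := E.filter fun i => m i ≠ 0 with hS
  set T := E.filter fun i => m' i ≠ 0 with hT
  have hcard : ∀ (f : ι → ℤ), (∀ i ∈ E, f i = 0 ∨ f i = 1 ∨ f i = -1) →
      ((E.filter fun i => f i ≠ 0).card : ℤ) = ∑ i ∈ E, f i * f i := fun f hf => by
    rw [Finset.card_filter]
    push_cast
    refine Finset.sum_congr rfl fun i hi => ?_
    rcases hf i hi with h | h | h <;> simp [h]
  have hS2 : S.card = 2 := by
    have := hcard m fun i hi => (hval i hi).1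
    rw [← hS] at this
    omega
  have hT3 : T.card = 3 := by
    have := hcard m' fun i hi => (hval i hi).2
    rw [← hT] at this
    omega
  have hI : ∑ i ∈ S ∩ T, m i * m' i = 1 := by
    have : ∑ i ∈ S ∩ T, m i * m' i = ∑ i ∈ E, m i * m' i := by
      refine Finset.sum_subset (fun i hi => (Finset.mem_filter.1 (Finset.mem_inter.1 hi).1).1) fun i hi hni => ?_
      rw [Finset.mem_inter] at hni
      by_cases h : m i = 0
      · rw [h, zero_mul]
      · have : m' i = 0 := by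
          by_contra h'
          exact hni ⟨Finset.mem_filter.2 ⟨hi, h⟩, Finset.mem_filter.2 ⟨hi, h'⟩⟩
        rw [this, mul_zero]
    rw [this]; linarith
  have hpm : ∀ i ∈ S, m i = 1 ∨ m i = -1 := fun i hi =>
    ((hval i (Finset.mem_filter.1 hi).1).1).resolve_left (Finset.mem_filter.1 hi).2
  have hpm' : ∀ i ∈ T, m' i = 1 ∨ m' i = -1 := fun i hi =>
    ((hval i (Finset.mem_filter.1 hi).1).2).resolve_left (Finset.mem_filter.1 hi).2
  obtain ⟨a, ha⟩ : ∃ a, S ∩ T = {a} := by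
    have hle : (S ∩ T).card ≤ 2 := hS2 ▸ Finset.card_le_card Finset.inter_subset_left
    rcases (by omega : (S ∩ T).card = 0 ∨ (S ∩ T).card = 1 ∨ (S ∩ T).card = 2) with h | h | h
    · rw [Finset.card_eq_zero.1 h, Finset.sum_empty] at hI; omega
    · exact Finset.card_eq_one.1 h
    · obtain ⟨x, y, hxy, he⟩ := Finset.card_eq_two.1 h
      rw [he, Finset.sum_pair hxy] at hI
      have hx : x ∈ S ∩ T := he ▸ Finset.mem_insert_self _ _
      have hy : y ∈ S ∩ T := he ▸ Finset.mem_insert_of_mem (Finset.mem_singleton_self _)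
      rw [Finset.mem_inter] at hx hy
      rcases hpm x hx.1 with h1 | h1 <;> rcases hpm' x hx.2 with h2 | h2 <;>
        rcases hpm y hy.1 with h3 | h3 <;> rcases hpm' y hy.2 with h4 | h4 <;>
        simp [h1, h2, h3, h4] at hI
  rw [ha, Finset.sum_singleton] at hI
  have haS : a ∈ S ∧ a ∈ T := Finset.mem_inter.1 (ha ▸ Finset.mem_singleton_self a)
  obtain ⟨b, hb⟩ := Finset.card_eq_one.1 (by rw [Finset.card_erase_of_mem haS.1, hS2] : (S.erase a).card = 1)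
  obtain ⟨c, d, hcd, hcd'⟩ := Finset.card_eq_two.1 (by rw [Finset.card_erase_of_mem haS.2, hT3] : (T.erase a).card = 2)
  have hbS : b ≠ a ∧ b ∈ S := Finset.mem_erase.1 (hb ▸ Finset.mem_singleton_self b)
  have hcT : c ≠ a ∧ c ∈ T := Finset.mem_erase.1 (hcd' ▸ Finset.mem_insert_self c {d})
  have hdT : d ≠ a ∧ d ∈ T := Finset.mem_erase.1 (hcd' ▸ Finset.mem_insert_of_mem (Finset.mem_singleton_self d))
  have hbnT : b ∉ T := fun h => hbS.1 (Finset.mem_singleton.1 (ha ▸ Finset.mem_inter.2 ⟨hbS.2, h⟩))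
  have hne : ∀ i ∈ E, o ≠ i := fun i hi => (Finset.ne_of_mem_erase hi).symm
  refine ⟨a, b, c, d, ?_, hpm a haS.1, ?_, hpm b hbS.2, hpm' c hcT.2, hpm' d hdT.2, ?_, ?_⟩
  · simp only [List.nodup_cons, List.mem_cons, List.not_mem_nil, or_false, not_or, List.nodup_nil, and_true, not_false_iff]
    exact ⟨⟨hne a (Finset.mem_filter.1 haS.1).1, hne b (Finset.mem_filter.1 hbS.2).1,
      hne c (Finset.mem_filter.1 hcT.2).1, hne d (Finset.mem_filter.1 hdT.2).1⟩,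
      ⟨hbS.1.symm, hcT.1.symm, hdT.1.symm⟩, ⟨fun h => hbnT (h ▸ hcT.2), fun h => hbnT (h ▸ hdT.2)⟩, hcd⟩
  · rcases hpm a haS.1 with h | h <;> rw [h] at hI ⊢ <;> omega
  · intro i hi
    simp only [Finset.mem_insert, Finset.mem_singleton, not_or] at hi
    by_contra h
    have : i ∈ S.erase a := Finset.mem_erase.2 ⟨hi.2.1, Finset.mem_filter.2 ⟨Finset.mem_erase.2 ⟨hi.1, Finset.mem_univ _⟩, h⟩⟩
    rw [hb, Finset.mem_singleton] at this
    exact hi.2.2 this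
  · intro i hi
    simp only [Finset.mem_insert, Finset.mem_singleton, not_or] at hi
    by_contra h
    have : i ∈ T.erase a := Finset.mem_erase.2 ⟨hi.2.1, Finset.mem_filter.2 ⟨Finset.mem_erase.2 ⟨hi.1, Finset.mem_univ _⟩, h⟩⟩
    rw [hcd', Finset.mem_insert, Finset.mem_singleton] at this
    rcases this with h' | h'
    exacts [hi.2.2.1 h', hi.2.2.2 h']

/-- The values at an element with centraliser of order four. -/
theorem forced_four {u₁ u₂ u₃ u₄ : ℂ} (h1 : 1 + u₁ + u₂ = 2) (h2 : 1 + u₁ + u₃ + u₄ = 4)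
    (h : ‖u₁‖ ^ 2 + ‖u₂‖ ^ 2 + ‖u₃‖ ^ 2 + ‖u₄‖ ^ 2 ≤ 3) : u₁ = 1 ∧ u₂ = 0 ∧ u₃ = 1 ∧ u₄ = 1 := by
  simp only [Complex.sq_norm, Complex.normSq_apply] at h
  have a1 := congrArg Complex.re h1
  have a2 := congrArg Complex.re h2
  simp at a1 a2
  have b : (u₁.re - 1) ^ 2 * 5 + (u₃.re - u₄.re) ^ 2 +
      2 * (u₁.im ^ 2 + u₂.im ^ 2 + u₃.im ^ 2 + u₄.im ^ 2) ≤ 0 := by
    have e2 : u₂.re = 1 - u₁.re := by linarith
    have e4 : u₄.re = 3 - u₁.re - u₃.re := by linarith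
    rw [e2, e4] at h
    rw [e4]
    nlinarith
  have z : u₁.re = 1 ∧ u₃.re = u₄.re ∧ u₁.im = 0 ∧ u₂.im = 0 ∧ u₃.im = 0 ∧ u₄.im = 0 := by
    refine ⟨?_, ?_, ?_, ?_, ?_, ?_⟩ <;>
      nlinarith [sq_nonneg (u₁.re - 1), sq_nonneg (u₃.re - u₄.re), sq_nonneg u₁.im, sq_nonneg u₂.im,
        sq_nonneg u₃.im, sq_nonneg u₄.im]
  refine ⟨Complex.ext ?_ ?_, Complex.ext ?_ ?_, Complex.ext ?_ ?_, Complex.ext ?_ ?_⟩ <;>
    simp <;> linarith

/-- The values at an involution with centraliser of order eight. -/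
theorem forced_eight {v₁ v₂ v₃ v₄ : ℂ} (h1 : 1 + v₁ + v₂ = 4) (h2 : 1 + v₁ + v₃ + v₄ = 0)
    (h : ‖v₁‖ ^ 2 + ‖v₂‖ ^ 2 + ‖v₃‖ ^ 2 + ‖v₄‖ ^ 2 ≤ 7) : v₁ = 1 ∧ v₂ = 2 ∧ v₃ = -1 ∧ v₄ = -1 := by
  simp only [Complex.sq_norm, Complex.normSq_apply] at h
  have a1 := congrArg Complex.re h1
  have a2 := congrArg Complex.re h2
  simp at a1 a2
  have b : (v₁.re - 1) ^ 2 * 5 + (v₃.re - v₄.re) ^ 2 +
      2 * (v₁.im ^ 2 + v₂.im ^ 2 + v₃.im ^ 2 + v₄.im ^ 2) ≤ 0 := by
    have e2 : v₂.re = 3 - v₁.re := by linarith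
    have e4 : v₄.re = -1 - v₁.re - v₃.re := by linarith
    rw [e2, e4] at h
    rw [e4]
    nlinarith
  have z : v₁.re = 1 ∧ v₃.re = v₄.re ∧ v₁.im = 0 ∧ v₂.im = 0 ∧ v₃.im = 0 ∧ v₄.im = 0 := by
    refine ⟨?_, ?_, ?_, ?_, ?_, ?_⟩ <;>
      nlinarith [sq_nonneg (v₁.re - 1), sq_nonneg (v₃.re - v₄.re), sq_nonneg v₁.im, sq_nonneg v₂.im,
        sq_nonneg v₃.im, sq_nonneg v₄.im]
  refine ⟨Complex.ext ?_ ?_, Complex.ext ?_ ?_, Complex.ext ?_ ?_, Complex.ext ?_ ?_⟩ <;>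
    simp <;> linarith

/-- The order from the degrees. -/
theorem order_eq {g : ℕ} {A B C D : ℤ} (hg : g ≠ 0) (hA : A ≠ 0) (hB : B ≠ 0) (hC : C ≠ 0) (hD : D ≠ 0)
    (h1 : 1 + A + B = 0) (h2 : 1 + A + C + D = 0) (hc : (8 : ℤ) ∣ C - 3)
    (e1 : (1 : ℚ) + 1 / A + 4 / B = 256 / g) (e2 : (1 : ℚ) + 1 / A + 1 / C + 1 / D = 256 / g) :
    g = 168 ∨ g = 360 := by
  have hA' : (A : ℚ) ≠ 0 := by exact_mod_cast hA
  have hB' : (B : ℚ) ≠ 0 := by exact_mod_cast hB
  have hC' : (C : ℚ) ≠ 0 := by exact_mod_cast hC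
  have hD' : (D : ℚ) ≠ 0 := by exact_mod_cast hD
  have hg' : (g : ℚ) ≠ 0 := by exact_mod_cast hg
  have hCD : (4 : ℚ) / B = 1 / C + 1 / D := by linarith
  field_simp at hCD e1
  have k1 : 4 * (C * D) = B * (D + C) := by
    have : (4 : ℚ) * (C * D) = B * (D + C) := by linarith
    exact_mod_cast this
  have k2 : D + C = B := by omega
  rw [k2] at k1
  have hCeq : C = D := by
    have : (C - D) * (C - D) = 0 := by rw [← k2] at k1; nlinarith
    have := mul_self_eq_zero.1 this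
    omega
  obtain ⟨k, hk⟩ := hc
  have hB2 : B = 2 * C := by omega
  have hA2 : A = -1 - 2 * C := by omega
  have k3 : ((A * B + B + 4 * A) * (g : ℤ)) = 256 * (A * B) := by
    have : ((A : ℚ) * B + B + 4 * A) * g = 256 * (A * B) := by linarith
    exact_mod_cast this
  set m := 2 * k + 1 with hm
  have hC4 : C + 1 = 4 * m := by omega
  have k4 : (g : ℤ) * (m * m) = 8 * ((4 * m - 1) * (8 * m - 1)) := by
    rw [hA2, hB2, show C = 4 * m - 1 by omega] at k3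
    nlinarith
  have hdvd : m ∣ 8 := ⟨(g : ℤ) * m - (256 * m - 96), by linarith [k4]⟩
  have hm1 : m = 1 ∨ m = -1 := by
    have h1 : m ≤ 8 := Int.le_of_dvd (by norm_num) hdvd
    have h2 : -8 ≤ m := by
      have := Int.le_of_dvd (by norm_num) (Int.neg_dvd.2 hdvd)
      omega
    have hodd : m % 2 = 1 := by omega
    have : m.natAbs ∣ 8 := Int.natAbs_dvd_natAbs.2 hdvd
    obtain ⟨c, hc'⟩ := this
    interval_cases m <;> omega
  rcases hm1 with h | h <;> rw [h] at k4 <;> norm_num at k4 <;> omega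

end CfsgLib.Char.Exceptional.D8Centralizer
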