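import Mathlib
import Cfsg.Agent.Lib.Char.Exceptional.Virtual
import Cfsg.Agent.Lib.Char.Exceptional.TISet
import Cfsg.Agent.Lib.Char.Complete
import Cfsg.Agent.Lib.Char.Central
import Cfsg.Agent.Lib.Char.Perm

/-! Two special generalized characters of the dihedral group of order eight. -/

set_option autoImplicit false

open scoped ComplexConjugate
open CfsgLib.Char DihedralGroup

namespace CfsgLib.Char.Exceptional.D8Centralizer

/-- Values of the first special function. -/
def f1 : DihedralGroup 4 → ℤ
  | .r i => if i = 0 then 0 else if i = 2 then 4 else 2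
  | .sr _ => 0

/-- Values of the second special function. -/
def f2 : DihedralGroup 4 → ℤ
  | .r i => if i = 0 ∨ i = 2 then 0 else 4
  | .sr _ => 0

/-- The sign character with cyclic kernel. -/
def e0 : DihedralGroup 4 →* ℤˣ where
  toFun g := match g with
    | .r _ => 1
    | .sr _ => -1
  map_one' := rfl
  map_mul' := by decide

/-- The parity character. -/
def e1 : DihedralGroup 4 →* ℤˣ where
  toFun g := match g with
    | .r i => if i = 0 ∨ i = 2 then 1 else -1
    | .sr i => if i = 0 ∨ i = 2 then 1 else -1
  map_one' := rfl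
  map_mul' := by decide

/-- The action on four points. -/
def act : DihedralGroup 4 → ZMod 4 → ZMod 4
  | .r i, x => x - i
  | .sr i, x => i - x

theorem act_one : ∀ x, act 1 x = x := by decide

theorem act_mul : ∀ a b x, act (a * b) x = act a (act b x) := by decide

/-- The number of fixed points. -/
def fixN (g : DihedralGroup 4) : ℤ := (Finset.univ.filter fun x => act g x = x).card

theorem f1_eq : ∀ g, f1 g = 2 + (e0 g : ℤ) + (e1 g : ℤ) - fixN g := by decide

theorem f2_eq : ∀ g, f2 g = 1 + (e0 g : ℤ) - (e1 g : ℤ) - (e0 g : ℤ) * (e1 g : ℤ) := by decide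

theorem isGen_signs (l : DihedralGroup 4 →* ℤˣ) :
    Cfsg.IsGeneralizedCharacter (DihedralGroup 4) (fun g => ((l g : ℤ) : ℂ)) := by
  have h := isIrrCharacter_linear ((Units.map (Int.castRingHom ℂ).toMonoidHom).comp l)
  exact IsGen.of_irr h

theorem isGen_fixN : Cfsg.IsGeneralizedCharacter (DihedralGroup 4) (fun g => (fixN g : ℂ)) := by
  letI : MulAction (DihedralGroup 4) (ZMod 4) :=
    { smul := act, mul_smul := act_mul, one_smul := act_one }
  have h : (fun g => (fixN g : ℂ)) = permChar (DihedralGroup 4) (ZMod 4) := by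
    funext g
    rw [permChar, fixN, Int.cast_natCast, Nat.cast_inj]
    rw [← Fintype.card_subtype, ← Nat.card_eq_fintype_card]
    exact Nat.card_congr (Equiv.refl _)
  rw [h]
  exact IsGen.of_char isCharacter_permChar

theorem isGen_f1 : Cfsg.IsGeneralizedCharacter (DihedralGroup 4) (fun g => (f1 g : ℂ)) := by
  have h := IsGen.sub (IsGen.add (IsGen.add (IsGen.add isGen_one isGen_one) (isGen_signs e0)) (isGen_signs e1))
    isGen_fixN
  convert h using 1
  funext g
  simp only [f1_eq, Pi.sub_apply, Pi.add_apply]
  push_cast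
  ring

theorem isGen_f2 : Cfsg.IsGeneralizedCharacter (DihedralGroup 4) (fun g => (f2 g : ℂ)) := by
  have h := IsGen.sub (IsGen.sub (IsGen.add isGen_one (isGen_signs e0)) (isGen_signs e1))
    (IsGen.mul (isGen_signs e0) (isGen_signs e1))
  convert h using 1
  funext g
  simp only [f2_eq, Pi.sub_apply, Pi.add_apply, Pi.mul_apply]
  push_cast
  ring

end CfsgLib.Char.Exceptional.D8Centralizer
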