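import Mathlib
import Cfsg.Agent.Lib.Char.Exceptional.D8Arith
import Cfsg.Agent.Lib.Char.Exceptional.D8Data
import Cfsg.Agent.Lib.Transfer.ThompsonTransfer

/-! A perfect group with an involution whose centraliser is dihedral of order eight has order 168 or 360. -/

set_option autoImplicit false

open scoped ComplexConjugate commutatorElement
open CfsgLib.Char DihedralGroup

namespace CfsgLib.Char.Exceptional.D8Centralizer

variable {G : Type*} [Group G] [Fintype G]

theorem sum_pullback {H K M : Type*} [Group H] [Group K] [Fintype H] [Fintype K] [AddCommMonoid M] (e : H ≃* K)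
    (f : K → M) : ∑ h : H, f (e h) = ∑ k : K, f k :=
  Fintype.sum_equiv e.toEquiv _ _ fun _ => rfl

/-- The pair sum of an irreducible character over a class squared. -/
theorem class_pair_sum (θ : Cfsg.IrrCharacter G) {d : ℕ} (hd : (θ : G → ℂ) 1 = d) (t : G) :
    ∑ a ∈ CharIntegral.classFinset t, ∑ b ∈ CharIntegral.classFinset t, (θ : G → ℂ) (a * b) =
      ((Subgroup.centralizer ({t} : Set G)).index : ℂ) ^ 2 * (θ : G → ℂ) t ^ 2 / d := by
  obtain ⟨k, ρ, hρ, he⟩ := θ.2
  haveI := hρ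
  rw [← he, Representation.char_one, Nat.cast_inj] at hd
  rw [← he]
  simp only [Representation.character, map_mul]
  rw [Finset.sum_congr rfl fun a _ => (map_sum (LinearMap.trace ℂ _) (fun b => ρ a * ρ b) _).symm,
    ← map_sum]
  simp only [← Finset.mul_sum]
  rw [← Finset.sum_mul, CharIntegral.classSum_eq_scalar ρ t, hd]
  have h0 : (d : ℂ) ≠ 0 := by rw [← hd]; exact CharIntegral.finrank_cast_ne_zero ρ
  simp only [Module.End.mul_eq_comp, LinearMap.comp_smul, LinearMap.smul_comp, LinearMap.comp_id, smul_smul,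
    map_smul, LinearMap.trace_id, hd, smul_eq_mul, Representation.character]
  field_simp

theorem order_of_d8 (hperf : commutator G = ⊤) (t : G) (ht : orderOf t = 2)
    (e : Subgroup.centralizer ({t} : Set G) ≃* DihedralGroup 4) : Nat.card G = 168 ∨ Nat.card G = 360 := by
  classical
  set H := Subgroup.centralizer ({t} : Set G) with hH
  have hcardH : Nat.card H = 8 := by
    rw [Nat.card_congr e.toEquiv, DihedralGroup.nat_card]
  have htH : t ∈ H := Subgroup.mem_centralizer_singleton_iff.2 rfl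
  have hmemH : ∀ x : G, x ∈ H ↔ x * t = t * x := fun x => Subgroup.mem_centralizer_singleton_iff
  have hcent : ∀ z : DihedralGroup 4, z ≠ 1 → (∀ g, g * z = z * g) → z = r 2 := by decide
  have ht2 : t * t = 1 := by rw [← pow_two, ← ht, pow_orderOf_eq_one]
  have ht1 : t ≠ 1 := fun h => by rw [h, orderOf_one] at ht; omega
  have het : e ⟨t, htH⟩ = r 2 := by
    refine hcent _ (fun h => ht1 ?_) fun g => ?_
    · exact congrArg Subtype.val (e.injective (h.trans e.map_one.symm))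
    · obtain ⟨x, rfl⟩ := e.surjective g
      rw [← map_mul, ← map_mul]
      exact congrArg e (Subtype.ext ((hmemH _).1 x.2))
  set w := e.symm (r 1) with hwdef
  set rG : G := (w : G) with hrG
  have hr2 : rG * rG = t := by
    have : e (w * w) = e ⟨t, htH⟩ := by rw [map_mul, hwdef, e.apply_symm_apply, het]; rfl
    exact congrArg Subtype.val (e.injective this)
  -- the Sylow subgroup
  obtain ⟨P, hP⟩ := (IsPGroup.of_card (p := 2) (n := 3) hcardH).exists_le_sylow
  have hPH : (P : Subgroup G) = H := by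
    by_contra hne
    haveI : Group.IsNilpotent (P : Subgroup G) := P.2.isNilpotent
    have hlt : H.subgroupOf (P : Subgroup G) < ⊤ := by
      rw [lt_top_iff_ne_top, Ne, Subgroup.subgroupOf_eq_top]
      exact fun h => hne (le_antisymm h hP)
    obtain ⟨n, hn, hnH⟩ := SetLike.exists_of_lt (normalizerCondition_of_isNilpotent _ hlt)
    refine hnH (Subgroup.mem_subgroupOf.2 ((hmemH _).2 ?_))
    have hnorm : ∀ x : G, x ∈ H → (n : G) * x * (n : G)⁻¹ ∈ H := fun x hx =>
      (Subgroup.mem_normalizer_iff.1 hn ⟨x, hP hx⟩).1 hx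
    have hnorm' : ∀ x : G, x ∈ H → (n : G)⁻¹ * x * n ∈ H := fun x hx => by
      have h := (Subgroup.mem_normalizer_iff.1 (Subgroup.inv_mem _ hn) ⟨x, hP hx⟩).1 hx
      simpa [Subgroup.mem_subgroupOf] using h
    have hz := hnorm t htH
    have hzval : e ⟨_, hz⟩ = r 2 := by
      refine hcent _ (fun h => ht1 ?_) fun g => ?_
      · have h1 : (n : G) * t * (n : G)⁻¹ = 1 := congrArg Subtype.val (e.injective (h.trans e.map_one.symm))
        rwa [conj_eq_one_iff] at h1
      · obtain ⟨x, rfl⟩ := e.surjective g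
        rw [← map_mul, ← map_mul]
        refine congrArg e (Subtype.ext ?_)
        show (x : G) * ((n : G) * t * (n : G)⁻¹) = (n : G) * t * (n : G)⁻¹ * x
        have hc := (hmemH _).1 (hnorm' x x.2)
        calc (x : G) * ((n : G) * t * (n : G)⁻¹) = n * ((n : G)⁻¹ * x * n * t) * (n : G)⁻¹ := by group
          _ = _ := by rw [hc]; group
    have heq : (n : G) * t * (n : G)⁻¹ = t := congrArg Subtype.val (e.injective (hzval.trans het.symm))
    exact mul_inv_eq_iff_eq_mul.1 heq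
  have horder : ∀ x : H, orderOf (x : G) = 2 ↔ (e x ≠ 1 ∧ e x * e x = 1) := fun x => by
    rw [← map_mul, Ne, EmbeddingLike.map_eq_one_iff, EmbeddingLike.map_eq_one_iff, orderOf_eq_prime_iff,
      pow_two, ← Subgroup.coe_mul, OneMemClass.coe_eq_one, Ne, OneMemClass.coe_eq_one]
    exact and_comm
  -- all involutions are conjugate
  have hinv : ∀ u : G, orderOf u = 2 → IsConj t u := by
    intro u hu
    set Q := Subgroup.zpowers rG with hQ
    have hrord : orderOf rG = 4 := by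
      refine orderOf_eq_prime_pow (p := 2) (n := 1) ?_ ?_
      · rw [pow_one, pow_two, hr2]; exact ht1
      · rw [show 2 ^ (1 + 1) = 2 * 2 from rfl, pow_mul, pow_two, pow_two, hr2, ht2]
    have hQi : Q.relIndex (P : Subgroup G) = 2 := by
      rw [hPH]
      have h := Subgroup.relIndex_mul_relIndex ⊥ Q H bot_le (by rw [hQ, Subgroup.zpowers_le]; exact w.2)
      rw [Subgroup.relIndex_bot_left, Subgroup.relIndex_bot_left, Nat.card_zpowers, hrord, hcardH] at h
      omega
    rcases CfsgLib.Transfer.thompson_transfer P Q hQi hu with ⟨M, hMn, hMi, -⟩ | ⟨g, hg⟩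
    · exfalso
      haveI := hMn
      have hle : commutator G ≤ M := by
        haveI : IsMulCommutative (G ⧸ M) := by
          haveI : Fact (Nat.Prime 2) := ⟨Nat.prime_two⟩
          haveI := isCyclic_of_prime_card (p := 2) (α := G ⧸ M) (by rw [← Subgroup.index_eq_card, hMi])
          infer_instance
        rw [commutator_def, Subgroup.commutator_le]
        intro x _ y _
        rw [← QuotientGroup.eq_one_iff]
        show (QuotientGroup.mk' M) ⁅x, y⁆ = 1
        rw [map_commutatorElement, commutatorElement_eq_one_iff_mul_comm]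
        exact IsMulCommutative.is_comm.comm _ _
      rw [hperf, top_le_iff] at hle
      rw [hle, Subgroup.index_top] at hMi
      omega
    · refine IsConj.symm (isConj_iff.2 ⟨g, ?_⟩)
      obtain ⟨i, hi⟩ := Subgroup.mem_zpowers_iff.1 hg
      have ho : orderOf (g * u * g⁻¹) = 2 := by rw [orderOf_conj_eq]; exact hu
      have hgH : g * u * g⁻¹ ∈ H := hi ▸ zpow_mem w.2 i
      have h2 := (horder ⟨_, hgH⟩).1 ho
      have hz : e ⟨_, hgH⟩ = (r 1) ^ i := by
        rw [show (⟨_, hgH⟩ : H) = w ^ i from Subtype.ext (by rw [Subgroup.coe_zpow]; exact hi.symm), map_zpow,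
          hwdef, e.apply_symm_apply]
      have hfour : ∀ j : ZMod 4, r j ≠ (1 : DihedralGroup 4) → r j * r j = 1 → (r j : DihedralGroup 4) = r 2 := by
        decide
      rw [hz, DihedralGroup.r_one_zpow] at h2
      have h3 : e ⟨_, hgH⟩ = e ⟨t, htH⟩ := by rw [het, hz, DihedralGroup.r_one_zpow, hfour _ h2.1 h2.2]
      exact congrArg Subtype.val (e.injective h3)
  -- the special classes
  set S : Set G := {x | ∃ h : H, (h : G) = x ∧ (e h = r 1 ∨ e h = r 2 ∨ e h = r 3)} with hS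
  have hSH : S ⊆ H := by rintro _ ⟨h, rfl, -⟩; exact h.2
  have hr3 : ((e.symm (r 3) : H) : G) = rG⁻¹ := by
    rw [hrG, ← Subgroup.coe_inv, hwdef, ← map_inv]; rfl
  have hr2' : ((e.symm (r 2) : H) : G) = t := by rw [← het, e.symm_apply_apply]
  have hSmem : ∀ x ∈ S, x = rG ∨ x = t ∨ x = rG⁻¹ := by
    rintro _ ⟨h, rfl, hh | hh | hh⟩
    · exact Or.inl (by rw [← e.symm_apply_apply h, hh, ← hwdef])
    · exact Or.inr (Or.inl (by rw [← e.symm_apply_apply h, hh, hr2']))
    · exact Or.inr (Or.inr (by rw [← e.symm_apply_apply h, hh, hr3]))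
  have hsq : ∀ x, x = rG ∨ x = rG⁻¹ → x * x = t := by
    rintro x (rfl | rfl)
    · exact hr2
    · rw [← mul_inv_rev, hr2, inv_eq_of_mul_eq_one_right ht2]
  have hrne : ∀ x, x = rG ∨ x = rG⁻¹ → x * x ≠ 1 := fun x hx => hsq x hx ▸ ht1
  have hTI : ∀ g : G, g ∉ H → ∀ s ∈ S, g * s * g⁻¹ ∉ S := by
    intro g hg s hs hs'
    apply hg
    rw [hmemH, ← mul_inv_eq_iff_eq_mul]
    have hsq' : ∀ x : G, g * x * g⁻¹ * (g * x * g⁻¹) = g * (x * x) * g⁻¹ := fun x => by group
    rcases hSmem s hs with hr | hr | hr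
    · rcases hSmem _ hs' with h | h | h
      · rw [← hsq s (Or.inl hr), ← hsq', hsq _ (Or.inl h), hsq s (Or.inl hr)]
      · exfalso
        have := congrArg (fun x => x * x) h
        simp only [hsq', hsq s (Or.inl hr), ht2, conj_eq_one_iff] at this
        exact ht1 this
      · rw [← hsq s (Or.inl hr), ← hsq', hsq _ (Or.inr h), hsq s (Or.inl hr)]
    · subst hr
      rcases hSmem _ hs' with h | h | h
      · exact absurd (by rw [hsq', ht2]; group) (hrne _ (Or.inl h))
      · exact h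
      · exact absurd (by rw [hsq', ht2]; group) (hrne _ (Or.inr h))
    · rcases hSmem _ hs' with h | h | h
      · rw [← hsq s (Or.inr hr), ← hsq', hsq _ (Or.inl h), hsq s (Or.inr hr)]
      · exfalso
        have := congrArg (fun x => x * x) h
        simp only [hsq', hsq s (Or.inr hr), ht2, conj_eq_one_iff] at this
        exact ht1 this
      · rw [← hsq s (Or.inr hr), ← hsq', hsq _ (Or.inr h), hsq s (Or.inr hr)]
  have hSinv : ∀ s ∈ S, s⁻¹ ∈ S := by
    rintro _ ⟨h, rfl, hh⟩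
    refine ⟨h⁻¹, rfl, ?_⟩
    rw [map_inv]
    rcases hh with hh | hh | hh <;> rw [hh] <;> decide
  -- the centraliser of the element of order four
  have hCr : Nat.card (Subgroup.centralizer ({rG} : Set G)) = 4 := by
    have hle : ∀ x, x ∈ Subgroup.centralizer ({rG} : Set G) → x ∈ H := fun x hx => by
      rw [Subgroup.mem_centralizer_singleton_iff] at hx
      rw [hmemH, ← hr2, ← mul_assoc, hx, mul_assoc, hx, ← mul_assoc]
    have hiff : ∀ x : H, (x : G) ∈ Subgroup.centralizer ({rG} : Set G) ↔ e x * r 1 = r 1 * e x := fun x => by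
      rw [Subgroup.mem_centralizer_singleton_iff, hrG, ← Subgroup.coe_mul, ← Subgroup.coe_mul, ← Subtype.ext_iff,
        ← e.injective.eq_iff, map_mul, map_mul, hwdef, e.apply_symm_apply]
    rw [show (4 : ℕ) = Fintype.card {g : DihedralGroup 4 // g * r 1 = r 1 * g} by decide,
      ← Nat.card_eq_fintype_card]
    exact Nat.card_congr
      { toFun := fun x => ⟨e ⟨x.1, hle _ x.2⟩, (hiff ⟨x.1, hle _ x.2⟩).1 x.2⟩
        invFun := fun g => ⟨(e.symm g.1 : H), (hiff _).2 (by rw [e.apply_symm_apply]; exact g.2)⟩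
        left_inv := fun x => Subtype.ext (by simp)
        right_inv := fun g => Subtype.ext (by simp) }
  -- the induced generalized characters
  letI : Fintype H := Fintype.ofFinite H
  let φ : (DihedralGroup 4 → ℤ) → H → ℂ := fun f h => (f (e h) : ℂ)
  have hgen : ∀ f : DihedralGroup 4 → ℤ, Cfsg.IsGeneralizedCharacter (DihedralGroup 4) (fun g => (f g : ℂ)) →
      Cfsg.IsGeneralizedCharacter H (φ f) := fun f hf => IsGen.comp e.toMonoidHom hf
  have hsupp : ∀ f : DihedralGroup 4 → ℤ, (∀ g, f g ≠ 0 → g = r 1 ∨ g = r 2 ∨ g = r 3) →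
      ∀ h : H, (h : G) ∉ S → φ f h = 0 := fun f hf h hh => by
    show ((f (e h) : ℤ) : ℂ) = 0
    by_contra h0
    exact hh ⟨h, rfl, hf _ fun h1 => h0 (by rw [h1, Int.cast_zero])⟩
  have hsuppf1 : ∀ g, f1 g ≠ 0 → g = r 1 ∨ g = r 2 ∨ g = r 3 := by decide
  have hsuppf2 : ∀ g, f2 g ≠ 0 → g = r 1 ∨ g = r 2 ∨ g = r 3 := by decide
  have hcardC : (Nat.card H : ℂ) = 8 := by rw [hcardH]; norm_num
  have hinner : ∀ f f' : DihedralGroup 4 → ℤ,
      Cfsg.classInner (φ f) (φ f') = (8 : ℂ)⁻¹ * ((∑ g, f g * f' g : ℤ) : ℂ) := fun f f' => by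
    rw [Cfsg.classInner, hcardC, ← sum_pullback e, Int.cast_sum]
    congr 1
    exact Finset.sum_congr rfl fun h _ => by simp [φ]
  have hone : ∀ f : DihedralGroup 4 → ℤ,
      Cfsg.classInner (Cfsg.indFun H (φ f)) (fun _ => 1) = (8 : ℂ)⁻¹ * ((∑ g, f g : ℤ) : ℂ) := fun f => by
    rw [frobenius_reciprocity H (φ f) (fun _ _ => rfl), Cfsg.classInner, hcardC, ← sum_pullback e, Int.cast_sum]
    congr 1
    exact Finset.sum_congr rfl fun h _ => by simp [φ]
  have hcl : ∀ f, Cfsg.IsGeneralizedCharacter (DihedralGroup 4) (fun g => (f g : ℂ)) →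
      Cfsg.IsClassFunction H (φ f) := fun f hf => IsGen.isClassFunction (hgen f hf)
  set Φ₁ := Cfsg.indFun H (φ f1) with hΦ₁
  set Φ₂ := Cfsg.indFun H (φ f2) with hΦ₂
  letI := Fintype.ofFinite (Cfsg.IrrCharacter G)
  obtain ⟨m, hm⟩ := IsGen.exists_sum (IsGen.indFun H (hgen f1 isGen_f1))
  obtain ⟨m', hm'⟩ := IsGen.exists_sum (IsGen.indFun H (hgen f2 isGen_f2))
  rw [← hΦ₁] at hm
  rw [← hΦ₂] at hm'
  have hdot : ∀ a b : Cfsg.IrrCharacter G → ℤ,
      Cfsg.classInner (∑ θ, (a θ : ℂ) • (θ : G → ℂ)) (∑ θ, (b θ : ℂ) • (θ : G → ℂ)) =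
        ((∑ θ, a θ * b θ : ℤ) : ℂ) := fun a b => by
    rw [classInner_sum_right]
    simp only [classInner_smul_right, classInner_sum_irr, map_intCast, Int.cast_sum, Int.cast_mul]
    exact Finset.sum_congr rfl fun θ _ => mul_comm _ _
  have hmm : ∑ θ, m θ * m θ = 3 := by
    have h := hdot m m
    rw [← hm, hΦ₁, ti_indFun_inner hTI (hsupp _ hsuppf1) (hcl _ isGen_f1) (hsupp _ hsuppf1), hinner,
      show (∑ g, f1 g * f1 g : ℤ) = 24 by decide] at h
    norm_num at h
    exact_mod_cast h.symm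
  have hmm' : ∑ θ, m' θ * m' θ = 4 := by
    have h := hdot m' m'
    rw [← hm', hΦ₂, ti_indFun_inner hTI (hsupp _ hsuppf2) (hcl _ isGen_f2) (hsupp _ hsuppf2), hinner,
      show (∑ g, f2 g * f2 g : ℤ) = 32 by decide] at h
    norm_num at h
    exact_mod_cast h.symm
  have hmm12 : ∑ θ, m θ * m' θ = 2 := by
    have h := hdot m m'
    rw [← hm, ← hm', hΦ₁, hΦ₂, ti_indFun_inner hTI (hsupp _ hsuppf1) (hcl _ isGen_f2) (hsupp _ hsuppf2), hinner,
      show (∑ g, f1 g * f2 g : ℤ) = 16 by decide] at h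
    norm_num at h
    exact_mod_cast h.symm
  have hm0 : m (trivChar G) = 1 := by
    have h := classInner_sum_irr (fun θ => (m θ : ℂ)) (trivChar G)
    rw [← hm] at h
    have h1 := hone f1
    rw [show (∑ g, f1 g : ℤ) = 8 by decide] at h1
    have h2 : Cfsg.classInner Φ₁ (fun _ => 1) = (m (trivChar G) : ℂ) := h
    rw [hΦ₁, h1] at h2
    norm_num at h2
    exact_mod_cast h2.symm
  have hm0' : m' (trivChar G) = 1 := by
    have h := classInner_sum_irr (fun θ => (m' θ : ℂ)) (trivChar G)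
    rw [← hm'] at h
    have h1 := hone f2
    rw [show (∑ g, f2 g : ℤ) = 8 by decide] at h1
    have h2 : Cfsg.classInner Φ₂ (fun _ => 1) = (m' (trivChar G) : ℂ) := h
    rw [hΦ₂, h1] at h2
    norm_num at h2
    exact_mod_cast h2.symm
  obtain ⟨a, b, c, d, hnd, ha, hab', hb, hc, hd, hsm, hsm'⟩ :=
    split_supports (trivChar G) m m' hmm hmm' hm0 hm0' hmm12
  simp only [List.nodup_cons, List.mem_cons, List.not_mem_nil, or_false, not_or, List.nodup_nil, and_true,
    not_false_iff] at hnd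
  obtain ⟨⟨hoa, hob, hoc, hod⟩, ⟨nab, nac, nad⟩, ⟨nbc, nbd⟩, ncd⟩ := hnd
  have happly : ∀ (L : Cfsg.IrrCharacter G → ℂ), ∑ θ, (m θ : ℂ) * L θ =
      L (trivChar G) + (m a : ℂ) * L a + (m b : ℂ) * L b := fun L => by
    rw [← Finset.sum_subset (Finset.subset_univ {trivChar G, a, b}) fun θ _ hθ => by simp [hsm θ hθ]]
    simp [Finset.sum_insert, hoa, hob, nab, hm0, add_assoc]
  have happly' : ∀ (L : Cfsg.IrrCharacter G → ℂ), ∑ θ, (m' θ : ℂ) * L θ =
      L (trivChar G) + (m a : ℂ) * L a + (m' c : ℂ) * L c + (m' d : ℂ) * L d := fun L => by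
    rw [← Finset.sum_subset (Finset.subset_univ {trivChar G, a, c, d}) fun θ _ hθ => by simp [hsm' θ hθ]]
    simp [Finset.sum_insert, hoa, hoc, hod, nac, nad, ncd, hm0', hab', add_assoc]
  have hev : ∀ g, Φ₁ g = 1 + (m a : ℂ) * (a : G → ℂ) g + (m b : ℂ) * (b : G → ℂ) g := fun g => by
    rw [hm, Finset.sum_apply]
    simp only [Pi.smul_apply, smul_eq_mul]
    rw [happly fun θ => (θ : G → ℂ) g, trivChar_apply]
  have hev' : ∀ g, Φ₂ g = 1 + (m a : ℂ) * (a : G → ℂ) g + (m' c : ℂ) * (c : G → ℂ) g +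
      (m' d : ℂ) * (d : G → ℂ) g := fun g => by
    rw [hm', Finset.sum_apply]
    simp only [Pi.smul_apply, smul_eq_mul]
    rw [happly' fun θ => (θ : G → ℂ) g, trivChar_apply]
  -- the values at the two elements
  have hval : ∀ f, (∀ g, f g ≠ 0 → g = r 1 ∨ g = r 2 ∨ g = r 3) →
      Cfsg.IsGeneralizedCharacter (DihedralGroup 4) (fun g => (f g : ℂ)) →
      ∀ h : H, (e h = r 1 ∨ e h = r 2 ∨ e h = r 3) → Cfsg.indFun H (φ f) (h : G) = (f (e h) : ℂ) :=
    fun f hf hfg h hh => ti_indFun_eq hTI (hcl f hfg) (hsupp f hf) ⟨h, rfl, hh⟩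
  have v1 : Φ₁ t = 4 := by
    have h := hval f1 hsuppf1 isGen_f1 ⟨t, htH⟩ (by rw [het]; simp)
    rw [het] at h
    rw [hΦ₁, h, show f1 (r 2) = 4 by decide]; norm_num
  have v2 : Φ₂ t = 0 := by
    have h := hval f2 hsuppf2 isGen_f2 ⟨t, htH⟩ (by rw [het]; simp)
    rw [het] at h
    rw [hΦ₂, h, show f2 (r 2) = 0 by decide]; norm_num
  have hew : e w = r 1 := by rw [hwdef, e.apply_symm_apply]
  have w1 : Φ₁ rG = 2 := by
    have h := hval f1 hsuppf1 isGen_f1 w (by rw [hew]; simp)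
    rw [hew] at h
    rw [hΦ₁, hrG, h, show f1 (r 1) = 2 by decide]; norm_num
  have w2 : Φ₂ rG = 4 := by
    have h := hval f2 hsuppf2 isGen_f2 w (by rw [hew]; simp)
    rw [hew] at h
    rw [hΦ₂, hrG, h, show f2 (r 1) = 4 by decide]; norm_num
  -- column orthogonality bounds
  have hcol : ∀ (g : G) (N : ℕ), Nat.card (Subgroup.centralizer ({g} : Set G)) = N →
      ‖(m a : ℂ) * (a : G → ℂ) g‖ ^ 2 + ‖(m b : ℂ) * (b : G → ℂ) g‖ ^ 2 +
        ‖(m' c : ℂ) * (c : G → ℂ) g‖ ^ 2 + ‖(m' d : ℂ) * (d : G → ℂ) g‖ ^ 2 ≤ (N : ℝ) - 1 := by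
    intro g N hN
    have hsgn : ∀ x : ℤ, (x = 1 ∨ x = -1) → ∀ z : ℂ, ‖(x : ℂ) * z‖ = ‖z‖ := by
      rintro x (rfl | rfl) z <;> simp
    rw [hsgn _ ha, hsgn _ hb, hsgn _ hc, hsgn _ hd]
    have h := column_orthogonality g g
    rw [if_pos (IsConj.refl g), hN] at h
    have h2 : ∑ θ : Cfsg.IrrCharacter G, ‖(θ : G → ℂ) g‖ ^ 2 = (N : ℝ) := by
      apply Complex.ofReal_injective
      push_cast
      rw [← h]
      exact Finset.sum_congr rfl fun θ _ => (Complex.mul_conj' _).symm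
    have h3 := Finset.sum_le_sum_of_subset_of_nonneg (Finset.subset_univ {trivChar G, a, b, c, d})
      (f := fun θ : Cfsg.IrrCharacter G => ‖(θ : G → ℂ) g‖ ^ 2) fun θ _ _ => sq_nonneg _
    rw [h2] at h3
    simp [Finset.sum_insert, hoa, hob, hoc, hod, nab, nac, nad, nbc, nbd, ncd] at h3
    linarith
  have hCt : Nat.card (Subgroup.centralizer ({t} : Set G)) = 8 := hcardH
  obtain ⟨va, vb, vc, vd⟩ := forced_eight (by rw [← hev, v1]) (by rw [← hev', v2])
    ((hcol t 8 hCt).trans_eq (by norm_num))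
  obtain ⟨ua, ub, uc, ud⟩ := forced_four (by rw [← hev, w1]) (by rw [← hev', w2])
    ((hcol rG 4 hCr).trans_eq (by norm_num))
  -- the degrees
  choose dg hdg0 hdg using fun θ : Cfsg.IrrCharacter G => IsIrr.exists_degree θ.2
  have h01 : ∀ f : DihedralGroup 4 → ℤ, f 1 = 0 → Cfsg.indFun H (φ f) 1 = 0 := fun f hf => by
    rw [indFun_apply_one]
    simp [φ, hf]
  set A : ℤ := m a * dg a with hA
  set B : ℤ := m b * dg b with hB
  set C : ℤ := m' c * dg c with hC
  set D : ℤ := m' d * dg d with hD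
  have e1 : 1 + A + B = 0 := by
    have h := hev 1
    rw [hΦ₁, h01 f1 (by decide), hdg, hdg] at h
    have : ((1 + A + B : ℤ) : ℂ) = 0 := by rw [h, hA, hB]; push_cast; ring
    exact_mod_cast this
  have e2 : 1 + A + C + D = 0 := by
    have h := hev' 1
    rw [hΦ₂, h01 f2 (by decide), hdg, hdg, hdg] at h
    have : ((1 + A + C + D : ℤ) : ℂ) = 0 := by rw [h, hA, hC, hD]; push_cast; ring
    exact_mod_cast this
  -- the congruence from the trivial multiplicity on `H`
  have hcong : ∀ θ : Cfsg.IrrCharacter G, ∃ k : ℤ,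
      (dg θ : ℂ) + 5 * (θ : G → ℂ) t + 2 * (θ : G → ℂ) rG = 8 * k := by
    intro θ
    obtain ⟨k, hk⟩ := IsChar.classInner_eq_natCast (IsChar.restrict H (IsIrr.isCharacter θ.2))
      (isCharacter_one (G := H))
    refine ⟨k, ?_⟩
    have hcls : ∀ x : H, e x ≠ 1 → e x * e x = 1 → (θ : G → ℂ) x = (θ : G → ℂ) t := fun x h1 h2 => by
      obtain ⟨g, hg⟩ := isConj_iff.1 (hinv x ((horder x).2 ⟨h1, h2⟩))
      rw [← hg]; exact IsIrr.isClassFunction θ.2 t g
    have hinvr : (θ : G → ℂ) ((e.symm (r 3) : H) : G) = (θ : G → ℂ) rG := by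
      have : e.symm (r 3) = e.symm (sr 0) * w * (e.symm (sr 0))⁻¹ := by
        rw [hwdef, ← map_inv, ← map_mul, ← map_mul]; rfl
      rw [this, Subgroup.coe_mul, Subgroup.coe_mul, Subgroup.coe_inv]
      exact IsIrr.isClassFunction θ.2 _ _
    let F : DihedralGroup 4 → ℂ := fun g => (θ : G → ℂ) ((e.symm g : H) : G)
    have hsum : ∑ g, F g = (8 : ℂ) * k := by
      have h := hk
      rw [Cfsg.classInner, hcardC] at h
      simp only [map_one, mul_one] at h
      rw [← h, ← sum_pullback e F, ← mul_assoc, mul_inv_cancel₀ (by norm_num : (8 : ℂ) ≠ 0), one_mul]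
      exact Finset.sum_congr rfl fun h _ => by simp [F]
    have hF : ∀ g, F g = if g = 1 then (dg θ : ℂ) else if g = r 1 ∨ g = r 3 then (θ : G → ℂ) rG else (θ : G → ℂ) t := by
      intro g
      by_cases h1 : g = 1
      · rw [if_pos h1, h1]
        show (θ : G → ℂ) ((e.symm 1 : H) : G) = _
        rw [map_one, OneMemClass.coe_one, hdg]
      rw [if_neg h1]
      by_cases h3 : g = r 1 ∨ g = r 3
      · rw [if_pos h3]
        rcases h3 with rfl | rfl
        · rfl
        · exact hinvr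
      · rw [if_neg h3]
        have hinv2 : ∀ g : DihedralGroup 4, g ≠ 1 → ¬ (g = r 1 ∨ g = r 3) → g * g = 1 := by decide
        exact hcls _ (by rw [e.apply_symm_apply]; exact h1) (by rw [e.apply_symm_apply]; exact hinv2 g h1 h3)
    rw [Int.cast_natCast, ← hsum, Finset.sum_congr rfl fun g _ => hF g, Finset.sum_ite, Finset.sum_ite, Finset.sum_const,
      Finset.sum_const, Finset.sum_const,
      show ((Finset.univ : Finset (DihedralGroup 4)).filter fun g => g = 1).card = 1 by decide,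
      show (((Finset.univ : Finset (DihedralGroup 4)).filter fun g => ¬g = 1).filter fun g => g = r 1 ∨ g = r 3).card = 2 by decide,
      show (((Finset.univ : Finset (DihedralGroup 4)).filter fun g => ¬g = 1).filter fun g => ¬(g = r 1 ∨ g = r 3)).card = 5 by decide]
    simp only [nsmul_eq_mul]
    push_cast
    ring
  have hc8 : (8 : ℤ) ∣ C - 3 := by
    obtain ⟨k, hk⟩ := hcong c
    refine ⟨m' c * k, ?_⟩
    have h := congrArg (fun z => (m' c : ℂ) * z) hk
    simp only [mul_add, mul_left_comm (m' c : ℂ), vc, uc] at h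
    have : ((C - 3 : ℤ) : ℂ) = ((8 * (m' c * k) : ℤ) : ℂ) := by
      rw [hC]; push_cast; linear_combination h
    exact_mod_cast this
  -- the pair sums
  set cls := CharIntegral.classFinset t with hcls'
  set K := H.index with hK
  have hK0 : (K : ℂ) ≠ 0 := Nat.cast_ne_zero.2 Subgroup.index_ne_zero_of_finite
  have hpair : ∀ (f : DihedralGroup 4 → ℤ), (∀ g, f g ≠ 0 → g = r 1 ∨ g = r 2 ∨ g = r 3) →
      (∑ a' : DihedralGroup 4, ∑ b' : DihedralGroup 4,
        if (a' ≠ 1 ∧ a' * a' = 1) ∧ (b' ≠ 1 ∧ b' * b' = 1) then f (a' * b') else 0) = 32 →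
      ∑ x ∈ cls, ∑ y ∈ cls, Cfsg.indFun H (φ f) (x * y) = (K : ℂ) * 32 := by
    intro f hf h32
    have hfin := ti_involution_pair_sum hTI hSH hSinv (hsupp f hf) (u := t) (v := t) ht ht
    rw [finsum_mem_eq_toFinset_sum, finsum_mem_eq_toFinset_sum] at hfin
    have hP : {p : G × G | IsConj t p.1 ∧ IsConj t p.2}.toFinset = cls ×ˢ cls := by
      ext p
      rw [Set.mem_toFinset, Finset.mem_product, hcls', CharIntegral.mem_classFinset, CharIntegral.mem_classFinset]
      rfl
    rw [hP, Finset.sum_product] at hfin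
    rw [hfin]
    congr 1
    have hR : ∀ x : H, IsConj t (x : G) ↔ (e x ≠ 1 ∧ e x * e x = 1) := fun x => by
      rw [← horder]
      refine ⟨fun h => ?_, hinv _⟩
      obtain ⟨g, hg⟩ := isConj_iff.1 h
      rw [← hg, orderOf_conj_eq, ht]
    have hQ : {p : H × H | IsConj t (p.1 : G) ∧ IsConj t (p.2 : G)}.toFinset =
        Finset.univ.filter fun p : H × H => (e p.1 ≠ 1 ∧ e p.1 * e p.1 = 1) ∧ (e p.2 ≠ 1 ∧ e p.2 * e p.2 = 1) := by
      ext p
      rw [Set.mem_toFinset, Finset.mem_filter, ← hR, ← hR]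
      simp
    rw [hQ, Finset.sum_filter, Fintype.sum_prod_type]
    have hc32 : ((32 : ℤ) : ℂ) = 32 := by norm_num
    rw [← hc32, ← h32, ← sum_pullback e, Int.cast_sum]
    refine Finset.sum_congr rfl fun x _ => ?_
    rw [← sum_pullback e, Int.cast_sum]
    refine Finset.sum_congr rfl fun y _ => ?_
    simp only [φ, map_mul]
    split_ifs <;> simp
  have hg8 : (Nat.card G : ℂ) = 8 * K := by
    rw [hK, ← hcardC, ← Nat.cast_mul, H.card_mul_index]
  have hterm : ∀ θ : Cfsg.IrrCharacter G, ∑ x ∈ cls, ∑ y ∈ cls, (θ : G → ℂ) (x * y) =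
      (K : ℂ) ^ 2 * ((θ : G → ℂ) t ^ 2 / dg θ) := fun θ => by
    rw [class_pair_sum θ (hdg θ), mul_div_assoc]
  have hsq' : ∀ x : ℤ, (x = 1 ∨ x = -1) → ∀ z : ℂ, ∀ n : ℕ,
      (x : ℂ) * (z ^ 2 / n) = ((x : ℂ) * z) ^ 2 / ((x * n : ℤ) : ℂ) := by
    rintro x (rfl | rfl) z n <;> push_cast <;> ring
  have q1 : (1 : ℂ) + 1 / (A : ℂ) + 4 / (B : ℂ) = 256 / (Nat.card G : ℂ) := by
    have h := hpair f1 hsuppf1 (by decide)
    rw [← hΦ₁] at h
    simp only [hev, Finset.sum_add_distrib, ← Finset.mul_sum, hterm] at h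
    rw [Finset.sum_const, Finset.sum_const, hcls', CharIntegral.card_classFinset, ← hH, ← hK, nsmul_eq_mul,
      nsmul_eq_mul, mul_one] at h
    have h' : (K : ℂ) ^ 2 * (1 + (m a : ℂ) * ((a : G → ℂ) t ^ 2 / dg a) + (m b : ℂ) * ((b : G → ℂ) t ^ 2 / dg b)) =
        K * 32 := by linear_combination h
    rw [hsq' _ ha, hsq' _ hb, va, vb, ← hA, ← hB] at h'
    rw [hg8, eq_div_iff (mul_ne_zero (by norm_num) hK0)]
    refine mul_left_cancel₀ hK0 ?_
    linear_combination 8 * h'
  have q2 : (1 : ℂ) + 1 / (A : ℂ) + 1 / (C : ℂ) + 1 / (D : ℂ) = 256 / (Nat.card G : ℂ) := by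
    have h := hpair f2 hsuppf2 (by decide)
    rw [← hΦ₂] at h
    simp only [hev', Finset.sum_add_distrib, ← Finset.mul_sum, hterm] at h
    rw [Finset.sum_const, Finset.sum_const, hcls', CharIntegral.card_classFinset, ← hH, ← hK, nsmul_eq_mul,
      nsmul_eq_mul, mul_one] at h
    have h' : (K : ℂ) ^ 2 * (1 + (m a : ℂ) * ((a : G → ℂ) t ^ 2 / dg a) + (m' c : ℂ) * ((c : G → ℂ) t ^ 2 / dg c)
        + (m' d : ℂ) * ((d : G → ℂ) t ^ 2 / dg d)) = K * 32 := by linear_combination h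
    rw [hsq' _ ha, hsq' _ hc, hsq' _ hd, va, vc, vd, ← hA, ← hC, ← hD] at h'
    rw [hg8, eq_div_iff (mul_ne_zero (by norm_num) hK0)]
    refine mul_left_cancel₀ hK0 ?_
    linear_combination 8 * h'
  have hne : ∀ x : ℤ, (x = 1 ∨ x = -1) → ∀ θ, x * (dg θ : ℤ) ≠ 0 := fun x hx θ =>
    mul_ne_zero (by omega) (by exact_mod_cast (hdg0 θ).ne')
  refine order_eq Nat.card_pos.ne' (hne _ ha a) (hne _ hb b) (hne _ hc c) (hne _ hd d) e1 e2 hc8 ?_ ?_
  · have : (((1 : ℚ) + 1 / A + 4 / B : ℚ) : ℂ) = ((256 / Nat.card G : ℚ) : ℂ) := by push_cast; exact q1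
    exact_mod_cast this
  · have : (((1 : ℚ) + 1 / A + 1 / C + 1 / D : ℚ) : ℂ) = ((256 / Nat.card G : ℚ) : ℂ) := by push_cast; exact q2
    exact_mod_cast this

end CfsgLib.Char.Exceptional.D8Centralizer
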