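import Mathlib
import Cfsg.Agent.Lib.Char.Exceptional.SmallDegree
import Cfsg.Agent.Lib.Char.Exceptional.AltMultiplier
import Cfsg.Agent.Lib.Char.Basic
import Cfsg.Agent.Lib.Char.Integral

/-! Faithful representations of degree small against a prime force a normal Sylow subgroup. -/

set_option autoImplicit false

open scoped commutatorElement
open CfsgLib.Char

namespace CfsgLib.Char.Exceptional.DegreeLtPrime

universe u

variable {G : Type u} [Group G]

theorem degree_dvd_card [Finite G] (θ : Cfsg.IrrCharacter G) {d : ℕ} (hd : (θ : G → ℂ) 1 = d) :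
    d ∣ Nat.card G := by
  obtain ⟨k, ρ, hρ, he⟩ := θ.2
  haveI := hρ
  rw [← he, Representation.char_one, Nat.cast_inj] at hd
  exact hd ▸ CfsgLib.CharIntegral.finrank_dvd_card ρ

theorem degree_le [Finite G] [Fintype (Cfsg.IrrCharacter G)] {χ : G → ℂ} {n : ℕ} (hn : χ 1 = n)
    {m : Cfsg.IrrCharacter G → ℕ} (hm : χ = ∑ θ, (m θ : ℂ) • (θ : G → ℂ))
    (d : Cfsg.IrrCharacter G → ℕ) (hd : ∀ θ : Cfsg.IrrCharacter G, (θ : G → ℂ) 1 = d θ)
    (s : Finset (Cfsg.IrrCharacter G)) : ∑ θ ∈ s, m θ * d θ ≤ n := by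
  have h : n = ∑ θ, m θ * d θ := by
    have h := congrFun hm 1
    simp only [hn, Finset.sum_apply, Pi.smul_apply, smul_eq_mul, hd] at h
    exact_mod_cast h
  rw [h]
  exact Finset.sum_le_sum_of_subset (Finset.subset_univ _)

/-- A `p`-subgroup with a faithful representation of degree less than `p` is abelian. -/
theorem comm_of_isPGroup [Finite G] {n p : ℕ} [hp : Fact p.Prime] (ρ : Representation ℂ G (Fin n → ℂ))
    (hρ : Function.Injective ρ) (hnp : n < p) (P : Subgroup G) (hP : IsPGroup p P) :
    ∀ a ∈ P, ∀ b ∈ P, a * b = b * a := by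
  intro a ha b hb
  letI := Fintype.ofFinite (Cfsg.IrrCharacter P)
  let σ : Representation ℂ P (Fin n → ℂ) := ρ.comp P.subtype
  obtain ⟨m, hm⟩ := IsChar.exists_sum (isCharacter_rep σ)
  choose d hd0 hd using fun θ : Cfsg.IrrCharacter P => IsIrr.exists_degree θ.2
  have hn : σ.character 1 = n := by rw [Representation.char_one, Module.finrank_fin_fun]
  let c : P := ⁅(⟨a, ha⟩ : P), ⟨b, hb⟩⁆
  have hval : σ.character c = σ.character 1 := by
    rw [hm]
    simp only [Finset.sum_apply, Pi.smul_apply, smul_eq_mul]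
    refine Finset.sum_congr rfl fun θ _ => ?_
    rcases Nat.eq_zero_or_pos (m θ) with h0 | h0
    · simp [h0]
    obtain ⟨k, hk⟩ := IsPGroup.iff_card.1 hP
    obtain ⟨j, -, hj⟩ := (Nat.dvd_prime_pow hp.out).1 (hk ▸ degree_dvd_card θ (hd θ))
    have hle := degree_le hn hm d hd {θ}
    rw [Finset.sum_singleton] at hle
    have h1 : d θ = 1 := by
      rcases Nat.eq_zero_or_pos j with rfl | hjpos
      · simpa using hj
      · have h2 : p ≤ d θ := hj ▸ Nat.le_self_pow hjpos.ne' p
        have h3 : d θ ≤ m θ * d θ := Nat.le_mul_of_pos_left _ h0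
        omega
    obtain ⟨l, hl⟩ := exists_linear_of_degree_one (IsIrr.isCharacter θ.2) (by rw [hd, h1, Nat.cast_one])
    rw [hl]
    have hlc : l c = 1 := by
      rw [map_commutatorElement, commutatorElement_eq_one_iff_mul_comm, mul_comm]
    simp [hlc]
  rw [Representation.char_one, CfsgLib.CharIntegral.character_eq_finrank_iff] at hval
  have h1 : (c : G) = 1 := hρ (by rw [map_one]; exact hval)
  simpa [c, commutatorElement_def, mul_inv_eq_iff_eq_mul] using h1

/-- The kernel argument: an element of `p`-power order acting on a minimal `p'`-group it normalises. -/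
theorem kernel_case [Finite G] {n p : ℕ} [hp : Fact p.Prime] (ρ : Representation ℂ G (Fin n → ℂ))
    (hρ : Function.Injective ρ) (hnp : n + 1 < p) (K : Subgroup G) [hK : K.Normal]
    (hKp : ¬ p ∣ Nat.card K) {x : G} {k : ℕ} (hx : x ^ p ^ k = 1) (hKne : ∃ y ∈ K, x * y ≠ y * x)
    (hmin : ∀ K0 : Subgroup G, K0 < K → (∀ y ∈ K0, x * y * x⁻¹ ∈ K0) → ∀ y ∈ K0, x * y = y * x)
    (hder : ⁅K, K⁆ < K) : False := by
  classical
  haveI := Fintype.ofFinite G
  letI := Fintype.ofFinite (Cfsg.IrrCharacter K)
  have hKinv : ∀ y ∈ K, x * y * x⁻¹ ∈ K := fun y hy => hK.conj_mem y hy x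
  -- commutators are central in `K`
  let C : Subgroup G := K ⊓ Subgroup.centralizer ({x} : Set G)
  have hderC : ⁅K, K⁆ ≤ C := by
    refine le_inf hder.le fun y hy => Subgroup.mem_centralizer_singleton_iff.2 ?_
    refine (hmin _ hder (fun w hw => ?_) y hy).symm
    have h : (⁅K, K⁆).map (MulAut.conj x).toMonoidHom ≤ ⁅K, K⁆ := by
      rw [Subgroup.map_commutator]
      refine Subgroup.commutator_mono ?_ ?_ <;>
      · rintro _ ⟨v, hv, rfl⟩; exact hKinv v hv
    exact h ⟨w, hw, rfl⟩
  -- `K` is generated by its commutators with `x`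
  let L : Subgroup G := Subgroup.closure {g | ∃ y ∈ K, g = y * (x * y⁻¹ * x⁻¹)}
  have hLK : L ≤ K := by
    rw [Subgroup.closure_le]
    rintro _ ⟨y, hy, rfl⟩
    exact mul_mem hy (hKinv _ (inv_mem hy))
  have hLinv : ∀ w ∈ L, x * w * x⁻¹ ∈ L := by
    intro w hw
    have h : L.map (MulAut.conj x).toMonoidHom ≤ L := by
      rw [MonoidHom.map_closure, Subgroup.closure_le]
      rintro _ ⟨_, ⟨y, hy, rfl⟩, rfl⟩
      exact Subgroup.subset_closure ⟨x * y * x⁻¹, hKinv y hy, by simp [mul_assoc]⟩
    exact h ⟨w, hw, rfl⟩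
  have hL : L = K := by
    by_contra hne
    obtain ⟨y, hy, hxy⟩ := hKne
    set c := y * (x * y⁻¹ * x⁻¹) with hc
    have hcL : c ∈ L := Subgroup.subset_closure ⟨y, hy, hc⟩
    have hcx : x * c = c * x := hmin L (lt_of_le_of_ne hLK hne) hLinv c hcL
    have hyx : y * x * y⁻¹ = c * x := by rw [hc]; group
    have hcp : c ^ p ^ k = 1 := by
      have h1 : (y * x * y⁻¹) ^ p ^ k = 1 := by rw [conj_pow, hx]; group
      rwa [hyx, (Commute.mul_pow (show Commute c x from hcx.symm)), hx, mul_one] at h1
    have hc1 : c = 1 := by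
      rw [← orderOf_eq_one_iff]
      refine Nat.eq_one_of_dvd_coprimes ((Nat.Coprime.pow_left k
        ((Nat.Prime.coprime_iff_not_dvd hp.out).2 hKp))) (orderOf_dvd_of_pow_eq_one hcp) ?_
      exact Subgroup.orderOf_dvd_natCard K (hLK hcL)
    rw [hc1, one_mul] at hyx
    exact hxy (mul_inv_eq_iff_eq_mul.1 hyx).symm
  have hCcentral : ∀ c ∈ C, ∀ y ∈ K, c * y = y * c := by
    intro c hc y hy
    have hcx : ∀ w ∈ C, ⁅Subgroup.zpowers x, Subgroup.zpowers w⁆ = ⊥ := fun w hw => by
      rw [Subgroup.commutator_eq_bot_iff_le_centralizer, Subgroup.zpowers_le, Subgroup.mem_centralizer_iff]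
      intro g hg
      obtain ⟨i, rfl⟩ := Subgroup.mem_zpowers_iff.1 hg
      exact ((show Commute w x from Subgroup.mem_centralizer_singleton_iff.1 hw.2).zpow_left i).eq
    have h1 : ⁅⁅Subgroup.zpowers x, C⁆, K⁆ = ⊥ := by
      have : ⁅Subgroup.zpowers x, C⁆ = ⊥ := by
        rw [eq_bot_iff, Subgroup.commutator_le]
        exact fun g hg w hw => (hcx w hw).le
          (Subgroup.commutator_mem_commutator hg (Subgroup.mem_zpowers w))
      rw [this, Subgroup.commutator_bot_left]
    have h2 : ⁅⁅C, K⁆, Subgroup.zpowers x⁆ = ⊥ := by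
      rw [Subgroup.commutator_eq_bot_iff_le_centralizer]
      intro w hw
      have hwC : w ∈ C := hderC (Subgroup.commutator_mono inf_le_left le_rfl hw)
      rw [Subgroup.mem_centralizer_iff]
      intro g hg
      obtain ⟨i, rfl⟩ := Subgroup.mem_zpowers_iff.1 hg
      exact ((show Commute w x from Subgroup.mem_centralizer_singleton_iff.1 hwC.2).zpow_right i).eq.symm
    have h3 := Subgroup.commutator_commutator_eq_bot_of_rotate h1 h2
    rw [Subgroup.commutator_eq_bot_iff_le_centralizer] at h3
    have hyL : y ∈ ⁅K, Subgroup.zpowers x⁆ := by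
      rw [← hL] at hy
      refine (Subgroup.closure_le _).2 ?_ hy
      rintro _ ⟨v, hv, rfl⟩
      have := Subgroup.commutator_mem_commutator hv (Subgroup.mem_zpowers x)
      simpa [commutatorElement_def, mul_assoc] using this
    exact Subgroup.mem_centralizer_iff.1 (h3 hyL) c hc
  -- a nontrivial constituent
  let σ : Representation ℂ K (Fin n → ℂ) := ρ.comp K.subtype
  have hn : σ.character 1 = n := by rw [Representation.char_one, Module.finrank_fin_fun]
  obtain ⟨m, hm⟩ := IsChar.exists_sum (isCharacter_rep σ)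
  choose d hd0 hd using fun θ : Cfsg.IrrCharacter K => IsIrr.exists_degree θ.2
  obtain ⟨θ, hθm, hθne⟩ : ∃ θ, m θ ≠ 0 ∧ ∃ y : K, (θ : K → ℂ) y ≠ (θ : K → ℂ) 1 := by
    by_contra hcon
    push Not at hcon
    obtain ⟨y, hy, hxy⟩ := hKne
    apply hxy
    have hval : σ.character ⟨y, hy⟩ = σ.character 1 := by
      rw [hm]
      simp only [Finset.sum_apply, Pi.smul_apply, smul_eq_mul]
      refine Finset.sum_congr rfl fun θ _ => ?_
      rcases eq_or_ne (m θ) 0 with h0 | h0
      · simp [h0]
      · rw [hcon θ h0]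
    rw [Representation.char_one, CfsgLib.CharIntegral.character_eq_finrank_iff] at hval
    have h1 : y = 1 := hρ (by rw [map_one]; exact hval)
    rw [h1, mul_one, one_mul]
  -- the constituent is invariant
  let cx : K →* K :=
    { toFun := fun y => ⟨x * y * x⁻¹, hKinv y y.2⟩
      map_one' := Subtype.ext (by simp)
      map_mul' := fun a b => Subtype.ext (by simp [mul_assoc]) }
  have hcx : Function.Surjective cx := fun y =>
    ⟨⟨x⁻¹ * y * x, by simpa using hK.conj_mem _ y.2 x⁻¹⟩, Subtype.ext (show x * (x⁻¹ * y * x) * x⁻¹ = y by group)⟩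
  let τ : Cfsg.IrrCharacter K → Cfsg.IrrCharacter K := fun η => ⟨_, IsIrr.comp_surjective cx hcx η.2⟩
  have hτv : ∀ j η y, (τ^[j] η : K → ℂ) y =
      (η : K → ℂ) ⟨x ^ j * y * (x ^ j)⁻¹, hK.conj_mem _ y.2 _⟩ := by
    intro j
    induction j with
    | zero => intro η y; simp
    | succ j ih =>
      intro η y
      rw [Function.iterate_succ_apply', show (τ (τ^[j] η) : K → ℂ) y = (τ^[j] η : K → ℂ) (cx y) from rfl, ih]
      refine congrArg (η : K → ℂ) (Subtype.ext ?_)
      show x ^ j * (x * y * x⁻¹) * (x ^ j)⁻¹ = x ^ (j + 1) * y * (x ^ (j + 1))⁻¹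
      rw [pow_succ]; group
  have hτinj : Function.Injective τ := fun η η' h => Subtype.ext (funext fun y => by
    obtain ⟨z, rfl⟩ := hcx y
    exact congrFun (congrArg Subtype.val h) z)
  have hτm : ∀ η, m (τ η) = m η := fun η => by
    have h : ∑ η', (m η' : ℂ) • (τ η' : K → ℂ) = σ.character := by
      funext y
      have h1 := congrFun hm (cx y)
      simp only [Finset.sum_apply, Pi.smul_apply, smul_eq_mul] at h1 ⊢
      rw [show σ.character y = σ.character (cx y) from (Representation.char_conj ρ y x).symm, h1]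
    let e := Equiv.ofBijective τ (Finite.injective_iff_bijective.1 hτinj)
    have h2 : σ.character = ∑ η', (m (e.symm η') : ℂ) • (η' : K → ℂ) := by
      rw [← h]
      exact Fintype.sum_equiv e _ _ fun η' => by rw [e.symm_apply_apply]; rfl
    have h3 := classInner_sum_irr (fun η' => (m (e.symm η') : ℂ)) (τ η)
    rw [← h2, hm, classInner_sum_irr, show τ η = e η from rfl, e.symm_apply_apply] at h3
    exact_mod_cast h3
  have hinv : τ θ = θ := by
    by_contra hne
    have hper : Function.IsPeriodicPt τ (p ^ k) θ := by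
      refine Subtype.ext (funext fun y => ?_)
      rw [hτv]
      refine congrArg (θ : K → ℂ) (Subtype.ext ?_)
      show x ^ p ^ k * (y : G) * (x ^ p ^ k)⁻¹ = (y : G)
      rw [hx]; group
    obtain ⟨j, -, hj⟩ := (Nat.dvd_prime_pow hp.out).1 hper.minimalPeriod_dvd
    have hj0 : j ≠ 0 := fun h0 => hne (Function.minimalPeriod_eq_one_iff_isFixedPt.1 (by rw [hj, h0, pow_zero]))
    have hple : p ≤ Function.minimalPeriod τ θ := hj ▸ Nat.le_self_pow hj0 p
    have hmi : ∀ i : ℕ, m (τ^[i] θ) = m θ := fun i => by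
      induction i with
      | zero => rfl
      | succ i ih => rw [Function.iterate_succ_apply', hτm, ih]
    have hdi : ∀ i : ℕ, 1 ≤ m (τ^[i] θ) * d (τ^[i] θ) := fun i =>
      Nat.one_le_iff_ne_zero.2 (Nat.mul_ne_zero (by rw [hmi]; exact hθm) (hd0 _).ne')
    have h := degree_le hn hm d hd ((Finset.range p).image fun i => τ^[i] θ)
    rw [Finset.sum_image fun a ha b hb hab => ?_] at h
    · have := Finset.sum_le_sum (s := Finset.range p) fun i _ => hdi i
      simp at this
      omega
    · exact Function.iterate_injOn_Iio_minimalPeriod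
        ((Finset.mem_range.1 ha).trans_le hple) ((Finset.mem_range.1 hb).trans_le hple) hab
  have hθinv : ∀ y : K, (θ : K → ℂ) (cx y) = (θ : K → ℂ) y := fun y =>
    congrFun (congrArg Subtype.val hinv) y
  -- the scalar subgroup
  obtain ⟨kk, π, hπ, hπc⟩ := θ.2
  haveI := hπ
  let ker : Subgroup K := CfsgLib.Blocks.charKer θ
  let M : Subgroup K :=
    { carrier := {y | ∀ u, ⁅u, y⁆ ∈ ker}
      one_mem' := fun u => by rw [commutatorElement_one_right]; exact one_mem _
      mul_mem' := fun {a b : K} ha hb (u : K) => by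
        have h : ⁅u, a * b⁆ = ⁅u, a⁆ * (a * ⁅u, b⁆ * a⁻¹) := by
          rw [commutatorElement_def, commutatorElement_def, commutatorElement_def]; group
        show ⁅u, a * b⁆ ∈ ker
        rw [h]
        exact mul_mem (ha u) ((CfsgLib.Blocks.normal_charKer θ).conj_mem _ (hb u) a)
      inv_mem' := fun {a : K} ha (u : K) => by
        rw [show ⁅u, a⁻¹⁆ = a⁻¹ * ⁅u, a⁆⁻¹ * a⁻¹⁻¹ by simp only [commutatorElement_def]; group]
        exact (CfsgLib.Blocks.normal_charKer θ).conj_mem _ (inv_mem (ha u)) _ }
  have hkerπ : ∀ g, g ∈ ker ↔ π g = LinearMap.id := fun g => by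
    rw [CfsgLib.Blocks.mem_charKer, ← hπc, Representation.char_one, CfsgLib.CharIntegral.character_eq_finrank_iff]
  have hscal : ∀ u v : K, π ⁅u, v⁆ = LinearMap.id → π u * π v = π v * π u := fun u v h => by
    rw [← map_mul, ← map_mul, show u * v = ⁅u, v⁆ * (v * u) by simp only [commutatorElement_def]; group,
      map_mul π ⁅u, v⁆, h]
    rfl
  have hMabs : ∀ y ∈ M, ‖(θ : K → ℂ) y‖ = d θ := by
    intro y hy
    obtain ⟨ω, hω⟩ := CfsgLib.CharIntegral.exists_scalar_of_commute π (π y) fun u =>
      (hscal u y ((hkerπ _).1 (hy u))).symm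
    have hpow : ∀ j : ℕ, π (y ^ j) = ω ^ j • LinearMap.id := fun j => by
      induction j with
      | zero => simp [Module.End.one_eq_id]
      | succ j ih =>
        rw [pow_succ, map_mul, ih, hω, pow_succ]
        ext v
        simp [smul_smul, mul_comm]
    have h1 : ω ^ Nat.card K = 1 := by
      have h := congrArg (LinearMap.trace ℂ (Fin kk → ℂ)) (hpow (Nat.card K))
      rw [pow_card_eq_one', map_one, map_smul, LinearMap.trace_one, LinearMap.trace_id, smul_eq_mul] at h
      exact mul_right_cancel₀ (CfsgLib.CharIntegral.finrank_cast_ne_zero π) (by rw [← h, one_mul])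
    have hn1 := hd θ
    rw [← hπc, Representation.char_one] at hn1
    rw [← hπc]
    simp only [Representation.character, hω, map_smul, LinearMap.trace_id, norm_smul,
      Complex.norm_eq_one_of_pow_eq_one h1 Nat.card_pos.ne', one_mul, hn1, Complex.norm_natCast]
  have hzero : ∀ y ∉ M, (θ : K → ℂ) y = 0 := by
    intro y hy
    have hy' : ∃ u : K, ⁅u, y⁆ ∉ ker := by
      by_contra h
      push Not at h
      exact hy h
    obtain ⟨u, hu⟩ := hy'
    set c := ⁅u, y⁆ with hc
    have hcC : (c : G) ∈ C := hderC (Subgroup.commutator_mem_commutator u.2 y.2)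
    obtain ⟨ω, hω⟩ := CfsgLib.CharIntegral.exists_scalar_of_commute π (π c) fun v => by
      rw [← map_mul, ← map_mul]
      exact congrArg π (Subtype.ext (hCcentral c hcC v v.2))
    have h1 : (θ : K → ℂ) (u * y * u⁻¹) = (θ : K → ℂ) y := IsIrr.isClassFunction θ.2 y u
    rw [show u * y * u⁻¹ = c * y by rw [hc, commutatorElement_def]; group, ← hπc] at h1
    rw [← hπc]
    have h2 : π.character (c * y) = ω * π.character y := by
      simp only [Representation.character, map_mul, hω]
      simp [Module.End.mul_eq_comp, map_smul]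
    rw [h2] at h1
    have hω1 : ω ≠ 1 := fun h => hu ((hkerπ _).2 (by rw [hω, h, one_smul]))
    by_contra h0
    exact hω1 (mul_left_eq_self₀.1 h1 |>.resolve_right h0)
  have hidx : d θ ^ 2 = M.index := by
    have hnorm : ∑ y, ‖(θ : K → ℂ) y‖ ^ 2 = (Nat.card K : ℝ) := by
      apply Complex.ofReal_injective
      rw [SmallDegree.normsum_eq, classInner_irr_self θ]
      simp
    have h2 : ∑ y, ‖(θ : K → ℂ) y‖ ^ 2 = (Nat.card M : ℝ) * (d θ : ℝ) ^ 2 := by
      rw [← Finset.sum_filter_add_sum_filter_not Finset.univ (· ∈ M),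
        Finset.sum_congr rfl (g := fun _ => (d θ : ℝ) ^ 2) fun y hy => by rw [hMabs y (Finset.mem_filter.1 hy).2],
        Finset.sum_eq_zero (s := Finset.univ.filter fun y => y ∉ M) fun y hy => by
          rw [hzero y (Finset.mem_filter.1 hy).2]; simp,
        Finset.sum_const, nsmul_eq_mul, add_zero, ← Fintype.card_subtype, ← Nat.card_eq_fintype_card]
    have h3 : Nat.card M * d θ ^ 2 = Nat.card K := by exact_mod_cast h2.symm.trans hnorm
    rw [← M.index_mul_card, mul_comm M.index] at h3
    exact Nat.eq_of_mul_eq_mul_left Nat.card_pos h3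
  -- the only fixed coset is trivial
  have hMinv : ∀ y ∈ M, cx y ∈ M := fun y hy u => by
    obtain ⟨v, rfl⟩ := hcx u
    have := hy v
    rw [CfsgLib.Blocks.mem_charKer] at this ⊢
    rw [← map_commutatorElement, hθinv, this]
  have hMn : M.Normal := ⟨fun y hy g u => by
    have := (CfsgLib.Blocks.normal_charKer θ).conj_mem _ (hy (g⁻¹ * u * g)) g
    simpa [commutatorElement_def, mul_assoc] using this⟩
  have hfix : ∀ y : K, y⁻¹ * cx y ∈ M → y ∈ M := by
    intro y hy
    let e : M → M := fun w => ⟨y⁻¹ * cx y * cx w, mul_mem hy (hMinv w w.2)⟩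
    have hev : ∀ w : M, y * (e w : K) = cx (y * w) := fun w => by
      show y * (y⁻¹ * cx y * cx w) = _
      rw [map_mul]; group
    have hiter : ∀ j (w : M), ((y * (e^[j] w : K) : K) : G) = x ^ j * ((y * (w : K) : K) : G) * (x ^ j)⁻¹ := by
      intro j
      induction j with
      | zero => intro w; simp
      | succ j ih =>
        intro w
        rw [Function.iterate_succ_apply', hev]
        show x * ((y * (e^[j] w : K) : K) : G) * x⁻¹ = _
        rw [ih, pow_succ']; group
    have hper : e^[p ^ k] = id := by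
      funext w
      refine Subtype.ext (mul_left_cancel (a := y) (Subtype.ext ?_))
      rw [hiter, hx]; simp
    have hpos : 0 < p ^ k := pow_pos hp.out.pos k
    let ep : Equiv.Perm M :=
      { toFun := e
        invFun := e^[p ^ k - 1]
        left_inv := fun w => by
          rw [← Function.iterate_succ_apply, Nat.succ_eq_add_one, Nat.sub_add_cancel (show 1 ≤ p ^ k from hpos), hper]; rfl
        right_inv := fun w => by
          rw [← Function.iterate_succ_apply' e, Nat.succ_eq_add_one, Nat.sub_add_cancel (show 1 ≤ p ^ k from hpos), hper]; rfl }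
    have hMp : ¬ p ∣ Fintype.card M := by
      rw [← Nat.card_eq_fintype_card]
      exact fun h => hKp (h.trans M.card_subgroup_dvd_card)
    obtain ⟨w, hw⟩ := Equiv.Perm.exists_fixed_point_of_prime hMp (σ := ep) (n := k)
      (Equiv.ext fun w => by rw [Equiv.Perm.coe_pow]; exact congrFun hper w)
    have hfixw : cx (y * w) = y * w := by
      rw [← hev]; exact congrArg (fun z : M => y * (z : K)) hw
    have hmem : ((y * w : K) : G) ∈ C := ⟨(y * w : K).2, Subgroup.mem_centralizer_singleton_iff.2 (by
      have h : x * ((y * w : K) : G) * x⁻¹ = ((y * w : K) : G) := congrArg Subtype.val hfixw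
      exact (mul_inv_eq_iff_eq_mul.1 h).symm)⟩
    have hM : y * (w : K) ∈ M := fun u => by
      have : ⁅u, y * (w : K)⁆ = 1 :=
        commutatorElement_eq_one_iff_mul_comm.2 (Subtype.ext (hCcentral _ hmem u u.2).symm)
      rw [this]; exact one_mem _
    exact (Subgroup.mul_mem_cancel_right M w.2).1 hM
  -- count orbits on the cosets
  haveI := hMn
  let q : K ⧸ M →* K ⧸ M := QuotientGroup.map M M cx fun y hy => hMinv y hy
  have hq : ∀ j (y : K), q^[j] (y : K ⧸ M) =
      ((⟨x ^ j * (y : G) * (x ^ j)⁻¹, hK.conj_mem _ y.2 _⟩ : K) : K ⧸ M) := by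
    intro j
    induction j with
    | zero => intro y; simp
    | succ j ih =>
      intro y
      rw [Function.iterate_succ_apply', ih]
      show ((cx _ : K) : K ⧸ M) = _
      refine congrArg _ ?_
      exact Subtype.ext (show x * (x ^ j * (y : G) * (x ^ j)⁻¹) * x⁻¹ = x ^ (j + 1) * y * (x ^ (j + 1))⁻¹ by
        rw [pow_succ']; group)
  have hqper : (q : K ⧸ M → K ⧸ M)^[p ^ k] = id := funext fun Y => by
    induction Y using QuotientGroup.induction_on with
    | H y => rw [hq]; simp [hx]
  have hpos : 0 < p ^ k := pow_pos hp.out.pos k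
  let qp : Equiv.Perm (K ⧸ M) :=
    { toFun := q
      invFun := (q : K ⧸ M → K ⧸ M)^[p ^ k - 1]
      left_inv := fun w => by rw [← Function.iterate_succ_apply, Nat.succ_eq_add_one, Nat.sub_add_cancel (show 1 ≤ p ^ k from hpos), hqper]; rfl
      right_inv := fun w => by rw [← Function.iterate_succ_apply' q, Nat.succ_eq_add_one, Nat.sub_add_cancel (show 1 ≤ p ^ k from hpos), hqper]; rfl }
  have hmod : p ∣ M.index - 1 := by
    have hsupp : qp.supportᶜ = {(1 : K ⧸ M)} := by
      ext Y
      rw [Finset.mem_compl, Equiv.Perm.notMem_support, Finset.mem_singleton]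
      refine ⟨fun h => ?_, fun h => by rw [h]; exact map_one q⟩
      induction Y using QuotientGroup.induction_on with
      | H y =>
        rw [QuotientGroup.eq_one_iff]
        exact hfix y (QuotientGroup.eq.1 (show ((y : K ⧸ M)) = ((cx y : K) : K ⧸ M) from h.symm))
    have h := Equiv.Perm.card_compl_support_modEq (σ := qp) (n := k) (p := p)
      (Equiv.ext fun w => by rw [Equiv.Perm.coe_pow]; exact congrFun hqper w)
    rw [hsupp, Finset.card_singleton, ← Nat.card_eq_fintype_card] at h
    exact (Nat.modEq_iff_dvd' Nat.card_pos).1 h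
  have hd2 : 2 ≤ d θ := by
    by_contra hlt
    have h1 : d θ = 1 := by have := hd0 θ; omega
    obtain ⟨l, hl⟩ := exists_linear_of_degree_one (IsIrr.isCharacter θ.2) (by rw [hd, h1, Nat.cast_one])
    have hlinv : ∀ y, l (cx y) = l y := fun y => by
      have := hθinv y
      rw [hl] at this
      exact Units.ext this
    obtain ⟨y, hy⟩ := hθne
    apply hy
    have hall : L ≤ (l.ker).map K.subtype := by
      rw [Subgroup.closure_le]
      rintro _ ⟨v, hv, rfl⟩
      refine ⟨⟨v, hv⟩ * (cx ⟨v, hv⟩)⁻¹, ?_, ?_⟩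
      · show l _ = 1
        rw [map_mul, map_inv, hlinv, mul_inv_cancel]
      · show v * (x * v * x⁻¹)⁻¹ = v * (x * v⁻¹ * x⁻¹)
        group
    obtain ⟨z, hz, hzy⟩ := hall (hL.ge y.2)
    have hl1 : l y = 1 := Subtype.ext hzy ▸ hz
    rw [hl]
    simp [hl1]
  have hdn : d θ ≤ n := by
    have h := degree_le hn hm d hd {θ}
    rw [Finset.sum_singleton] at h
    exact le_trans (Nat.le_mul_of_pos_left _ (Nat.pos_of_ne_zero hθm)) h
  rw [← hidx, show d θ ^ 2 - 1 = (d θ + 1) * (d θ - 1) by
    have := Nat.sq_sub_sq (d θ) 1; rwa [one_pow] at this] at hmod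
  rcases (Nat.Prime.dvd_mul hp.out).1 hmod with h | h
  · have := Nat.le_of_dvd (Nat.succ_pos _) h; omega
  · have := Nat.le_of_dvd (by omega) h; omega

theorem le_centralizer_of_conj_le {H : Subgroup G} (hH : ∀ a : G, ∀ h ∈ H, a * h * a⁻¹ ∈ H) : H.Normal :=
  ⟨fun h hh a => hH a h hh⟩

/-- A Sylow subgroup containing a given `p`-subgroup, uniquely, when it is normal. -/
theorem index_of_sup_normal {Gr : Type u} [Group Gr] [Finite Gr] (A K : Subgroup Gr) [K.Normal] (h : A ⊔ K = ⊤) :
    A.index = A.relIndex K := by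
  have h1 : K.relIndex A = K.index := by
    rw [← Subgroup.relIndex_sup_right (H := A) (K := K), h, Subgroup.relIndex_top_right]
  have h2 := Subgroup.relIndex_mul_index (inf_le_left : A ⊓ K ≤ A)
  have h3 := Subgroup.relIndex_mul_index (inf_le_right : A ⊓ K ≤ K)
  rw [Subgroup.inf_relIndex_left] at h2
  rw [Subgroup.inf_relIndex_right, ← h2, h1, mul_comm] at h3
  exact (Nat.eq_of_mul_eq_mul_left (Nat.pos_of_ne_zero Subgroup.index_ne_zero_of_finite) h3).symm

/-- A Sylow subgroup containing a given `p`-subgroup, uniquely, when it is normal. -/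
theorem le_of_normal_sylow [Finite G] {p : ℕ} [Fact p.Prime] (R : Sylow p G) (hR : (R : Subgroup G).Normal)
    {D : Subgroup G} (hD : IsPGroup p D) : D ≤ (R : Subgroup G) := by
  obtain ⟨S, hS⟩ := hD.exists_le_sylow
  let _ := Sylow.unique_of_normal R hR
  exact Subsingleton.elim S R ▸ hS

theorem main {n p : ℕ} [hp : Fact p.Prime] (G : Type u) [Group G] [Finite G]
    (ρ : Representation ℂ G (Fin n → ℂ)) (hρ : Function.Injective ρ) (hnp : n + 1 < p)
    (h : (n + 1) ^ 2 ≤ p ∨ ∀ K : Subgroup G, ¬ p ^ 2 ∣ Nat.card K → ∀ Q : Sylow p K, (Q : Subgroup K).Normal)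
    (P : Sylow p G) : (P : Subgroup G).Normal := by
  classical
  induction hcard : Nat.card G using Nat.strong_induction_on generalizing G with
  | h N ih =>
  haveI := Fintype.ofFinite G
  -- proper subgroups
  have hsub : ∀ M : Subgroup G, M ≠ ⊤ → ∀ R : Sylow p M, (R : Subgroup M).Normal := by
    intro M hM R
    have hlt : Nat.card M < N := hcard ▸ lt_of_le_of_ne
      (Nat.le_of_dvd Nat.card_pos M.card_subgroup_dvd_card) (fun e => hM (Subgroup.card_eq_iff_eq_top M |>.1 e))
    refine ih _ hlt M (ρ.comp M.subtype) (hρ.comp Subtype.val_injective) ?_ R rfl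
    rcases h with h | h
    · exact Or.inl h
    · right
      intro K hK Q
      let e := K.equivMapOfInjective M.subtype M.subtype_injective
      have hQn := h (K.map M.subtype) (by rwa [← Nat.card_congr e.toEquiv])
        (Q.comapOfInjective e.symm.toMonoidHom e.symm.injective (fun z _ => ⟨e z, e.symm_apply_apply z⟩))
      have hQn' : ((Q : Subgroup K).comap e.symm.toMonoidHom).Normal := hQn
      have := hQn'.map e.symm.toMonoidHom e.symm.surjective
      rwa [Subgroup.map_comap_eq_self_of_surjective e.symm.surjective] at this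
  have hab : ∀ (Q : Sylow p G), ∀ a ∈ (Q : Subgroup G), ∀ b ∈ (Q : Subgroup G), a * b = b * a := fun Q =>
    comm_of_isPGroup ρ hρ (by omega) Q Q.2
  by_contra hPn
  -- Sylow subgroups meet centrally
  have hcent : ∀ (Q R : Sylow p G), Q ≠ R → ∀ y ∈ (Q : Subgroup G), y ∈ (R : Subgroup G) → y ∈ Subgroup.center G := by
    intro Q R hQR y hyQ hyR
    by_contra hyc
    apply hQR
    set M := Subgroup.centralizer ({y} : Set G)
    have hM : M ≠ ⊤ := fun e => hyc (Subgroup.mem_center_iff.2 fun g =>
      Subgroup.mem_centralizer_singleton_iff.1 (e ▸ Subgroup.mem_top g : g ∈ M))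
    have hQM : (Q : Subgroup G) ≤ M := fun a ha => Subgroup.mem_centralizer_singleton_iff.2 (hab Q a ha y hyQ)
    have hRM : (R : Subgroup G) ≤ M := fun a ha => Subgroup.mem_centralizer_singleton_iff.2 (hab R a ha y hyR)
    let _ := Sylow.unique_of_normal (Q.subtype hQM) (hsub M hM _)
    exact Sylow.subtype_injective (Subsingleton.elim (Q.subtype hQM) (R.subtype hRM))
  obtain ⟨g₀, hg₀⟩ : ∃ g : G, g • P ≠ P := by
    by_contra hcon
    push Not at hcon
    exact hPn (Subgroup.normalizer_eq_top_iff.1 (eq_top_iff.2 fun g _ =>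
      Sylow.smul_eq_iff_mem_normalizer.1 (hcon g)))
  -- a normal `p`-subgroup is central
  have hnormal : ∀ D : Subgroup G, D.Normal → IsPGroup p D → D ≤ Subgroup.center G := by
    intro D hDn hDp y hy
    obtain ⟨S, hS⟩ := hDp.exists_le_sylow
    have hall : ∀ Q : Sylow p G, D ≤ (Q : Subgroup G) := fun Q => by
      obtain ⟨g, rfl⟩ := MulAction.exists_smul_eq G S Q
      intro z hz
      rw [Sylow.coe_subgroup_smul, Subgroup.mem_pointwise_smul_iff_inv_smul_mem]
      exact hS (by simpa using hDn.conj_mem z hz g⁻¹)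
    exact hcent _ _ hg₀ y (hall _ hy) (hall _ hy)
  -- proper normal subgroups
  have hproper : ∀ M : Subgroup G, M.Normal → M ≠ ⊤ → (P : Subgroup G) ⊓ M ≤ Subgroup.center G := by
    intro M hMn hM
    haveI := hMn
    obtain ⟨R⟩ : Nonempty (Sylow p M) := inferInstance
    haveI := hsub M hM R
    haveI : (R : Subgroup M).Characteristic := R.characteristic_of_normal inferInstance
    have hRn : ((R : Subgroup M).map M.subtype).Normal := inferInstance
    refine le_trans ?_ (hnormal _ hRn (R.2.map _))
    rintro y ⟨hyP, hyM⟩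
    have hD : IsPGroup p ((P : Subgroup G).subgroupOf M) := P.2.comap_subtype
    exact ⟨⟨y, hyM⟩, le_of_normal_sylow R (hsub M hM R) hD hyP, rfl⟩
  let H : Subgroup G := (P : Subgroup G) ⊓ commutator G
  have hHZ : H ⊓ Subgroup.center G = ⊥ := by
    rw [eq_bot_iff]
    rintro z ⟨⟨hzP, hzd⟩, hzc⟩
    obtain ⟨j, hj⟩ := P.2 ⟨z, hzP⟩
    have hbot : ⁅(P : Subgroup G), (P : Subgroup G)⁆ ≤ ⊥ := by
      rw [Subgroup.commutator_le]
      intro a ha b hb
      rw [Subgroup.mem_bot, commutatorElement_eq_one_iff_mul_comm]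
      exact hab P a ha b hb
    exact AltMultiplier.mem_of_prime_pow (P : Subgroup G) hzc hzd hp.out P.not_dvd_index
      (by simpa using congrArg Subtype.val hj) hbot
  by_cases hH : H = ⊥
  · -- the derived group is a `p'`-group
    set K := commutator G with hKdef
    have hKp : ¬ p ∣ Nat.card K := by
      intro hpK
      obtain ⟨R⟩ : Nonempty (Sylow p K) := inferInstance
      obtain ⟨y, hy⟩ := exists_prime_orderOf_dvd_card' p hpK
      obtain ⟨S, hS⟩ := (IsPGroup.of_card (n := 1) (by
        rw [pow_one, Nat.card_zpowers]; exact (orderOf_submonoid y).symm ▸ hy) :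
          IsPGroup p (Subgroup.zpowers (y : G))).exists_le_sylow
      obtain ⟨g, hg⟩ := MulAction.exists_smul_eq G S P
      have h1 : g * (y : G) * g⁻¹ ∈ H := by
        refine ⟨?_, (inferInstance : K.Normal).conj_mem _ y.2 g⟩
        rw [← hg]
        exact ⟨y, hS (Subgroup.mem_zpowers _), rfl⟩
      rw [hH, Subgroup.mem_bot, conj_eq_one_iff] at h1
      rw [show y = 1 from Subtype.ext h1, orderOf_one] at hy
      exact hp.out.ne_one hy.symm
    have hPc : ¬ (P : Subgroup G) ≤ Subgroup.center G := fun hle => hPn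
      ⟨fun z hz g => by rw [Subgroup.mem_center_iff.1 (hle hz) g, mul_inv_cancel_right]; exact hz⟩
    have hKP : K ⊔ (P : Subgroup G) = ⊤ := by
      by_contra hne
      exact hPc (le_trans (le_inf le_rfl le_sup_right)
        (hproper _ (Subgroup.Normal.of_commutator_le G le_sup_left) hne))
    obtain ⟨x, hxP, y₀, hy₀, hxy⟩ : ∃ x ∈ (P : Subgroup G), ∃ y ∈ K, x * y ≠ y * x := by
      by_contra hcon
      push Not at hcon
      apply hPn
      refine ⟨fun z hz g => ?_⟩
      have hg : g ∈ K ⊔ (P : Subgroup G) := hKP ▸ Subgroup.mem_top g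
      rw [← SetLike.mem_coe, Subgroup.normal_mul] at hg
      obtain ⟨a, ha, b, hb, rfl⟩ := Set.mem_mul.1 hg
      have e : a * b * z * (a * b)⁻¹ = z := by
        calc a * b * z * (a * b)⁻¹ = a * ((b * z) * b⁻¹) * a⁻¹ := by group
          _ = a * z * a⁻¹ := by rw [hab P b hb z hz, mul_inv_cancel_right]
          _ = z := by rw [← hcon z hz a ha, mul_inv_cancel_right]
      rw [e]; exact hz
    obtain ⟨k, hk⟩ := P.2 ⟨x, hxP⟩
    have hxk : x ^ p ^ k = 1 := by simpa using congrArg Subtype.val hk
    have hPK : ∀ z ∈ K, z ∈ (P : Subgroup G) → z = 1 := fun z hzK hzP => by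
      have : z ∈ H := ⟨hzP, hzK⟩
      rwa [hH, Subgroup.mem_bot] at this
    have hmin : ∀ K0 : Subgroup G, K0 < K → (∀ y ∈ K0, x * y * x⁻¹ ∈ K0) → ∀ y ∈ K0, x * y = y * x := by
      intro K0 hK0 hinv y hy
      set X := Subgroup.zpowers x with hX
      have hXP : X ≤ (P : Subgroup G) := by rw [hX, Subgroup.zpowers_le]; exact hxP
      have hnorm : X ≤ Subgroup.normalizer (K0 : Set G) := by
        rw [hX, Subgroup.zpowers_le, Subgroup.mem_normalizer_iff]
        have hmap : K0.map (MulAut.conj x).toMonoidHom = K0 := Subgroup.eq_of_le_of_card_ge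
          (by rintro _ ⟨w, hw, rfl⟩; exact hinv w hw)
          (le_of_eq (Nat.card_congr (K0.equivMapOfInjective _ (MulAut.conj x).injective).toEquiv))
        refine fun w => ⟨hinv w, fun hw => ?_⟩
        obtain ⟨v, hv, hv'⟩ := hmap.ge hw
        exact (MulAut.conj x).injective hv' ▸ hv
      set L := K0 ⊔ X
      have hdec : ∀ w ∈ L, ∃ a ∈ K0, ∃ b ∈ X, w = a * b := fun w hw => by
        rw [← SetLike.mem_coe, Subgroup.coe_mul_of_right_le_normalizer_left _ _ hnorm] at hw
        obtain ⟨a, ha, b, hb, rfl⟩ := Set.mem_mul.1 hw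
        exact ⟨a, ha, b, hb, rfl⟩
      have hL : L ≠ ⊤ := by
        intro e
        obtain ⟨w, hw, hwn⟩ := SetLike.exists_of_lt hK0
        obtain ⟨a, ha, b, hb, rfl⟩ := hdec w (e ▸ Subgroup.mem_top w)
        have hbK : b ∈ K := by simpa using mul_mem (inv_mem (hK0.le ha)) hw
        rw [hPK b hbK (hXP hb), mul_one] at hwn
        exact hwn ha
      have hyL : y ∈ L := Subgroup.mem_sup_left hy
      have hxL : x ∈ L := Subgroup.mem_sup_right (Subgroup.mem_zpowers x)
      obtain ⟨R⟩ : Nonempty (Sylow p L) := inferInstance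
      have hRn := hsub L hL R
      have hxp : IsPGroup p (Subgroup.zpowers (⟨x, hxL⟩ : L)) := by
        rintro ⟨w, hw⟩
        obtain ⟨i, rfl⟩ := Subgroup.mem_zpowers_iff.1 hw
        refine ⟨k, Subtype.ext ?_⟩
        push_cast
        rw [← zpow_natCast, ← zpow_mul, mul_comm, zpow_mul, zpow_natCast,
          show (⟨x, hxL⟩ : L) ^ p ^ k = 1 from Subtype.ext (by simpa using hxk), one_zpow]
      have hxR : (⟨x, hxL⟩ : L) ∈ (R : Subgroup L) :=
        le_of_normal_sylow R hRn hxp (Subgroup.mem_zpowers _)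
      have hc : (⟨y, hyL⟩ : L) * ⟨x, hxL⟩ * ⟨y, hyL⟩⁻¹ * ⟨x, hxL⟩⁻¹ ∈ (R : Subgroup L) :=
        mul_mem (hRn.conj_mem _ hxR _) (inv_mem hxR)
      obtain ⟨j, hj⟩ := R.2 ⟨_, hc⟩
      have hj' : (y * x * y⁻¹ * x⁻¹) ^ p ^ j = 1 := by
        simpa using congrArg (fun r : (R : Subgroup L) => ((r : L) : G)) hj
      have hcK : y * x * y⁻¹ * x⁻¹ ∈ K := by
        rw [show y * x * y⁻¹ * x⁻¹ = y * (x * y⁻¹ * x⁻¹) by group]
        exact mul_mem (hK0.le hy) (hK0.le (hinv _ (inv_mem hy)))
      have h1 : y * x * y⁻¹ * x⁻¹ = 1 := by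
        rw [← orderOf_eq_one_iff]
        exact Nat.eq_one_of_dvd_coprimes (Nat.Coprime.pow_left j
          ((Nat.Prime.coprime_iff_not_dvd hp.out).2 hKp)) (orderOf_dvd_of_pow_eq_one hj')
          (Subgroup.orderOf_dvd_natCard K hcK)
      rw [mul_inv_eq_one, mul_inv_eq_iff_eq_mul] at h1
      exact h1.symm
    -- `K` has prime power order
    have hder : ⁅K, K⁆ < K := by
      by_cases hq : ∃ q : ℕ, q.Prime ∧ IsPGroup q K
      · obtain ⟨q, hq, hqK⟩ := hq
        haveI : Fact q.Prime := ⟨hq⟩
        haveI : Group.IsNilpotent K := hqK.isNilpotent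
        haveI : Nontrivial K := ⟨⟨⟨y₀, hy₀⟩, 1, fun e => hxy (by
          rw [show y₀ = 1 from congrArg Subtype.val e, mul_one, one_mul])⟩⟩
        have hlt := Group.IsSolvable.commutator_lt_top_of_nontrivial K
        rw [← Subgroup.map_subtype_commutator]
        calc _ < (⊤ : Subgroup K).map K.subtype :=
              (Subgroup.map_lt_map_iff_of_injective K.subtype_injective).2 hlt
          _ = K := by rw [← MonoidHom.range_eq_map, Subgroup.range_subtype]
      · exfalso
        push Not at hq
        apply hxy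
        let C : Subgroup K := (Subgroup.centralizer ({x} : Set G)).subgroupOf K
        have hC : C = ⊤ := by
          rw [← Subgroup.index_eq_one]
          by_contra hne
          obtain ⟨q, hqp, hqdvd⟩ := Nat.exists_prime_and_dvd hne
          haveI : Fact q.Prime := ⟨hqp⟩
          obtain ⟨Q⟩ : Nonempty (Sylow q K) := inferInstance
          set Qg := (Q : Subgroup K).map K.subtype with hQg
          set Nq := Subgroup.normalizer (Qg : Set G) with hNq
          have hfr : Nq ⊔ K = ⊤ := Sylow.normalizer_sup_eq_top Q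
          have hidx : ¬ p ∣ Nq.index := by
            have h1 : Nq.relIndex K = Nq.index := by
              exact (index_of_sup_normal Nq K hfr).symm
            rw [← h1]
            exact fun hd => hKp (hd.trans (Subgroup.index_dvd_card _))
          obtain ⟨R⟩ : Nonempty (Sylow p Nq) := inferInstance
          obtain ⟨S, hS⟩ := (R.2.map Nq.subtype).exists_le_sylow
          have hSeq : (R : Subgroup Nq).map Nq.subtype = (S : Subgroup G) := by
            refine Subgroup.eq_of_le_of_card_ge hS ?_
            rw [Subgroup.card_map_of_injective Nq.subtype_injective, R.card_eq_multiplicity,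
              S.card_eq_multiplicity, ← Nq.index_mul_card,
              Nat.factorization_mul Subgroup.index_ne_zero_of_finite Nat.card_pos.ne']
            simp [Nat.factorization_eq_zero_of_not_dvd hidx]
          obtain ⟨g, hg⟩ := MulAction.exists_smul_eq G S P
          have hx' : g⁻¹ * x * g ∈ Nq := by
            have : x ∈ ((g • S : Sylow p G) : Subgroup G) := hg.symm ▸ hxP
            rw [Sylow.coe_subgroup_smul, Subgroup.mem_pointwise_smul_iff_inv_smul_mem] at this
            obtain ⟨r, hr, hrx⟩ := hSeq.ge this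
            simp only [← map_inv, MulAut.conj_apply, MulAut.smul_def, inv_inv] at hrx
            exact hrx ▸ r.2
          let Qx := Qg.map (MulAut.conj g).toMonoidHom
          have hQxK : Qx ≤ K := by
            rintro _ ⟨_, ⟨w, -, rfl⟩, rfl⟩
            exact (inferInstance : K.Normal).conj_mem _ w.2 g
          have hcardQ : Nat.card Qx = Nat.card (Q : Subgroup K) := by
            rw [Subgroup.card_map_of_injective (MulAut.conj g).injective,
              Subgroup.card_map_of_injective K.subtype_injective]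
          have hinv : ∀ w ∈ Qx, x * w * x⁻¹ ∈ Qx := by
            rintro _ ⟨v, hv, rfl⟩
            refine ⟨(g⁻¹ * x * g) * v * (g⁻¹ * x * g)⁻¹, (Subgroup.mem_normalizer_iff.1 hx' v).1 hv, ?_⟩
            simp [mul_assoc]
          have hlt : Qx < K := lt_of_le_of_ne hQxK fun e => hq q hqp (by
            obtain ⟨i, hi⟩ := IsPGroup.iff_card.1 Q.2
            exact IsPGroup.of_card (n := i) (by rw [← e, hcardQ, hi]))
          have hle : Qx.subgroupOf K ≤ C := fun w hw =>
            Subgroup.mem_centralizer_singleton_iff.2 (hmin Qx hlt hinv _ hw).symm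
          have hdvd : C.index ∣ (Q : Subgroup K).index := by
            have h2 : (Qx.subgroupOf K).index = (Q : Subgroup K).index := by
              have e1 := (Qx.subgroupOf K).index_mul_card
              rw [Nat.card_congr (Subgroup.subgroupOfEquivOfLe hQxK).toEquiv, hcardQ,
                ← (Q : Subgroup K).index_mul_card] at e1
              exact Nat.eq_of_mul_eq_mul_right Nat.card_pos e1
            exact h2 ▸ Subgroup.index_dvd_of_le hle
          exact Q.not_dvd_index (hqdvd.trans hdvd)
        exact (Subgroup.mem_centralizer_singleton_iff.1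
          (show (⟨y₀, hy₀⟩ : K) ∈ C from hC ▸ Subgroup.mem_top _)).symm
    exact kernel_case ρ hρ hnp K hKp hxk ⟨y₀, hy₀, hxy⟩ hmin hder
  · -- apply the degree inequality
    letI : Fintype H := Fintype.ofFinite H
    letI := Fintype.ofFinite (Cfsg.IrrCharacter G)
    have hHp : IsPGroup p H := P.2.to_le inf_le_left
    obtain ⟨j, hj⟩ := IsPGroup.iff_card.1 hHp
    have hj0 : j ≠ 0 := fun e => hH (Subgroup.card_eq_one.1 (by rw [hj, e, pow_zero]))
    have hbig : (n + 1) ^ 2 ≤ Nat.card H := by
      rw [hj]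
      rcases h with h | h
      · exact h.trans (Nat.le_self_pow hj0 p)
      · rcases Nat.lt_or_ge j 2 with hj2 | hj2
        · exfalso
          set K := commutator G
          apply hH
          refine Subgroup.eq_bot_iff_forall _ |>.2 fun z hz => ?_
          obtain ⟨R⟩ : Nonempty (Sylow p K) := inferInstance
          obtain ⟨S, hS⟩ := (R.2.map K.subtype).exists_le_sylow
          obtain ⟨g, hg⟩ := MulAction.exists_smul_eq G S P
          have hcard' : ¬ p ^ 2 ∣ Nat.card K := by
            intro hd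
            have h1 := R.card_eq_multiplicity
            have h2 : 2 ≤ (Nat.card K).factorization p :=
              (hp.out.pow_dvd_iff_le_factorization Nat.card_pos.ne').1 hd
            have h3 : Nat.card (R : Subgroup K) ≤ Nat.card H := by
              refine le_trans (le_of_eq ?_) (Subgroup.card_le_of_le
                (H := ((R : Subgroup K).map K.subtype).map (MulAut.conj g).toMonoidHom) ?_)
              · rw [Subgroup.card_map_of_injective (MulAut.conj g).injective,
                  Subgroup.card_map_of_injective K.subtype_injective]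
              · rintro _ ⟨_, ⟨w, hw, rfl⟩, rfl⟩
                exact ⟨hg ▸ ⟨(w : G), hS ⟨w, hw, rfl⟩, rfl⟩, (inferInstance : K.Normal).conj_mem _ w.2 g⟩
            rw [h1, hj] at h3
            have := (Nat.pow_le_pow_iff_right hp.out.one_lt).1 h3
            omega
          have hRn := h K hcard' R
          haveI : (R : Subgroup K).Characteristic := R.characteristic_of_normal hRn
          have hc := hnormal _ (inferInstance : ((R : Subgroup K).map K.subtype).Normal) (R.2.map _)
          have hD : IsPGroup p ((P : Subgroup G).subgroupOf K) := P.2.comap_subtype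
          have hzR : z ∈ (R : Subgroup K).map K.subtype :=
            ⟨⟨z, hz.2⟩, le_of_normal_sylow R hRn hD hz.1, rfl⟩
          exact Subgroup.mem_bot.1 (hHZ ▸ (⟨hz, hc hzR⟩ : z ∈ H ⊓ Subgroup.center G))
        · exact (Nat.pow_le_pow_left (by omega) 2).trans (Nat.pow_le_pow_right hp.out.pos hj2)
    have hgen : ∀ M : Subgroup G, M.Normal → H ≤ M → M = ⊤ := by
      intro M hMn hHM
      by_contra hM
      refine hH (eq_bot_iff.2 fun z hz => ?_)
      exact hHZ ▸ (⟨hz, hproper M hMn hM ⟨hz.1, hHM hz⟩⟩ : z ∈ H ⊓ Subgroup.center G)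
    have hHnorm : ∀ a : G, a ∈ Subgroup.normalizer ((P : Subgroup G) : Set G) → ∀ h' ∈ H, a * h' * a⁻¹ ∈ H :=
      fun a ha h' hh' => ⟨(Subgroup.mem_normalizer_iff.1 ha h').1 hh'.1,
        (inferInstance : (commutator G).Normal).conj_mem _ hh'.2 a⟩
    have hone : ∀ g : G, g ∉ Subgroup.center G → ∀ a b : G,
        Subgroup.centralizer ({g} : Set G) ⊓ H.map (MulAut.conj a).toMonoidHom ≠ ⊥ →
        Subgroup.centralizer ({g} : Set G) ⊓ H.map (MulAut.conj b).toMonoidHom ≠ ⊥ →
        H.map (MulAut.conj a).toMonoidHom = H.map (MulAut.conj b).toMonoidHom := by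
      intro g hg a b ha hb
      set M := Subgroup.centralizer ({g} : Set G)
      have hM : M ≠ ⊤ := fun e => hg (Subgroup.mem_center_iff.2 fun w =>
        (Subgroup.mem_centralizer_singleton_iff.1 (e ▸ Subgroup.mem_top w : w ∈ M)))
      obtain ⟨R⟩ : Nonempty (Sylow p M) := inferInstance
      obtain ⟨S, hS⟩ := (R.2.map M.subtype).exists_le_sylow
      have key : ∀ c : G, M ⊓ H.map (MulAut.conj c).toMonoidHom ≠ ⊥ → c • P = S := by
        intro c hc
        obtain ⟨⟨w, hwM, v, hv, hvw⟩, hw1⟩ := Subgroup.ne_bot_iff_exists_ne_one.1 hc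
        have hw1' : w ≠ 1 := fun e => hw1 (Subtype.ext e)
        have hvP : w ∈ ((c • P : Sylow p G) : Subgroup G) := ⟨v, hv.1, hvw⟩
        by_contra hne
        have hwS : w ∈ (S : Subgroup G) := hS ⟨⟨w, hwM⟩, le_of_normal_sylow R (hsub M hM R)
          ((c • P : Sylow p G).2.comap_subtype (K := M)) hvP, rfl⟩
        have hwc := hcent _ _ hne w hvP hwS
        have hvc : v ∈ Subgroup.center G := by
          have := (inferInstance : (Subgroup.center G).Normal).conj_mem _ hwc c⁻¹
          rw [← hvw] at this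
          simpa [mul_assoc] using this
        have : v ∈ H ⊓ Subgroup.center G := ⟨hv, hvc⟩
        rw [hHZ, Subgroup.mem_bot] at this
        rw [this, map_one] at hvw
        exact hw1' hvw.symm
      have hab' := (key a ha).trans (key b hb).symm
      have hn' : b⁻¹ * a ∈ Subgroup.normalizer ((P : Subgroup G) : Set G) :=
        Sylow.smul_eq_iff_mem_normalizer.1 (by rw [mul_smul, hab', inv_smul_smul])
      have hn'' : a⁻¹ * b ∈ Subgroup.normalizer ((P : Subgroup G) : Set G) := by simpa using inv_mem hn'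
      refine le_antisymm ?_ ?_
      · rintro _ ⟨v, hv, rfl⟩
        exact ⟨_, hHnorm _ hn' v hv, by simp [mul_assoc]⟩
      · rintro _ ⟨v, hv, rfl⟩
        exact ⟨_, hHnorm _ hn'' v hv, by simp [mul_assoc]⟩
    -- a constituent nontrivial on `H`
    obtain ⟨m, hm⟩ := IsChar.exists_sum (isCharacter_rep ρ)
    choose d hd0 hd using fun θ : Cfsg.IrrCharacter G => IsIrr.exists_degree θ.2
    obtain ⟨θ, hθm, z, hzH, hzθ⟩ : ∃ θ, m θ ≠ 0 ∧ ∃ z ∈ H, (θ : G → ℂ) z ≠ (θ : G → ℂ) 1 := by
      by_contra hcon
      push Not at hcon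
      refine hH ((Subgroup.eq_bot_iff_forall _).2 fun z hz => hρ ?_)
      have hval : ρ.character z = ρ.character 1 := by
        rw [hm]
        simp only [Finset.sum_apply, Pi.smul_apply, smul_eq_mul]
        refine Finset.sum_congr rfl fun θ _ => ?_
        rcases eq_or_ne (m θ) 0 with h0 | h0
        · simp [h0]
        · rw [hcon θ h0 z hz]
      rw [Representation.char_one, CfsgLib.CharIntegral.character_eq_finrank_iff] at hval
      rw [hval, map_one]; rfl
    have hdn : d θ ≤ n := by
      have hle := degree_le (n := n) (by rw [Representation.char_one, Module.finrank_fin_fun]) hm d hd {θ}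
      rw [Finset.sum_singleton] at hle
      exact le_trans (Nat.le_mul_of_pos_left _ (Nat.pos_of_ne_zero hθm)) hle
    have hd1 : d θ ≠ 1 := by
      intro h1
      obtain ⟨l, hl⟩ := exists_linear_of_degree_one (IsIrr.isCharacter θ.2) (by rw [hd, h1, Nat.cast_one])
      apply hzθ
      have hlz : l z = 1 := MonoidHom.mem_ker.1 (Abelianization.commutator_subset_ker l hzH.2)
      rw [hl]
      simp [hlz]
    have hlt := SmallDegree.succ_degree_sq_gt H (fun a ha b hb => hab P a ha.1 b hb.1) hHZ hone θ.2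
      (d θ) (hd θ) hd1 hgen
    have hge : ((n + 1) ^ 2 : ℝ) ≤ (Nat.card H : ℝ) := by exact_mod_cast hbig
    have : (d θ : ℝ) ≤ n := by exact_mod_cast hdn
    nlinarith

end CfsgLib.Char.Exceptional.DegreeLtPrime
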