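import Mathlib
import Cfsg.Agent.Lib.CharDegree.Basic
import Cfsg.Agent.Lib.PGroups.Extraspecial
import Cfsg.Agent.Lib.Char.DegreeCenter
import Cfsg.Agent.Lib.Char.Exceptional.Virtual

/-! Faithful characters of extraspecial groups vanish off the centre. -/

set_option autoImplicit false

open scoped ComplexConjugate commutatorElement

namespace CfsgLib.Char.Exceptional

open CfsgLib.Char CfsgLib.PGroups CfsgLib.CharIntegral

variable {P : Type*} [Group P] [Fintype P] {p : ℕ} [hp : Fact p.Prime]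

/-- A scalar law on the centre that is nontrivial on commutators forces vanishing off the centre. -/
theorem es_vanish (hP : Cfsg.IsExtraspecial p P) {f : P → ℂ} (hf : Cfsg.IsClassFunction P f)
    {μ : P → ℂ} (hμ : ∀ z ∈ Subgroup.center P, ∀ x, f (z * x) = μ z * f x)
    (hne : ∀ z ∈ Subgroup.center P, z ≠ 1 → μ z ≠ 1) {x : P} (hx : x ∉ Subgroup.center P) : f x = 0 := by
  obtain ⟨y, hy⟩ : ∃ y : P, y * x ≠ x * y := by
    by_contra h
    push Not at h
    exact hx (Subgroup.mem_center_iff.2 h)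
  have hc := IsExtraspecial.comm_mem hP y x
  have h1 : ⁅y, x⁆ ≠ 1 := fun h => hy (commutatorElement_eq_one_iff_mul_comm.1 h)
  have h2 : f (⁅y, x⁆ * x) = f x := by
    rw [show ⁅y, x⁆ * x = y * x * y⁻¹ by rw [commutatorElement_def]; group]
    exact hf x y
  rw [hμ _ hc] at h2
  have h3 : (μ ⁅y, x⁆ - 1) * f x = 0 := by rw [sub_mul, h2, one_mul, sub_self]
  exact (mul_eq_zero.1 h3).resolve_left (sub_ne_zero.2 (hne _ hc h1))

omit [Fintype P] in
/-- A root of unity map on the centre that is nontrivial somewhere is nontrivial everywhere off `1`. -/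
theorem es_scalar_ne_one [Finite P] (hP : Cfsg.IsExtraspecial p P) (μ : Subgroup.center P →* ℂ)
    (hne : ∃ z, μ z ≠ 1) {z : Subgroup.center P} (hz : z ≠ 1) : μ z ≠ 1 := by
  intro h
  obtain ⟨w, hw⟩ := hne
  have hcard : Nat.card (Subgroup.center P) = p := hP.2
  have := zpowers_eq_top_of_prime_card hcard hz
  have hwmem : w ∈ Subgroup.zpowers z := this ▸ Subgroup.mem_top w
  rw [← mem_powers_iff_mem_zpowers, Submonoid.mem_powers_iff] at hwmem
  obtain ⟨k, rfl⟩ := hwmem
  exact hw (by simp [map_pow, h])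

/-- Irreducible characters of extraspecial groups are linear or vanish off the centre with degree `p ^ n`. -/
theorem es_degree (hP : Cfsg.IsExtraspecial p P) {n : ℕ} (hcard : Nat.card P = p ^ (2 * n + 1))
    (χ : Cfsg.IrrCharacter P) :
    (χ : P → ℂ) 1 = 1 ∨ (χ : P → ℂ) 1 = (p : ℂ) ^ n := by
  classical
  obtain ⟨d, hd0, hd⟩ := IsIrr.exists_degree χ.2
  by_cases hker : ∀ z ∈ commutator P, (χ : P → ℂ) z = (χ : P → ℂ) 1
  · left
    have h := (CfsgLib.CharDegree.charDegree_eq_one_iff_commutator χ).2 hker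
    rw [CfsgLib.CharDegree.charDegree_eq_of_apply_one hd] at h
    rw [hd, h, Nat.cast_one]
  right
  push Not at hker
  obtain ⟨z₀, hz₀, hz₀ne⟩ := hker
  rw [IsExtraspecial.commutator_eq hP] at hz₀
  obtain ⟨k, ρ, hρ, hρχ⟩ := χ.2
  have hs : ∀ z ∈ Subgroup.center P, ∀ x, (χ : P → ℂ) (z * x) = (χ : P → ℂ) z / d * (χ : P → ℂ) x := by
    intro z hz x
    obtain ⟨c, hc⟩ := exists_scalar_of_mem_center ρ hz
    have h1 := character_smul_of_scalar ρ hc 1
    rw [hρχ, mul_one, hd] at h1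
    have h2 := character_smul_of_scalar ρ hc x
    rw [hρχ] at h2
    rw [h2, h1, mul_div_cancel_right₀ _ (Nat.cast_ne_zero.2 hd0.ne')]
  have hd' : (d : ℂ) ≠ 0 := Nat.cast_ne_zero.2 hd0.ne'
  let μ : Subgroup.center P →* ℂ :=
    { toFun := fun z => (χ : P → ℂ) z / d
      map_one' := by rw [OneMemClass.coe_one, hd, div_self hd']
      map_mul' := fun a b => by rw [Subgroup.coe_mul, hs a a.2, mul_div_assoc] }
  have hμne : ∃ z, μ z ≠ 1 := ⟨⟨z₀, hz₀⟩, fun h => hz₀ne (by
    rw [hd]; exact (div_eq_one_iff_eq hd').1 h)⟩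
  have hvan : ∀ x ∉ Subgroup.center P, (χ : P → ℂ) x = 0 := fun x hx =>
    es_vanish hP (IsIrr.isClassFunction χ.2) (μ := fun z => (χ : P → ℂ) z / d) hs
      (fun z hz h1 => es_scalar_ne_one hP μ hμne (z := ⟨z, hz⟩) (fun e => h1 (congrArg Subtype.val e))) hx
  have hnorm : ∀ z ∈ Subgroup.center P, (χ : P → ℂ) z * conj ((χ : P → ℂ) z) = (d : ℂ) ^ 2 := by
    intro z hz
    have e : (χ : P → ℂ) z = μ ⟨z, hz⟩ * d := (div_mul_cancel₀ _ hd').symm
    have hp1 : μ ⟨z, hz⟩ ^ p = 1 := by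
      rw [← map_pow, show (⟨z, hz⟩ : Subgroup.center P) ^ p = 1 from
        Subtype.ext (IsExtraspecial.center_pow hP hz), map_one]
    have hu : μ ⟨z, hz⟩ * conj (μ ⟨z, hz⟩) = 1 := by
      rw [Complex.mul_conj', Complex.norm_eq_one_of_pow_eq_one hp1 hp.out.ne_zero]; simp
    rw [e, map_mul, map_natCast]
    linear_combination (d : ℂ) ^ 2 * hu
  have hortho := classInner_self_of_irr χ.2
  rw [Cfsg.classInner, ← Finset.sum_filter_add_sum_filter_not Finset.univ (fun x => x ∈ Subgroup.center P),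
    Finset.sum_congr rfl (g := fun _ => (d : ℂ) ^ 2) (fun z hz => hnorm z (Finset.mem_filter.1 hz).2),
    Finset.sum_eq_zero (s := Finset.univ.filter fun x => ¬ x ∈ Subgroup.center P)
      (fun x hx => by rw [hvan x (Finset.mem_filter.1 hx).2, zero_mul]), add_zero, Finset.sum_const,
    nsmul_eq_mul, ← Fintype.card_subtype, ← Nat.card_eq_fintype_card] at hortho
  simp only [hP.2, hcard] at hortho
  have key : ((d ^ 2 : ℕ) : ℂ) = ((p ^ n) ^ 2 : ℕ) := by
    have hp0 : (p : ℂ) ≠ 0 := Nat.cast_ne_zero.2 hp.out.ne_zero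
    push_cast at hortho ⊢
    field_simp at hortho
    have h2 : (p : ℂ) ^ (2 * n + 1) = ((p : ℂ) ^ n) ^ 2 * p := by rw [pow_succ, mul_comm 2 n, pow_mul]
    first
      | (apply mul_right_cancel₀ hp0; linear_combination hortho + h2)
      | linear_combination hortho
  rw [hd, ← Nat.cast_pow, Nat.pow_left_injective two_ne_zero (Nat.cast_injective key)]

theorem es_count (hP : Cfsg.IsExtraspecial p P) {n : ℕ} (hcard : Nat.card P = p ^ (2 * n + 1)) :
    Nat.card {χ : Cfsg.IrrCharacter P // (χ : P → ℂ) 1 = (p : ℂ) ^ n} = p - 1 := by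
  classical
  have := Fintype.ofFinite (Cfsg.IrrCharacter P)
  have hn : 1 ≤ n := by
    by_contra h
    have h2 := IsExtraspecial.card_ge hP
    rw [hcard, Nat.pow_le_pow_iff_right hp.out.one_lt] at h2
    omega
  have hne : (1 : ℂ) ≠ (p : ℂ) ^ n := by
    rw [← Nat.cast_pow, ne_eq, eq_comm, Nat.cast_eq_one]
    exact (Nat.one_lt_pow (by omega) hp.out.one_lt).ne'
  have hlin : (Finset.univ.filter fun χ : Cfsg.IrrCharacter P => (χ : P → ℂ) 1 = 1).card = p ^ (2 * n) := by
    rw [← Fintype.card_subtype, ← Nat.card_eq_fintype_card]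
    have h := CfsgLib.CharDegree.card_linear (G := P)
    have hidx : (commutator P).index = p ^ (2 * n) := by
      have h2 := (commutator P).card_mul_index
      rw [IsExtraspecial.commutator_eq hP, hP.2, hcard, pow_succ'] at h2
      rw [IsExtraspecial.commutator_eq hP]
      exact Nat.eq_of_mul_eq_mul_left hp.out.pos h2
    rw [← hidx, ← h]
    refine Nat.card_congr (Equiv.subtypeEquivRight fun χ => ⟨fun h => ?_, fun h => ?_⟩)
    · exact CfsgLib.CharDegree.charDegree_eq_of_apply_one (n := 1) (by simpa using h)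
    · obtain ⟨d, -, hd⟩ := IsIrr.exists_degree χ.2
      rw [CfsgLib.CharDegree.charDegree_eq_of_apply_one hd] at h
      rw [hd, h, Nat.cast_one]
  have hsq := sum_sq_degree (G := P)
  rw [← Finset.sum_filter_add_sum_filter_not Finset.univ (fun χ : Cfsg.IrrCharacter P => (χ : P → ℂ) 1 = 1),
    Finset.sum_congr rfl (g := fun _ => (1 : ℂ)) (fun χ hχ => by rw [(Finset.mem_filter.1 hχ).2]; norm_num),
    Finset.sum_congr rfl (s₁ := Finset.univ.filter fun χ : Cfsg.IrrCharacter P => ¬ (χ : P → ℂ) 1 = 1)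
      (g := fun _ => ((p : ℂ) ^ n) ^ 2) (fun χ hχ => by
        rw [(es_degree hP hcard χ).resolve_left (Finset.mem_filter.1 hχ).2]),
    Finset.sum_const, Finset.sum_const, nsmul_eq_mul, nsmul_eq_mul, mul_one, hlin, hcard] at hsq
  rw [Nat.card_eq_fintype_card, Fintype.card_subtype,
    Finset.filter_congr (s := Finset.univ) (q := fun χ : Cfsg.IrrCharacter P => ¬ (χ : P → ℂ) 1 = 1) (fun χ _ =>
      ⟨fun h h' => hne (h'.symm.trans h), fun h => (es_degree hP hcard χ).resolve_left h⟩)]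
  set k := (Finset.univ.filter fun χ : Cfsg.IrrCharacter P => ¬ (χ : P → ℂ) 1 = 1).card with hk
  have h3 : ((p ^ (2 * n) + k * p ^ (2 * n) : ℕ) : ℂ) = ((p * p ^ (2 * n) : ℕ) : ℂ) := by
    push_cast at hsq ⊢
    rw [← pow_mul, mul_comm n 2] at hsq
    rw [← pow_succ']
    exact hsq
  have h4 := Nat.cast_injective h3
  have h5 : (1 + k) * p ^ (2 * n) = p * p ^ (2 * n) := by rw [add_mul, one_mul]; exact h4
  have h6 := Nat.eq_of_mul_eq_mul_right (pow_pos hp.out.pos _) h5
  omega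

theorem es_induced (hP : Cfsg.IsExtraspecial p P) {n : ℕ} (hcard : Nat.card P = p ^ (2 * n + 1))
    (A : Subgroup P) (hA : Nat.card A = p ^ (n + 1)) {lam : A → ℂ}
    (hlam : Cfsg.IsCharacter A lam ∧ lam 1 = 1)
    (hZ : ∃ a : A, (a : P) ∈ Subgroup.center P ∧ lam a ≠ 1) :
    Cfsg.IsIrrCharacter P (Cfsg.indFun A lam) ∧ ∀ x : P, x ∉ Subgroup.center P → Cfsg.indFun A lam x = 0 := by
  classical
  obtain ⟨l, hl⟩ := exists_linear_of_degree_one hlam.1 hlam.2
  subst hl
  obtain ⟨a, haZ, ha⟩ := hZ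
  have hZA : Subgroup.center P ≤ A := by
    intro z hz
    have h1 : (⟨a, haZ⟩ : Subgroup.center P) ≠ 1 := fun e => ha (by
      have : a = 1 := Subtype.ext (congrArg Subtype.val e :)
      simp [this])
    have hmem : (⟨z, hz⟩ : Subgroup.center P) ∈ Subgroup.zpowers (⟨a, haZ⟩ : Subgroup.center P) :=
      zpowers_eq_top_of_prime_card hP.2 h1 ▸ Subgroup.mem_top _
    obtain ⟨k, hk⟩ := Subgroup.mem_zpowers_iff.1 hmem
    have := congrArg Subtype.val hk
    simp only [SubgroupClass.coe_zpow] at this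
    rw [← this]
    exact A.zpow_mem a.2 k
  set f := Cfsg.indFun A (fun a : A => (l a : ℂ)) with hfdef
  let μ : Subgroup.center P →* ℂ := (Units.coeHom ℂ).comp (l.comp (Subgroup.inclusion hZA))
  have hμne : ∃ z, μ z ≠ 1 := ⟨⟨a, haZ⟩, ha⟩
  have hs : ∀ z (hz : z ∈ Subgroup.center P), ∀ x, f (z * x) = μ ⟨z, hz⟩ * f x := by
    intro z hz x
    simp only [hfdef, Cfsg.indFun]
    rw [Finset.mul_sum, Finset.mul_sum, Finset.mul_sum]
    refine Finset.sum_congr rfl fun y _ => ?_
    have e : y⁻¹ * (z * x) * y = z * (y⁻¹ * x * y) := by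
      rw [← mul_assoc y⁻¹, Subgroup.mem_center_iff.1 hz y⁻¹]; group
    rw [e]
    by_cases hm : y⁻¹ * x * y ∈ A
    · rw [extendByZero_of_mem A _ hm, extendByZero_of_mem A _ (A.mul_mem (hZA hz) hm),
        show (⟨z * (y⁻¹ * x * y), A.mul_mem (hZA hz) hm⟩ : A) = ⟨z, hZA hz⟩ * ⟨_, hm⟩ from rfl, map_mul,
        Units.val_mul]
      show _ = (l ⟨z, hZA hz⟩ : ℂ) * _
      ring
    · rw [extendByZero_of_notMem A _ hm,
        extendByZero_of_notMem A _ (fun h => hm ((A.mul_mem_cancel_left (hZA hz)).1 h)), mul_zero, mul_zero]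
  let μ' : P → ℂ := fun z => if hz : z ∈ Subgroup.center P then μ ⟨z, hz⟩ else 0
  have hs' : ∀ z ∈ Subgroup.center P, ∀ x, f (z * x) = μ' z * f x := fun z hz x => by
    simp only [μ', dif_pos hz]; exact hs z hz x
  have hvan : ∀ x : P, x ∉ Subgroup.center P → f x = 0 := fun x hx =>
    es_vanish hP (isClassFunction_indFun A (fun a : A => (l a : ℂ))) hs' (fun z hz h1 => by
      simp only [μ', dif_pos hz]
      exact es_scalar_ne_one hP μ hμne (fun e => h1 (congrArg Subtype.val e))) hx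
  refine ⟨IsChar.isIrr_of_classInner_eq_one (isCharacter_indFun A hlam.1) ?_, hvan⟩
  have hidx : A.index = p ^ n := by
    have h := A.card_mul_index
    rw [hA, hcard, show 2 * n + 1 = (n + 1) + n by ring, pow_add p (n + 1) n] at h
    exact Nat.eq_of_mul_eq_mul_left (pow_pos hp.out.pos (n + 1)) h
  have hf1 : f 1 = (p : ℂ) ^ n := by rw [hfdef, indFun_apply_one, hidx]; simp
  have hnorm : ∀ z ∈ Subgroup.center P, f z * conj (f z) = ((p : ℂ) ^ n) ^ 2 := by
    intro z hz
    have e := hs z hz 1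
    rw [mul_one, hf1] at e
    have hp1 : μ ⟨z, hz⟩ ^ p = 1 := by
      rw [← map_pow, show (⟨z, hz⟩ : Subgroup.center P) ^ p = 1 from
        Subtype.ext (IsExtraspecial.center_pow hP hz), map_one]
    have hu : μ ⟨z, hz⟩ * conj (μ ⟨z, hz⟩) = 1 := by
      rw [Complex.mul_conj', Complex.norm_eq_one_of_pow_eq_one hp1 hp.out.ne_zero]; simp
    rw [e, map_mul, map_pow, map_natCast]
    linear_combination ((p : ℂ) ^ n) ^ 2 * hu
  rw [Cfsg.classInner, ← Finset.sum_filter_add_sum_filter_not Finset.univ (fun x => x ∈ Subgroup.center P),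
    Finset.sum_congr rfl (g := fun _ => ((p : ℂ) ^ n) ^ 2) (fun z hz => hnorm z (Finset.mem_filter.1 hz).2),
    Finset.sum_eq_zero (s := Finset.univ.filter fun x => ¬ x ∈ Subgroup.center P)
      (fun x hx => by rw [show f x = 0 from hvan x (Finset.mem_filter.1 hx).2, zero_mul]), add_zero,
    Finset.sum_const, nsmul_eq_mul, ← Fintype.card_subtype, ← Nat.card_eq_fintype_card,
    show Nat.card {x // x ∈ Subgroup.center P} = p from hP.2, hcard, Nat.cast_pow, ← pow_mul, mul_comm n 2,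
    ← pow_succ']
  exact inv_mul_cancel₀ (pow_ne_zero _ (Nat.cast_ne_zero.2 hp.out.ne_zero))

end CfsgLib.Char.Exceptional
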