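import Mathlib.LinearAlgebra.Matrix.Rank
import Mathlib.GroupTheory.DoubleCoset
import Mathlib.GroupTheory.GroupAction.Quotient
import Cfsg.Prelude.Def_LinearParabolics

/-!
# Orbits of the general linear group on pairs of flags

The Bruhat decomposition of the general linear group and the bijection between the double cosets of two
standard parabolic subgroups and those of the corresponding Young subgroups.
-/

set_option autoImplicit false

namespace CfsgLib.GLParabolic

open Matrix Finset

theorem sum_fixed_mul_fixed {G : Type*} [Group G] [Fintype G] (H K : Subgroup G) :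
    (Nat.card G : ℂ)⁻¹ * ∑ g : G, Cfsg.fixedPointCharacter H g * Cfsg.fixedPointCharacter K g =
      (Nat.card (DoubleCoset.Quotient (H : Set G) (K : Set G)) : ℂ) := by
  classical
  let Ψ : DoubleCoset.Quotient (H : Set G) (K : Set G) →
      MulAction.orbitRel.Quotient G ((G ⧸ H) × (G ⧸ K)) :=
    Quotient.lift (fun g => Quotient.mk'' (((1 : G) : G ⧸ H), ((g : G) : G ⧸ K))) (by
      intro g g' hg
      obtain ⟨a, ha, b, hb, rfl⟩ := DoubleCoset.rel_iff.1 hg
      refine Quotient.sound' ?_
      rw [MulAction.orbitRel_apply]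
      refine ⟨a⁻¹, Prod.ext ?_ ?_⟩
      · show ((a⁻¹ * 1 : G) : G ⧸ H) = _
        rw [QuotientGroup.eq]; simpa using ha
      · show ((a⁻¹ * (a * g * b) : G) : G ⧸ K) = _
        rw [QuotientGroup.eq]; simp [mul_assoc, hb])
  have hbij : Function.Bijective Ψ := by
    constructor
    · intro x y
      induction x using Quotient.inductionOn' with | h g => ?_
      induction y using Quotient.inductionOn' with | h g' => ?_
      intro h
      have h' := Quotient.exact' h
      rw [MulAction.orbitRel_apply] at h'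
      obtain ⟨a, ha⟩ := h'
      have h1 : ((a * 1 : G) : G ⧸ H) = ((1 : G) : G ⧸ H) := congrArg Prod.fst ha
      have h2 : ((a * g' : G) : G ⧸ K) = ((g : G) : G ⧸ K) := congrArg Prod.snd ha
      rw [QuotientGroup.eq] at h1 h2
      refine Quotient.sound' (DoubleCoset.rel_iff.2 ⟨a⁻¹, by simpa using h1,
        ((a * g')⁻¹ * g)⁻¹, K.inv_mem h2, ?_⟩)
      group
    · intro o
      induction o using Quotient.inductionOn' with | h x => ?_
      obtain ⟨x, y⟩ := x
      induction x using QuotientGroup.induction_on with | H a => ?_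
      induction y using QuotientGroup.induction_on with | H b => ?_
      refine ⟨Quotient.mk'' (a⁻¹ * b), Quotient.sound' ?_⟩
      rw [MulAction.orbitRel_apply]
      refine ⟨a⁻¹, Prod.ext ?_ rfl⟩
      show ((a⁻¹ * a : G) : G ⧸ H) = _
      rw [inv_mul_cancel]
  haveI : Fintype (G ⧸ H) := Fintype.ofFinite _
  haveI : Fintype (G ⧸ K) := Fintype.ofFinite _
  have hb := MulAction.sum_card_fixedBy_eq_card_orbits_mul_card_group G ((G ⧸ H) × (G ⧸ K))
  have hsum : ∑ g : G, Cfsg.fixedPointCharacter H g * Cfsg.fixedPointCharacter K g =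
      ((Nat.card (DoubleCoset.Quotient (H : Set G) (K : Set G)) * Nat.card G : ℕ) : ℂ) := by
    rw [Nat.card_eq_of_bijective Ψ hbij, Nat.card_eq_fintype_card, Nat.card_eq_fintype_card, ← hb,
      Nat.cast_sum]
    refine sum_congr rfl fun g _ => ?_
    rw [Cfsg.fixedPointCharacter, Cfsg.fixedPointCharacter, ← Nat.cast_mul, ← Nat.card_prod,
      ← Nat.card_eq_fintype_card (α := MulAction.fixedBy ((G ⧸ H) × (G ⧸ K)) g)]
    refine congrArg Nat.cast (Nat.card_congr ?_)
    exact
      { toFun := fun p => ⟨(p.1.1, p.2.1), Prod.ext p.1.2 p.2.2⟩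
        invFun := fun p => (⟨p.1.1, congrArg Prod.fst p.2⟩, ⟨p.1.2, congrArg Prod.snd p.2⟩)
        left_inv := fun p => rfl
        right_inv := fun p => rfl }
  have hG : (Nat.card G : ℂ) ≠ 0 := Nat.cast_ne_zero.2 Nat.card_pos.ne'
  rw [hsum, Nat.cast_mul]
  field_simp

variable {F : Type*} [Field F] {n : ℕ}

/-- The matrix of a permutation as a homomorphism. -/
def permHom (n : ℕ) (F : Type*) [Field F] : Equiv.Perm (Fin n) →* Matrix (Fin n) (Fin n) F where
  toFun σ := Matrix.of fun i j => if i = σ j then 1 else 0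
  map_one' := by
    ext i j
    by_cases h : i = j <;> simp [Matrix.one_apply, h]
  map_mul' σ τ := by
    ext i j
    by_cases h : i = σ (τ j) <;> simp [Matrix.mul_apply, h]

/-- The permutation matrices inside the general linear group. -/
def wGL (n : ℕ) (F : Type*) [Field F] : Equiv.Perm (Fin n) →* GL (Fin n) F := (permHom n F).toHomUnits

@[simp]
theorem wGL_apply (σ : Equiv.Perm (Fin n)) (i j : Fin n) :
    (wGL n F σ : Matrix (Fin n) (Fin n) F) i j = if i = σ j then 1 else 0 := rfl

theorem wGL_mem_parabolic {μ : Fin n → ℕ} {σ : Equiv.Perm (Fin n)} (hσ : σ ∈ Cfsg.youngSubgroup μ) :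
    wGL n F σ ∈ Cfsg.parabolicGL n F μ := by
  intro i j hij
  rw [wGL_apply, if_neg]
  rintro rfl
  exact (ne_of_lt hij) (hσ j).symm

theorem compLabel_mono (μ : Fin n → ℕ) : Monotone (Cfsg.compLabel μ) := fun i j hij =>
  card_le_card fun k hk => mem_filter.2 ⟨mem_univ _, (mem_filter.1 hk).2.trans hij⟩

theorem upperTriangular_le (μ : Fin n → ℕ) :
    Cfsg.upperTriangularGL n F ≤ Cfsg.parabolicGL n F μ := fun g hg i j hij =>
  hg (show j < i from not_le.1 fun hle => absurd (compLabel_mono μ hle) (not_le.2 hij))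

/-- The Bruhat decomposition. -/
theorem exists_bruhat (g : GL (Fin n) F) : ∃ b₁ ∈ Cfsg.upperTriangularGL n F,
    ∃ σ : Equiv.Perm (Fin n), ∃ b₂ ∈ Cfsg.upperTriangularGL n F, g = b₁ * wGL n F σ * b₂ := by
  classical
  let A : Matrix (Fin n) (Fin n) F := g
  let ok : Fin n → ℕ → Prop := fun j k => ∃ x : Fin n → F, (∀ l, j < l → x l = 0) ∧ x j ≠ 0 ∧
    ∀ i : Fin n, k ≤ i.val → (A *ᵥ x) i = 0
  have hex : ∀ j, ∃ k, ok j k := fun j => ⟨n, Pi.single j 1,
    fun l hl => Pi.single_eq_of_ne (ne_of_gt hl) _, by simp, fun i hi => absurd i.isLt (not_lt.2 hi)⟩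
  have hpos : ∀ j, 0 < Nat.find (hex j) := fun j => by
    refine Nat.pos_of_ne_zero fun h0 => ?_
    obtain ⟨x, _, hx, hz⟩ := Nat.find_spec (hex j)
    refine hx ?_
    have h : A *ᵥ x = 0 := funext fun i => hz i (by omega)
    have hx0 : ((g⁻¹ : GL (Fin n) F) : Matrix (Fin n) (Fin n) F) *ᵥ (A *ᵥ x) = x := by
      rw [mulVec_mulVec, ← Units.val_mul, inv_mul_cancel, Units.val_one, one_mulVec]
    rw [← hx0, h, mulVec_zero]
    rfl
  have hle : ∀ j, Nat.find (hex j) ≤ n := fun j => Nat.find_le ⟨Pi.single j 1,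
    fun l hl => Pi.single_eq_of_ne (ne_of_gt hl) _, by simp, fun i hi => absurd i.isLt (not_lt.2 hi)⟩
  let s : Fin n → Fin n := fun j => ⟨Nat.find (hex j) - 1, by have := hpos j; have := hle j; omega⟩
  have hspec : ∀ j, ∃ x : Fin n → F, (∀ l, j < l → x l = 0) ∧ x j ≠ 0 ∧
      (∀ i, s j < i → (A *ᵥ x) i = 0) ∧ (A *ᵥ x) (s j) ≠ 0 := by
    intro j
    obtain ⟨x, hx1, hx2, hx3⟩ := Nat.find_spec (hex j)
    have hs : (s j).val = Nat.find (hex j) - 1 := rfl
    refine ⟨x, hx1, hx2, fun i hi => hx3 i (by rw [Fin.lt_def] at hi; omega), fun h0 => ?_⟩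
    refine Nat.find_min (hex j) (m := Nat.find (hex j) - 1) (by have := hpos j; omega) ⟨x, hx1, hx2, fun i hi => ?_⟩
    rcases eq_or_lt_of_le hi with h | h
    · rw [show i = s j from Fin.ext (by omega)]; exact h0
    · exact hx3 i (by omega)
  choose x hx1 hx2 hx3 hx4 using hspec
  have hinj : Function.Injective s := by
    suffices ∀ j k, j < k → s j ≠ s k from fun j k hs => le_antisymm
      (not_lt.1 fun h => this k j h hs.symm) (not_lt.1 fun h => this j k h hs)
    intro j k hjk hs
    refine Nat.find_min (hex k) (m := (s k).val) (by have := hpos k; simp only [s]; omega)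
      ⟨x k - ((A *ᵥ x k) (s k) / (A *ᵥ x j) (s k)) • x j, fun l hl => ?_, ?_, fun i hi => ?_⟩
    · simp [hx1 k l hl, hx1 j l (hjk.trans hl)]
    · simp [hx1 j k hjk, hx2 k]
    · have hne : (A *ᵥ x j) (s k) ≠ 0 := hs ▸ hx4 j
      rw [mulVec_sub, mulVec_smul, Pi.sub_apply, Pi.smul_apply, smul_eq_mul]
      rcases eq_or_lt_of_le hi with h | h
      · rw [show i = s k from Fin.ext h.symm, div_mul_cancel₀ _ hne, sub_self]
      · rw [hx3 k i (Fin.lt_def.2 h), hx3 j i (Fin.lt_def.2 (by rw [hs]; exact h)), mul_zero, sub_zero]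
  let X : Matrix (Fin n) (Fin n) F := Matrix.of fun l j => x j l
  have hXu : X.BlockTriangular id := fun l j hlj => hx1 j l hlj
  have hXdet : IsUnit X.det := by
    rw [Matrix.det_of_isUpperTriangular hXu]
    exact (prod_ne_zero_iff.2 fun j _ => hx2 j).isUnit
  let b : GL (Fin n) F := Matrix.nonsingInvUnit X hXdet
  have hb : b ∈ Cfsg.upperTriangularGL n F := hXu
  let σ : Equiv.Perm (Fin n) := Equiv.ofBijective s (Finite.injective_iff_bijective.1 hinj)
  have hb₁ : g * b * wGL n F σ⁻¹ ∈ Cfsg.upperTriangularGL n F := by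
    intro i k hik
    show ((A * X) * (wGL n F σ⁻¹ : Matrix (Fin n) (Fin n) F)) i k = 0
    rw [Matrix.mul_apply, sum_eq_single (σ⁻¹ k)]
    · have hk : s (σ⁻¹ k) = k := σ.apply_symm_apply k
      have : (A * X) i (σ⁻¹ k) = (A *ᵥ x (σ⁻¹ k)) i := rfl
      rw [this, hx3 _ _ (by rw [hk]; exact hik), zero_mul]
    · intro l _ hl; rw [wGL_apply, if_neg hl, mul_zero]
    · exact fun h => absurd (mem_univ _) h
  refine ⟨_, hb₁, σ, b⁻¹, Subgroup.inv_mem _ hb, ?_⟩
  rw [map_inv]
  group

section invariant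

variable (f c : Fin n → ℕ)

/-- The rank of the lower left corner for the labels. -/
noncomputable def cornerRank (a b : ℕ) (M : Matrix (Fin n) (Fin n) F) : ℕ :=
  (M.submatrix (fun i : {i // a ≤ f i} => i.1) (fun j : {j // c j < b} => j.1)).rank

variable {f c}

theorem cornerRank_le {a b : ℕ} {P Q M : Matrix (Fin n) (Fin n) F} (hP : P.BlockTriangular f)
    (hQ : Q.BlockTriangular c) : cornerRank f c a b (P * M * Q) ≤ cornerRank f c a b M := by
  classical
  have h : (P * M * Q).submatrix (fun i : {i // a ≤ f i} => i.1) (fun j : {j // c j < b} => j.1) =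
      P.submatrix (fun i : {i // a ≤ f i} => i.1) (fun i : {i // a ≤ f i} => i.1) *
        M.submatrix (fun i : {i // a ≤ f i} => i.1) (fun j : {j // c j < b} => j.1) *
          Q.submatrix (fun j : {j // c j < b} => j.1) (fun j : {j // c j < b} => j.1) := by
    ext i j
    simp only [submatrix_apply, mul_apply]
    rw [← Fintype.sum_subtype_add_sum_subtype (fun k => c k < b),
      Fintype.sum_eq_zero (f := fun k : {k // ¬ c k < b} => _) fun k => by
        rw [hQ (show c j.1 < c k.1 by have := j.2; have := k.2; omega), mul_zero], add_zero]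
    refine sum_congr rfl fun k _ => ?_
    rw [← Fintype.sum_subtype_add_sum_subtype (fun l => a ≤ f l),
      Fintype.sum_eq_zero (f := fun l : {l // ¬ a ≤ f l} => _) fun l => by
        rw [hP (show f l.1 < f i.1 by have := i.2; have := l.2; omega), zero_mul], add_zero]
  unfold cornerRank
  rw [h]
  exact (rank_mul_le_left _ _).trans (rank_mul_le_right _ _)

theorem cornerRank_wGL (a b : ℕ) (σ : Equiv.Perm (Fin n)) :
    cornerRank f c a b (wGL n F σ : Matrix (Fin n) (Fin n) F) =
      Fintype.card {j // a ≤ f (σ j) ∧ c j < b} := by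
  classical
  let T := {j // a ≤ f (σ j) ∧ c j < b}
  let S := (wGL n F σ : Matrix (Fin n) (Fin n) F).submatrix (fun i : {i // a ≤ f i} => i.1)
    (fun j : {j // c j < b} => j.1)
  let A : Matrix {i // a ≤ f i} T F := Matrix.of fun i t => if i.1 = σ t.1 then 1 else 0
  let B : Matrix T {j // c j < b} F := Matrix.of fun t j => if t.1 = j.1 then 1 else 0
  have h1 : S = A * B := by
    ext i j
    simp only [S, A, B, submatrix_apply, wGL_apply, mul_apply, of_apply]
    by_cases hj : a ≤ f (σ j.1)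
    · rw [sum_eq_single (⟨j.1, hj, j.2⟩ : T)]
      · simp
      · intro t _ ht
        rw [if_neg (fun e => ht (Subtype.ext e)) (t := (1 : F)), mul_zero]
      · exact fun h => absurd (mem_univ _) h
    · rw [if_neg (fun e : i.1 = σ j.1 => hj (e ▸ i.2)), sum_eq_zero]
      intro t _
      rw [if_neg (show ¬ t.1 = j.1 from fun e => hj (e ▸ t.2.1)), mul_zero]
  have h2 : (Matrix.of fun (t : T) (i : {i // a ≤ f i}) => if i.1 = σ t.1 then (1 : F) else 0) * S *
      (Matrix.of fun (j : {j // c j < b}) (t : T) => if t.1 = j.1 then (1 : F) else 0) = 1 := by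
    ext t t'
    simp only [S, mul_apply, of_apply, submatrix_apply, wGL_apply]
    rw [sum_eq_single (⟨t'.1, t'.2.2⟩ : {j // c j < b}), if_pos rfl, mul_one,
      sum_eq_single (⟨σ t.1, t.2.1⟩ : {i // a ≤ f i}), if_pos rfl, one_mul, one_apply]
    · by_cases ht : t = t' <;> simp [σ.injective.eq_iff, Subtype.coe_ne_coe, eq_comm, ht, Subtype.ext_iff] at *
    · intro i _ hi
      rw [if_neg (fun e => hi (Subtype.ext e)), zero_mul]
    · exact fun h => absurd (mem_univ _) h
    · intro j _ hj
      rw [if_neg (fun e => hj (Subtype.ext e.symm)) (t := (1 : F)), mul_zero]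
    · exact fun h => absurd (mem_univ _) h
  refine le_antisymm ?_ ?_
  · show S.rank ≤ _
    rw [h1]
    exact (rank_mul_le_left A B).trans (rank_le_card_width A)
  · show _ ≤ S.rank
    rw [← rank_one (R := F) (n := T), ← h2]
    exact (rank_mul_le_left _ _).trans (rank_mul_le_right _ _)

theorem exists_perm_of_card_eq {σ τ : Equiv.Perm (Fin n)}
    (h : ∀ a b, Fintype.card {j // a ≤ f (σ j) ∧ c j < b} = Fintype.card {j // a ≤ f (τ j) ∧ c j < b}) :
    ∃ π : Equiv.Perm (Fin n), ∀ j, c (π j) = c j ∧ f (τ (π j)) = f (σ j) := by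
  classical
  have key : ∀ (ρ : Equiv.Perm (Fin n)) (a b : ℕ),
      Fintype.card {j // (f (ρ j), c j) = (a, b)} + Fintype.card {j // a + 1 ≤ f (ρ j) ∧ c j < b + 1} +
        Fintype.card {j // a ≤ f (ρ j) ∧ c j < b} =
      Fintype.card {j // a ≤ f (ρ j) ∧ c j < b + 1} + Fintype.card {j // a + 1 ≤ f (ρ j) ∧ c j < b} := by
    intro ρ a b
    simp only [Fintype.card_subtype, card_filter, ← sum_add_distrib]
    refine sum_congr rfl fun j _ => ?_
    simp only [Prod.mk.injEq]
    split_ifs <;> omega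
  have hcard : ∀ p : ℕ × ℕ, Fintype.card {j // (f (σ j), c j) = p} = Fintype.card {j // (f (τ j), c j) = p} := by
    rintro ⟨a, b⟩
    have h1 := key σ a b
    have h2 := key τ a b
    have := h (a + 1) (b + 1); have := h a b; have := h a (b + 1); have := h (a + 1) b
    omega
  refine ⟨Equiv.ofFiberEquiv fun p => Fintype.equivOfCardEq (hcard p), fun j => ?_⟩
  have := Equiv.ofFiberEquiv_map (fun p => Fintype.equivOfCardEq (hcard p)) j
  exact ⟨congrArg Prod.snd this, congrArg Prod.fst this⟩

end invariant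

theorem card_doubleCoset_eq (ν μ : Fin n → ℕ) :
    Nat.card (DoubleCoset.Quotient (Cfsg.youngSubgroup ν : Set (Equiv.Perm (Fin n))) (Cfsg.youngSubgroup μ : Set _)) =
      Nat.card (DoubleCoset.Quotient (Cfsg.parabolicGL n F ν : Set (GL (Fin n) F)) (Cfsg.parabolicGL n F μ : Set _)) := by
  classical
  let Φ : DoubleCoset.Quotient (Cfsg.youngSubgroup ν : Set (Equiv.Perm (Fin n))) (Cfsg.youngSubgroup μ : Set _) →
      DoubleCoset.Quotient (Cfsg.parabolicGL n F ν : Set (GL (Fin n) F)) (Cfsg.parabolicGL n F μ : Set _) :=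
    Quotient.lift (fun σ => Quotient.mk'' (wGL n F σ)) (by
      intro σ τ h
      obtain ⟨a, ha, b, hb, rfl⟩ := DoubleCoset.rel_iff.1 h
      exact Quotient.sound' (DoubleCoset.rel_iff.2
        ⟨_, wGL_mem_parabolic ha, _, wGL_mem_parabolic hb, by rw [map_mul, map_mul]⟩))
  refine Nat.card_eq_of_bijective Φ ⟨?_, ?_⟩
  · intro x y
    induction x using Quotient.inductionOn' with | h σ => ?_
    induction y using Quotient.inductionOn' with | h τ => ?_
    intro h
    obtain ⟨p, hp, q, hq, e⟩ := DoubleCoset.rel_iff.1 (Quotient.exact' h)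
    have e' : wGL n F σ = p⁻¹ * wGL n F τ * q⁻¹ := by rw [e]; group
    obtain ⟨π, hπ⟩ := exists_perm_of_card_eq (f := Cfsg.compLabel ν) (c := Cfsg.compLabel μ) (σ := σ) (τ := τ)
      (fun a b => by
        rw [← cornerRank_wGL (F := F), ← cornerRank_wGL (F := F)]
        refine le_antisymm ?_ ?_
        · rw [e', Units.val_mul, Units.val_mul]
          exact cornerRank_le ((Cfsg.parabolicGL n F ν).inv_mem hp) ((Cfsg.parabolicGL n F μ).inv_mem hq)
        · rw [e, Units.val_mul, Units.val_mul]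
          exact cornerRank_le hp hq)
    refine Quotient.sound' (DoubleCoset.rel_iff.2 ⟨τ * π * σ⁻¹, fun i => ?_, π⁻¹, ?_, ?_⟩)
    · simpa using (hπ (σ⁻¹ i)).2
    · exact Subgroup.inv_mem _ fun j => (hπ j).1
    · group
  · intro x
    induction x using Quotient.inductionOn' with | h g => ?_
    obtain ⟨b₁, h₁, σ, b₂, h₂, e⟩ := exists_bruhat g
    exact ⟨Quotient.mk'' σ, Quotient.sound' (DoubleCoset.rel_iff.2
      ⟨b₁, upperTriangular_le ν h₁, b₂, upperTriangular_le μ h₂, e⟩)⟩

end CfsgLib.GLParabolic
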