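import Mathlib.LinearAlgebra.Matrix.SchurComplement
import Mathlib.LinearAlgebra.Matrix.Block
import Cfsg.Prelude.Def_LinearParabolics
import Cfsg.Agent.Lib.Classical.SylowGL

/-!
# Orders of the standard parabolic subgroups of the general linear group
-/

set_option autoImplicit false

namespace CfsgLib.GLParabolic

open Matrix Finset

/-- Product of q-integers. -/
def qFac (q r : ℕ) : ℕ := ∏ j ∈ range r, ∑ l ∈ range (j + 1), q ^ l

theorem qFac_mul (q r : ℕ) (hq : 1 ≤ q) :
    qFac q r * (q - 1) ^ r = ∏ i ∈ range r, (q ^ (i + 1) - 1) := by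
  induction r with
  | zero => simp [qFac]
  | succ r ih =>
    have h := geom_sum_mul_add (q - 1) (r + 1)
    rw [Nat.sub_add_cancel hq] at h
    rw [qFac, prod_range_succ, prod_range_succ, pow_succ, ← ih, qFac,
      show q ^ (r + 1) - 1 = (∑ l ∈ range (r + 1), q ^ l) * (q - 1) by omega]
    ring

section blocks

variable {F : Type*} [Field F] {ι κ : Type*} [Fintype ι] [DecidableEq ι] [Fintype κ] [LinearOrder κ]
  (f : ι → κ)

/-- A block triangular matrix as its diagonal blocks and its entries above them. -/
noncomputable def blockEquiv : {M : Matrix ι ι F // M.BlockTriangular f} ≃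
    (∀ a, Matrix {i // f i = a} {i // f i = a} F) × ({p : ι × ι // f p.1 < f p.2} → F) where
  toFun M := (fun a => M.1.toSquareBlock f a, fun p => M.1 p.1.1 p.1.2)
  invFun x := ⟨Matrix.of fun i j => if h : f i = f j then x.1 (f j) ⟨i, h⟩ ⟨j, rfl⟩
      else if h' : f i < f j then x.2 ⟨(i, j), h'⟩ else 0, fun i j hij => by
    rw [Matrix.of_apply, dif_neg (ne_of_gt hij), dif_neg (asymm hij)]⟩
  left_inv M := by
    refine Subtype.ext ?_
    ext i j
    show (if h : f i = f j then M.1 i j else if h' : f i < f j then M.1 i j else 0) = M.1 i j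
    by_cases h : f i = f j
    · rw [dif_pos h]
    · rw [dif_neg h]
      by_cases h' : f i < f j
      · rw [dif_pos h']
      · rw [dif_neg h']
        exact (M.2 (lt_of_le_of_ne (not_lt.1 h') (Ne.symm h))).symm
  right_inv x := by
    refine Prod.ext ?_ ?_
    · funext a
      ext ⟨i, hi⟩ ⟨j, hj⟩
      subst hj
      show (if h : f i = f j then _ else _) = _
      rw [dif_pos hi]
    · funext ⟨⟨i, j⟩, hij⟩
      show (if h : f i = f j then _ else _) = _
      rw [dif_neg (ne_of_lt hij), dif_pos hij]

theorem det_eq_prod {M : Matrix ι ι F} (hM : M.BlockTriangular f) :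
    M.det = ∏ a : κ, (M.toSquareBlock f a).det := by
  rw [hM.det]
  refine prod_subset (subset_univ _) fun a _ ha => ?_
  haveI : IsEmpty {i // f i = a} := ⟨fun i => ha (mem_image.2 ⟨i.1, mem_univ _, i.2⟩)⟩
  exact det_isEmpty

theorem card_GL_type (α : Type*) [Fintype α] [DecidableEq α] :
    Nat.card (GL α F) = Nat.card (GL (Fin (Fintype.card α)) F) :=
  Nat.card_congr (Units.mapEquiv (Matrix.reindexAlgEquiv F F (Fintype.equivFin α)).toMulEquiv).toEquiv

/-- The invertible block triangular matrices. -/
theorem card_blockTriangular [Fintype F] :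
    Nat.card {g : GL ι F // (g : Matrix ι ι F).BlockTriangular f} =
      (∏ a : κ, Nat.card (GL (Fin (Fintype.card {i // f i = a})) F)) *
        Fintype.card F ^ Fintype.card {p : ι × ι // f p.1 < f p.2} := by
  classical
  let Pd := fun a => {D : Matrix {i // f i = a} {i // f i = a} F // IsUnit D.det}
  let e0 : {g : GL ι F // (g : Matrix ι ι F).BlockTriangular f} ≃
      {M : {M : Matrix ι ι F // M.BlockTriangular f} // IsUnit M.1.det} :=
    { toFun := fun g => ⟨⟨g.1, g.2⟩, (Matrix.isUnit_iff_isUnit_det _).1 g.1.isUnit⟩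
      invFun := fun M => ⟨Matrix.nonsingInvUnit _ M.2, M.1.2⟩
      left_inv := fun g => Subtype.ext (Units.ext rfl)
      right_inv := fun M => Subtype.ext (Subtype.ext rfl) }
  let e1 : {M : {M : Matrix ι ι F // M.BlockTriangular f} // IsUnit M.1.det} ≃
      {x : (∀ a, Matrix {i // f i = a} {i // f i = a} F) × ({p : ι × ι // f p.1 < f p.2} → F) //
        ∀ a, IsUnit (x.1 a).det} :=
    (blockEquiv f).subtypeEquiv fun M => by
      rw [det_eq_prod f M.2, IsUnit.prod_iff]
      simp [blockEquiv]
  let e2 : {x : (∀ a, Matrix {i // f i = a} {i // f i = a} F) × ({p : ι × ι // f p.1 < f p.2} → F) //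
        ∀ a, IsUnit (x.1 a).det} ≃ (∀ a, Pd a) × ({p : ι × ι // f p.1 < f p.2} → F) :=
    { toFun := fun x => (fun a => ⟨x.1.1 a, x.2 a⟩, x.1.2)
      invFun := fun y => ⟨(fun a => (y.1 a).1, y.2), fun a => (y.1 a).2⟩
      left_inv := fun x => rfl
      right_inv := fun y => rfl }
  have hPd : ∀ a, Nat.card (Pd a) = Nat.card (GL (Fin (Fintype.card {i // f i = a})) F) := fun a => by
    rw [← card_GL_type]
    exact Nat.card_congr
      { toFun := fun D => Matrix.nonsingInvUnit _ D.2
        invFun := fun g => ⟨g.1, (Matrix.isUnit_iff_isUnit_det _).1 g.isUnit⟩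
        left_inv := fun D => Subtype.ext rfl
        right_inv := fun g => Units.ext rfl }
  rw [Nat.card_congr ((e0.trans e1).trans e2), Nat.card_prod, Nat.card_pi, Nat.card_fun,
    Nat.card_eq_fintype_card (α := F), Nat.card_eq_fintype_card (α := {p : ι × ι // f p.1 < f p.2})]
  simp only [hPd]

theorem two_mul_card_lt_add :
    2 * Fintype.card {p : ι × ι // f p.1 < f p.2} +
      ∑ a : κ, Fintype.card {i // f i = a} * Fintype.card {i // f i = a} =
        Fintype.card ι * Fintype.card ι := by
  classical
  rw [← Fintype.card_prod]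
  have h1 : Fintype.card {p : ι × ι // f p.2 < f p.1} = Fintype.card {p : ι × ι // f p.1 < f p.2} :=
    Fintype.card_congr ((Equiv.prodComm ι ι).subtypeEquiv fun p => Iff.rfl)
  have h2 : Fintype.card {p : ι × ι // f p.1 = f p.2} =
      ∑ a : κ, Fintype.card {i // f i = a} * Fintype.card {i // f i = a} := by
    simp only [Fintype.card_subtype]
    rw [card_eq_sum_card_fiberwise (f := fun p : ι × ι => f p.1) (t := univ) fun _ _ => mem_univ _]
    refine sum_congr rfl fun a _ => ?_
    rw [← card_product]
    congr 1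
    ext p
    simp only [mem_filter, mem_univ, true_and, mem_product]
    exact ⟨fun h => ⟨h.2, h.1 ▸ h.2⟩, fun h => ⟨h.1.trans h.2.symm, h.1⟩⟩
  have h3 : Fintype.card {p : ι × ι // f p.1 < f p.2} + Fintype.card {p : ι × ι // f p.2 < f p.1} +
      Fintype.card {p : ι × ι // f p.1 = f p.2} = Fintype.card (ι × ι) := by
    simp only [Fintype.card_subtype, ← card_univ (α := ι × ι)]
    rw [← card_union_of_disjoint, ← card_union_of_disjoint]
    · congr 1
      ext p
      simpa [or_assoc] using (lt_trichotomy (f p.1) (f p.2)).elim Or.inl fun h =>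
        h.elim (fun h => Or.inr (Or.inr h)) fun h => Or.inr (Or.inl h)
    · simp only [disjoint_left, mem_union, mem_filter, mem_univ, true_and]
      rintro p (h | h)
      · exact ne_of_lt h
      · exact ne_of_gt h
    · simp only [disjoint_left, mem_filter, mem_univ, true_and]
      exact fun p h => asymm h
  omega

end blocks

section composition

variable {n : ℕ} {μ : Fin n → ℕ} (hμ : ∑ i, μ i = n)

/-- Start of the run of the part `b`. -/
def start (μ : Fin n → ℕ) (b : Fin n) : ℕ := ∑ k ∈ univ.filter (fun k : Fin n => k < b), μ k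

theorem start_add (b : Fin n) :
    start μ b + μ b = ∑ k ∈ univ.filter (fun k : Fin n => k ≤ b), μ k := by
  rw [start, add_comm, ← sum_insert (s := univ.filter fun k : Fin n => k < b) (by simp)]
  refine sum_congr ?_ fun _ _ => rfl
  ext k
  simp [le_iff_lt_or_eq, or_comm]

theorem start_add_le_start {j b : Fin n} (h : j < b) : start μ j + μ j ≤ start μ b := by
  rw [start_add]
  exact sum_le_sum_of_subset fun k hk => by
    simp only [mem_filter, mem_univ, true_and] at hk ⊢
    exact lt_of_le_of_lt hk h

theorem compLabel_eq_of_mem {i b : Fin n} (h1 : start μ b ≤ i.val) (h2 : i.val < start μ b + μ b) :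
    Cfsg.compLabel μ i = b.val := by
  have key : (univ.filter fun j : Fin n =>
      (∑ k ∈ univ.filter (fun k : Fin n => k ≤ j), μ k) ≤ i.val) = Iio b := by
    ext j
    simp only [mem_filter, mem_univ, true_and, mem_Iio, ← start_add]
    constructor
    · intro hj
      by_contra hb
      rcases eq_or_lt_of_le (not_lt.1 hb) with e | e
      · subst e; omega
      · have := start_add_le_start (μ := μ) e
        omega
    · intro hj
      have := start_add_le_start (μ := μ) hj
      omega
  rw [Cfsg.compLabel, key, Fin.card_Iio]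

include hμ in
theorem exists_run (i : Fin n) : ∃ b : Fin n, start μ b ≤ i.val ∧ i.val < start μ b + μ b := by
  have hn : 0 < n := Nat.lt_of_le_of_lt (Nat.zero_le _) i.isLt
  have hne : (univ.filter fun b : Fin n => i.val < start μ b + μ b).Nonempty := by
    refine ⟨⟨n - 1, by omega⟩, mem_filter.2 ⟨mem_univ _, ?_⟩⟩
    rw [start_add, show (univ.filter fun k : Fin n => k ≤ ⟨n - 1, by omega⟩) = univ from
      filter_true_of_mem fun k _ => Fin.le_def.2 (by simp only; omega), hμ]
    exact i.isLt
  obtain ⟨b, hb⟩ : ∃ b, b = (univ.filter fun b : Fin n => i.val < start μ b + μ b).min' hne := ⟨_, rfl⟩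
  have hbm := (mem_filter.1 (hb ▸ min'_mem _ hne)).2
  refine ⟨b, ?_, hbm⟩
  by_contra hlt
  rcases Nat.eq_zero_or_pos b.val with h0 | h0
  · refine hlt ?_
    rw [start, sum_eq_zero fun k hk => absurd (mem_filter.1 hk).2 (by rw [Fin.lt_def]; omega)]
    exact Nat.zero_le _
  · have hp : start μ b = start μ ⟨b.val - 1, by omega⟩ + μ ⟨b.val - 1, by omega⟩ := by
      rw [start_add, start]
      refine sum_congr ?_ fun _ _ => rfl
      ext k
      simp only [mem_filter, mem_univ, true_and, Fin.lt_def, Fin.le_def]
      omega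
    have hle : b ≤ ⟨b.val - 1, by omega⟩ := by
      conv_lhs => rw [hb]
      exact min'_le _ _ (mem_filter.2 ⟨mem_univ _, by omega⟩)
    rw [Fin.le_def] at hle
    simp only at hle
    omega

include hμ in
theorem compLabel_lt (i : Fin n) : Cfsg.compLabel μ i < n := by
  obtain ⟨b, h1, h2⟩ := exists_run hμ i
  rw [compLabel_eq_of_mem h1 h2]
  exact b.isLt

include hμ in
theorem compLabel_eq_iff (i b : Fin n) :
    Cfsg.compLabel μ i = b.val ↔ start μ b ≤ i.val ∧ i.val < start μ b + μ b := by
  refine ⟨fun h => ?_, fun h => compLabel_eq_of_mem h.1 h.2⟩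
  obtain ⟨c, h1, h2⟩ := exists_run hμ i
  rw [compLabel_eq_of_mem h1 h2] at h
  obtain rfl := Fin.ext h
  exact ⟨h1, h2⟩

include hμ in
theorem card_label_fibre (b : Fin n) :
    Fintype.card {i : Fin n // Cfsg.compLabel μ i = b.val} = μ b := by
  have hle : start μ b + μ b ≤ n := by
    rw [start_add]
    calc _ ≤ ∑ k, μ k := sum_le_sum_of_subset (filter_subset _ _)
      _ = n := hμ
  rw [← Fintype.card_fin (μ b)]
  exact Fintype.card_congr
    { toFun := fun i => ⟨i.1.val - start μ b, by have := (compLabel_eq_iff hμ i.1 b).1 i.2; omega⟩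
      invFun := fun k => ⟨⟨start μ b + k.val, by omega⟩, compLabel_eq_of_mem (by simp) (by simp)⟩
      left_inv := fun i => Subtype.ext (Fin.ext (by
        have := (compLabel_eq_iff hμ i.1 b).1 i.2
        simp only
        omega))
      right_inv := fun k => Fin.ext (by simp) }

/-- The block label with values in `Fin n`. -/
def label (i : Fin n) : Fin n := ⟨Cfsg.compLabel μ i, compLabel_lt hμ i⟩

theorem card_label (b : Fin n) : Fintype.card {i : Fin n // label hμ i = b} = μ b := by
  rw [← card_label_fibre hμ b]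
  exact Fintype.card_congr (Equiv.subtypeEquivRight fun i => Fin.ext_iff)

theorem mem_parabolic_iff {F : Type*} [Field F] {g : GL (Fin n) F} :
    g ∈ Cfsg.parabolicGL n F μ ↔ (g : Matrix (Fin n) (Fin n) F).BlockTriangular (label hμ) :=
  ⟨fun h i j hij => h (show Cfsg.compLabel μ j < Cfsg.compLabel μ i from hij), fun h i j hij =>
    h (show label hμ j < label hμ i from hij)⟩

include hμ in
theorem card_parabolic {F : Type*} [Field F] [Fintype F] :
    Nat.card (Cfsg.parabolicGL n F μ) =
      Fintype.card F ^ (n * (n - 1) / 2) * ∏ b : Fin n, ∏ i ∈ range (μ b), (Fintype.card F ^ (i + 1) - 1) := by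
  classical
  rw [Nat.card_congr (Equiv.subtypeEquivRight fun g : GL (Fin n) F => mem_parabolic_iff hμ),
    card_blockTriangular (label hμ)]
  simp only [card_label hμ, CfsgLib.Classical.card_GL_eq, prod_mul_distrib, prod_pow_eq_pow_sum]
  rw [mul_right_comm, ← pow_add]
  congr 2
  have h := two_mul_card_lt_add (label hμ)
  simp only [card_label hμ, Fintype.card_fin] at h
  have h' : ∑ b : Fin n, μ b * (μ b - 1) / 2 * 2 = ∑ b : Fin n, μ b * (μ b - 1) :=
    sum_congr rfl fun b _ => Nat.div_mul_cancel (Nat.even_mul_pred_self (μ b)).two_dvd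
  rw [← sum_mul] at h'
  have h'' : ∑ b : Fin n, μ b * (μ b - 1) + n = ∑ b : Fin n, μ b * μ b := by
    conv_lhs => arg 2; rw [← hμ]
    rw [← sum_add_distrib]
    refine sum_congr rfl fun b _ => ?_
    cases μ b <;> simp [Nat.mul_succ]
  have h4 : n * (n - 1) + n = n * n := by cases n <;> simp [Nat.mul_succ]
  have h5 : n * (n - 1) / 2 * 2 = n * (n - 1) := Nat.div_mul_cancel (Nat.even_mul_pred_self n).two_dvd
  omega

include hμ in
theorem index_mul {F : Type*} [Field F] [Fintype F] :
    (Cfsg.parabolicGL n F μ).index * ∏ b : Fin n, qFac (Fintype.card F) (μ b) =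
      qFac (Fintype.card F) n := by
  have hq := Fintype.one_lt_card (α := F)
  have h := (Cfsg.parabolicGL n F μ).index_mul_card
  rw [card_parabolic hμ, CfsgLib.Classical.card_GL_eq] at h
  simp only [← qFac_mul _ _ hq.le, prod_mul_distrib, prod_pow_eq_pow_sum, hμ] at h
  refine Nat.eq_of_mul_eq_mul_right
    (Nat.mul_pos (pow_pos (zero_lt_one.trans hq) (n * (n - 1) / 2)) (pow_pos (by omega : 0 < Fintype.card F - 1) n)) ?_
  linarith

end composition

end CfsgLib.GLParabolic
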