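import Mathlib
import Cfsg.Agent.Lib.Char.Brauer
import Cfsg.Agent.Lib.Blocks.Kernel
import Cfsg.Agent.Lib.Char.Exceptional.SectionIndicator

/-! The Brauer-Suzuki criterion for a normal complement to a Hall subgroup. -/

set_option autoImplicit false

open scoped ComplexConjugate

namespace CfsgLib.Char.Exceptional

open CfsgLib.Char

universe u

variable {G : Type u} [Group G] [Fintype G] {H : Subgroup G}

/-- The value of `φ` at a chosen element of `H` conjugate to the `k`-th power. -/
noncomputable def hallLift (k : ℕ) (hp : ∀ x : G, ∃ h : H, IsConj (x ^ k) (h : G)) (φ : H → ℂ) :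
    G → ℂ := fun x => φ (hp x).choose

theorem hallLift_eq {k : ℕ} {hp : ∀ x : G, ∃ h : H, IsConj (x ^ k) (h : G)}
    (hfus : ∀ x ∈ H, ∀ y ∈ H, IsConj x y → ∃ h ∈ H, h * x * h⁻¹ = y)
    {φ : H → ℂ} (hφ : Cfsg.IsClassFunction H φ) {x : G} {h : H} (hx : IsConj (x ^ k) (h : G)) :
    hallLift k hp φ x = φ h := by
  obtain ⟨c, hc, he⟩ := hfus _ (hp x).choose.2 _ h.2 ((hp x).choose_spec.symm.trans hx)
  have : h = ⟨c, hc⟩ * (hp x).choose * ⟨c, hc⟩⁻¹ := Subtype.ext he.symm
  rw [this, hφ _ ⟨c, hc⟩]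
  rfl

theorem hallLift_isClassFunction {k : ℕ} {hp : ∀ x : G, ∃ h : H, IsConj (x ^ k) (h : G)}
    (hfus : ∀ x ∈ H, ∀ y ∈ H, IsConj x y → ∃ h ∈ H, h * x * h⁻¹ = y)
    {φ : H → ℂ} (hφ : Cfsg.IsClassFunction H φ) : Cfsg.IsClassFunction G (hallLift k hp φ) := by
  intro x g
  refine (hallLift_eq hfus hφ ?_).trans rfl
  rw [conj_pow]
  exact (isConj_iff.2 ⟨g, rfl⟩).symm.trans (hp x).choose_spec

theorem exists_hall_conj
    (helem : ∀ (E : Subgroup G) (p : ℕ), p.Prime → Cfsg.IsElementary p E →
      Nat.card E ∣ Nat.card H → ∃ g : G, E.map (MulAut.conj g).toMonoidHom ≤ H)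
    {v : G} (hv : orderOf v ∣ Nat.card H) : ∃ h : H, IsConj v (h : G) := by
  obtain ⟨p, hle, hp⟩ := Nat.exists_infinite_primes (orderOf v + 1)
  have hvc : (⟨v, Subgroup.mem_zpowers v⟩ : Subgroup.zpowers v) ∈
      Subgroup.center (Subgroup.zpowers v) :=
    Subgroup.mem_center_iff.2 fun g => mul_comm' g _
  have hel : Cfsg.IsElementary p (Subgroup.zpowers v) := by
    refine ⟨⟨v, Subgroup.mem_zpowers v⟩, hvc, ?_, 0, ?_⟩
    · rw [Subgroup.orderOf_mk]
      exact (hp.coprime_iff_not_dvd.2 fun h => by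
        have := Nat.le_of_dvd (orderOf_pos v) h
        omega).symm
    · rw [pow_zero, Subgroup.index_eq_one, Subgroup.eq_top_iff']
      intro g
      obtain ⟨i, hi⟩ := Subgroup.mem_zpowers_iff.1 g.2
      exact ⟨i, Subtype.ext (by simpa using hi)⟩
  obtain ⟨g, hg⟩ := helem _ p hp hel (by rwa [Nat.card_zpowers])
  exact ⟨⟨g * v * g⁻¹, hg ⟨v, Subgroup.mem_zpowers v, rfl⟩⟩, isConj_iff.2 ⟨g, rfl⟩⟩
where
  mul_comm' {v : G} (a b : Subgroup.zpowers v) : a * b = b * a :=
    (IsCyclic.commutative (α := Subgroup.zpowers v)).is_comm.comm a b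

theorem hall_normal_complement (hHall : Nat.Coprime (Nat.card H) H.index)
    (hfus : ∀ x ∈ H, ∀ y ∈ H, IsConj x y → ∃ h ∈ H, h * x * h⁻¹ = y)
    (helem : ∀ (E : Subgroup G) (p : ℕ), p.Prime → Cfsg.IsElementary p E →
      Nat.card E ∣ Nat.card H → ∃ g : G, E.map (MulAut.conj g).toMonoidHom ≤ H) :
    ∃ K : Subgroup G, K.Normal ∧ K ⊔ H = ⊤ ∧ K ⊓ H = ⊥ := by
  classical
  have := Fintype.ofFinite H
  have := Fintype.ofFinite (Cfsg.IrrCharacter H)
  have hGH : Nat.card G = H.index * Nat.card H := H.index_mul_card.symm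
  obtain ⟨k, hkm, hkn⟩ := exists_part_exponent hHall.symm
  have hord : ∀ x : G, orderOf (x ^ k) ∣ Nat.card H := by
    intro x
    refine orderOf_dvd_iff_pow_eq_one.2 ?_
    obtain ⟨c, rfl⟩ := hkm
    rw [← pow_mul, mul_right_comm, ← hGH, pow_mul, pow_card_eq_one', one_pow]
  have hp : ∀ x : G, ∃ h : H, IsConj (x ^ k) (h : G) := fun x => exists_hall_conj helem (hord x)
  have hfix : ∀ h : H, (h : G) ^ k = h := fun h => by
    conv_rhs => rw [← pow_one (h : G)]
    exact pow_eq_pow_iff_modEq.2 (hkn.of_dvd (Subgroup.orderOf_dvd_natCard H h.2))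
  have hres : ∀ φ : H → ℂ, Cfsg.IsClassFunction H φ → ∀ h : H, hallLift k hp φ h = φ h :=
    fun φ hφ h => hallLift_eq hfus hφ (by rw [hfix])
  -- lifts are generalized characters
  have hgen : ∀ φ : H → ℂ, Cfsg.IsCharacter H φ →
      Cfsg.IsGeneralizedCharacter G (hallLift k hp φ) := by
    intro φ hφ
    refine CfsgLib.Brauer.isGeneralizedCharacter_of_elementary
      (hallLift_isClassFunction hfus (IsChar.isClassFunction hφ)) fun E p hpp hel => ?_
    have := CfsgLib.Brauer.isNilpotent_of_isElementary hpp hel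
    obtain ⟨U, W, -, hUm, hWn, hbij, hcomm⟩ :=
      nilpotent_split E ((Subgroup.card_subgroup_dvd_card E).trans hGH.dvd) hHall.symm
    obtain ⟨g, hg⟩ := helem (W.map E.subtype) p hpp
      (CfsgLib.QE.isElementary_of_injective hpp (Subgroup.inclusion (Subgroup.map_subtype_le W))
        (Subgroup.inclusion_injective _) hel)
      (by rw [Subgroup.card_map_of_injective E.subtype_injective]; exact hWn)
    have hpart : ∀ u : U, ∀ w : W, ((u : E) * w) ^ k = w := fun u w =>
      pow_part_of_decomp ((Subgroup.card_subgroup_dvd_card E).trans hGH.dvd) hkm hkn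
        (hcomm u u.2 w w.2)
        (hHall.symm.coprime_dvd_left ((Subgroup.orderOf_dvd_natCard U u.2).trans hUm))
        (hHall.coprime_dvd_left ((Subgroup.orderOf_dvd_natCard W w.2).trans hWn))
    have hmem : ∀ e : E, e ^ k ∈ W := fun e => by
      obtain ⟨⟨u, w⟩, rfl⟩ := hbij.2 e
      rw [hpart u w]
      exact w.2
    have hmul : ∀ e e' : E, (e * e') ^ k = e ^ k * e' ^ k := fun e e' => by
      obtain ⟨⟨u, w⟩, rfl⟩ := hbij.2 e
      obtain ⟨⟨u', w'⟩, rfl⟩ := hbij.2 e'
      have h : ((u : E) * w) * ((u' : E) * w') = ((u * u' : U) : E) * ((w * w' : W) : E) := by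
        simp only [Subgroup.coe_mul, mul_assoc]
        rw [← mul_assoc (w : E) (u' : E) (w' : E), ← (hcomm u' u'.2 w w.2).eq, mul_assoc]
      rw [h, hpart, hpart, hpart, Subgroup.coe_mul]
    let f : E →* H := MonoidHom.mk' (fun e => (⟨g * ((e ^ k : E) : G) * g⁻¹,
        hg ⟨_, ⟨e ^ k, hmem e, rfl⟩, rfl⟩⟩ : H)) fun e e' => Subtype.ext (by
          simp only [hmul, Subgroup.coe_mul]
          group)
    have he : (fun e : E => hallLift k hp φ e) = fun e : E => φ (f e) := funext fun e =>
      hallLift_eq hfus (IsChar.isClassFunction hφ) (isConj_iff.2 ⟨g, by simp [f]⟩)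
    rw [he]
    exact IsGen.of_char (IsChar.comp f hφ)
  -- averages of lifts
  have hsum : ∀ φ : H → ℂ, Cfsg.IsClassFunction H φ →
      ∑ x, hallLift k hp φ x = (H.index : ℂ) * ∑ h, φ h := by
    let c : H → ℕ := fun h => Nat.card {h' : H // IsConj (h : G) (h' : G)}
    let N : H → ℕ := fun h => Nat.card {x : G // IsConj (x ^ k) (h : G)}
    let F : H → ℂ := fun h => ((((N h : ℚ) / c h) / H.index : ℚ) : ℂ)
    have hcpos : ∀ h, 0 < c h := fun h => by
      have : Nonempty {h' : H // IsConj (h : G) (h' : G)} := ⟨⟨h, IsConj.refl _⟩⟩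
      exact Nat.card_pos
    have hswap : ∀ φ : H → ℂ, Cfsg.IsClassFunction H φ →
        ∑ x, hallLift k hp φ x = (H.index : ℂ) * ∑ h, F h * φ h := by
      intro φ hφ
      have h1 : ∀ x, hallLift k hp φ x =
          ∑ h : H, if IsConj (x ^ k) (h : G) then φ h / c h else 0 := by
        intro x
        obtain ⟨h₀, hh₀⟩ := hp x
        rw [← Finset.sum_filter, Finset.sum_congr rfl (g := fun _ => hallLift k hp φ x / c h₀)
          (fun h hh => ?_), Finset.sum_const, nsmul_eq_mul]
        · have hcard : (Finset.univ.filter fun h : H => IsConj (x ^ k) (h : G)).card = c h₀ := by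
            rw [← Fintype.card_subtype, ← Nat.card_eq_fintype_card]
            exact Nat.card_congr (Equiv.subtypeEquivRight fun h =>
              ⟨fun h' => hh₀.symm.trans h', fun h' => hh₀.trans h'⟩)
          rw [hcard, mul_div_cancel₀ _ (Nat.cast_ne_zero.2 (hcpos h₀).ne')]
        · simp only [Finset.mem_filter] at hh
          rw [hallLift_eq hfus hφ hh.2]
          congr 2
          exact Nat.card_congr (Equiv.subtypeEquivRight fun h' =>
            ⟨fun h'' => (hh₀.symm.trans hh.2).trans h'', fun h'' => (hh.2.symm.trans hh₀).trans h''⟩)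
      rw [Finset.sum_congr rfl (fun x _ => h1 x), Finset.sum_comm, Finset.mul_sum]
      refine Finset.sum_congr rfl fun h _ => ?_
      rw [← Finset.sum_filter, Finset.sum_const, nsmul_eq_mul, ← Fintype.card_subtype,
        ← Nat.card_eq_fintype_card]
      simp only [F, N]
      push_cast
      have : (H.index : ℂ) ≠ 0 := Nat.cast_ne_zero.2 Subgroup.index_ne_zero_of_finite
      field_simp
    have hFc : Cfsg.IsClassFunction H F := by
      intro a g
      have e : ∀ y : G, IsConj y ((g * a * g⁻¹ : H) : G) ↔ IsConj y (a : G) := fun y => by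
        have h0 : IsConj (a : G) ((g * a * g⁻¹ : H) : G) := isConj_iff.2 ⟨g, by simp⟩
        exact ⟨fun h => h.trans h0.symm, fun h => h.trans h0⟩
      simp only [F, N, c]
      rw [Nat.card_congr (Equiv.subtypeEquivRight fun x : G => e (x ^ k)),
        Nat.card_congr (Equiv.subtypeEquivRight (p := fun h' : H => IsConj ((g * a * g⁻¹ : H) : G) (h' : G))
          (q := fun h' : H => IsConj (a : G) (h' : G)) fun h' =>
          ⟨fun h => (((e _).1 h.symm)).symm, fun h => (((e _).2 h.symm)).symm⟩)]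
    have hFgen : Cfsg.IsGeneralizedCharacter H F := by
      refine isGen_of_classInner hFc fun ψ hψ => ?_
      have hψc := IsChar.conj (IsIrr.isCharacter hψ)
      obtain ⟨m, hm⟩ := IsGen.classInner_eq_int (hgen _ hψc) (isGen_one (G := G))
      refine ⟨m, ?_⟩
      rw [← hm]
      simp only [Cfsg.classInner, map_one, mul_one]
      rw [hswap _ (IsChar.isClassFunction hψc), hGH, Nat.cast_mul, mul_inv, ← mul_assoc,
        mul_right_comm (H.index : ℂ)⁻¹, inv_mul_cancel₀ (Nat.cast_ne_zero.2
          Subgroup.index_ne_zero_of_finite), one_mul]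
    have hFint : ∀ h, ∃ z : ℤ, (1 : ℤ) ≤ z ∧ F h = z := by
      intro h
      obtain ⟨z, hz⟩ := IsIntegrallyClosed.isIntegral_iff.mp
        ((isIntegral_algebraMap_iff (algebraMap ℚ ℂ).injective).mp (IsGen.isIntegral hFgen h))
      rw [eq_intCast] at hz
      refine ⟨z, ?_, by simp only [F]; rw [← hz]; push_cast; ring⟩
      have hpos : (0 : ℚ) < (N h : ℚ) / c h / H.index := by
        have : Nonempty {x : G // IsConj (x ^ k) (h : G)} := ⟨⟨h, by rw [hfix]⟩⟩
        have h1 : 0 < N h := Nat.card_pos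
        have h2 := hcpos h
        have h3 : 0 < H.index := Nat.pos_of_ne_zero Subgroup.index_ne_zero_of_finite
        positivity
      rw [← hz] at hpos
      have : (0 : ℤ) < z := by exact_mod_cast hpos
      omega
    choose z hz1 hzF using hFint
    have h1 := hswap (fun _ => 1) (fun _ _ => rfl)
    have hzsum : ∑ h, z h = (Fintype.card H : ℤ) := by
      simp only [hallLift, Finset.sum_const, Finset.card_univ, nsmul_eq_mul, mul_one,
        ← Nat.card_eq_fintype_card, hGH, Nat.cast_mul] at h1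
      have h2 := mul_left_cancel₀ (Nat.cast_ne_zero.2 Subgroup.index_ne_zero_of_finite) h1
      rw [Finset.sum_congr rfl (fun h _ => hzF h), ← Int.cast_sum] at h2
      rw [← Nat.card_eq_fintype_card]
      exact_mod_cast h2.symm
    have hall := (Finset.sum_eq_sum_iff_of_le (s := (Finset.univ : Finset H)) (f := fun _ => (1 : ℤ))
      (g := z) (fun h _ => hz1 h)).1 (by rw [hzsum]; simp)
    intro φ hφ
    rw [hswap φ hφ]
    congr 1
    refine Finset.sum_congr rfl fun h hh => ?_
    rw [hzF, ← hall h hh, Int.cast_one, one_mul]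
  -- lifts of irreducible characters are irreducible
  have hirr : ∀ φ : Cfsg.IrrCharacter H, Cfsg.IsIrrCharacter G (hallLift k hp (φ : H → ℂ)) := by
    intro φ
    refine CfsgLib.Char.IsGen.isIrr_of_norm_one (hgen _ (IsIrr.isCharacter φ.2)) ?_ ?_
    · have hc : Cfsg.IsClassFunction H fun h => (φ : H → ℂ) h * conj ((φ : H → ℂ) h) :=
        fun a b => by simp only [IsIrr.isClassFunction φ.2 a b]
      have h1 := hsum _ hc
      have h2 : Cfsg.classInner (φ : H → ℂ) (φ : H → ℂ) = 1 := classInner_irr_self φ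
      rw [← h2]
      simp only [Cfsg.classInner]
      refine Eq.trans (congrArg ((Nat.card G : ℂ)⁻¹ * ·) (Eq.trans ?_ h1)) ?_
      · exact Finset.sum_congr rfl fun x _ => rfl
      · rw [hGH, Nat.cast_mul, mul_inv, ← mul_assoc, mul_right_comm (H.index : ℂ)⁻¹,
          inv_mul_cancel₀ (Nat.cast_ne_zero.2 Subgroup.index_ne_zero_of_finite), one_mul]
    · have h := hres _ (IsIrr.isClassFunction φ.2) 1
      rw [Subgroup.coe_one] at h
      rw [h]
      exact apply_one_re_pos φ.2
  -- the kernel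
  let K : Subgroup G := ⨅ φ : Cfsg.IrrCharacter H, CfsgLib.Blocks.charKer ⟨_, hirr φ⟩
  have hKn : K.Normal := Subgroup.normal_iInf_normal fun φ => inferInstance
  have hK : ∀ x, x ∈ K ↔ x ^ k = 1 := by
    intro x
    simp only [K, Subgroup.mem_iInf, CfsgLib.Blocks.mem_charKer]
    obtain ⟨h₀, hh₀⟩ := hp x
    have hone : ∀ φ : Cfsg.IrrCharacter H, hallLift k hp (φ : H → ℂ) 1 = (φ : H → ℂ) 1 := fun φ => by
      have h := hres _ (IsIrr.isClassFunction φ.2) 1
      rwa [Subgroup.coe_one] at h
    constructor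
    · intro h
      by_contra hne
      have hh : h₀ ≠ 1 := by
        rintro rfl
        exact hne (by simpa using hh₀)
      have h0 := sum_degree_mul_apply_of_ne_one hh
      have h2 := sum_sq_degree (G := H)
      rw [Finset.sum_congr rfl (fun φ _ => by
        rw [← hallLift_eq (hp := hp) hfus (IsIrr.isClassFunction φ.2) hh₀, h φ, hone φ])] at h0
      simp only [sq] at h2
      rw [h2] at h0
      exact Nat.cast_ne_zero.2 Nat.card_pos.ne' h0
    · intro h φ
      rw [hone φ]
      exact hallLift_eq hfus (IsIrr.isClassFunction φ.2) (by rw [h, Subgroup.coe_one])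
  have hKH : K ⊓ H = ⊥ := by
    rw [Subgroup.eq_bot_iff_forall]
    rintro x ⟨hxK, hxH⟩
    exact (hfix ⟨x, hxH⟩).symm.trans ((hK x).1 hxK)
  refine ⟨K, hKn, ?_, hKH⟩
  have hKcard : (Nat.card K : ℂ) = (H.index : ℂ) := by
    have hc : Cfsg.IsClassFunction H fun h => if h = 1 then (1 : ℂ) else 0 :=
      fun a b => by simp only [conj_eq_one_iff]
    have h1 := hsum _ hc
    have h2 : ∀ x, hallLift k hp (fun h : H => if h = 1 then (1 : ℂ) else 0) x =
        if x ∈ K then 1 else 0 := by
      intro x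
      obtain ⟨h₀, hh₀⟩ := hp x
      rw [hallLift_eq hfus hc hh₀]
      refine if_congr ?_ rfl rfl
      rw [hK x]
      constructor
      · rintro rfl
        simpa using hh₀
      · intro h
        rw [h] at hh₀
        exact Subtype.ext (isConj_one_right.1 hh₀)
    simp only [h2, Finset.sum_boole, ← Fintype.card_subtype, Fintype.card_subtype_eq, Nat.cast_one,
      mul_one] at h1
    rw [Nat.card_eq_fintype_card]
    exact h1
  have hcomp : Subgroup.IsComplement' K H :=
    Subgroup.isComplement'_of_disjoint_and_mul_eq_univ (disjoint_iff.2 hKH) ?_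
  · exact hcomp.sup_eq_top
  · have hinj : Function.Injective fun x : K × H => (x.1 : G) * x.2 :=
      Subgroup.mul_injective_of_disjoint (disjoint_iff.2 hKH)
    have hsurj : Function.Surjective fun x : K × H => (x.1 : G) * x.2 :=
      (hinj.bijective_of_nat_card_le (by
        rw [Nat.card_prod, Nat.cast_injective hKcard, hGH])).2
    refine Set.eq_univ_of_forall fun g => ?_
    obtain ⟨⟨a, b⟩, rfl⟩ := hsurj g
    exact Set.mul_mem_mul a.2 b.2

end CfsgLib.Char.Exceptional
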