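import Cfsg.Agent.Lib.Char.Exceptional.Solomon
import Cfsg.Agent.Lib.Char.Brauer
import Cfsg.Agent.Lib.OddLocal.FittingHall

/-! Brauer's induction theorem localized at a prime. -/

set_option autoImplicit false

namespace CfsgLib.Char.Exceptional

/-- A nilpotent `p`-quasi-elementary group is `p`-elementary. -/
theorem isElementary_of_isNilpotent_quasiElem {G : Type*} [Group G] [Finite G] {p : ℕ} (hp : p.Prime)
    {E : Subgroup G} (hE : IsQuasiElem p E) (hnil : Group.IsNilpotent E) : Cfsg.IsElementary p E := by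
  obtain ⟨C, hCE, hn, hcyc, hcop, k, hk⟩ := hE
  haveI : IsCyclic (C.subgroupOf E) := (Subgroup.subgroupOfEquivOfLe hCE).isCyclic.2 hcyc
  obtain ⟨⟨x, hx⟩, hgen⟩ := IsCyclic.exists_generator (α := C.subgroupOf E)
  have hzx : Subgroup.zpowers x = C.subgroupOf E := by
    refine le_antisymm (Subgroup.zpowers_le.2 hx) fun a ha => ?_
    obtain ⟨i, hi⟩ := Subgroup.mem_zpowers_iff.1 (hgen ⟨a, ha⟩)
    exact ⟨i, congrArg Subtype.val hi⟩
  have hord : orderOf x = Nat.card C := by
    rw [← Nat.card_zpowers, hzx, Nat.card_congr (Subgroup.subgroupOfEquivOfLe hCE).toEquiv]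
  refine ⟨x, ?_, by rwa [hord], k, by rw [hzx]; exact hk⟩
  haveI : (C.subgroupOf E).Normal := (Subgroup.normal_subgroupOf_iff_le_normalizer hCE).2 hn
  rw [Subgroup.mem_center_iff]
  intro y
  -- split `y` into its `p`-part and a part in `C`
  obtain ⟨u, m, hm, hum⟩ := Nat.exists_eq_pow_mul_and_not_dvd (orderOf_pos y).ne' p hp.ne_one
  have hmp : Nat.Coprime m (p ^ u) := ((hp.coprime_iff_not_dvd.2 hm).symm).pow_right u
  obtain ⟨i, hi1, hi2⟩ := Nat.chineseRemainder hmp 0 1
  -- `y ^ i` has `p`-power order and `y ^ i * (…) = y` with the rest in `C`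
  have h1 : Commute (y ^ i) x := by
    refine CfsgLib.OddLocal.commute_of_coprime_orderOf hnil ?_
    have hd : orderOf (y ^ i) ∣ p ^ u := by
      refine orderOf_dvd_of_pow_eq_one ?_
      obtain ⟨c, hc⟩ : m ∣ i := Nat.modEq_zero_iff_dvd.1 hi1
      rw [← pow_mul, hc, mul_comm m c, mul_assoc, mul_comm m (p ^ u), ← hum, mul_comm, pow_mul,
        pow_orderOf_eq_one, one_pow]
    exact ((hord ▸ hcop).pow_right u).symm.coprime_dvd_left hd
  have h2 : (y ^ i)⁻¹ * y ∈ C.subgroupOf E := by
    set π := QuotientGroup.mk' (C.subgroupOf E)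
    rw [← QuotientGroup.eq_one_iff]
    show π ((y ^ i)⁻¹ * y) = 1
    have hd : orderOf (π y) ∣ p ^ u := by
      have a1 : orderOf (π y) ∣ p ^ k := by
        refine (orderOf_dvd_natCard (π y)).trans ?_
        rw [← hk]
        rfl
      have a2 : orderOf (π y) ∣ p ^ u * m := hum ▸ orderOf_map_dvd π y
      exact (((hp.coprime_iff_not_dvd.2 hm).pow_left k).coprime_dvd_left a1).dvd_of_dvd_mul_right a2
    rw [map_mul, map_inv, map_pow, inv_mul_eq_one]
    conv_rhs => rw [← pow_one (π y)]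
    rw [pow_eq_pow_iff_modEq]
    exact hi2.of_dvd hd
  have h3 : Commute ((y ^ i)⁻¹ * y) x := by
    rw [← hzx] at h2
    obtain ⟨z, hz⟩ := h2
    rw [← hz]
    exact (Commute.refl x).zpow_left z
  have := h1.mul_left h3
  rwa [mul_inv_cancel_left] at this

variable {G : Type*} [Group G] [Fintype G]

/-- Brauer's induction theorem, local form. -/
theorem brauer_local (p : ℕ) (hp : p.Prime) :
    ∃ (m : ℤ) (l : List ((E : Subgroup G) × ((E → ℂ) × ℤ))), ¬ (p : ℤ) ∣ m ∧
      (∀ t ∈ l, Cfsg.IsElementary p t.1 ∧ Cfsg.IsCharacter t.1 t.2.1) ∧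
      (fun _ : G => (m : ℂ)) = (l.map fun t => (t.2.2 : ℂ) • Cfsg.indFun t.1 t.2.1).sum := by
  classical
  obtain ⟨m, a, hm, ha, he⟩ := solomon_local (G := G) p hp
  let M : AddSubgroup (G → ℂ) := AddSubgroup.closure {f | ∃ (E : Subgroup G) (ψ : E → ℂ),
    Cfsg.IsElementary p E ∧ Cfsg.IsCharacter E ψ ∧ f = Cfsg.indFun E ψ}
  have hH : ∀ H : Subgroup G, IsQuasiElem p H → Cfsg.indFun H (fun _ => 1) ∈ M := by
    intro H hH
    have key : ∀ f ∈ CfsgLib.Brauer.elemSpan H, Cfsg.indFun H f ∈ M := by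
      intro f hf
      induction hf using AddSubgroup.closure_induction with
      | zero => rw [CfsgLib.Char.indFun_zero]; exact zero_mem _
      | add f g _ _ hf hg => rw [CfsgLib.Char.indFun_add]; exact add_mem hf hg
      | neg f _ hf =>
        rw [← zero_sub f, CfsgLib.Char.indFun_sub, CfsgLib.Char.indFun_zero]
        exact sub_mem (zero_mem _) hf
      | mem f hf =>
        obtain ⟨K, lam, ⟨q, hq, hel⟩, rfl⟩ := hf
        set E := K.map H.subtype
        let e : E →* K := (K.equivMapOfInjective H.subtype H.subtype_injective).symm.toMonoidHom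
        refine AddSubgroup.subset_closure ⟨E, fun x => (lam (e x) : ℂ), ?_, ?_, ?_⟩
        · refine isElementary_of_isNilpotent_quasiElem hp (hH.mono hp (Subgroup.map_subtype_le K)) ?_
          exact CfsgLib.Brauer.isNilpotent_of_isElementary hq
            (CfsgLib.QE.isElementary_of_injective hq e (MulEquiv.injective _) hel)
        · exact CfsgLib.Char.IsIrr.isCharacter (CfsgLib.Char.isIrrCharacter_linear (lam.comp e))
        · rw [← CfsgLib.Char.indFun_indFun E H (Subgroup.map_subtype_le K)]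
          refine congrArg _ (CfsgLib.Clifford.indFun_congr ?_ fun x => ?_)
          · exact (Subgroup.comap_map_eq_self_of_injective H.subtype_injective K).symm
          · refine congrArg (fun y => (lam y : ℂ)) ?_
            refine (K.equivMapOfInjective H.subtype H.subtype_injective).injective ?_
            refine Eq.trans ?_ (MulEquiv.apply_symm_apply _ _).symm
            rfl
    exact key _ CfsgLib.Brauer.one_mem_elemSpan
  have hmem : (fun _ : G => (m : ℂ)) ∈ M := by
    rw [he]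
    refine AddSubgroup.sum_mem _ fun H _ => ?_
    rw [Int.cast_smul_eq_zsmul]
    by_cases h : a H = 0
    · rw [h, zero_zsmul]; exact zero_mem _
    · exact zsmul_mem (hH H (ha H h)) _
  refine ⟨m, ?_⟩
  refine AddSubgroup.closure_induction (p := fun f _ => ∃ l : List ((E : Subgroup G) × ((E → ℂ) × ℤ)),
      ¬ (p : ℤ) ∣ m ∧ (∀ t ∈ l, Cfsg.IsElementary p t.1 ∧ Cfsg.IsCharacter t.1 t.2.1) ∧
      f = (l.map fun t => (t.2.2 : ℂ) • Cfsg.indFun t.1 t.2.1).sum)
    ?_ ?_ ?_ ?_ hmem
  · rintro _ ⟨E, ψ, hel, hψ, rfl⟩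
    exact ⟨[⟨E, ψ, 1⟩], hm, by simpa using And.intro hel hψ, by simp⟩
  · exact ⟨[], hm, by simp, by simp⟩
  · rintro f g - - ⟨l, -, hl, rfl⟩ ⟨l', -, hl', rfl⟩
    refine ⟨l ++ l', hm, fun t ht => (List.mem_append.mp ht).elim (hl t) (hl' t), ?_⟩
    rw [List.map_append, List.sum_append]
  · rintro f - ⟨l, -, hl, rfl⟩
    refine ⟨l.map fun t => ⟨t.1, t.2.1, -t.2.2⟩, hm, fun t ht => ?_, ?_⟩
    · obtain ⟨u, hu, rfl⟩ := List.mem_map.mp ht
      exact hl u hu
    · clear hl
      induction l with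
      | nil => simp
      | cons u l ih => simp only [List.map_cons, List.sum_cons, neg_add, ih, Int.cast_neg, neg_smul]

end CfsgLib.Char.Exceptional
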