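import Mathlib
import Cfsg.Agent.Lib.Char.CliffordCorr
import Cfsg.Agent.Lib.Char.Monomial
import Cfsg.Agent.Lib.Core.MinNormal
import Cfsg.Agent.S0857

/-! Relative M-groups from chief factors of non-square order. -/

set_option autoImplicit false

open scoped ComplexConjugate

namespace CfsgLib.Char.Exceptional

open CfsgLib.Char CfsgLib.Clifford

/-- No subgroup properly over `N` is generated by `N` and its commutator subgroup. -/
def SolvOver {G : Type*} [Group G] (N : Subgroup G) : Prop :=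
  ∀ K : Subgroup G, N < K → ⁅K, K⁆ ⊔ N < K

/-- No chief factor over `N` of any subgroup containing `N` has square order. -/
def NonSquareOver {G : Type*} [Group G] (N : Subgroup G) : Prop :=
  ∀ (H K L : Subgroup G), N ≤ L → L < K → K ≤ H → (∀ h ∈ H, ∀ k ∈ K, h * k * h⁻¹ ∈ K) →
    (∀ h ∈ H, ∀ l ∈ L, h * l * h⁻¹ ∈ L) →
    (∀ M : Subgroup G, L ≤ M → M ≤ K → (∀ h ∈ H, ∀ m ∈ M, h * m * h⁻¹ ∈ M) → M = L ∨ M = K) →
    ¬ IsSquare (L.relIndex K)

theorem SolvOver.of_quotient {G : Type*} [Group G] [Finite G] {N : Subgroup G} [N.Normal]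
    (h : Group.IsSolvable (G ⧸ N)) : SolvOver N := by
  intro K hK
  have hle : ⁅K, K⁆ ⊔ N ≤ K := sup_le (Subgroup.commutator_le_self K) hK.le
  refine lt_of_le_of_ne hle fun he => ?_
  haveI := h
  have hmap := congrArg (Subgroup.map (QuotientGroup.mk' N)) he
  rw [Subgroup.map_sup, Subgroup.map_commutator, QuotientGroup.map_mk'_self, sup_bot_eq] at hmap
  have hne : K.map (QuotientGroup.mk' N) ≠ ⊥ := by
    rw [ne_eq, Subgroup.map_eq_bot_iff, QuotientGroup.ker_mk']
    exact fun h => hK.not_ge h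
  exact (CfsgLib.Core.commutator_self_lt (N := K.map (QuotientGroup.mk' N)) inferInstance hne).ne hmap

theorem SolvOver.subgroupOf {G : Type*} [Group G] {N T : Subgroup G} (hNT : N ≤ T) (h : SolvOver N) :
    SolvOver (N.subgroupOf T) := by
  intro K hK
  have hmN : (N.subgroupOf T).map T.subtype = N := Subgroup.map_subgroupOf_eq_of_le hNT
  have h1 : N < K.map T.subtype := hmN ▸ (Subgroup.map_lt_map_iff_of_injective T.subtype_injective).2 hK
  have h2 := h _ h1
  rw [← hmN, ← Subgroup.map_commutator, ← Subgroup.map_sup] at h2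
  exact (Subgroup.map_lt_map_iff_of_injective T.subtype_injective).1 h2

theorem NonSquareOver.subgroupOf {G : Type*} [Group G] {N T : Subgroup G} (hNT : N ≤ T)
    (h : NonSquareOver N) : NonSquareOver (N.subgroupOf T) := by
  intro H K L hNL hLK hKH hKn hLn hch
  have hmN : (N.subgroupOf T).map T.subtype = N := Subgroup.map_subgroupOf_eq_of_le hNT
  have hi := T.subtype_injective
  have hconj : ∀ S : Subgroup T, (∀ h ∈ H, ∀ k ∈ S, h * k * h⁻¹ ∈ S) →
      ∀ h ∈ H.map T.subtype, ∀ k ∈ S.map T.subtype, h * k * h⁻¹ ∈ S.map T.subtype := by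
    rintro S hS _ ⟨h, hh, rfl⟩ _ ⟨k, hk, rfl⟩
    exact ⟨h * k * h⁻¹, hS h hh k hk, by simp⟩
  have h' := h (H.map T.subtype) (K.map T.subtype) (L.map T.subtype) (hmN ▸ Subgroup.map_mono hNL)
    ((Subgroup.map_lt_map_iff_of_injective hi).2 hLK) (Subgroup.map_mono hKH)
    (hconj K hKn) (hconj L hLn) ?_
  · rwa [Subgroup.relIndex_map_map_of_injective _ _ hi] at h'
  intro M hLM hMK hMn
  have hMT : M ≤ T := hMK.trans (Subgroup.map_subtype_le K)
  have hM : (M.subgroupOf T).map T.subtype = M := Subgroup.map_subgroupOf_eq_of_le hMT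
  rw [← hM] at hLM hMK hMn ⊢
  rcases hch (M.subgroupOf T) ((Subgroup.map_le_map_iff_of_injective hi).1 hLM)
    ((Subgroup.map_le_map_iff_of_injective hi).1 hMK) (fun a ha m hm => by
      obtain ⟨x, hx, he⟩ := hMn _ ⟨a, ha, rfl⟩ _ ⟨m, hm, rfl⟩
      exact (show x = a * m * a⁻¹ from Subtype.ext (he.trans (by simp))) ▸ hx) with h1 | h1
  · exact Or.inl (congrArg _ h1)
  · exact Or.inr (congrArg _ h1)

/-- The relative monomial property. -/
theorem exists_induced_restrict_irr : ∀ {G : Type*} [Group G] [Fintype G] (N : Subgroup G),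
    N.Normal → SolvOver N → NonSquareOver N → ∀ (χ : G → ℂ), Cfsg.IsIrrCharacter G χ →
    ∃ (U : Subgroup G) (hNU : N ≤ U) (η : U → ℂ), Cfsg.IsIrrCharacter U η ∧
      Cfsg.indFun U η = χ ∧ Cfsg.IsIrrCharacter N (fun n : N => η ⟨(n : G), hNU n.2⟩) := by
  intro G _ _ N hN hsol hsq χ hχ
  classical
  induction hn : Nat.card G using Nat.strongRecOn generalizing G with
  | ind m ih =>
    haveI := hN
    let S := Finset.univ.filter fun K : Subgroup G =>
      K.Normal ∧ N ≤ K ∧ Cfsg.IsIrrCharacter K (fun k : K => χ k)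
    have hStop : (⊤ : Subgroup G) ∈ S := Finset.mem_filter.2 ⟨Finset.mem_univ _, inferInstance, le_top,
      IsIrr.comp_surjective (Subgroup.topEquiv (G := G)).toMonoidHom (Subgroup.topEquiv (G := G)).surjective hχ⟩
    obtain ⟨K, hKS, hKmin⟩ := Finset.exists_min_image S (fun K => Nat.card K) ⟨⊤, hStop⟩
    obtain ⟨-, hKn, hNK, hϑ⟩ := Finset.mem_filter.1 hKS
    haveI := hKn
    by_cases hKN : K = N
    · subst hKN
      refine ⟨⊤, le_top, fun x => χ x, IsIrr.comp_surjective (Subgroup.topEquiv (G := G)).toMonoidHom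
        (Subgroup.topEquiv (G := G)).surjective hχ, ?_, hϑ⟩
      funext g
      rw [Cfsg.indFun, Finset.sum_congr rfl (g := fun _ => χ g) fun x _ => ?_, Finset.sum_const,
        nsmul_eq_mul, Subgroup.card_top, Nat.card_eq_fintype_card, ← Finset.card_univ, ← mul_assoc,
        inv_mul_cancel₀ (Nat.cast_ne_zero.mpr (Finset.card_ne_zero.mpr Finset.univ_nonempty)), one_mul]
      rw [extendByZero_of_mem _ _ (Subgroup.mem_top _)]
      have := IsIrr.isClassFunction hχ g x⁻¹
      rwa [inv_inv] at this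
    have hlt : N < K := lt_of_le_of_ne hNK (Ne.symm hKN)
    let L0 : Subgroup G := ⁅K, K⁆ ⊔ N
    haveI : L0.Normal := inferInstance
    let S' := Finset.univ.filter fun L : Subgroup G => L.Normal ∧ L0 ≤ L ∧ L < K
    obtain ⟨L, hLS, hLmax⟩ := Finset.exists_max_image S' (fun L => Nat.card L)
      ⟨L0, Finset.mem_filter.2 ⟨Finset.mem_univ _, inferInstance, le_rfl, hsol K hlt⟩⟩
    obtain ⟨-, hLn, hL0L, hLK⟩ := Finset.mem_filter.1 hLS
    haveI := hLn
    have hNL : N ≤ L := le_sup_right.trans hL0L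
    have hchief : ∀ M : Subgroup G, M.Normal → L ≤ M → M ≤ K → M = L ∨ M = K := by
      intro M hM hLM hMK
      by_contra hcon
      push Not at hcon
      have hmem : M ∈ S' := Finset.mem_filter.2
        ⟨Finset.mem_univ _, hM, hL0L.trans hLM, lt_of_le_of_ne hMK hcon.2⟩
      exact hcon.1 (Subgroup.eq_of_le_of_card_ge hLM (hLmax M hmem)).symm
    haveI := Fintype.ofFinite L
    rcases Cfsg.Agent.S0857.result K L hLK hchief (le_sup_left.trans hL0L) (fun k : K => χ k) hϑ
      (fun g n => IsIrr.isClassFunction hχ (n : G) g) with h | ⟨φ, e, -, -, he⟩ | ⟨F, hF, hFcard, hFsum⟩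
    · refine absurd ?_ hLK.not_ge
      have := hKmin L (Finset.mem_filter.2 ⟨Finset.mem_univ _, hLn, hNL, h⟩)
      exact (Subgroup.eq_of_le_of_card_ge hLK.le this).ge
    · refine absurd ⟨e, ?_⟩ (hsq ⊤ K L hNL hLK le_top (fun g _ k hk => hKn.conj_mem k hk g)
        (fun g _ l hl => hLn.conj_mem l hl g) (fun M h1 h2 h3 => hchief M ⟨fun m hm g => h3 g trivial m hm⟩ h1 h2))
      rw [← he, pow_two]
    -- the restriction to `L` is not homogeneous
    have hsumL : (fun l : L => χ l) = ∑ φ ∈ F, φ := hFsum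
    have hidx : 2 ≤ F.card := by
      rw [hFcard]
      by_contra h
      push Not at h
      have h1 : L.relIndex K ≠ 0 := Subgroup.index_ne_zero_of_finite
      exact hLK.not_ge (Subgroup.relIndex_eq_one.1 (by omega))
    have hinner : ∀ φ ∈ F, Cfsg.classInner (fun l : L => χ l) φ = 1 := by
      intro φ hφ
      rw [hsumL, classInner_sum_left, Finset.sum_eq_single φ (fun ψ hψ hne =>
        classInner_irr_of_ne (χ := ⟨ψ, hF ψ hψ⟩) (ψ := ⟨φ, hF φ hφ⟩) fun e => hne (congrArg Subtype.val e))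
        (fun h => absurd hφ h)]
      exact classInner_irr_self ⟨φ, hF φ hφ⟩
    obtain ⟨φ, hφ, φ', hφ', hne⟩ := Finset.one_lt_card.1 hidx
    have hc : Cfsg.classInner (fun l : L => χ l) φ ≠ 0 := by rw [hinner φ hφ]; exact one_ne_zero
    set T := inertia hLn φ with hTdef
    have hT : T ≠ ⊤ := by
      intro ht
      have h := restrict_eq_smul_orbit_sum hLn hχ (hF φ hφ) hc
      have horb : Finset.univ.image (conjFn hLn φ) = {φ} := by
        refine Finset.eq_singleton_iff_unique_mem.2 ⟨Finset.mem_image.2 ⟨1, Finset.mem_univ _, conjFn_one hLn φ⟩, ?_⟩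
        intro ψ hψ
        obtain ⟨g, -, rfl⟩ := Finset.mem_image.1 hψ
        exact mem_inertia.1 (show g ∈ inertia hLn φ by rw [← hTdef, ht]; trivial)
      rw [hinner φ hφ, one_smul] at h
      have h' : (fun l : L => χ l) = φ := h.trans (by rw [show (Finset.univ.image (conjFn hLn φ)) = {φ} from by convert horb, Finset.sum_singleton])
      have := hinner φ' hφ'
      rw [h', classInner_irr_of_ne (χ := ⟨φ, hF φ hφ⟩) (ψ := ⟨φ', hF φ' hφ'⟩)
        fun e => hne (congrArg Subtype.val e)] at this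
      exact zero_ne_one this
    haveI := Fintype.ofFinite T
    have hLT : L ≤ T := le_inertia hLn (IsIrr.isClassFunction (hF φ hφ))
    obtain ⟨ψ, hψ, -, -, hind⟩ := exists_over_inertia hLn (hF φ hφ)
      (fun g => mem_inertia) hLT ⟨χ, hχ⟩ hc
    have hNT : N ≤ T := hNL.trans hLT
    obtain ⟨U, hU, η, hη, hindU, hres⟩ := ih (Nat.card T)
      (by
        rw [← hn, lt_iff_le_and_ne]
        exact ⟨T.card_le_card_group, fun h => hT (T.eq_top_of_card_eq h)⟩)
      (G := T) (N.subgroupOf T) (hN.subgroupOf T) (hsol.subgroupOf hNT) (hsq.subgroupOf hNT) ψ hψ rfl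
    let f : U ≃* (U.map T.subtype) := U.equivMapOfInjective T.subtype T.subtype_injective
    have hNU : N ≤ U.map T.subtype := fun n hn => ⟨⟨n, hNT hn⟩, hU hn, rfl⟩
    refine ⟨U.map T.subtype, hNU, fun x => η (f.symm x),
      IsIrr.comp_surjective f.symm.toMonoidHom f.symm.surjective hη, ?_, ?_⟩
    · refine Eq.trans ?_ hind
      rw [← hindU, ← indFun_indFun (U.map T.subtype) T (Subgroup.map_subtype_le U)]
      refine congrArg _ (indFun_congr ?_ fun x => ?_)
      · exact Subgroup.comap_map_eq_self_of_injective T.subtype_injective U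
      · refine congrArg η ?_
        refine f.injective ?_
        rw [MulEquiv.apply_symm_apply]
        rfl
    · let k := Subgroup.subgroupOfEquivOfLe hNT
      have h := IsIrr.comp_surjective k.symm.toMonoidHom k.symm.surjective hres
      convert h using 1
      funext n
      refine congrArg η (f.injective ?_)
      rw [MulEquiv.apply_symm_apply]
      rfl

end CfsgLib.Char.Exceptional
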