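import Mathlib.GroupTheory.Sylow
import Mathlib.LinearAlgebra.Trace
import Cfsg.Agent.Lib.Char.Basic
import Cfsg.Agent.Lib.Char.Equiv

/-!
# The Steinberg representation on a finite chamber system

A finite group `G` acts transitively on a finite chamber system `C`; a subgroup `U` fixes a base chamber and
acts freely on a family of opposite chambers.  The functions on chambers with zero sum on every panel form an
irreducible representation whose restriction to `U` is regular.
-/

set_option autoImplicit false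

namespace CfsgLib.StModule

open Finset
open scoped Pointwise

/-- A chamber system with an apartment. -/
structure Data (G : Type*) [Group G] (C : Type*) [MulAction G C] where
  I : Type
  same : I → C → C → Prop
  same_smul : ∀ (i : I) (g : G) (x y : C), same i x y → same i (g • x) (g • y)
  c : C
  U : Subgroup G
  fix : ∀ u ∈ U, u • c = c
  A : Type
  apt : A → C
  eps : A → ℂ
  [fintypeA : Fintype A]
  panel : ∀ (i : I) (x : C), ∀ [DecidablePred fun a => same i x (apt a)],
    ∑ a ∈ univ.filter (fun a => same i x (apt a)), eps a = 0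
  a0 : A
  reach : ∀ (f : C → ℂ) [Fintype C] [∀ i x, DecidablePred (same i x)],
    (∀ i x, ∑ y ∈ univ.filter (fun y => same i x y), f y = 0) → (∀ g : G, f (g • c) = 0) → f (apt a0) = 0
  eps0 : eps a0 = 1
  apt_big : ∀ a, ∀ u ∈ U, apt a = u • apt a0 → a = a0
  free : ∀ u ∈ U, u • apt a0 = apt a0 → u = 1
  rk : C → ℕ
  up : ∀ x, (∀ u ∈ U, x ≠ u • apt a0) →
    ∃ i, same i x x ∧ ∀ y, same i x y → y ≠ x → rk x < rk y

variable {G : Type*} [Group G] [Finite G] {C : Type*} [MulAction G C] [Fintype C] (D : Data G C)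

attribute [instance] Data.fintypeA

open Classical in
/-- The functions with zero sum on every panel. -/
noncomputable def St : Submodule ℂ (C → ℂ) where
  carrier := {f | ∀ i x, ∑ y ∈ univ.filter (fun y => D.same i x y), f y = 0}
  add_mem' hf hg i x := by simp only [Pi.add_apply, sum_add_distrib, hf i x, hg i x, add_zero]
  zero_mem' i x := by simp
  smul_mem' r f hf i x := by simp only [Pi.smul_apply, smul_eq_mul, ← mul_sum, hf i x, mul_zero]

theorem smul_mem_St (g : G) {f : C → ℂ} (hf : f ∈ St D) : (fun x => f (g⁻¹ • x)) ∈ St D := by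
  classical
  intro i x
  refine Eq.trans ?_ (hf i (g⁻¹ • x))
  refine sum_nbij' (fun y => g⁻¹ • y) (fun y => g • y) ?_ ?_ ?_ ?_ ?_
  · intro y hy
    simp only [mem_coe, mem_filter, mem_univ, true_and] at hy ⊢
    exact D.same_smul i g⁻¹ x y hy
  · intro y hy
    simp only [mem_coe, mem_filter, mem_univ, true_and] at hy ⊢
    have := D.same_smul i g _ y hy
    rwa [smul_inv_smul] at this
  · intro y _; simp
  · intro y _; simp
  · intro y _; rfl

/-- The Steinberg representation. -/
noncomputable def rep : Representation ℂ G (St D) where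
  toFun g :=
    { toFun := fun f => ⟨fun x => f.1 (g⁻¹ • x), smul_mem_St D g f.2⟩
      map_add' := fun _ _ => rfl
      map_smul' := fun _ _ => rfl }
  map_one' := by ext f x; simp
  map_mul' g h := by ext f x; simp [mul_smul]

theorem rep_apply (g : G) (f : St D) (x : C) : (rep D g f).1 x = f.1 (g⁻¹ • x) := rfl

/-- The values on the opposite chambers. -/
noncomputable def res : St D →ₗ[ℂ] (D.U → ℂ) where
  toFun f u := f.1 ((u : G) • D.apt D.a0)
  map_add' _ _ := rfl
  map_smul' _ _ := rfl

theorem res_rep (v : D.U) (f : St D) (u : D.U) : res D (rep D (v : G) f) u = res D f (v⁻¹ * u) := by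
  show f.1 ((v : G)⁻¹ • ((u : G) • D.apt D.a0)) = f.1 (((v⁻¹ * u : D.U) : G) • D.apt D.a0)
  rw [Subgroup.coe_mul, InvMemClass.coe_inv, mul_smul]

theorem res_injective : Function.Injective (res D) := by
  classical
  rw [← LinearMap.ker_eq_bot, Submodule.eq_bot_iff]
  intro f hf
  rw [LinearMap.mem_ker] at hf
  obtain ⟨N, hN⟩ : ∃ N, ∀ x, D.rk x ≤ N := ⟨univ.sup D.rk, fun x => le_sup (mem_univ x)⟩
  suffices ∀ k x, N - D.rk x ≤ k → f.1 x = 0 from Subtype.ext (funext fun x => this _ x le_rfl)
  intro k
  induction k using Nat.strong_induction_on with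
  | _ k ih =>
    intro x hx
    by_cases hb : ∃ u ∈ D.U, x = u • D.apt D.a0
    · obtain ⟨u, hu, rfl⟩ := hb
      exact congrFun hf ⟨u, hu⟩
    · push Not at hb
      obtain ⟨i, hxx, hi⟩ := D.up x hb
      have h := f.2 i x
      rw [sum_eq_single x (fun y hy hyx => ?_) (fun h => absurd (mem_filter.2 ⟨mem_univ x, hxx⟩) h)] at h
      · exact h
      · have h1 := hi y (mem_filter.1 hy).2 hyx
        have h2 := hN y
        exact ih (N - D.rk y) (by omega) y le_rfl

open Classical in
/-- The apartment cycle translated by `u`. -/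
noncomputable def cycle (u : D.U) : St D :=
  ⟨fun x => ∑ a ∈ univ.filter (fun a => (u : G) • D.apt a = x), D.eps a, fun i x => by
    refine (sum_fiberwise_eq_sum_filter _ _ _ _).trans ?_
    rw [← D.panel i ((u : G)⁻¹ • x)]
    refine sum_congr (filter_congr fun a _ => ?_) fun _ _ => rfl
    simp only [mem_filter, mem_univ, true_and]
    constructor
    · intro h
      simpa using D.same_smul i (u : G)⁻¹ _ _ h
    · intro h
      simpa using D.same_smul i (u : G) _ _ h⟩

theorem res_cycle [DecidableEq D.U] (u : D.U) : res D (cycle D u) = Pi.single u 1 := by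
  classical
  funext v
  show ∑ a ∈ univ.filter (fun a => (u : G) • D.apt a = (v : G) • D.apt D.a0), D.eps a = _
  by_cases h : v = u
  · subst h
    rw [sum_eq_single D.a0, Pi.single_eq_same, D.eps0]
    · intro a ha hne
      refine absurd (D.apt_big a 1 (one_mem _) ?_) hne
      rw [one_smul]
      exact smul_left_cancel _ (mem_filter.1 ha).2
    · simp
  · rw [Pi.single_eq_of_ne h]
    refine sum_eq_zero fun a ha => absurd ?_ h
    have h1 : D.apt a = ((u : G)⁻¹ * v) • D.apt D.a0 := by
      rw [mul_smul, ← (mem_filter.1 ha).2, inv_smul_smul]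
    have hm : (u : G)⁻¹ * v ∈ D.U := D.U.mul_mem (D.U.inv_mem u.2) v.2
    have h2 := D.apt_big a _ hm h1
    subst h2
    exact Subtype.ext (inv_mul_eq_one.1 (D.free _ hm h1.symm)).symm

/-- The representation space as functions on `U`. -/
noncomputable def resEquiv : St D ≃ₗ[ℂ] (D.U → ℂ) :=
  LinearEquiv.ofBijective (res D) ⟨res_injective D, by
    classical
    haveI : Fintype D.U := Fintype.ofFinite _
    intro φ
    refine ⟨∑ u, φ u • cycle D u, ?_⟩
    rw [map_sum]
    simp only [map_smul, res_cycle]
    funext v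
    simp [Finset.sum_apply, Pi.single_apply]⟩

theorem exists_fixed {W : Subrepresentation (rep D)} (hW : W.toSubmodule ≠ ⊥) :
    ∃ f ∈ W.toSubmodule, res D f = fun _ => 1 := by
  classical
  haveI : Fintype D.U := Fintype.ofFinite _
  obtain ⟨f, hfW, hf⟩ := (Submodule.ne_bot_iff _).1 hW
  obtain ⟨g, hx⟩ : ∃ g : G, f.1 (g • D.c) ≠ 0 := by
    by_contra h; push Not at h
    refine hf (res_injective D (funext fun u => ?_))
    rw [map_zero]
    have hu := smul_mem_St D (u : G)⁻¹ f.2
    simpa [res] using D.reach (fun x => f.1 ((u : G)⁻¹⁻¹ • x)) (fun i x => hu i x) (fun g => by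
      rw [inv_inv, ← mul_smul]; exact h _)
  let e := ∑ v : D.U, rep D ((v : G) * g⁻¹) f
  have heW : e ∈ W.toSubmodule := sum_mem fun v _ => W.apply_mem_toSubmodule _ hfW
  have hec : e.1 D.c ≠ 0 := by
    have : ∀ v : D.U, (rep D ((v : G) * g⁻¹) f).1 D.c = f.1 (g • D.c) := fun v => by
      rw [rep_apply, mul_inv_rev, inv_inv, mul_smul, D.fix _ (D.U.inv_mem v.2)]
    simp only [e, Submodule.coe_sum, Finset.sum_apply, this, sum_const, card_univ]
    exact smul_ne_zero Fintype.card_ne_zero hx
  have hfix : ∀ v : D.U, rep D (v : G) e = e := fun v => by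
    simp only [e, map_sum, ← Module.End.mul_apply, ← map_mul, ← mul_assoc, ← Subgroup.coe_mul]
    exact Equiv.sum_comp (Equiv.mulLeft v) fun w : D.U => rep D ((w : G) * g⁻¹) f
  have hconst : ∀ u, res D e u = res D e 1 := fun u => by
    conv_lhs => rw [← hfix u]
    rw [res_rep, inv_mul_cancel]
  have h1 : res D e 1 ≠ 0 := fun h0 => hec (by
    have : e = 0 := res_injective D (funext fun u => by rw [map_zero, hconst, h0]; rfl)
    rw [this]; rfl)
  refine ⟨(res D e 1)⁻¹ • e, W.toSubmodule.smul_mem _ heW, funext fun u => ?_⟩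
  rw [map_smul, Pi.smul_apply, hconst u, smul_eq_mul, inv_mul_cancel₀ h1]

theorem isIrreducible : (rep D).IsIrreducible := by
  classical
  haveI : Fintype D.U := Fintype.ofFinite _
  haveI : Nontrivial (Subrepresentation (rep D)) := by
    refine ⟨⊥, ⊤, fun h => ?_⟩
    have h0 : (⊤ : Submodule ℂ (St D)) = ⊥ := (congrArg Subrepresentation.toSubmodule h).symm
    have h1 : cycle D 1 = 0 := by
      have : cycle D 1 ∈ (⊤ : Submodule ℂ (St D)) := trivial
      rwa [h0, Submodule.mem_bot] at this
    have h2 := congrFun (res_cycle D 1) 1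
    rw [h1, map_zero, Pi.single_eq_same] at h2
    exact zero_ne_one h2
  refine IsSimpleOrder.mk fun W => ?_
  by_cases hW : W.toSubmodule = ⊥
  · exact Or.inl (Subrepresentation.toSubmodule_injective hW)
  · refine Or.inr (Subrepresentation.toSubmodule_injective ?_)
    obtain ⟨W', hW'⟩ := CfsgLib.Char.exists_isCompl_subrep W
    show W.toSubmodule = ⊤
    by_contra hne
    have hW'0 : W'.toSubmodule ≠ ⊥ := fun h => hne (by simpa [h] using hW'.sup_eq_top)
    obtain ⟨e, he, he1⟩ := exists_fixed D hW
    obtain ⟨e', he', he1'⟩ := exists_fixed D hW'0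
    obtain rfl : e = e' := res_injective D (he1.trans he1'.symm)
    have : e = 0 := (Submodule.disjoint_def.1 hW'.disjoint) e he he'
    rw [this, map_zero] at he1
    exact zero_ne_one (congrFun he1 1)

/-- The Steinberg character. -/
theorem exists_character : ∃ χ : G → ℂ, Cfsg.IsIrrCharacter G χ ∧ χ 1 = Nat.card D.U ∧
    ∀ u ∈ D.U, u ≠ 1 → χ u = 0 := by
  classical
  haveI : Fintype D.U := Fintype.ofFinite _
  haveI := isIrreducible D
  refine ⟨_, CfsgLib.Char.isIrrCharacter_rep (rep D), ?_, fun u hu hne => ?_⟩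
  · rw [Representation.char_one, (resEquiv D).finrank_eq, Module.finrank_fintype_fun_eq_card,
      Nat.card_eq_fintype_card]
  · show LinearMap.trace ℂ _ (rep D u) = 0
    let b := (Pi.basisFun ℂ D.U).map (resEquiv D).symm
    rw [LinearMap.trace_eq_matrix_trace ℂ b, Matrix.trace]
    refine sum_eq_zero fun w _ => ?_
    rw [Matrix.diag_apply, LinearMap.toMatrix_apply]
    simp only [b, Module.Basis.map_apply, Module.Basis.map_repr, LinearEquiv.trans_apply,
      LinearEquiv.symm_symm, Pi.basisFun_apply, Pi.basisFun_repr]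
    show res D (rep D u ((resEquiv D).symm (Pi.single w 1))) w = 0
    rw [show u = ((⟨u, hu⟩ : D.U) : G) from rfl, res_rep,
      show res D ((resEquiv D).symm (Pi.single w 1)) = Pi.single w 1 from (resEquiv D).apply_symm_apply _]
    refine Pi.single_eq_of_ne (fun h => hne ?_) _
    rw [mul_eq_right, inv_eq_one] at h
    exact congrArg Subtype.val h

/-- The form used for the statements on Sylow subgroups. -/
theorem exists_character_sylow (p : ℕ) [Fact p.Prime] (hU : IsPGroup p D.U) (hidx : ¬ p ∣ D.U.index) :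
    ∃ χ : G → ℂ, Cfsg.IsIrrCharacter G χ ∧ ∀ P : Sylow p G, χ 1 = Nat.card P ∧
      ∀ x : G, x ∈ P → x ≠ 1 → χ x = 0 := by
  obtain ⟨χ, hχ, h1, h0⟩ := exists_character D
  refine ⟨χ, hχ, fun P => ?_⟩
  let Q : Sylow p G := hU.toSylow hidx
  have hQ : (Q : Subgroup G) = D.U := rfl
  obtain ⟨g, hg⟩ := MulAction.exists_smul_eq G Q P
  refine ⟨?_, fun x hx hne => ?_⟩
  · rw [h1, Sylow.card_eq_multiplicity P, ← Sylow.card_eq_multiplicity Q, hQ]
  · subst hg
    have hx' : x ∈ MulAut.conj g • (Q : Subgroup G) := hx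
    rw [Subgroup.mem_pointwise_smul_iff_inv_smul_mem] at hx'
    have hxU : g⁻¹ * x * g ∈ D.U := by rw [← hQ]; simpa [MulAut.smul_def] using hx'
    have h := h0 _ hxU (fun h => hne (by
      calc x = g * (g⁻¹ * x * g) * g⁻¹ := by group
        _ = 1 := by rw [h, mul_one, mul_inv_cancel]))
    have hc := CfsgLib.Char.IsIrr.isClassFunction hχ (g⁻¹ * x * g) g
    rw [show g * (g⁻¹ * x * g) * g⁻¹ = x by group] at hc
    rw [hc, h]

end CfsgLib.StModule
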