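import Mathlib.LinearAlgebra.Matrix.ProjectiveSpecialLinearGroup
import Mathlib.LinearAlgebra.Matrix.Transvection
import Cfsg.Agent.Lib.Char.Exceptional.SteinbergModule
import Cfsg.Agent.Lib.Char.Exceptional.GLFlags
import Cfsg.Agent.Lib.Char.Exceptional.GLParabolic

/-!
# The chamber system of complete flags for the projective special linear group
-/

set_option autoImplicit false

namespace CfsgLib.PSLSteinberg

open Matrix Finset CfsgLib.GLParabolic
open scoped MatrixGroups

variable {n : ℕ} {F : Type*} [Field F]

/-- Block triangular invertible matrices. -/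
def blockGL (F : Type*) [Field F] (f : Fin n → ℕ) : Subgroup (GL (Fin n) F) where
  carrier := {g | (g : Matrix (Fin n) (Fin n) F).BlockTriangular f}
  mul_mem' := fun ha hb => Matrix.BlockTriangular.mul ha hb
  one_mem' := Matrix.blockTriangular_one
  inv_mem' := fun {a} ha => by
    change ((a⁻¹ : GL (Fin n) F) : Matrix (Fin n) (Fin n) F).BlockTriangular f
    have : Invertible (a : Matrix (Fin n) (Fin n) F) := a.invertible
    rw [Matrix.coe_units_inv]
    exact Matrix.blockTriangular_inv_of_blockTriangular ha

/-- Merge the positions `i` and `i + 1`. -/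
def merge (i : ℕ) (k : Fin n) : ℕ := if k.val ≤ i then k.val else k.val - 1

theorem merge_mono (i : ℕ) : Monotone (merge (n := n) i) := fun a b hab => by
  rw [Fin.le_def] at hab
  unfold merge; split_ifs <;> omega

theorem borel_le_blockGL {f : Fin n → ℕ} (hf : Monotone f) :
    Cfsg.upperTriangularGL n F ≤ blockGL F f := fun g hg i j hij =>
  hg (show j < i from not_le.1 fun hle => absurd (hf hle) (not_le.2 hij))

variable (n F) in
/-- The complete flags. -/
abbrev Flags : Type _ := GL (Fin n) F ⧸ Cfsg.upperTriangularGL n F

/-- Two flags agree away from the step `i`. -/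
def sameAt (i : ℕ) (x y : Flags n F) : Prop :=
  Subgroup.quotientMapOfLE (borel_le_blockGL (merge_mono (n := n) i)) x =
    Subgroup.quotientMapOfLE (borel_le_blockGL (merge_mono (n := n) i)) y

theorem sameAt_mk {i : ℕ} {g h : GL (Fin n) F} :
    sameAt i (g : Flags n F) (h : Flags n F) ↔ g⁻¹ * h ∈ blockGL F (merge i) := by
  show ((g : GL (Fin n) F ⧸ blockGL F (merge i)) = (h : GL (Fin n) F ⧸ blockGL F (merge i))) ↔ _
  exact QuotientGroup.eq

theorem exists_det_one [NeZero n] (g : GL (Fin n) F) : ∃ s : SpecialLinearGroup (Fin n) F,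
    (SpecialLinearGroup.toGL s : Flags n F) = (g : Flags n F) := by
  classical
  let d : Fin n → F := Function.update 1 0 ((g : Matrix (Fin n) (Fin n) F).det)⁻¹
  have hg : (g : Matrix (Fin n) (Fin n) F).det ≠ 0 :=
    ((Matrix.isUnit_iff_isUnit_det _).1 g.isUnit).ne_zero
  have hdd : (Matrix.diagonal d).det = ((g : Matrix (Fin n) (Fin n) F).det)⁻¹ := by
    rw [det_diagonal, prod_eq_single 0]
    · simp [d]
    · intro b _ hb; simp [d, Function.update_of_ne hb]
    · exact fun h => absurd (mem_univ _) h
  have hu : IsUnit (Matrix.diagonal d).det := by rw [hdd]; exact (inv_ne_zero hg).isUnit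
  refine ⟨⟨(g : Matrix (Fin n) (Fin n) F) * Matrix.diagonal d, by rw [det_mul, hdd, mul_inv_cancel₀ hg]⟩, ?_⟩
  refine Eq.trans (b := ((g * Matrix.nonsingInvUnit _ hu : GL (Fin n) F) : Flags n F)) ?_ ?_
  · exact congrArg _ (Units.ext rfl)
  · rw [QuotientGroup.eq, _root_.mul_inv_rev, inv_mul_cancel_right]
    exact Subgroup.inv_mem _ (Matrix.blockTriangular_diagonal d)

/-- The unipotent upper triangular matrices. -/
def uniSL (n : ℕ) (F : Type*) [Field F] : Subgroup (SpecialLinearGroup (Fin n) F) where
  carrier := {g | (g : Matrix (Fin n) (Fin n) F).BlockTriangular id ∧ ∀ i, (g : Matrix (Fin n) (Fin n) F) i i = 1}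
  one_mem' := ⟨Matrix.blockTriangular_one, fun i => by simp⟩
  mul_mem' := fun {a b} ha hb => ⟨ha.1.mul hb.1, fun i => by
    show ((a : Matrix (Fin n) (Fin n) F) * (b : Matrix (Fin n) (Fin n) F)) i i = 1
    rw [mul_apply, sum_eq_single i, ha.2, hb.2, one_mul]
    · intro k _ hk
      rcases lt_or_gt_of_ne hk with h | h
      · rw [ha.1 h, zero_mul]
      · rw [hb.1 h, mul_zero]
    · exact fun h => absurd (mem_univ _) h⟩
  inv_mem' := fun {a} ha => by
    have h1 : ((a⁻¹ : SpecialLinearGroup (Fin n) F) : Matrix (Fin n) (Fin n) F).BlockTriangular id := by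
      have h2 : ((SpecialLinearGroup.toGL a)⁻¹ : GL (Fin n) F) ∈ Cfsg.upperTriangularGL n F :=
        Subgroup.inv_mem _ (show SpecialLinearGroup.toGL a ∈ Cfsg.upperTriangularGL n F from ha.1)
      rw [← map_inv] at h2
      exact h2
    refine ⟨h1, fun i => ?_⟩
    have h : ((a : Matrix (Fin n) (Fin n) F) * ((a⁻¹ : SpecialLinearGroup (Fin n) F) : Matrix (Fin n) (Fin n) F)) i i =
        (1 : Matrix (Fin n) (Fin n) F) i i :=
      congrArg (fun M : SpecialLinearGroup (Fin n) F => (M : Matrix (Fin n) (Fin n) F) i i) (mul_inv_cancel a)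
    rw [one_apply_eq, mul_apply] at h
    rw [sum_eq_single i, ha.2, one_mul] at h
    · exact h
    · intro k _ hk
      rcases lt_or_gt_of_ne hk with h' | h'
      · rw [ha.1 h', zero_mul]
      · rw [h1 h', mul_zero]
    · exact fun h' => absurd (mem_univ _) h'

theorem card_uniSL [Fintype F] : Nat.card (uniSL n F) = Fintype.card F ^ (n * (n - 1) / 2) := by
  classical
  let M : ({p : Fin n × Fin n // p.1 < p.2} → F) → Matrix (Fin n) (Fin n) F := fun x =>
    Matrix.of fun i j => if h : i < j then x ⟨(i, j), h⟩ else if i = j then 1 else 0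
  have hM : ∀ x, (M x).BlockTriangular id := fun x i j hij => by
    show (if h : i < j then _ else _) = _
    rw [dif_neg (asymm (show j < i from hij)), if_neg (ne_of_gt (show j < i from hij))]
  have hd : ∀ x i, M x i i = 1 := fun x i => by
    show (if h : i < i then _ else _) = _
    rw [dif_neg (lt_irrefl i), if_pos rfl]
  have hdet : ∀ x, (M x).det = 1 := fun x => by
    rw [Matrix.det_of_isUpperTriangular (hM x)]
    exact prod_eq_one fun i _ => hd x i
  let e : uniSL n F ≃ ({p : Fin n × Fin n // p.1 < p.2} → F) :=
    { toFun := fun g p => (g.1 : Matrix (Fin n) (Fin n) F) p.1.1 p.1.2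
      invFun := fun x => ⟨⟨M x, hdet x⟩, hM x, hd x⟩
      left_inv := fun g => by
        refine Subtype.ext (Subtype.ext ?_)
        ext i j
        show (if h : i < j then (g.1 : Matrix (Fin n) (Fin n) F) i j else _) = _
        rcases lt_trichotomy i j with h | h | h
        · rw [dif_pos h]
        · rw [dif_neg (not_lt.2 h.ge), if_pos h]; subst h; exact (g.2.2 i).symm
        · rw [dif_neg (asymm h), if_neg (ne_of_gt h)]; exact (g.2.1 h).symm
      right_inv := fun x => funext fun p => by
        show (if h : p.1.1 < p.1.2 then _ else _) = _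
        rw [dif_pos p.2] }
  rw [Nat.card_congr e, Nat.card_fun, Nat.card_eq_fintype_card, Nat.card_eq_fintype_card]
  congr 1
  have h := two_mul_card_lt_add (id : Fin n → Fin n)
  have h1 : ∀ a : Fin n, Nat.card {i : Fin n // id i = a} = 1 := fun a =>
    Nat.card_eq_one_iff_unique.2 ⟨⟨fun x y => Subtype.ext (x.2.trans y.2.symm)⟩, ⟨⟨a, rfl⟩⟩⟩
  simp only [Fintype.card_eq_nat_card] at h
  simp only [h1, mul_one, sum_const, smul_eq_mul, Nat.card_fin] at h
  rw [card_univ, Fintype.card_fin] at h
  rw [Fintype.card_eq_nat_card]
  simp only [id_eq] at h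
  have h2 : n * (n - 1) + n = n * n := by cases n <;> simp [Nat.mul_succ]
  have h3 : n * (n - 1) / 2 * 2 = n * (n - 1) := Nat.div_mul_cancel (Nat.even_mul_pred_self n).two_dvd
  omega

/-- The image of the unipotent matrices in the projective group. -/
def uniPSL (n : ℕ) (F : Type*) [Field F] : Subgroup (ProjectiveSpecialLinearGroup (Fin n) F) :=
  (uniSL n F).map (QuotientGroup.mk' _)

theorem card_uniPSL [Fintype F] : Nat.card (uniPSL n F) = Fintype.card F ^ (n * (n - 1) / 2) := by
  rw [← card_uniSL (n := n) (F := F)]
  refine (Nat.card_eq_of_bijective (fun u : uniSL n F => (⟨_, Subgroup.mem_map_of_mem _ u.2⟩ : uniPSL n F)) ⟨?_, ?_⟩).symm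
  · intro u v h
    have h' : (QuotientGroup.mk u.1 : ProjectiveSpecialLinearGroup (Fin n) F) = QuotientGroup.mk v.1 :=
      congrArg Subtype.val h
    rw [QuotientGroup.eq, Matrix.SpecialLinearGroup.mem_center_iff] at h'
    obtain ⟨r, -, hr⟩ := h'
    have hm : u.1⁻¹ * v.1 ∈ uniSL n F := (uniSL n F).mul_mem ((uniSL n F).inv_mem u.2) v.2
    have h1 : u.1⁻¹ * v.1 = 1 := Subtype.ext (by
      show (↑(u.1⁻¹ * v.1) : Matrix (Fin n) (Fin n) F) = 1
      ext i j
      by_cases hij : i = j
      · subst hij; rw [hm.2 i, one_apply_eq]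
      · rw [← hr, one_apply_ne hij, Matrix.scalar_apply, diagonal_apply_ne _ hij])
    exact Subtype.ext (inv_mul_eq_one.1 h1)
  · rintro ⟨x, u, hu, rfl⟩
    exact ⟨⟨u, hu⟩, rfl⟩

/-- The statistic increasing along the galleries towards the opposite chambers. -/
noncomputable def rank (g : GL (Fin n) F) : ℕ :=
  ∑ a ∈ range n, ∑ b ∈ range (n + 1), cornerRank Fin.val Fin.val a b (g : Matrix (Fin n) (Fin n) F)

theorem borel_blockTriangular {g : GL (Fin n) F} (hg : g ∈ Cfsg.upperTriangularGL n F) :
    (g : Matrix (Fin n) (Fin n) F).BlockTriangular (Fin.val : Fin n → ℕ) := fun i j hij => hg (Fin.lt_def.2 hij)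

theorem cornerRank_borel {a b : ℕ} {p q : GL (Fin n) F} (hp : p ∈ Cfsg.upperTriangularGL n F)
    (hq : q ∈ Cfsg.upperTriangularGL n F) (g : GL (Fin n) F) :
    cornerRank Fin.val Fin.val a b ((p * g * q : GL (Fin n) F) : Matrix (Fin n) (Fin n) F) =
      cornerRank Fin.val Fin.val a b (g : Matrix (Fin n) (Fin n) F) := by
  refine le_antisymm ?_ ?_
  · rw [Units.val_mul, Units.val_mul]
    exact cornerRank_le (borel_blockTriangular hp) (borel_blockTriangular hq)
  · conv_lhs => rw [show g = p⁻¹ * (p * g * q) * q⁻¹ by group]
    rw [Units.val_mul (p⁻¹ * (p * g * q)), Units.val_mul p⁻¹]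
    exact cornerRank_le (borel_blockTriangular (Subgroup.inv_mem _ hp))
      (borel_blockTriangular (Subgroup.inv_mem _ hq))

theorem rank_borel {p q : GL (Fin n) F} (hp : p ∈ Cfsg.upperTriangularGL n F)
    (hq : q ∈ Cfsg.upperTriangularGL n F) (g : GL (Fin n) F) : rank (p * g * q) = rank g := by
  simp only [rank, cornerRank_borel hp hq]

theorem rank_wGL (σ : Equiv.Perm (Fin n)) :
    rank (wGL n F σ) = ∑ j : Fin n, ((σ j).val + 1) * (n - j.val) := by
  classical
  simp only [rank, cornerRank_wGL, Fintype.card_subtype, card_filter]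
  conv_lhs => enter [2, a]; rw [sum_comm]
  rw [sum_comm]
  refine sum_congr rfl fun j _ => ?_
  have h1 : (range n).filter (fun a => a ≤ (σ j).val) = range ((σ j).val + 1) := by
    ext a; simp only [mem_filter, mem_range]; omega
  have h2 : (range (n + 1)).filter (fun b => j.val < b) = Ioc j.val n := by
    ext b; simp only [mem_filter, mem_range, mem_Ioc]; omega
  calc ∑ a ∈ range n, ∑ b ∈ range (n + 1), (if a ≤ (σ j).val ∧ j.val < b then 1 else 0)
      = ∑ a ∈ (range n).filter (fun a => a ≤ (σ j).val),
          ((range (n + 1)).filter fun b => j.val < b).card := by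
        rw [sum_filter]
        refine sum_congr rfl fun a _ => ?_
        by_cases ha : a ≤ (σ j).val <;> simp [ha]
    _ = _ := by rw [h1, h2, sum_const, card_range, Nat.card_Ioc, smul_eq_mul]

theorem wGL_eq_of_mem {σ τ : Equiv.Perm (Fin n)} {p q : GL (Fin n) F}
    (hp : p ∈ Cfsg.upperTriangularGL n F) (hq : q ∈ Cfsg.upperTriangularGL n F)
    (h : wGL n F σ = p * wGL n F τ * q) : σ = τ := by
  obtain ⟨π, hπ⟩ := exists_perm_of_card_eq (f := (Fin.val : Fin n → ℕ)) (c := (Fin.val : Fin n → ℕ))
    (σ := σ) (τ := τ) (fun a b => by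
      rw [← cornerRank_wGL (F := F), ← cornerRank_wGL (F := F), h, cornerRank_borel hp hq])
  refine Equiv.ext fun j => ?_
  have h1 : π j = j := Fin.ext (hπ j).1
  have h2 := (hπ j).2
  rw [h1] at h2
  exact Fin.ext h2.symm

theorem perm_mem_merge {i j : Fin n} (hij : j.val = i.val + 1) {σ : Equiv.Perm (Fin n)}
    (h : wGL n F σ ∈ blockGL F (merge i.val)) : σ = 1 ∨ σ = Equiv.swap i j := by
  have hle : ∀ k, merge i.val (σ k) ≤ merge i.val k := fun k => by
    by_contra hlt
    have := h (not_le.1 hlt)
    simp at this
  have hsum : ∑ k, merge i.val (σ k) = ∑ k : Fin n, merge i.val k := Equiv.sum_comp σ (merge i.val)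
  have heq : ∀ k, merge i.val (σ k) = merge i.val k := fun k =>
    (sum_eq_sum_iff_of_le fun k _ => hle k).1 hsum k (mem_univ k)
  have hfix : ∀ k, k ≠ i → k ≠ j → σ k = k := fun k h1 h2 => by
    have := heq k
    rw [Ne, Fin.ext_iff] at h1 h2
    apply Fin.ext
    unfold merge at this
    split_ifs at this <;> omega
  have hmem : ∀ k, k = i ∨ k = j → σ k = i ∨ σ k = j := fun k hk => by
    by_contra hne
    push Not at hne
    have := σ.injective (hfix _ hne.1 hne.2)
    rcases hk with rfl | rfl
    · exact hne.1 this
    · exact hne.2 this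
  have hne : i ≠ j := fun e => by rw [e] at hij; omega
  rcases hmem i (Or.inl rfl) with h1 | h1
  · refine Or.inl (Equiv.ext fun k => ?_)
    rw [Equiv.Perm.one_apply]
    by_cases hki : k = i
    · rw [hki, h1]
    by_cases hkj : k = j
    · subst hkj
      rcases hmem k (Or.inr rfl) with h2 | h2
      · exact absurd (σ.injective (h1.trans h2.symm)) hne
      · exact h2
    · exact hfix k hki hkj
  · refine Or.inr (Equiv.ext fun k => ?_)
    by_cases hki : k = i
    · rw [hki, h1, Equiv.swap_apply_left]
    by_cases hkj : k = j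
    · subst hkj
      rw [Equiv.swap_apply_right]
      rcases hmem k (Or.inr rfl) with h2 | h2
      · exact h2
      · exact absurd (σ.injective (h1.trans h2.symm)) hne
    · rw [hfix k hki hkj, Equiv.swap_apply_of_ne_of_ne hki hkj]

theorem swap_mem_merge {i j : Fin n} (hij : j.val = i.val + 1) :
    wGL n F (Equiv.swap i j) ∈ blockGL F (merge i.val) := by
  intro a b hab
  rw [wGL_apply, if_neg]
  rintro rfl
  refine (ne_of_lt hab) ?_
  rw [Equiv.swap_apply_def]
  unfold merge
  split_ifs <;> subst_vars <;> omega

theorem eq_revPerm_of_no_ascent {σ : Equiv.Perm (Fin n)}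
    (h : ∀ i j : Fin n, j.val = i.val + 1 → σ j < σ i) : σ = Fin.revPerm := by
  have hanti : ∀ d : ℕ, ∀ i j : Fin n, j.val = i.val + (d + 1) → σ j < σ i := by
    intro d
    induction d with
    | zero => exact h
    | succ d ih =>
      intro i j hij
      have := ih i ⟨j.val - 1, by omega⟩ (by simp only; omega)
      exact (h ⟨j.val - 1, by omega⟩ j (by simp only; omega)).trans this
  have hmono : StrictMono fun k : Fin n => σ (Fin.rev k) := fun a b hab => by
    have h' : Fin.rev b < Fin.rev a := Fin.rev_lt_rev.2 hab
    refine hanti ((Fin.rev a).val - (Fin.rev b).val - 1) _ _ ?_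
    rw [Fin.lt_def] at h'
    omega
  refine Equiv.ext fun k => ?_
  have hid := congrFun ((hmono.range_inj strictMono_id).1 (by
    rw [Set.range_id, Set.range_eq_univ]
    exact σ.surjective.comp Fin.rev_surjective)) (Fin.rev k)
  simpa using hid

theorem exists_uni_mul (b : GL (Fin n) F) (hb : b ∈ Cfsg.upperTriangularGL n F) :
    ∃ u ∈ uniSL n F, ∃ t : GL (Fin n) F, ∀ σ : Equiv.Perm (Fin n),
      ((b * wGL n F σ : GL (Fin n) F) : Flags n F) = ((SpecialLinearGroup.toGL u * wGL n F σ : GL (Fin n) F) : Flags n F) ∧
        b = SpecialLinearGroup.toGL u * t := by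
  classical
  let d : Fin n → F := fun i => (b : Matrix (Fin n) (Fin n) F) i i
  have hdet : (b : Matrix (Fin n) (Fin n) F).det = ∏ i, d i := Matrix.det_of_isUpperTriangular hb
  have hd : ∀ i, d i ≠ 0 := fun i => (prod_ne_zero_iff (f := d)).1
    (hdet ▸ ((Matrix.isUnit_iff_isUnit_det _).1 b.isUnit).ne_zero) i (mem_univ i)
  let M := (b : Matrix (Fin n) (Fin n) F) * Matrix.diagonal (fun i => (d i)⁻¹)
  have hMu : M.BlockTriangular id := (show (b : Matrix (Fin n) (Fin n) F).BlockTriangular id from hb).mul (Matrix.blockTriangular_diagonal _)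
  have hMd : ∀ i, M i i = 1 := fun i => by simp [M, d, mul_diagonal]; exact mul_inv_cancel₀ (hd i)
  let u : SpecialLinearGroup (Fin n) F :=
    ⟨M, by rw [Matrix.det_of_isUpperTriangular hMu]; exact prod_eq_one fun i _ => hMd i⟩
  let t : GL (Fin n) F := Matrix.nonsingInvUnit (Matrix.diagonal d)
    (by rw [det_diagonal]; exact (prod_ne_zero_iff.2 fun i _ => hd i).isUnit)
  have hbt : b = SpecialLinearGroup.toGL u * t := Units.ext (by
    show _ = ((b : Matrix (Fin n) (Fin n) F) * Matrix.diagonal (fun i => (d i)⁻¹)) * Matrix.diagonal d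
    rw [Matrix.mul_assoc, diagonal_mul_diagonal]
    have : (fun i => (d i)⁻¹ * d i) = fun _ => 1 := funext fun i => inv_mul_cancel₀ (hd i)
    rw [this, diagonal_one, Matrix.mul_one])
  refine ⟨u, ⟨hMu, hMd⟩, t, fun σ => ⟨?_, hbt⟩⟩
  rw [QuotientGroup.eq, hbt, _root_.mul_inv_rev, _root_.mul_inv_rev]
  have hc : (wGL n F σ)⁻¹ * t⁻¹ * wGL n F σ ∈ Cfsg.upperTriangularGL n F := by
    intro a c hac
    have hti : (t⁻¹ : GL (Fin n) F) ∈ (blockGL F (fun i : Fin n => i.val) ⊓ blockGL F (fun i : Fin n => n - i.val)) :=
      Subgroup.inv_mem _ ⟨Matrix.blockTriangular_diagonal d, Matrix.blockTriangular_diagonal d⟩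
    rw [← map_inv, Units.val_mul, Units.val_mul, mul_apply, sum_eq_single (σ c)]
    · rw [mul_apply, sum_eq_single (σ a)]
      · rcases lt_or_gt_of_ne (σ.injective.ne (ne_of_gt hac : a ≠ c)) with h | h
        · rw [hti.2 (by show n - (σ c).val < n - (σ a).val; rw [Fin.lt_def] at h; omega), mul_zero, zero_mul]
        · rw [hti.1 (by show (σ c).val < (σ a).val; exact Fin.lt_def.1 h), mul_zero, zero_mul]
      · intro k _ hk
        rw [wGL_apply, if_neg (fun e => hk (by rw [e]; simp)), zero_mul]
      · exact fun h => absurd (mem_univ _) h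
    · intro k _ hk; rw [wGL_apply, if_neg hk, mul_zero]
    · exact fun h => absurd (mem_univ _) h
  convert hc using 1
  group

variable [Fintype F]

theorem exists_steinberg [NeZero n] (p : ℕ) [Fact p.Prime] [CharP F p] :
    ∃ χ : ProjectiveSpecialLinearGroup (Fin n) F → ℂ,
      Cfsg.IsIrrCharacter (ProjectiveSpecialLinearGroup (Fin n) F) χ ∧
      ∀ P : Sylow p (ProjectiveSpecialLinearGroup (Fin n) F), χ 1 = Nat.card P ∧
        ∀ x : ProjectiveSpecialLinearGroup (Fin n) F, x ∈ P → x ≠ 1 → χ x = 0 := by
  classical
  let φ : SpecialLinearGroup (Fin n) F →* Equiv.Perm (Flags n F) :=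
    (MulAction.toPermHom (GL (Fin n) F) (Flags n F)).comp SpecialLinearGroup.toGL
  have hφ : Subgroup.center (SpecialLinearGroup (Fin n) F) ≤ φ.ker := by
    intro z hz
    obtain ⟨r, -, hr⟩ := Matrix.SpecialLinearGroup.mem_center_iff.1 hz
    rw [MonoidHom.mem_ker]
    refine Equiv.ext fun x => ?_
    induction x using QuotientGroup.induction_on with | H g => ?_
    show ((SpecialLinearGroup.toGL z * g : GL (Fin n) F) : Flags n F) = (g : Flags n F)
    rw [QuotientGroup.eq]
    have hcomm : SpecialLinearGroup.toGL z * g = g * SpecialLinearGroup.toGL z := Units.ext (by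
      show (z : Matrix (Fin n) (Fin n) F) * (g : Matrix (Fin n) (Fin n) F) = (g : Matrix (Fin n) (Fin n) F) * z
      rw [← hr]
      exact (scalar_commute r (Commute.all r) _).eq)
    rw [hcomm, _root_.mul_inv_rev, inv_mul_cancel_right]
    refine Subgroup.inv_mem _ (show (z : Matrix (Fin n) (Fin n) F).BlockTriangular id from ?_)
    rw [← hr]
    exact Matrix.blockTriangular_diagonal _
  letI : MulAction (ProjectiveSpecialLinearGroup (Fin n) F) (Flags n F) :=
    MulAction.compHom _ (QuotientGroup.lift _ φ hφ)
  have hsmul : ∀ (s : SpecialLinearGroup (Fin n) F) (g : GL (Fin n) F),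
      (QuotientGroup.mk s : ProjectiveSpecialLinearGroup (Fin n) F) • (g : Flags n F) =
        ((SpecialLinearGroup.toGL s * g : GL (Fin n) F) : Flags n F) := fun s g => rfl
  haveI : Fintype (Flags n F) := Fintype.ofFinite _
  let rk : Flags n F → ℕ := Quotient.lift (fun g => rank g) (fun g h hgh => by
    replace hgh : g⁻¹ * h ∈ Cfsg.upperTriangularGL n F := QuotientGroup.leftRel_apply.mp hgh
    have := rank_borel (one_mem _) hgh g
    rw [one_mul, mul_inv_cancel_left] at this
    exact this.symm)
  let D : CfsgLib.StModule.Data (ProjectiveSpecialLinearGroup (Fin n) F) (Flags n F) :=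
    { I := {p : Fin n × Fin n // p.2.val = p.1.val + 1}
      same := fun p => sameAt p.1.1.val
      same_smul := by
        intro p g x y h
        induction g using QuotientGroup.induction_on with | H s => ?_
        induction x using QuotientGroup.induction_on with | H a => ?_
        induction y using QuotientGroup.induction_on with | H b => ?_
        rw [hsmul, hsmul, sameAt_mk]
        rw [sameAt_mk] at h
        simpa [mul_assoc] using h
      c := ((1 : GL (Fin n) F) : Flags n F)
      U := uniPSL n F
      fix := by
        rintro _ ⟨u, hu, rfl⟩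
        show (QuotientGroup.mk u : ProjectiveSpecialLinearGroup (Fin n) F) • _ = _
        rw [hsmul, mul_one, QuotientGroup.eq, mul_one]
        exact Subgroup.inv_mem _ (show SpecialLinearGroup.toGL u ∈ Cfsg.upperTriangularGL n F from hu.1)
      A := Equiv.Perm (Fin n)
      apt := fun σ => ((wGL n F σ : GL (Fin n) F) : Flags n F)
      eps := fun σ => ((Equiv.Perm.sign (σ * Fin.revPerm⁻¹) : ℤ) : ℂ)
      a0 := Fin.revPerm
      reach := fun f _ _ _ h => by
        obtain ⟨s, hs⟩ := exists_det_one (wGL n F Fin.revPerm)
        have e := h (QuotientGroup.mk s)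
        rwa [show (QuotientGroup.mk s : ProjectiveSpecialLinearGroup (Fin n) F) • ((1 : GL (Fin n) F) : Flags n F) =
          ((wGL n F Fin.revPerm : GL (Fin n) F) : Flags n F) by rw [hsmul, mul_one, hs]] at e
      eps0 := by simp
      panel := by
        intro p x _
        by_cases hx : ∃ σ : Equiv.Perm (Fin n), sameAt p.1.1.val x ((wGL n F σ : GL (Fin n) F) : Flags n F)
        · obtain ⟨σ, hσ⟩ := hx
          have hne : σ ≠ σ * Equiv.swap p.1.1 p.1.2 := fun e => by
            have h1 := Equiv.congr_fun (left_eq_mul.1 e) p.1.1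
            rw [Equiv.swap_apply_left, Equiv.Perm.one_apply] at h1
            have := p.2
            rw [h1] at this
            omega
          have hfil : univ.filter (fun τ : Equiv.Perm (Fin n) =>
              sameAt p.1.1.val x ((wGL n F τ : GL (Fin n) F) : Flags n F)) = {σ, σ * Equiv.swap p.1.1 p.1.2} := by
            ext τ
            simp only [mem_filter, mem_univ, true_and, mem_insert, mem_singleton]
            have : sameAt p.1.1.val x ((wGL n F τ : GL (Fin n) F) : Flags n F) ↔
                wGL n F (σ⁻¹ * τ) ∈ blockGL F (merge p.1.1.val) := by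
              rw [map_mul, map_inv, ← sameAt_mk]
              exact ⟨fun h => hσ.symm.trans h, fun h => hσ.trans h⟩
            rw [this]
            constructor
            · intro h
              rcases perm_mem_merge p.2 h with h' | h'
              · exact Or.inl (inv_mul_eq_one.1 h').symm
              · exact Or.inr (by rw [← h', mul_inv_cancel_left])
            · rintro (rfl | rfl)
              · rw [inv_mul_cancel, map_one]; exact one_mem _
              · rw [inv_mul_cancel_left]; exact swap_mem_merge p.2
          rw [hfil, sum_pair hne]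
          have hsw : p.1.1 ≠ p.1.2 := fun e => by have := p.2; rw [e] at this; omega
          simp [Equiv.Perm.sign_swap hsw]
        · push Not at hx
          rw [filter_false_of_mem fun σ _ => hx σ, sum_empty]
      apt_big := by
        rintro σ _ ⟨u, hu, rfl⟩ h
        replace h : ((wGL n F σ : GL (Fin n) F) : Flags n F) =
            ((SpecialLinearGroup.toGL u * wGL n F Fin.revPerm : GL (Fin n) F) : Flags n F) := h
        rw [QuotientGroup.eq] at h
        refine wGL_eq_of_mem (show SpecialLinearGroup.toGL u ∈ Cfsg.upperTriangularGL n F from hu.1)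
          (Subgroup.inv_mem _ h) ?_
        group
      free := by
        rintro _ ⟨u, hu, rfl⟩ h
        replace h : ((SpecialLinearGroup.toGL u * wGL n F Fin.revPerm : GL (Fin n) F) : Flags n F) =
            ((wGL n F Fin.revPerm : GL (Fin n) F) : Flags n F) := h
        replace h := h.symm
        rw [QuotientGroup.eq] at h
        obtain ⟨P, hP, e⟩ : ∃ P ∈ Cfsg.upperTriangularGL n F,
            SpecialLinearGroup.toGL u * wGL n F Fin.revPerm = wGL n F Fin.revPerm * P := ⟨_, h, by group⟩
        have : u = 1 := Subtype.ext (by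
          show (u : Matrix (Fin n) (Fin n) F) = 1
          ext i j
          rcases lt_trichotomy i j with hij | hij | hij
          · have h' : ((u : Matrix (Fin n) (Fin n) F) * (wGL n F Fin.revPerm : Matrix (Fin n) (Fin n) F)) i (Fin.rev j) =
                ((wGL n F Fin.revPerm : Matrix (Fin n) (Fin n) F) * (P : Matrix (Fin n) (Fin n) F)) i (Fin.rev j) :=
              congrArg (fun g : GL (Fin n) F => (g : Matrix (Fin n) (Fin n) F) i (Fin.rev j)) e
            rw [mul_apply, mul_apply, sum_eq_single j, sum_eq_single (Fin.rev i)] at h'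
            · have hz : (P : Matrix (Fin n) (Fin n) F) (Fin.rev i) (Fin.rev j) = 0 :=
                hP (show Fin.rev j < Fin.rev i from Fin.rev_lt_rev.2 hij)
              have hw : (wGL n F Fin.revPerm : Matrix (Fin n) (Fin n) F) j (Fin.rev j) = 1 := by simp
              rw [hz, mul_zero, hw, mul_one] at h'
              exact h'.trans (one_apply_ne (ne_of_lt hij)).symm
            · intro k _ hk
              rw [wGL_apply, if_neg (fun e => hk (by rw [e, Fin.revPerm_apply, Fin.rev_rev])), zero_mul]
            · exact fun h => absurd (mem_univ _) h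
            · intro k _ hk
              rw [wGL_apply, if_neg (fun e => hk (by rw [e, Fin.revPerm_apply, Fin.rev_rev])), mul_zero]
            · exact fun h => absurd (mem_univ _) h
          · subst hij; rw [hu.2 i, one_apply_eq]
          · rw [hu.1 hij, one_apply_ne (ne_of_gt hij)])
        rw [this, map_one]
      rk := rk
      up := by
        intro x hx
        induction x using QuotientGroup.induction_on with | H g => ?_
        obtain ⟨b₁, hb₁, σ, b₂, hb₂, rfl⟩ := exists_bruhat g
        by_cases hσ : σ = Fin.revPerm
        · exfalso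
          obtain ⟨u, hu, t, ht⟩ := exists_uni_mul b₁ hb₁
          refine hx (QuotientGroup.mk u) (Subgroup.mem_map_of_mem _ hu) ?_
          rw [hsmul, ← hσ]
          refine Eq.trans ?_ (ht σ).1
          rw [QuotientGroup.eq, show (b₁ * wGL n F σ * b₂)⁻¹ * (b₁ * wGL n F σ) = b₂⁻¹ by group]
          exact Subgroup.inv_mem _ hb₂
        · obtain ⟨i, j, hij, hlt⟩ : ∃ i j : Fin n, j.val = i.val + 1 ∧ σ i < σ j := by
            by_contra hno
            push Not at hno
            exact hσ (eq_revPerm_of_no_ascent fun i j hij => lt_of_le_of_ne (hno i j hij)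
              fun e => by rw [σ.injective e] at hij; omega)
          refine ⟨⟨(i, j), hij⟩, rfl, fun y hy hne => ?_⟩
          induction y using QuotientGroup.induction_on with | H h => ?_
          obtain ⟨P, hP, rfl⟩ : ∃ P ∈ blockGL F (merge i.val), h = b₁ * wGL n F σ * b₂ * P :=
            ⟨_, sameAt_mk.1 hy, by group⟩
          have hP2 : b₂ * P ∈ blockGL F (merge i.val) :=
            mul_mem (borel_le_blockGL (merge_mono _) hb₂) hP
          have hne' : i ≠ j := fun e => by rw [e] at hij; omega
          let m : Matrix (Fin n) (Fin n) F := (b₂ * P : GL (Fin n) F)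
          have hm : ∀ a c : Fin n, c < a → (a ≠ j ∨ c ≠ i) → m a c = 0 := fun a c hca hor => hP2 (by
            rw [Fin.lt_def] at hca
            simp only [Ne, Fin.ext_iff] at hor
            show merge i.val c < merge i.val a
            unfold merge
            split_ifs <;> omega)
          by_cases hji : m j i = 0
          · exfalso
            refine hne ?_
            rw [QuotientGroup.eq]
            have hup : b₂ * P ∈ Cfsg.upperTriangularGL n F := fun a c hca => by
              by_cases hh : a ≠ j ∨ c ≠ i
              · exact hm a c hca hh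
              · push Not at hh; rw [hh.1, hh.2]; exact hji
            rw [show (b₁ * wGL n F σ * b₂ * P)⁻¹ * (b₁ * wGL n F σ * b₂) = (b₂ * P)⁻¹ * b₂ by group]
            exact mul_mem (Subgroup.inv_mem _ hup) hb₂
          let e : ∀ (a c : Fin n), a ≠ c → F → GL (Fin n) F := fun a c hac r =>
            Matrix.nonsingInvUnit (Matrix.transvection a c r) (by rw [Matrix.det_transvection_of_ne a c hac]; exact isUnit_one)
          let r : F := m i i / m j i
          let P' : GL (Fin n) F := wGL n F (Equiv.swap i j) * e i j hne' (-r) * (b₂ * P)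
          have hP' : P' ∈ Cfsg.upperTriangularGL n F := by
            intro a c hca
            replace hca : c < a := hca
            show ((wGL n F (Equiv.swap i j) : Matrix (Fin n) (Fin n) F) * Matrix.transvection i j (-r) * m) a c = 0
            rw [Matrix.mul_assoc, mul_apply, sum_eq_single (Equiv.swap i j a)]
            · rw [wGL_apply, if_pos (by rw [Equiv.swap_apply_self]), one_mul]
              by_cases haj : a = j
              · subst haj
                rw [Equiv.swap_apply_right, Matrix.transvection_mul_apply_same]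
                rw [Fin.lt_def] at hca
                by_cases hci : c = i
                · subst hci
                  simp only [r]; field_simp; ring
                · have : c.val ≠ i.val := fun e => hci (Fin.ext e)
                  rw [hm i c (Fin.lt_def.2 (by omega)) (Or.inl hne'), hm a c (Fin.lt_def.2 hca) (Or.inr hci)]
                  ring
              · by_cases hai : a = i
                · subst hai
                  rw [Equiv.swap_apply_left, Matrix.transvection_mul_apply_of_ne _ _ _ _ (Ne.symm hne')]
                  exact hm j c (hca.trans (Fin.lt_def.2 (by omega))) (Or.inr (ne_of_lt hca))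
                · rw [Equiv.swap_apply_of_ne_of_ne hai haj, Matrix.transvection_mul_apply_of_ne _ _ _ _ hai]
                  exact hm a c hca (Or.inl haj)
            · intro k _ hk
              rw [wGL_apply, if_neg (fun e => hk (by rw [e, Equiv.swap_apply_self])), zero_mul]
            · exact fun h => absurd (mem_univ _) h
          have hE : e i j hne' r * e i j hne' (-r) = 1 := Units.ext (by
            show Matrix.transvection i j r * Matrix.transvection i j (-r) = 1
            rw [Matrix.transvection_mul_transvection_same i j hne', add_neg_cancel, Matrix.transvection_zero])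
          have hsig : σ i ≠ σ j := σ.injective.ne hne'
          have hcomm : wGL n F σ * e i j hne' r = e (σ i) (σ j) hsig r * wGL n F σ := Units.ext (by
            show (wGL n F σ : Matrix (Fin n) (Fin n) F) * Matrix.transvection i j r =
              Matrix.transvection (σ i) (σ j) r * (wGL n F σ : Matrix (Fin n) (Fin n) F)
            ext a c
            rw [mul_apply, mul_apply, sum_eq_single (σ⁻¹ a), sum_eq_single (σ c)]
            · simp [Matrix.transvection, Matrix.single_apply, one_apply]
              split_ifs <;> simp_all [Equiv.symm_apply_eq, Equiv.eq_symm_apply]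
            · intro k _ hk; rw [wGL_apply, if_neg hk, mul_zero]
            · exact fun h => absurd (mem_univ _) h
            · intro k _ hk; rw [wGL_apply, if_neg (fun e => hk (by rw [e]; simp)), zero_mul]
            · exact fun h => absurd (mem_univ _) h)
          have heB : e (σ i) (σ j) hsig r ∈ Cfsg.upperTriangularGL n F := fun a c hca => by
            replace hca : c < a := hca
            show Matrix.transvection (σ i) (σ j) r a c = 0
            rw [Matrix.transvection, Matrix.add_apply, one_apply_ne (ne_of_gt hca), Matrix.single_apply,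
              if_neg (by rintro ⟨rfl, rfl⟩; exact asymm hca hlt), add_zero]
          have hswap : wGL n F (Equiv.swap i j) * wGL n F (Equiv.swap i j) = 1 := by
            rw [← map_mul, Equiv.swap_mul_self, map_one]
          have hdec : b₁ * wGL n F σ * b₂ * P =
              (b₁ * e (σ i) (σ j) hsig r) * wGL n F (σ * Equiv.swap i j) * P' := by
            rw [map_mul]
            calc b₁ * wGL n F σ * b₂ * P = b₁ * wGL n F σ * (b₂ * P) := by group
              _ = b₁ * wGL n F σ * ((e i j hne' r * (wGL n F (Equiv.swap i j) * wGL n F (Equiv.swap i j)) *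
                    e i j hne' (-r)) * (b₂ * P)) := by rw [hswap, mul_one, hE, one_mul]
              _ = b₁ * (wGL n F σ * e i j hne' r) * wGL n F (Equiv.swap i j) * P' := by
                simp only [P', mul_assoc]
              _ = _ := by rw [hcomm]; simp only [mul_assoc]
          show rank (b₁ * wGL n F σ * b₂) < rank (b₁ * wGL n F σ * b₂ * P)
          rw [hdec, rank_borel hb₁ hb₂, rank_borel (mul_mem hb₁ heB) hP', rank_wGL, rank_wGL,
            ← add_sum_erase univ _ (mem_univ i), ← add_sum_erase (univ.erase i) _ (mem_erase.2 ⟨hne'.symm, mem_univ j⟩)]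
          conv_rhs => rw [← add_sum_erase univ _ (mem_univ i),
            ← add_sum_erase (univ.erase i) _ (mem_erase.2 ⟨hne'.symm, mem_univ j⟩)]
          have hrest : ∑ k ∈ (univ.erase i).erase j, (((σ * Equiv.swap i j) k).val + 1) * (n - k.val) =
              ∑ k ∈ (univ.erase i).erase j, ((σ k).val + 1) * (n - k.val) := by
            refine sum_congr rfl fun k hk => ?_
            simp only [mem_erase] at hk
            rw [Equiv.Perm.mul_apply, Equiv.swap_apply_of_ne_of_ne hk.2.1 hk.1]
          simp only [Equiv.Perm.mul_apply, Equiv.swap_apply_left, Equiv.swap_apply_right] at hrest ⊢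
          rw [hrest]
          have hk : n - i.val = (n - j.val) + 1 := by omega
          have hsv : (σ i).val < (σ j).val := hlt
          rw [hk]
          simp only [Nat.mul_succ, Nat.succ_mul, mul_add, add_mul, one_mul, mul_one]
          omega }
  obtain ⟨f, hf, hq⟩ := CfsgLib.Classical.exists_card_eq_prime_pow (F := F) p
  refine CfsgLib.StModule.exists_character_sylow D p ?_ ?_
  · refine IsPGroup.of_card (n := f * (n * (n - 1) / 2)) ?_
    show Nat.card (uniPSL n F) = _
    rw [card_uniPSL, hq, pow_mul]
  · show ¬ p ∣ (uniPSL n F).index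
    have hp : p.Prime := Fact.out
    have hq1 : 1 < Fintype.card F := Fintype.one_lt_card
    intro hdvd
    have h1 : ((Fintype.card F - 1) * Nat.card (Subgroup.center (SpecialLinearGroup (Fin n) F)) *
        (uniPSL n F).index) * Fintype.card F ^ (n * (n - 1) / 2) =
          (∏ i ∈ range n, (Fintype.card F ^ (i + 1) - 1)) * Fintype.card F ^ (n * (n - 1) / 2) := by
      rw [mul_comm (∏ _ ∈ _, _), ← CfsgLib.Classical.card_GL_eq, ← CfsgLib.Classical.card_SL_mul,
        Subgroup.card_eq_card_quotient_mul_card_subgroup (Subgroup.center (SpecialLinearGroup (Fin n) F))]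
      show _ = (Fintype.card F - 1) * (Nat.card (ProjectiveSpecialLinearGroup (Fin n) F) * _)
      rw [← (uniPSL n F).index_mul_card, card_uniPSL]
      ring
    have h2 := Nat.eq_of_mul_eq_mul_right (pow_pos (zero_lt_one.trans hq1) _) h1
    refine CfsgLib.Classical.not_dvd_prod hp (s := range n) (fun i _ => CfsgLib.Classical.not_dvd_pow_sub_one hp
      (q := Fintype.card F) (k := i + 1) (by rw [hq]; exact dvd_pow_self p (by omega)) hq1.le (by omega)) ?_
    rw [← h2]
    exact hdvd.mul_left _

end CfsgLib.PSLSteinberg
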