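import Mathlib
import Cfsg.Agent.Lib.Char.Rep
import Cfsg.Agent.Lib.Char.Exceptional.Virtual

/-! A character value at a p-element is congruent to the degree modulo the primes above p. -/

set_option autoImplicit false

namespace CfsgLib.Char.Exceptional

open CfsgLib.Char

theorem sum_pow_prime_pow {ι : Type*} (s : Finset ι) (ε : ι → ℂ) (hε : ∀ i ∈ s, IsIntegral ℤ (ε i))
    {p : ℕ} (hp : p.Prime) (k : ℕ) :
    ∃ r : ℂ, IsIntegral ℤ r ∧ (∑ i ∈ s, ε i) ^ p ^ k = (∑ i ∈ s, ε i ^ p ^ k) + (p : ℂ) * r := by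
  classical
  induction s using Finset.induction_on with
  | empty => exact ⟨0, isIntegral_zero, by simp [zero_pow (pow_ne_zero k hp.ne_zero)]⟩
  | insert a s ha ih =>
    obtain ⟨r, hr, he⟩ := ih fun i hi => hε i (Finset.mem_insert_of_mem hi)
    let x : integralClosure ℤ ℂ := ⟨ε a, hε a (Finset.mem_insert_self a s)⟩
    let y : integralClosure ℤ ℂ :=
      ⟨∑ i ∈ s, ε i, IsIntegral.sum _ fun i hi => hε i (Finset.mem_insert_of_mem hi)⟩
    obtain ⟨q, hq⟩ := exists_add_pow_prime_pow_eq hp x y k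
    refine ⟨r + ε a * (∑ i ∈ s, ε i) * q, hr.add ((x.2.mul y.2).mul q.2), ?_⟩
    rw [Finset.sum_insert ha, Finset.sum_insert ha]
    have h := congrArg Subtype.val hq
    simp only [Subalgebra.coe_add, Subalgebra.coe_mul, Subalgebra.coe_pow, x, y] at h
    rw [h, he]
    push_cast
    ring

theorem pElement_pow_congr {G : Type*} [Group G] [Finite G] {χ : G → ℂ} (hχ : Cfsg.IsCharacter G χ)
    {p : ℕ} (hp : p.Prime) {g : G} {k : ℕ} (hg : g ^ p ^ k = 1) :
    ∃ r : ℂ, IsIntegral ℤ r ∧ χ g ^ p ^ k = χ 1 + (p : ℂ) * r := by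
  obtain ⟨n, ρ, rfl⟩ := hχ
  obtain ⟨ε, hε, -, hpow, -⟩ := exists_eigenvalues ρ g
  obtain ⟨r, hr, he⟩ := sum_pow_prime_pow Finset.univ ε (fun i _ =>
    IsIntegral.of_pow (orderOf_pos g) (by rw [hε i]; exact isIntegral_one)) hp k
  refine ⟨r, hr, ?_⟩
  have h1 := hpow 1
  simp only [pow_one] at h1
  rw [h1, he, ← hpow (p ^ k), hg]

/-- A character of degree prime to `p` does not vanish at `p`-elements. -/
theorem pElement_ne_zero {G : Type*} [Group G] [Finite G] {χ : G → ℂ} (hχ : Cfsg.IsCharacter G χ)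
    {p : ℕ} (hp : p.Prime) {g : G} {k : ℕ} (hg : g ^ p ^ k = 1) {d : ℕ} (hd : χ 1 = d) (hpd : ¬ p ∣ d) :
    χ g ≠ 0 := by
  intro h0
  obtain ⟨r, hr, he⟩ := pElement_pow_congr hχ hp hg
  rw [h0, zero_pow (pow_ne_zero k hp.ne_zero), hd] at he
  have hp0 : (p : ℂ) ≠ 0 := Nat.cast_ne_zero.2 hp.ne_zero
  have hr' : r = (((-(d : ℚ)) / (p : ℚ) : ℚ) : ℂ) := by
    push_cast
    field_simp
    linear_combination -he
  obtain ⟨z, hz⟩ := IsIntegrallyClosed.isIntegral_iff.mp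
    ((isIntegral_algebraMap_iff (algebraMap ℚ ℂ).injective).mp (hr' ▸ hr))
  rw [eq_intCast, eq_div_iff (Nat.cast_ne_zero.2 hp.ne_zero)] at hz
  refine hpd (Int.natCast_dvd_natCast.1 ⟨-z, ?_⟩)
  have hz' : ((-(z * p) : ℤ) : ℚ) = ((d : ℤ) : ℚ) := by push_cast; linear_combination -hz
  linear_combination -(Int.cast_injective (α := ℚ) hz')

end CfsgLib.Char.Exceptional
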