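import Mathlib
import Cfsg.Agent.Lib.Char.Induced

/-! Permutation characters `indFun H 1` as numbers of fixed points. -/

set_option autoImplicit false

namespace CfsgLib.Char.Exceptional

variable {G : Type*} [Group G] [Fintype G]

/-- The induced principal character of a stabiliser counts the fixed points in the orbit. -/
theorem indFun_stabilizer_one {X : Type*} [MulAction G X] [Fintype X] (x : X) (g : G) :
    Cfsg.indFun (MulAction.stabilizer G x) (fun _ => 1) g =
      (Nat.card {y : X // y ∈ MulAction.orbit G x ∧ g • y = y} : ℂ) := by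
  classical
  have hext : ∀ k : G, Cfsg.extendByZero (MulAction.stabilizer G x) (fun _ => (1 : ℂ)) (k⁻¹ * g * k) =
      if g • k • x = k • x then 1 else 0 := by
    intro k
    have hiff : k⁻¹ * g * k ∈ MulAction.stabilizer G x ↔ g • k • x = k • x := by
      rw [MulAction.mem_stabilizer_iff, mul_smul, mul_smul, inv_smul_eq_iff]
    by_cases h : g • k • x = k • x
    · rw [CfsgLib.Char.extendByZero_of_mem _ _ (hiff.2 h), if_pos h]
    · rw [CfsgLib.Char.extendByZero_of_notMem _ _ (mt hiff.1 h), if_neg h]
  let Y := (Finset.univ : Finset X).filter fun y => y ∈ MulAction.orbit G x ∧ g • y = y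
  have hfib : ∀ y ∈ Y, ((Finset.univ.filter fun k : G => g • k • x = k • x).filter fun k => k • x = y).card
      = Nat.card (MulAction.stabilizer G x) := by
    intro y hy
    obtain ⟨⟨k₀, hk₀ : k₀ • x = y⟩, hgy⟩ := (Finset.mem_filter.1 hy).2
    subst hk₀
    rw [Nat.card_eq_fintype_card, Fintype.card_subtype]
    refine Finset.card_bij' (fun k _ => k₀⁻¹ * k) (fun s _ => k₀ * s) ?_ ?_ ?_ ?_
    · intro k hk
      simp only [Finset.mem_filter, Finset.mem_univ, true_and] at hk
      simp only [Finset.mem_filter, Finset.mem_univ, true_and, MulAction.mem_stabilizer_iff, mul_smul]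
      rw [hk.2, inv_smul_smul]
    · intro s hs
      simp only [Finset.mem_filter, Finset.mem_univ, true_and, MulAction.mem_stabilizer_iff] at hs
      simp only [Finset.mem_filter, Finset.mem_univ, true_and, mul_smul, hs, and_true]
      exact hgy
    · intro k _; simp
    · intro s _; simp
  have hcount : (Finset.univ.filter fun k : G => g • k • x = k • x).card =
      Y.card * Nat.card (MulAction.stabilizer G x) := by
    rw [Finset.card_eq_sum_card_fiberwise (f := fun k : G => k • x) (t := Y)
      (fun k hk => by
        simp only [Finset.coe_filter, Finset.mem_univ, true_and, Set.mem_ofPred_eq] at hk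
        simp only [Y, Finset.coe_filter, Finset.mem_univ, true_and, Set.mem_ofPred_eq]
        exact ⟨MulAction.mem_orbit _ _, hk⟩),
      Finset.sum_congr rfl hfib, Finset.sum_const, smul_eq_mul]
  simp only [Cfsg.indFun, hext, Finset.sum_boole, hcount, Nat.cast_mul]
  rw [Nat.card_eq_fintype_card (α := {y : X // y ∈ MulAction.orbit G x ∧ g • y = y}), Fintype.card_subtype]
  have hne : (Nat.card (MulAction.stabilizer G x) : ℂ) ≠ 0 := Nat.cast_ne_zero.2 Nat.card_pos.ne'
  field_simp
  rfl

/-- `indFun H 1` is the permutation character on the cosets of `H`. -/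
theorem indFun_one_eq_fixed (H : Subgroup G) (g : G) :
    Cfsg.indFun H (fun _ => 1) g = (Nat.card {q : G ⧸ H // g • q = q} : ℂ) := by
  classical
  have hs : MulAction.stabilizer G ((1 : G) : G ⧸ H) = H := MulAction.stabilizer_quotient H
  have h := indFun_stabilizer_one ((1 : G) : G ⧸ H) g
  rw [hs] at h
  rw [h]
  congr 1
  refine Nat.card_congr (Equiv.subtypeEquivRight fun q => ?_)
  simp [MulAction.orbit_eq_univ]

/-- A permutation character is the sum over orbit representatives of the induced principal characters. -/
theorem fixed_eq_sum_orbits {X : Type*} [MulAction G X] [Fintype X]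
    [Fintype (MulAction.orbitRel.Quotient G X)]
    (r : MulAction.orbitRel.Quotient G X → X) (hr : ∀ q, Quotient.mk'' (r q) = q) (g : G) :
    (Nat.card {x : X // g • x = x} : ℂ) =
      ∑ q, Cfsg.indFun (MulAction.stabilizer G (r q)) (fun _ => 1) g := by
  classical
  simp only [indFun_stabilizer_one]
  rw [← Nat.cast_sum, ← Nat.card_sigma]
  congr 1
  refine Nat.card_congr
    { toFun := fun x => ⟨Quotient.mk'' x.1, x.1, ?_, x.2⟩
      invFun := fun z => ⟨z.2.1, z.2.2.2⟩
      left_inv := fun _ => rfl
      right_inv := ?_ }
  · have h : (Quotient.mk'' x.1 : MulAction.orbitRel.Quotient G X) = Quotient.mk'' (r (Quotient.mk'' x.1)) :=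
      (hr _).symm
    exact Quotient.eq''.1 h
  · rintro ⟨q, y, hy, hgy⟩
    have hq : (Quotient.mk'' y : MulAction.orbitRel.Quotient G X) = q := (Quotient.eq''.2 hy).trans (hr q)
    subst hq
    rfl

end CfsgLib.Char.Exceptional
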