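import Mathlib
import Cfsg.Agent.Lib.Char.Monomial
import Cfsg.Agent.Lib.Char.CliffordCorr
import Cfsg.Agent.Lib.Components.Char
import Cfsg.Agent.Lib.Components.FStar
import Cfsg.Agent.Lib.SolvStruct.NilFactor

/-! An irreducible character restricting irreducibly to a normal solvable subgroup with abelian
Sylow subgroups is monomial. -/

set_option autoImplicit false

open scoped ComplexConjugate

namespace CfsgLib.Char.Exceptional

open CfsgLib.Char CfsgLib.Clifford Module

/-- All `p`-subgroups of `N` are commutative. -/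
def AbSylow {G : Type*} [Group G] (N : Subgroup G) : Prop :=
  ∀ p : ℕ, p.Prime → ∀ Q : Subgroup G, Q ≤ N → IsPGroup p Q → ∀ a ∈ Q, ∀ b ∈ Q, a * b = b * a

theorem AbSylow.of_sylow {G : Type*} [Group G] [Finite G] {N : Subgroup G}
    (h : ∀ (p : ℕ) [Fact p.Prime] (P : Sylow p N), ∀ a ∈ P, ∀ b ∈ P, a * b = b * a) : AbSylow N := by
  intro p hp Q hQ hQp a ha b hb
  haveI := Fact.mk hp
  obtain ⟨P, hP⟩ := (hQp.comap_subtype (K := N)).exists_le_sylow
  exact congrArg Subtype.val (h p P ⟨a, hQ ha⟩ (hP ha) ⟨b, hQ hb⟩ (hP hb))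

/-- Images of such subgroups have commutative `p`-subgroups. -/
theorem AbSylow.image {G H : Type*} [Group G] [Finite G] [Group H] {N : Subgroup G} (hN : AbSylow N)
    (f : N →* H) (hf : Function.Surjective f) {p : ℕ} (hp : p.Prime) {Q : Subgroup H}
    (hQ : IsPGroup p Q) : ∀ a ∈ Q, ∀ b ∈ Q, a * b = b * a := by
  haveI := Fact.mk hp
  haveI := Finite.of_surjective f hf
  intro a ha b hb
  obtain ⟨P', hP'⟩ := hQ.exists_le_sylow
  obtain ⟨P, rfl⟩ := Sylow.mapSurjective_surjective hf p P'
  obtain ⟨x, hx, rfl⟩ := Subgroup.mem_map.1 (hP' ha)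
  obtain ⟨y, hy, rfl⟩ := Subgroup.mem_map.1 (hP' hb)
  have h := hN p hp ((P : Subgroup N).map N.subtype) (Subgroup.map_subtype_le _)
    (P.isPGroup'.map N.subtype) _ ⟨x, hx, rfl⟩ _ ⟨y, hy, rfl⟩
  rw [← map_mul, ← map_mul]
  exact congrArg f (Subtype.ext h)

/-- A finite nilpotent group with commutative `p`-subgroups is commutative. -/
theorem commute_of_nilpotent_of_pgroup {F : Type*} [Group F] [Finite F] [Group.IsNilpotent F]
    (h : ∀ p : ℕ, p.Prime → ∀ Q : Subgroup F, IsPGroup p Q → ∀ a ∈ Q, ∀ b ∈ Q, a * b = b * a)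
    (a b : F) : a * b = b * a := by
  classical
  let e := Sylow.directProductOfNormal (G := F)
    (fun P => P.normal_of_normalizerCondition Group.normalizerCondition_of_isNilpotent)
  obtain ⟨u, rfl⟩ := e.surjective a
  obtain ⟨v, rfl⟩ := e.surjective b
  rw [← map_mul, ← map_mul]
  congr 1
  funext p P
  exact Subtype.ext (h p (Nat.prime_of_mem_primeFactors p.2) P P.isPGroup' _ (u p P).2 _ (v p P).2)

theorem classInner_trans {G : Type*} [Group G] [Fintype G] {T D : Subgroup G} [Fintype T] [Fintype D]
    (hle : D ≤ T) {η : T → ℂ} (hη : Cfsg.IsIrrCharacter T η) {χ : G → ℂ} (hχ : Cfsg.IsCharacter G χ)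
    (h1 : Cfsg.classInner (fun t : T => χ t) η ≠ 0) {α : D → ℂ} (hα : Cfsg.IsIrrCharacter D α)
    (h2 : Cfsg.classInner (resTo hle η) α ≠ 0) :
    Cfsg.classInner (fun d : D => χ d) α ≠ 0 := by
  classical
  have := Fintype.ofFinite (Cfsg.IrrCharacter T)
  rw [classInner_resTo_restrict hle hχ]
  choose a ha using fun φ : Cfsg.IrrCharacter T =>
    IsChar.classInner_eq_natCast (IsChar.restrict T hχ) (IsIrr.isCharacter φ.2)
  choose b hb using fun φ : Cfsg.IrrCharacter T =>
    IsChar.classInner_eq_natCast (isCharacter_resTo hle (IsIrr.isCharacter φ.2)) (IsIrr.isCharacter hα)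
  simp only [ha, hb, ← Nat.cast_mul, ← Nat.cast_sum, ne_eq, Nat.cast_eq_zero,
    Finset.sum_eq_zero_iff, not_forall]
  refine ⟨⟨η, hη⟩, Finset.mem_univ _, Nat.mul_ne_zero (fun h => h1 ?_) fun h => h2 ?_⟩
  · have := ha ⟨η, hη⟩
    rwa [h, Nat.cast_zero] at this
  · have := hb ⟨η, hη⟩
    rwa [h, Nat.cast_zero] at this

/-- An irreducible character restricting irreducibly to a normal solvable subgroup with abelian
Sylow subgroups is monomial. -/
theorem monomial_of_restrict_irr : ∀ {G : Type*} [Group G] [Fintype G] (N : Subgroup G),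
    N.Normal → Group.IsSolvable N → AbSylow N → ∀ (ψ : G → ℂ), Cfsg.IsIrrCharacter G ψ →
    Cfsg.IsIrrCharacter N (fun n : N => ψ n) →
      ∃ (U : Subgroup G) (lam : U →* ℂˣ), ψ = Cfsg.indFun U fun u => (lam u : ℂ) := by
  intro G _ _ N hN hsolv hab ψ hψ hψN
  classical
  induction hn : Nat.card G using Nat.strongRecOn generalizing G with
  | ind m ih =>
    obtain ⟨d, ρ, hρ, rfl⟩ := hψ
    haveI := hρ
    haveI := hN
    haveI := Fintype.ofFinite N
    set u := ρ.toHomUnits with hu
    set Nb := (u.comp N.subtype).range with hNb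
    let f : N →* Nb := (u.comp N.subtype).rangeRestrict
    have hf : Function.Surjective f := MonoidHom.rangeRestrict_surjective _
    haveI : Finite Nb := Finite.of_surjective f hf
    haveI : Group.IsSolvable Nb := Group.isSolvable_of_surjective hf
    set F := Cfsg.fittingSubgroup Nb with hF
    haveI hFn : Group.IsNilpotent F := CfsgLib.Components.fitting_isNilpotent
    have hFab : ∀ a b : F, a * b = b * a := fun a b =>
      commute_of_nilpotent_of_pgroup (fun p hp Q hQ x hx y hy => Subtype.ext
        (hab.image f hf hp (hQ.map F.subtype) _ ⟨x, hx, rfl⟩ _ ⟨y, hy, rfl⟩)) a b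
    set A := (F.comap f).map N.subtype with hA
    have hval : ∀ n : N, ((f n : Nb) : (Module.End ℂ (Fin d → ℂ))ˣ).val = ρ (n : G) := fun n => rfl
    haveI hAn : A.Normal := by
      constructor
      rintro _ ⟨n, hnF, rfl⟩ g
      let n' : N := ⟨g * n * g⁻¹, hN.conj_mem n n.2 g⟩
      refine ⟨n', ?_, rfl⟩
      have hmem : ∀ x : (Module.End ℂ (Fin d → ℂ))ˣ, ∀ k : G, x ∈ Nb → u k * x * (u k)⁻¹ ∈ Nb := by
        rintro x k ⟨y, rfl⟩
        exact ⟨⟨k * y * k⁻¹, hN.conj_mem y y.2 k⟩, by simp [map_mul, map_inv]⟩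
      let e : Nb ≃* Nb :=
        { toFun := fun x => ⟨u g * x * (u g)⁻¹, hmem x g x.2⟩
          invFun := fun x => ⟨u g⁻¹ * x * (u g⁻¹)⁻¹, hmem x g⁻¹ x.2⟩
          left_inv := fun x => Subtype.ext (by simp [mul_assoc])
          right_inv := fun x => Subtype.ext (by simp [mul_assoc])
          map_mul' := fun x y => Subtype.ext (by simp [mul_assoc]) }
      have he : e (f n) = f n' := Subtype.ext (show u g * u (n : G) * (u g)⁻¹ = u (g * (n : G) * g⁻¹) by
        rw [map_mul, map_mul, map_inv])
      show f n' ∈ F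
      rw [← he, hF, ← CfsgLib.Components.fitting_map_equiv e]
      exact Subgroup.mem_map_of_mem _ hnF
    have hcommA : ∀ a b : A, Commute (ρ (a : G)) (ρ (b : G)) := by
      rintro ⟨_, x, hx, rfl⟩ ⟨_, y, hy, rfl⟩
      have h := congrArg (fun z : F => ((z : Nb) : (Module.End ℂ (Fin d → ℂ))ˣ).val)
        (hFab ⟨f x, hx⟩ ⟨f y, hy⟩)
      exact h
    by_cases hs : ∀ a : A, ∃ c : ℂ, ρ (a : G) = c • LinearMap.id
    · -- the Fitting subgroup is central, so the image is commutative and `ψ` is linear
      have hcen : ∀ z ∈ F, ∀ w : Nb, w * z = z * w := by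
        intro z hz w
        obtain ⟨n, rfl⟩ := hf z
        obtain ⟨k, rfl⟩ := hf w
        obtain ⟨c, hc⟩ := hs ⟨(n : G), n, hz, rfl⟩
        refine Subtype.ext (Units.ext ?_)
        show ρ (k : G) * ρ (n : G) = ρ (n : G) * ρ (k : G)
        rw [show ρ (n : G) = c • LinearMap.id from hc]
        exact LinearMap.ext fun v => map_smul (ρ (k : G)) c v
      have htop : ∀ w : Nb, w ∈ F := fun w =>
        CfsgLib.Components.centralizer_fitting_le_of_isSolvable
          (Subgroup.mem_centralizer_iff.2 fun z hz => (hcen z hz w).symm)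
      let σ : Representation ℂ N (Fin d → ℂ) := ρ.comp N.subtype
      haveI : σ.IsIrreducible := (isIrreducible_iff_classInner_eq_one σ).2 (classInner_irr_self ⟨_, hψN⟩)
      have h1 := finrank_eq_one_of_commute σ fun a b => by
        have h := congrArg (fun z : F => ((z : Nb) : (Module.End ℂ (Fin d → ℂ))ˣ).val)
          (hFab ⟨f a, htop _⟩ ⟨f b, htop _⟩)
        exact h
      obtain ⟨l, hl⟩ := exists_linear_of_degree_one (isCharacter_rep ρ)
        (by rw [Representation.char_one, h1, Nat.cast_one])
      exact ⟨⊤, _, hl.trans (monomial_linear l)⟩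
    · obtain ⟨T, η, hT, -, hη, he⟩ := exists_induced_of_not_scalar ρ A hcommA hs
      haveI := Fintype.ofFinite T
      have hlt : Nat.card T < m := by
        rw [← hn, lt_iff_le_and_ne]
        exact ⟨T.card_le_card_group, fun h => hT (T.eq_top_of_card_eq h)⟩
      set D := N ⊓ T with hD
      haveI := Fintype.ofFinite D
      have hηχ : Cfsg.classInner (fun t : T => ρ.character t) η ≠ 0 := by
        rw [← classInner_conj_symm, ← frobenius_reciprocity T η (isClassFunction_rep ρ), ← he,
          classInner_irr_self ⟨_, isIrrCharacter_rep ρ⟩, map_one]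
        exact one_ne_zero
      have hDT : D ≤ T := inf_le_right
      have hDN : D ≤ N := inf_le_left
      have hresc : Cfsg.IsCharacter D (resTo hDT η) := isCharacter_resTo hDT (IsIrr.isCharacter hη)
      have hresne : resTo hDT η ≠ 0 := fun h => IsIrr.apply_one_ne_zero hη (congrFun h 1)
      obtain ⟨α, hα⟩ := exists_constituent (IsChar.isClassFunction hresc) hresne
      have hψα := classInner_trans hDT hη (isCharacter_rep ρ) hηχ α.2 hα
      -- view `α` on a subgroup of `N`
      let D' : Subgroup N := D.subgroupOf N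
      haveI := Fintype.ofFinite D'
      let j : D' ≃* D := Subgroup.subgroupOfEquivOfLe hDN
      have hαc : Cfsg.IsCharacter D' (fun x => (α : D → ℂ) (j x)) :=
        IsChar.comp j.toMonoidHom (IsIrr.isCharacter α.2)
      set Φ := Cfsg.indFun D' fun x => (α : D → ℂ) (j x) with hΦ
      have hΦc : Cfsg.IsCharacter N Φ := isCharacter_indFun D' hαc
      have hΦψ : Cfsg.classInner Φ (fun n : N => ρ.character n) ≠ 0 := by
        rw [hΦ, frobenius_reciprocity D' _ (IsIrr.isClassFunction hψN),
          show (fun h : D' => ρ.character ((h : N) : G)) =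
            fun x => (fun d : D => ρ.character d) (j x) from rfl]
        rw [classInner_comp_equiv j (α : D → ℂ) (fun d : D => ρ.character d), ← classInner_conj_symm]
        exact fun h => hψα ((map_eq_zero (starRingEnd ℂ)).1 h)
      obtain ⟨dψ, -, hdψ⟩ := IsIrr.exists_degree (χ := ρ.character) (isIrrCharacter_rep ρ)
      obtain ⟨dα, hdα0, hdα⟩ := IsIrr.exists_degree α.2
      obtain ⟨dη, -, hdη⟩ := IsIrr.exists_degree hη
      have hψdeg : dψ = T.index * dη := by
        have h := congrFun he 1
        rw [indFun_apply_one, hdη, hdψ] at h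
        exact_mod_cast h
      have hΦdeg : Φ 1 = ((D'.index * dα : ℕ) : ℂ) := by
        rw [hΦ, indFun_apply_one, map_one, hdα, Nat.cast_mul]
      obtain ⟨c, hc⟩ := IsChar.classInner_eq_natCast hΦc (IsIrr.isCharacter hψN)
      -- `ψ|N` is a constituent of `Φ`
      have hlow : dψ ≤ D'.index * dα := by
        have := Fintype.ofFinite (Cfsg.IrrCharacter N)
        obtain ⟨mm, hmm⟩ := IsChar.exists_sum hΦc
        choose dd hdd using fun φ : Cfsg.IrrCharacter N => IsIrr.exists_degree φ.2
        have hsum : D'.index * dα = ∑ φ, mm φ * dd φ := by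
          apply Nat.cast_injective (R := ℂ)
          rw [← hΦdeg, hmm]
          simp [fun φ => (hdd φ).2]
        have h1 : mm ⟨_, hψN⟩ ≠ 0 := by
          intro h0
          apply hΦψ
          have hi := classInner_sum_irr (fun φ => (mm φ : ℂ)) (⟨_, hψN⟩ : Cfsg.IrrCharacter N)
          rw [hmm]
          exact hi.trans (by simp [h0])
        have h2 : dd ⟨_, hψN⟩ = dψ := Nat.cast_injective (R := ℂ)
          ((hdd ⟨_, hψN⟩).2.symm.trans hdψ)
        rw [hsum, ← h2]
        exact (Nat.le_mul_of_pos_left _ (Nat.pos_of_ne_zero h1)).trans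
          (Finset.single_le_sum (f := fun φ => mm φ * dd φ) (fun _ _ => Nat.zero_le _) (Finset.mem_univ _))
      have hαle : dα ≤ dη := by
        have := Fintype.ofFinite (Cfsg.IrrCharacter D)
        obtain ⟨mm, hmm⟩ := IsChar.exists_sum hresc
        choose dd hdd using fun φ : Cfsg.IrrCharacter D => IsIrr.exists_degree φ.2
        have hsum : dη = ∑ φ, mm φ * dd φ := by
          apply Nat.cast_injective (R := ℂ)
          rw [← hdη]
          have := congrFun hmm 1
          simp [fun φ => (hdd φ).2, resTo] at this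
          exact (congrArg η (Subtype.ext rfl)).trans (this.trans (by simp))
        have h1 : mm α ≠ 0 := fun h0 => hα (by rw [hmm, classInner_sum_irr, h0, Nat.cast_zero])
        have h2 : dd α = dα := Nat.cast_injective (R := ℂ) ((hdd α).2.symm.trans hdα)
        rw [hsum, ← h2]
        exact (Nat.le_mul_of_pos_left _ (Nat.pos_of_ne_zero h1)).trans
          (Finset.single_le_sum (f := fun φ => mm φ * dd φ) (fun _ _ => Nat.zero_le _) (Finset.mem_univ _))
      have hidx : D'.index ≤ T.index := by
        show D.relIndex N ≤ T.index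
        rw [hD, Subgroup.inf_relIndex_left, ← Subgroup.relIndex_top_right T]
        exact Subgroup.relIndex_le_of_le_right le_top
          (by rw [Subgroup.relIndex_top_right]; exact Subgroup.index_ne_zero_of_finite)
      have hαη : dη = dα := by
        refine le_antisymm ?_ hαle
        have h1 : T.index * dη ≤ T.index * dα :=
          hψdeg ▸ hlow.trans (Nat.mul_le_mul_right _ hidx)
        exact Nat.le_of_mul_le_mul_left h1 (Nat.pos_of_ne_zero Subgroup.index_ne_zero_of_finite)
      have hηD : resTo hDT η = (α : D → ℂ) :=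
        eq_irr_of_degree_le hresc α hα (c := dη) (c' := dα) hdη hdα hαη.le
      rw [he]
      refine monomial_of_indFun T (ih _ hlt (G := T) (N.subgroupOf T) (hN.subgroupOf T) ?_ ?_ η hη ?_ rfl)
      · exact Group.isSolvable_of_isSolvable_injective
          (f := (MonoidHom.mk' (fun x : N.subgroupOf T => (⟨((x : T) : G), x.2⟩ : N)) fun _ _ => rfl))
          fun x y h => Subtype.ext (Subtype.ext (congrArg (fun z : N => (z : G)) h))
      · intro p hp Q hQ hQp a ha b hb
        refine Subtype.ext (hab p hp (Q.map T.subtype) ?_ (hQp.map T.subtype) _ ⟨a, ha, rfl⟩ _ ⟨b, hb, rfl⟩)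
        rintro _ ⟨q, hq, rfl⟩
        exact hQ hq
      · let k : N.subgroupOf T ≃* D :=
          { toFun := fun x => ⟨((x : T) : G), x.2, (x : T).2⟩
            invFun := fun x => ⟨⟨(x : G), x.2.2⟩, x.2.1⟩
            left_inv := fun _ => rfl
            right_inv := fun _ => rfl
            map_mul' := fun _ _ => rfl }
        have h := IsIrr.comp_surjective k.toMonoidHom k.surjective (hηD ▸ α.2 : Cfsg.IsIrrCharacter D (resTo hDT η))
        exact h

end CfsgLib.Char.Exceptional
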