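import Mathlib
import Cfsg.Agent.Lib.Char.Exceptional.SectionIndicator
import Cfsg.Agent.Lib.Char.Exceptional.PElementValue
import Cfsg.Agent.Lib.Blocks.LocalRing

/-! Congruences of character values modulo a maximal ideal over `p`. -/

set_option autoImplicit false

namespace CfsgLib.Char.Exceptional

open CfsgLib.Char

variable {G : Type*} [Group G] [Finite G]

/-- A character takes congruent values at `a * y` and `y` for a `p`-element `a` commuting with `y`. -/
theorem congr_mod_pPart {χ : G → ℂ} (hχ : Cfsg.IsCharacter G χ) {p : ℕ} {M : Ideal Cfsg.AlgInt}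
    (hM : Cfsg.IsPModular p M) {a y : G} (hay : Commute a y) {j : ℕ} (ha : a ^ p ^ j = 1) :
    (⟨χ (a * y), IsChar.isIntegral hχ _⟩ - ⟨χ y, IsChar.isIntegral hχ _⟩ : Cfsg.AlgInt) ∈ M := by
  obtain ⟨hp, hmax, hpM⟩ := hM
  obtain ⟨d, ρ, rfl⟩ := hχ
  have hpow : ∀ g : G, ∃ r : ℂ, IsIntegral ℤ r ∧
      ρ.character g ^ p ^ j = ρ.character (g ^ p ^ j) + (p : ℂ) * r := by
    intro g
    obtain ⟨ε, hε, -, hk, -⟩ := exists_eigenvalues ρ g
    obtain ⟨r, hr, he⟩ := sum_pow_prime_pow Finset.univ ε (fun i _ =>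
      IsIntegral.of_pow (orderOf_pos g) (by rw [hε i]; exact isIntegral_one)) hp j
    refine ⟨r, hr, ?_⟩
    have h1 := hk 1
    simp only [pow_one] at h1
    rw [h1, he, ← hk (p ^ j)]
  obtain ⟨r, hr, h1⟩ := hpow (a * y)
  obtain ⟨s, hs, h2⟩ := hpow y
  rw [hay.mul_pow, ha, one_mul] at h1
  suffices key : ∀ u v : Cfsg.AlgInt, (u : ℂ) = ρ.character (a * y) → (v : ℂ) = ρ.character y →
      u - v ∈ M from key _ _ rfl rfl
  intro u v hu hv
  obtain ⟨q, hq⟩ := exists_add_pow_prime_pow_eq hp (u - v) v j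
  rw [sub_add_cancel] at hq
  have hdiff : u ^ p ^ j - v ^ p ^ j = (p : Cfsg.AlgInt) * (⟨r, hr⟩ - ⟨s, hs⟩) := by
    apply Subtype.ext
    push_cast
    rw [hu, hv, h1, h2]
    ring
  refine hmax.isPrime.mem_of_pow_mem (p ^ j) ?_
  have he : (u - v) ^ p ^ j = (p : Cfsg.AlgInt) * ((⟨r, hr⟩ - ⟨s, hs⟩) - (u - v) * v * q) := by
    linear_combination hdiff - hq
  rw [he]
  exact M.mul_mem_right _ hpM

/-- Elements whose values agree modulo `M` have conjugate `p`-regular parts. -/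
theorem isConj_of_congr {p : ℕ} {M : Ideal Cfsg.AlgInt} (hM : Cfsg.IsPModular p M) {a y b z : G}
    (hay : Commute a y) (ha : ∃ i, orderOf a = p ^ i) (hy : ¬ p ∣ orderOf y)
    (hbz : Commute b z) (hb : ∃ i, orderOf b = p ^ i) (hz : ¬ p ∣ orderOf z)
    (h : ∀ χ : Cfsg.IrrCharacter G,
      Cfsg.MemLocalIdeal M ((χ : G → ℂ) (a * y) - (χ : G → ℂ) (b * z))) : IsConj y z := by
  classical
  obtain ⟨hp, hmax, hpM⟩ := hM
  have := hmax.isPrime
  have := Fintype.ofFinite G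
  have := Fintype.ofFinite (Cfsg.IrrCharacter G)
  have hN : Nat.card G ≠ 0 := Nat.card_pos.ne'
  set m := p ^ (Nat.card G).factorization p
  set n := Nat.card G / m
  have hmn : Nat.card G ∣ m * n := (Nat.ordProj_mul_ordCompl_eq_self _ p).symm.dvd
  have hpn : ¬ p ∣ n := Nat.not_dvd_ordCompl hp hN
  have hcop : m.Coprime n := ((hp.coprime_iff_not_dvd.2 hpn).pow_left _)
  obtain ⟨k, hk1, hk2⟩ := exists_part_exponent hcop
  have hcn : ∀ c : G, (∃ i, orderOf c = p ^ i) → (orderOf c).Coprime n := by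
    rintro c ⟨i, hi⟩
    rw [hi]
    exact (hp.coprime_iff_not_dvd.2 hpn).pow_left _
  have hcm : ∀ c : G, ¬ p ∣ orderOf c → (orderOf c).Coprime m :=
    fun c hc => ((hp.coprime_iff_not_dvd.2 hc).pow_left _).symm
  have hpy : (a * y) ^ k = y := pow_part_of_decomp hmn hk1 hk2 hay (hcn a ha) (hcm y hy)
  have hpz : (b * z) ^ k = z := pow_part_of_decomp hmn hk1 hk2 hbz (hcn b hb) (hcm z hz)
  let F : G → ℂ := fun x => if IsConj x y then 1 else 0
  have hFc : Cfsg.IsClassFunction G F := by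
    intro x g
    have : IsConj (g * x * g⁻¹) y ↔ IsConj x y := by
      have hc : IsConj x (g * x * g⁻¹) := isConj_iff.2 ⟨g, rfl⟩
      exact ⟨fun h1 => hc.trans h1, fun h1 => hc.symm.trans h1⟩
    simp only [F, this]
  have hFi : ∀ x, IsIntegral ℤ (F x) := fun x => by
    simp only [F]; split <;> simp [isIntegral_zero, isIntegral_one]
  let θ : G → ℂ := fun x => (n : ℂ) * F (x ^ k)
  have hθ : Cfsg.IsClassFunction G θ := fun x g => by simp only [θ, conj_pow, hFc _ g]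
  by_contra hne
  have hsum : ((n : ℕ) : ℂ) = ∑ χ : Cfsg.IrrCharacter G, Cfsg.classInner θ (χ : G → ℂ) *
      ((χ : G → ℂ) (a * y) - (χ : G → ℂ) (b * z)) := by
    rw [Finset.sum_congr rfl (fun χ _ => mul_sub _ _ _), Finset.sum_sub_distrib,
      ← classFunction_apply_eq_sum hθ, ← classFunction_apply_eq_sum hθ]
    simp only [θ, F, hpy, hpz, if_pos (IsConj.refl y), if_neg (fun h => hne (IsConj.symm h)),
      mul_one, mul_zero, sub_zero]
  have hterm : ∀ χ : Cfsg.IrrCharacter G, ∃ t ∈ M, (t : ℂ) = Cfsg.classInner θ (χ : G → ℂ) *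
      ((χ : G → ℂ) (a * y) - (χ : G → ℂ) (b * z)) := by
    intro χ
    have hd : IsIntegral ℤ ((χ : G → ℂ) (a * y) - (χ : G → ℂ) (b * z)) :=
      (IsChar.isIntegral (IsIrr.isCharacter χ.2) _).sub (IsChar.isIntegral (IsIrr.isCharacter χ.2) _)
    have hdM : (⟨_, hd⟩ : Cfsg.AlgInt) ∈ M := CfsgLib.Blocks.coe_memLocalIdeal_iff.1 (h χ)
    exact ⟨⟨_, indicator_classInner_integral hmn hcop hk1 hk2 F hFc hFi χ⟩ * ⟨_, hd⟩,
      M.mul_mem_left _ hdM, rfl⟩
  choose t ht hte using hterm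
  have hnM : (n : Cfsg.AlgInt) ∈ M := by
    have he : (n : Cfsg.AlgInt) = ∑ χ, t χ := by
      apply Subtype.ext
      push_cast
      rw [hsum]
      exact Finset.sum_congr rfl fun χ _ => (hte χ).symm
    exact he ▸ M.sum_mem fun χ _ => ht χ
  obtain ⟨u, v, huv⟩ := (Nat.isCoprime_iff_coprime.2 (hp.coprime_iff_not_dvd.2 hpn))
  refine hmax.ne_top ((Ideal.eq_top_iff_one M).2 ?_)
  have h1 := congrArg (fun i : ℤ => (i : Cfsg.AlgInt)) huv
  push_cast at h1
  rw [← h1]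
  exact M.add_mem (M.mul_mem_left _ hpM) (M.mul_mem_left _ hnM)

end CfsgLib.Char.Exceptional
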