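import Cfsg.Agent.Lib.Char.Exceptional.PermChar
import Cfsg.Agent.Lib.Char.Exceptional.Dade

/-! Mackey's product for permutation characters and Solomon's local induction theorem. -/

set_option autoImplicit false

open Finset

namespace CfsgLib.Char.Exceptional

variable {G : Type*} [Group G]

/-- `H` is `p`-quasi-elementary: cyclic normal subgroup of order prime to `p` and `p`-power index. -/
def IsQuasiElem (p : ℕ) (H : Subgroup G) : Prop :=
  ∃ C : Subgroup G, C ≤ H ∧ H ≤ Subgroup.normalizer (C : Set G) ∧ IsCyclic C ∧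
    Nat.Coprime (Nat.card C) p ∧ ∃ k : ℕ, C.relIndex H = p ^ k

theorem IsQuasiElem.mono {p : ℕ} (hp : p.Prime) {H U : Subgroup G} (h : IsQuasiElem p H) (hUH : U ≤ H) :
    IsQuasiElem p U := by
  obtain ⟨C, hCH, hn, hcyc, hcop, k, hk⟩ := h
  haveI : (C.subgroupOf H).Normal := (Subgroup.normal_subgroupOf_iff_le_normalizer hCH).2 hn
  refine ⟨C ⊓ U, inf_le_right, ?_, ?_, ?_, ?_⟩
  · intro u hu
    have h1 := Subgroup.mem_set_normalizer_iff.1 (hn (hUH hu))
    refine Subgroup.mem_set_normalizer_iff.2 fun x => ?_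
    rw [SetLike.mem_coe, SetLike.mem_coe, Subgroup.mem_inf, Subgroup.mem_inf]
    refine and_congr (h1 x) ⟨fun hx => U.mul_mem (U.mul_mem hu hx) (U.inv_mem hu), fun hx => ?_⟩
    have := U.mul_mem (U.mul_mem (U.inv_mem hu) hx) hu
    simpa [mul_assoc] using this
  · exact isCyclic_of_injective (Subgroup.inclusion (inf_le_left : C ⊓ U ≤ C))
      (Subgroup.inclusion_injective _)
  · exact Nat.Coprime.coprime_dvd_left (Subgroup.card_dvd_of_le inf_le_left) hcop
  · rw [Subgroup.inf_relIndex_right]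
    have hd : C.relIndex U ∣ C.relIndex H := by
      rw [← Subgroup.relIndex_subgroupOf hUH]
      exact Subgroup.relIndex_dvd_index_of_normal (C.subgroupOf H) _
    rw [hk] at hd
    obtain ⟨j, -, hj⟩ := (Nat.dvd_prime_pow hp).1 hd
    exact ⟨j, hj⟩

variable [Fintype G]

theorem indFun_mul_indFun (H K : Subgroup G) : ∃ a : Subgroup G → ℕ, (∀ U, a U ≠ 0 → U ≤ H) ∧
    Cfsg.indFun H (fun _ => 1) * Cfsg.indFun K (fun _ => 1) =
      ∑ U : Subgroup G, (a U : ℂ) • Cfsg.indFun U (fun _ => 1) := by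
  classical
  let X := (G ⧸ H) × (G ⧸ K)
  haveI : Fintype (MulAction.orbitRel.Quotient G X) := Fintype.ofFinite _
  let r : MulAction.orbitRel.Quotient G X → X := fun q => (q.out.1.out)⁻¹ • q.out
  have hr : ∀ q, Quotient.mk'' (r q) = q := fun q => by
    refine Eq.trans ?_ (Quotient.out_eq' q)
    exact Quotient.eq''.2 ⟨_, rfl⟩
  have hr1 : ∀ q, (r q).1 = ((1 : G) : G ⧸ H) := fun q => by
    show (q.out.1.out)⁻¹ • q.out.1 = _
    conv_lhs => arg 2; rw [← QuotientGroup.out_eq' q.out.1]
    rw [MulAction.Quotient.smul_mk, smul_eq_mul, inv_mul_cancel]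
  refine ⟨fun U => (univ.filter fun q => MulAction.stabilizer G (r q) = U).card, fun U hU => ?_, ?_⟩
  · obtain ⟨q, hq⟩ := Finset.card_ne_zero.1 hU
    rw [Finset.mem_filter] at hq
    rw [← hq.2]
    intro g hg
    have h1 : g • (r q).1 = (r q).1 := congrArg Prod.fst hg
    rw [hr1, ← MulAction.mem_stabilizer_iff, MulAction.stabilizer_quotient] at h1
    exact h1
  · funext g
    rw [Pi.mul_apply, indFun_one_eq_fixed, indFun_one_eq_fixed, ← Nat.cast_mul, ← Nat.card_prod]
    have : Nat.card ({q : G ⧸ H // g • q = q} × {q : G ⧸ K // g • q = q}) =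
        Nat.card {x : X // g • x = x} :=
      Nat.card_congr
        { toFun := fun z => ⟨(z.1.1, z.2.1), Prod.ext z.1.2 z.2.2⟩
          invFun := fun x => (⟨x.1.1, congrArg Prod.fst x.2⟩, ⟨x.1.2, congrArg Prod.snd x.2⟩)
          left_inv := fun _ => rfl
          right_inv := fun _ => rfl }
    rw [this, fixed_eq_sum_orbits r hr g, Finset.sum_apply,
      ← Finset.sum_fiberwise univ (fun q => MulAction.stabilizer G (r q))]
    refine Finset.sum_congr rfl fun U _ => ?_
    rw [Finset.sum_congr rfl (g := fun _ => Cfsg.indFun U (fun _ => 1) g), Finset.sum_const,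
      nsmul_eq_mul, Pi.smul_apply, smul_eq_mul]
    rintro q hq
    have e := (Finset.mem_filter.1 hq).2
    subst e
    rfl

theorem exists_quasiElem_not_dvd (x : G) (p : ℕ) (hp : p.Prime) :
    ∃ H : Subgroup G, IsQuasiElem p H ∧
      ∃ n : ℕ, Cfsg.indFun H (fun _ => 1) x = (n : ℂ) ∧ ¬ p ∣ n := by
  classical
  haveI := Fact.mk hp
  set o := orderOf x with ho
  have ho0 : o ≠ 0 := (orderOf_pos x).ne'
  set k := o.factorization p
  set m := o / p ^ k
  have hom : p ^ k * m = o := Nat.ordProj_mul_ordCompl_eq_self o p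
  have hmp : Nat.Coprime m p := (Nat.coprime_ordCompl hp ho0).symm
  have hm0 : m ≠ 0 := fun h => ho0 (by rw [← hom, h, mul_zero])
  obtain ⟨i, hi1, hi2⟩ := Nat.chineseRemainder (hmp.pow_right k) 1 0
  -- `v` is the `p'`-part and `u` the `p`-part
  set v := x ^ i with hv
  have hvm : v ^ m = 1 := by
    obtain ⟨c, hc⟩ : p ^ k ∣ i := Nat.modEq_zero_iff_dvd.1 hi2
    rw [hv, ← pow_mul, hc, mul_right_comm, hom, pow_mul, ho, pow_orderOf_eq_one, one_pow]
  set u := v⁻¹ * x with hu
  have hxuv : x = v * u := by rw [hu, mul_inv_cancel_left]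
  have hupk : u ^ p ^ k = 1 := by
    rw [hu, ((Commute.pow_self x i).inv_left).mul_pow, inv_pow, inv_mul_eq_one, ← pow_mul]
    refine (pow_eq_pow_iff_modEq).2 ?_
    rw [← ho, ← hom]
    conv_rhs => rw [← one_mul (p ^ k)]
    rw [mul_comm (p ^ k) m]
    exact hi1.mul_right' (p ^ k)
  have hvord : Nat.Coprime (orderOf v) p := hmp.coprime_dvd_left (orderOf_dvd_of_pow_eq_one hvm)
  set C := Subgroup.zpowers v with hC
  set N := Subgroup.normalizer (C : Set G) with hN
  have hCN : C ≤ N := Subgroup.le_normalizer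
  haveI : (C.subgroupOf N).Normal := (Subgroup.normal_subgroupOf_iff_le_normalizer hCN).2 le_rfl
  have hxN : x ∈ N := by
    refine Subgroup.mem_set_normalizer_iff.2 fun y => ?_
    have hcx : Commute x v := (Commute.pow_self x i).symm
    constructor
    · rintro ⟨z, rfl⟩
      exact ⟨z, by simp [(hcx.zpow_right z).eq]⟩
    · rintro ⟨z, hz⟩
      refine ⟨z, ?_⟩
      simp only at hz ⊢
      calc v ^ z = x⁻¹ * (x * v ^ z) := by group
        _ = x⁻¹ * (v ^ z * x) := by rw [(hcx.zpow_right z).eq]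
        _ = x⁻¹ * (x * y * x⁻¹ * x) := by rw [hz]
        _ = y := by group
  let π := QuotientGroup.mk' (C.subgroupOf N)
  have huN : u ∈ N := N.mul_mem (N.inv_mem (hCN (Subgroup.mem_zpowers v))) hxN
  have hP0 : IsPGroup p (Subgroup.zpowers (π ⟨u, huN⟩)) := by
    intro g
    refine ⟨k, ?_⟩
    obtain ⟨z, hz⟩ := g.2
    have hup : π ⟨u, huN⟩ ^ p ^ k = 1 := by
      rw [← map_pow, show (⟨u, huN⟩ : N) ^ p ^ k = 1 from Subtype.ext hupk, map_one]
    apply Subtype.ext
    rw [Subgroup.coe_pow, Subgroup.coe_one, ← hz, ← zpow_natCast, ← zpow_mul, mul_comm, zpow_mul,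
      zpow_natCast, hup, one_zpow]
  obtain ⟨P, hP⟩ := hP0.exists_le_sylow
  set H := ((P : Subgroup (N ⧸ C.subgroupOf N)).comap π).map N.subtype with hH
  have hHN : H ≤ N := Subgroup.map_subtype_le _
  have hmemH : ∀ y : N, (y : G) ∈ H ↔ π y ∈ P := by
    intro y
    constructor
    · rintro ⟨z, hz, hzy⟩
      rw [N.subtype_injective hzy] at hz
      exact hz
    · exact fun hy => ⟨y, hy, rfl⟩
  have hCH : C ≤ H := fun c hc => by
    refine (hmemH ⟨c, hCN hc⟩).2 ?_
    have : π ⟨c, hCN hc⟩ = 1 := (QuotientGroup.eq_one_iff _).2 hc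
    rw [this]; exact Subgroup.one_mem _
  have hxH : x ∈ H := by
    refine (hmemH ⟨x, hxN⟩).2 ?_
    have : (⟨x, hxN⟩ : N) = ⟨v, hCN (Subgroup.mem_zpowers v)⟩ * ⟨u, huN⟩ := Subtype.ext hxuv
    rw [this, map_mul, show π ⟨v, hCN (Subgroup.mem_zpowers v)⟩ = 1 from
      (QuotientGroup.eq_one_iff _).2 (Subgroup.mem_zpowers v), one_mul]
    exact hP (Subgroup.mem_zpowers _)
  have hHpow : ∀ y ∈ H, ∃ j : ℕ, y ^ p ^ j ∈ C := by
    intro y hy
    obtain ⟨j, hj⟩ := P.isPGroup' ⟨_, (hmemH ⟨y, hHN hy⟩).1 hy⟩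
    refine ⟨j, ?_⟩
    have := congrArg Subtype.val hj
    rw [Subgroup.coe_pow, Subgroup.coe_one] at this
    change π ⟨y, hHN hy⟩ ^ p ^ j = 1 at this
    rw [← map_pow] at this
    exact (QuotientGroup.eq_one_iff (N := C.subgroupOf N) _).1 this
  have hidx : ∃ j : ℕ, C.relIndex H = p ^ j := by
    haveI : (C.subgroupOf H).Normal := (Subgroup.normal_subgroupOf_iff_le_normalizer hCH).2 hHN
    have : IsPGroup p (H ⧸ C.subgroupOf H) := by
      intro q
      induction q using QuotientGroup.induction_on with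
      | H y =>
        obtain ⟨j, hj⟩ := hHpow y y.2
        refine ⟨j, ?_⟩
        rw [← QuotientGroup.mk_pow, QuotientGroup.eq_one_iff]
        exact hj
    exact IsPGroup.iff_card.1 this
  refine ⟨H, ⟨C, hCH, hHN, inferInstance, by rwa [hC, Nat.card_zpowers], hidx⟩, _, indFun_one_eq_fixed H x, ?_⟩
  -- fixed cosets of `x` lie in `N`
  have hfixN : ∀ g : G, v • (g : G ⧸ H) = g → g ∈ N := by
    intro g hg
    rw [MulAction.Quotient.smul_mk, smul_eq_mul, QuotientGroup.eq, mul_inv_rev] at hg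
    have hg' : g⁻¹ * v * g ∈ H := by
      have := H.inv_mem hg
      simpa [mul_assoc] using this
    obtain ⟨j, hj⟩ := hHpow _ hg'
    have hord : orderOf (g⁻¹ * v * g) = orderOf v := by
      simpa using orderOf_conj_eq g⁻¹ v
    have hmemC : g⁻¹ * v * g ∈ C := by
      have hc : Nat.Coprime (p ^ j) (orderOf (g⁻¹ * v * g)) := by
        rw [hord]; exact (hvord.pow_right j).symm
      obtain ⟨n, hn⟩ := exists_pow_eq_self_of_coprime hc
      rw [← hn]
      exact C.pow_mem hj n
    have hmap : C.map (MulAut.conj g⁻¹).toMonoidHom = C := by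
      refine Subgroup.eq_of_le_of_card_ge ?_ ?_
      · rw [hC, MonoidHom.map_zpowers, Subgroup.zpowers_le]
        simpa using hmemC
      · rw [Nat.card_congr (Subgroup.equivMapOfInjective C (MulAut.conj g⁻¹).toMonoidHom (MulAut.conj g⁻¹).injective).toEquiv]
    have : g⁻¹ ∈ N := Subgroup.mem_normalizer_iff_map_conj_eq.2 hmap
    simpa using N.inv_mem this
  have hfix_v : ∀ g ∈ N, v • (g : G ⧸ H) = g := by
    intro g hg
    rw [MulAction.Quotient.smul_mk, smul_eq_mul, QuotientGroup.eq, mul_inv_rev]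
    refine hCH ?_
    have h1 := (Subgroup.mem_set_normalizer_iff.1 (N.inv_mem hg) v⁻¹).1
      (C.inv_mem (Subgroup.mem_zpowers v))
    simpa [mul_assoc] using h1
  let Q := {q : G ⧸ H // v • q = q}
  let e : N ⧸ H.subgroupOf N ≃ Q := Equiv.ofBijective
    (fun q => ⟨Subgroup.quotientSubgroupOfEmbeddingOfLE H (le_refl N) q |> fun _ => (q.out : G ⧸ H),
      hfix_v _ q.out.2⟩)
    ⟨fun q q' h => by
      have h' : ((q.out : G) : G ⧸ H) = ((q'.out : G) : G ⧸ H) := congrArg Subtype.val h
      rw [QuotientGroup.eq] at h'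
      rw [← QuotientGroup.out_eq' q, ← QuotientGroup.out_eq' q', QuotientGroup.eq]
      exact h',
    fun ⟨q, hq⟩ => by
      induction q using QuotientGroup.induction_on with
      | H g =>
        refine ⟨QuotientGroup.mk ⟨g, hfixN g hq⟩, Subtype.ext ?_⟩
        simp only
        rw [QuotientGroup.eq]
        obtain ⟨h, hh⟩ := QuotientGroup.mk_out_eq_mul (H.subgroupOf N) ⟨g, hfixN g hq⟩
        rw [hh]
        simp only [Subgroup.coe_mul, mul_inv_rev, mul_assoc, inv_mul_cancel, mul_one]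
        exact H.inv_mem (Subgroup.mem_subgroupOf.1 h.2)⟩
  have hQ : ¬ p ∣ Nat.card Q := by
    rw [← Nat.card_congr e, ← Subgroup.index_eq_card]
    have : H.subgroupOf N = (P : Subgroup (N ⧸ C.subgroupOf N)).comap π :=
      Subgroup.comap_map_eq_self_of_injective N.subtype_injective _
    rw [this, Subgroup.index_comap_of_surjective _ (QuotientGroup.mk'_surjective _)]
    exact P.not_dvd_index
  -- the `p`-part acts on the fixed points of the `p'`-part
  have huv : Commute u v := ((Commute.refl v).inv_left).mul_left (Commute.pow_self x i).symm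
  let act : MulAction (Subgroup.zpowers u) Q :=
    { smul := fun g q => ⟨(g : G) • q.1, by
        obtain ⟨z, hz⟩ := g.2
        rw [← mul_smul, ← hz, ← (huv.zpow_left z).eq, mul_smul, q.2]⟩
      one_smul := fun q => Subtype.ext (one_smul G q.1)
      mul_smul := fun g h q => Subtype.ext (mul_smul (g : G) (h : G) q.1) }
  have hPu : IsPGroup p (Subgroup.zpowers u) := by
    intro g
    refine ⟨k, ?_⟩
    obtain ⟨z, hz⟩ := g.2
    apply Subtype.ext
    rw [Subgroup.coe_pow, Subgroup.coe_one, ← hz, ← zpow_natCast, ← zpow_mul, mul_comm, zpow_mul,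
      zpow_natCast, hupk, one_zpow]
  have hmod := hPu.card_modEq_card_fixedPoints Q
  have hcard : Nat.card {q : G ⧸ H // x • q = q} = Nat.card (MulAction.fixedPoints (Subgroup.zpowers u) Q) := by
    have hxv : ∀ q : G ⧸ H, x • q = q → v • q = q := fun q hq => by
      rw [hv, ← MulAction.mem_stabilizer_iff]
      exact Subgroup.pow_mem _ (MulAction.mem_stabilizer_iff.2 hq) i
    refine Nat.card_congr
      { toFun := fun q => ⟨⟨q.1, hxv _ q.2⟩, fun g => Subtype.ext ?_⟩
        invFun := fun z => ⟨z.1.1, ?_⟩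
        left_inv := fun _ => rfl
        right_inv := fun _ => rfl }
    · obtain ⟨z, hz⟩ := g.2
      show (g : G) • q.1 = q.1
      rw [← hz, ← MulAction.mem_stabilizer_iff]
      refine Subgroup.zpow_mem _ ?_ z
      rw [MulAction.mem_stabilizer_iff, hu, mul_smul, q.2, inv_smul_eq_iff]
      exact (hxv _ q.2).symm
    · have := congrArg Subtype.val (z.2 ⟨u, Subgroup.mem_zpowers u⟩)
      change u • z.1.1 = z.1.1 at this
      rw [hxuv, mul_smul, this, z.1.2]
  rw [hcard]
  exact fun h => hQ ((hmod.dvd_iff dvd_rfl).2 h)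

theorem solomon_local (p : ℕ) (hp : p.Prime) : ∃ (m : ℤ) (a : Subgroup G → ℤ), ¬ (p : ℤ) ∣ m ∧
    (∀ H, a H ≠ 0 → IsQuasiElem p H) ∧
    (fun _ : G => (m : ℂ)) = ∑ H : Subgroup G, (a H : ℂ) • Cfsg.indFun H (fun _ => 1) := by
  classical
  let perm : Subgroup G → (G → ℂ) := fun H => Cfsg.indFun H (fun _ => 1)
  let M : Submodule ℤ (G → ℂ) := Submodule.span ℤ (perm '' {H | IsQuasiElem p H})
  have hmul : ∀ f ∈ M, ∀ g ∈ M, f * g ∈ M := by
    intro f hf g hg
    induction hf using Submodule.span_induction with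
    | mem f hf =>
      obtain ⟨H, hH, rfl⟩ := hf
      induction hg using Submodule.span_induction with
      | mem g hg =>
        obtain ⟨K, -, rfl⟩ := hg
        obtain ⟨a, ha, e⟩ := indFun_mul_indFun H K
        simp only [perm]
        rw [e]
        refine Submodule.sum_mem _ fun U _ => ?_
        by_cases hU : a U = 0
        · simp [hU]
        · rw [Nat.cast_smul_eq_nsmul ℂ]
          exact nsmul_mem (Submodule.subset_span (s := perm '' {H | IsQuasiElem p H}) ⟨U, hH.mono hp (ha U hU), rfl⟩ : perm U ∈ M) _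
      | zero => rw [mul_zero]; exact M.zero_mem
      | add a b _ _ ha hb => rw [mul_add]; exact M.add_mem ha hb
      | smul c a _ ha => rw [mul_smul_comm]; exact M.smul_mem c ha
    | zero => rw [zero_mul]; exact M.zero_mem
    | add a b _ _ ha hb => rw [add_mul]; exact M.add_mem ha hb
    | smul c a _ ha => rw [smul_mul_assoc]; exact M.smul_mem c ha
  choose Hx hHx nx hnx hnd using fun x : G => exists_quasiElem_not_dvd x p hp
  have hprod : ∀ s : Finset G,
      (∏ x ∈ s, (fun _ : G => (nx x : ℂ))) - ∏ x ∈ s, ((fun _ : G => (nx x : ℂ)) - perm (Hx x)) ∈ M := by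
    intro s
    induction s using Finset.induction_on with
    | empty => simp
    | insert a s ha ih =>
      rw [Finset.prod_insert ha, Finset.prod_insert ha]
      set c : G → ℂ := ∏ x ∈ s, (fun _ : G => (nx x : ℂ)) with hc
      set d := ∏ x ∈ s, ((fun _ : G => (nx x : ℂ)) - perm (Hx x))
      have hcn : c = fun _ => ((∏ x ∈ s, nx x : ℕ) : ℂ) := by funext g; simp [hc, Finset.prod_apply]
      have e : (fun _ : G => (nx a : ℂ)) * c - ((fun _ : G => (nx a : ℂ)) - perm (Hx a)) * d =
          nx a • (c - d) + (∏ x ∈ s, nx x) • perm (Hx a) - perm (Hx a) * (c - d) := by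
        funext g
        simp only [hcn, Pi.sub_apply, Pi.mul_apply, Pi.add_apply, Pi.natCast_apply, nsmul_eq_mul]
        ring
      rw [e]
      have hm : perm (Hx a) ∈ M := Submodule.subset_span ⟨_, hHx a, rfl⟩
      exact M.sub_mem (M.add_mem (nsmul_mem ih _) (nsmul_mem hm _)) (hmul _ hm _ ih)
  have h0 : (∏ x : G, ((fun _ : G => (nx x : ℂ)) - perm (Hx x))) = 0 := by
    funext g
    rw [Finset.prod_apply, Pi.zero_apply]
    exact Finset.prod_eq_zero (mem_univ g) (by simp [perm, hnx g])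
  have hM := hprod univ
  rw [h0, sub_zero] at hM
  obtain ⟨l, hl, hl'⟩ := (Finsupp.mem_span_image_iff_linearCombination ℤ).1 hM
  refine ⟨((∏ x : G, nx x : ℕ) : ℤ), fun H => l H, ?_, fun H hH => ?_, ?_⟩
  · rw [Int.natCast_dvd_natCast]
    intro h
    obtain ⟨x, -, hx⟩ := (hp.prime.dvd_finsetProd_iff _).1 h
    exact hnd x hx
  · exact hl (Finsupp.mem_support_iff.2 hH)
  · funext g
    have := congrFun hl' g
    rw [Finsupp.linearCombination_apply, Finsupp.sum_fintype _ _ (by simp), Finset.sum_apply,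
      Finset.prod_apply] at this
    push_cast
    rw [← this, Finset.sum_apply]
    refine Finset.sum_congr rfl fun H _ => ?_
    simp [perm]

end CfsgLib.Char.Exceptional
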