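import Mathlib
import Cfsg.Agent.Lib.Char.Exceptional.TIFNChar

/-! Values of exceptional characters on the kernel. -/

set_option autoImplicit false

open scoped ComplexConjugate
open Finset

namespace CfsgLib.Char.Exceptional

open CfsgLib.Char

variable {G : Type*} [Group G] [Fintype G] {K : Subgroup G}


theorem tifn_const [Fintype ↥(Subgroup.normalizer (K : Set G))] {Δ : ↥(Subgroup.normalizer (K : Set G)) → ℂ} (hΔ : Cfsg.IsClassFunction ↥(Subgroup.normalizer (K : Set G)) Δ)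
    (hperp : ∀ ξ ∈ tifnSet K, ∀ η ∈ tifnSet K, ∀ i j : ℕ, ξ 1 = i → η 1 = j →
      Cfsg.classInner Δ ((j : ℂ) • ξ - (i : ℂ) • η) = 0)
    {ξ₀ : ↥(Subgroup.normalizer (K : Set G)) → ℂ} (hξ₀ : ξ₀ ∈ tifnSet K) :
    ∃ c : ℂ, (∀ k : ↥(Subgroup.normalizer (K : Set G)), (k : G) ∈ K → k ≠ 1 → Δ k = c) ∧
      (Cfsg.IsGeneralizedCharacter ↥(Subgroup.normalizer (K : Set G)) Δ → ∃ q : ℚ, c = (q : ℂ)) := by
  classical
  have := Fintype.ofFinite (Cfsg.IrrCharacter ↥(Subgroup.normalizer (K : Set G)))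
  obtain ⟨i₀, hi₀, hi₀'⟩ := IsIrr.exists_degree hξ₀.1
  obtain ⟨t, ht⟩ : ∃ t, t = Cfsg.classInner Δ ξ₀ / (i₀ : ℂ) := ⟨_, rfl⟩
  have hi0' : (i₀ : ℂ) ≠ 0 := Nat.cast_ne_zero.2 hi₀.ne'
  have hcoef : ∀ θ ∈ tifnSet K, Cfsg.classInner Δ θ = t * θ 1 := by
    intro θ hθ
    obtain ⟨j, -, hj⟩ := IsIrr.exists_degree hθ.1
    have h := hperp θ hθ ξ₀ hξ₀ j i₀ hj hi₀'
    rw [classInner_sub_right, classInner_smul_right, classInner_smul_right, map_natCast, map_natCast] at h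
    rw [ht, hj, div_mul_eq_mul_div, eq_div_iff hi0']
    linear_combination h
  let bad : Cfsg.IrrCharacter ↥(Subgroup.normalizer (K : Set G)) → Prop := fun θ => (θ : ↥(Subgroup.normalizer (K : Set G)) → ℂ) ∈ tifnSet K
  let F : Cfsg.IrrCharacter ↥(Subgroup.normalizer (K : Set G)) → ℂ := fun θ =>
    (Cfsg.classInner Δ (θ : ↥(Subgroup.normalizer (K : Set G)) → ℂ) - t * (θ : ↥(Subgroup.normalizer (K : Set G)) → ℂ) 1) * (θ : ↥(Subgroup.normalizer (K : Set G)) → ℂ) 1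
  refine ⟨∑ θ ∈ univ.filter (fun θ => ¬ bad θ), F θ, fun k hk hk1 => ?_, fun hgen => ?_⟩
  · have hsum : (∑ θ : Cfsg.IrrCharacter ↥(Subgroup.normalizer (K : Set G)), t * ((θ : ↥(Subgroup.normalizer (K : Set G)) → ℂ) 1 * (θ : ↥(Subgroup.normalizer (K : Set G)) → ℂ) k)) = 0 := by
      rw [← Finset.mul_sum, sum_degree_mul_apply_of_ne_one hk1, mul_zero]
    rw [classFunction_apply_eq_sum hΔ k, ← sub_zero (∑ θ : Cfsg.IrrCharacter ↥(Subgroup.normalizer (K : Set G)), _), ← hsum,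
      ← Finset.sum_sub_distrib,
      ← Finset.sum_filter_add_sum_filter_not univ bad,
      Finset.sum_eq_zero (fun θ hθ => by
        rw [hcoef _ (Finset.mem_filter.1 hθ).2]; ring), zero_add]
    refine Finset.sum_congr rfl fun θ hθ => ?_
    have hk' : (θ : ↥(Subgroup.normalizer (K : Set G)) → ℂ) k = (θ : ↥(Subgroup.normalizer (K : Set G)) → ℂ) 1 := by
      by_contra h
      exact (Finset.mem_filter.1 hθ).2 ⟨θ.2, k, hk, h⟩
    simp only [F, hk']
    ring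
  · have hF : ∀ θ, ∃ q : ℚ, F θ = (q : ℂ) := by
      intro θ
      obtain ⟨a, ha⟩ := IsGen.classInner_eq_int hgen (IsGen.of_irr θ.2)
      obtain ⟨b, hb⟩ := IsGen.classInner_eq_int hgen (IsGen.of_irr hξ₀.1)
      obtain ⟨d, -, hd⟩ := IsIrr.exists_degree θ.2
      refine ⟨((a : ℚ) - (b : ℚ) / (i₀ : ℚ) * (d : ℚ)) * (d : ℚ), ?_⟩
      simp only [F, ht, ha, hb, hd]
      push_cast; ring
    choose q hq using hF
    refine ⟨∑ θ ∈ univ.filter (fun θ => ¬ bad θ), q θ, ?_⟩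
    rw [Rat.cast_sum]
    exact Finset.sum_congr rfl fun θ _ => hq θ

theorem tifn_restrict_inner [Fintype ↥(Subgroup.normalizer (K : Set G))] {β : G → ℂ} (hβ : Cfsg.IsClassFunction G β) (f : ↥(Subgroup.normalizer (K : Set G)) → ℂ) :
    Cfsg.classInner (fun x : ↥(Subgroup.normalizer (K : Set G)) => β x) f =
      conj (Cfsg.classInner (Cfsg.indFun (Subgroup.normalizer (K : Set G)) f) β) := by
  rw [frobenius_reciprocity _ f hβ, classInner_conj_symm]

theorem tifn_combo_mem {ξ η : ↥(Subgroup.normalizer (K : Set G)) → ℂ} (hξ : ξ ∈ tifnSet K) (hη : η ∈ tifnSet K) {i j : ℕ}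
    (hi : ξ 1 = i) (hj : η 1 = j) :
    (j : ℂ) • ξ - (i : ℂ) • η ∈ Cfsg.zspanOn (tifnSet K) ({1}ᶜ : Set ↥(Subgroup.normalizer (K : Set G))) :=
  combo_mem_zspanOn_one hξ hη hi hj

theorem tifn_star_combo [Fintype ↥(Subgroup.normalizer (K : Set G))] {star : (↥(Subgroup.normalizer (K : Set G)) → ℂ) → (G → ℂ)}
    (hstar : Cfsg.IsLinearIsometryOn (Cfsg.zspan (tifnSet K)) star) {ξ η : ↥(Subgroup.normalizer (K : Set G)) → ℂ} (hξ : ξ ∈ tifnSet K)
    (hη : η ∈ tifnSet K) (i j : ℕ) :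
    star ((j : ℂ) • ξ - (i : ℂ) • η) = (j : ℂ) • star ξ - (i : ℂ) • star η := by
  rw [iso_map_sub hstar (natCast_smul_mem_zspan _ (mem_zspan_self hξ))
    (natCast_smul_mem_zspan _ (mem_zspan_self hη)), iso_map_natCast_smul hstar (mem_zspan_self hξ),
    iso_map_natCast_smul hstar (mem_zspan_self hη)]

/-- The difference between an exceptional character and its original is a rational constant on `K#`. -/
theorem tifn_diff_const [Fintype ↥(Subgroup.normalizer (K : Set G))] {star : (↥(Subgroup.normalizer (K : Set G)) → ℂ) → (G → ℂ)}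
    (hstar : Cfsg.IsLinearIsometryOn (Cfsg.zspan (tifnSet K)) star)
    (hext : ∀ α ∈ Cfsg.zspanOn (tifnSet K) ({1}ᶜ : Set ↥(Subgroup.normalizer (K : Set G))),
      star α = Cfsg.indFun (Subgroup.normalizer (K : Set G)) α)
    {χ : ↥(Subgroup.normalizer (K : Set G)) → ℂ} (hχ : χ ∈ tifnSet K) :
    ∃ q : ℚ, ∀ k : ↥(Subgroup.normalizer (K : Set G)), (k : G) ∈ K → k ≠ 1 → star χ k - χ k = (q : ℂ) := by
  have hg := hstar.2.2.2 χ (mem_zspan_self hχ)
  have hgen : Cfsg.IsGeneralizedCharacter ↥(Subgroup.normalizer (K : Set G)) ((fun x : ↥(Subgroup.normalizer (K : Set G)) => star χ x) - χ) :=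
    IsGen.sub (IsGen.restrict _ hg) (IsGen.of_irr hχ.1)
  obtain ⟨c, hc, hq⟩ := tifn_const (Δ := (fun x : ↥(Subgroup.normalizer (K : Set G)) => star χ x) - χ) (IsGen.isClassFunction hgen) (by
    intro ξ hξ η hη i j hi hj
    have hm := tifn_combo_mem hξ hη hi hj
    rw [classInner_sub_left, tifn_restrict_inner (IsGen.isClassFunction hg), ← hext _ hm,
      hstar.2.2.1 _ hm.1 _ (mem_zspan_self hχ), classInner_conj_symm, sub_self]) hχ
  obtain ⟨q, rfl⟩ := hq hgen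
  exact ⟨q, hc⟩

theorem tifn_indFun_mem [Fintype ↥(Subgroup.normalizer (K : Set G))] (hC : ∀ k ∈ K, k ≠ 1 → Subgroup.centralizer ({k} : Set G) ≤ K)
    {φ : K.subgroupOf (Subgroup.normalizer (K : Set G)) → ℂ}
    (hφ : Cfsg.IsIrrCharacter _ φ) (hne : φ ≠ fun _ => 1) :
    Cfsg.indFun (K.subgroupOf (Subgroup.normalizer (K : Set G))) φ ∈ tifnSet K := by
  classical
  have := Fintype.ofFinite (K.subgroupOf (Subgroup.normalizer (K : Set G)))
  have hirr := frob_isIrr_indFun _ (tifn_cent K hC) hφ hne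
  refine ⟨hirr, ?_⟩
  by_contra h
  push Not at h
  have h1 := classInner_self_of_irr hirr
  rw [frobenius_reciprocity _ φ (IsIrr.isClassFunction hirr),
    show (fun x : K.subgroupOf (Subgroup.normalizer (K : Set G)) =>
        Cfsg.indFun (K.subgroupOf (Subgroup.normalizer (K : Set G))) φ x) =
      (Cfsg.indFun (K.subgroupOf (Subgroup.normalizer (K : Set G))) φ 1) • (fun _ => (1 : ℂ)) from
      funext fun x => by simpa using h x (Subgroup.mem_subgroupOf.1 x.2),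
    classInner_smul_right, classInner_eq_zero_of_irr hφ isIrrCharacter_one hne, mul_zero] at h1
  exact one_ne_zero h1.symm

/-- An exceptional character of the normaliser is not constant on `K#` unless it is the only one. -/
theorem tifn_not_const (hC : ∀ k ∈ K, k ≠ 1 → Subgroup.centralizer ({k} : Set G) ≤ K) [Fintype ↥(Subgroup.normalizer (K : Set G))]
    {χ ξ : ↥(Subgroup.normalizer (K : Set G)) → ℂ} (hχ : χ ∈ tifnSet K) (hξ : ξ ∈ tifnSet K) (hne : χ ≠ ξ) (c : ℂ) :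
    ∃ k : ↥(Subgroup.normalizer (K : Set G)), (k : G) ∈ K ∧ k ≠ 1 ∧ χ k ≠ c := by
  classical
  by_contra h
  push Not at h
  have := Fintype.ofFinite (K.subgroupOf (Subgroup.normalizer (K : Set G)))
  obtain ⟨hξirr, k', hk', hξne⟩ := id hξ
  obtain ⟨φ, hφ, hφ1, rfl⟩ := frob_eq_indFun (K.subgroupOf (Subgroup.normalizer (K : Set G))) (tifn_cent K hC) hξirr
    ⟨k', Subgroup.mem_subgroupOf.2 hk', hξne⟩
  have h0 := classInner_eq_zero_of_irr hξirr hχ.1 (Ne.symm hne)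
  rw [frobenius_reciprocity _ φ (IsIrr.isClassFunction hχ.1)] at h0
  have h1 := classInner_eq_zero_of_irr hφ isIrrCharacter_one hφ1
  simp only [Cfsg.classInner] at h0 h1
  have hN : (Nat.card (K.subgroupOf (Subgroup.normalizer (K : Set G))) : ℂ) ≠ 0 :=
    Nat.cast_ne_zero.2 Nat.card_pos.ne'
  have h0' := (mul_eq_zero.1 h0).resolve_left (inv_ne_zero hN)
  have h1' := (mul_eq_zero.1 h1).resolve_left (inv_ne_zero hN)
  simp only [map_one, mul_one] at h1'
  have hsplit : ∀ x : K.subgroupOf (Subgroup.normalizer (K : Set G)), φ x * conj (χ x) =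
      φ x * conj c + if x = 1 then φ 1 * (conj (χ 1) - conj c) else 0 := by
    intro x
    by_cases hx : x = 1
    · subst hx; rw [if_pos rfl, OneMemClass.coe_one]; ring
    · rw [if_neg hx, add_zero, h x (Subgroup.mem_subgroupOf.1 x.2) (fun e => hx (Subtype.ext e))]
  rw [Finset.sum_congr rfl (fun x _ => hsplit x), Finset.sum_add_distrib, ← Finset.sum_mul, h1', zero_mul, zero_add,
    Finset.sum_ite_eq', if_pos (Finset.mem_univ _), ← map_sub, mul_eq_zero, map_eq_zero, sub_eq_zero] at h0'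
  have hc : χ 1 = c := h0'.resolve_left (IsIrr.apply_one_ne_zero hφ)
  obtain ⟨-, k, hk, hkne⟩ := hχ
  by_cases hk1 : k = 1
  · exact hkne (by rw [hk1])
  · exact hkne (by rw [h k hk hk1, hc])

theorem tifn_iff [Fintype ↥(Subgroup.normalizer (K : Set G))] (hC : ∀ k ∈ K, k ≠ 1 → Subgroup.centralizer ({k} : Set G) ≤ K)
    (htwo : ∃ χ ∈ tifnSet K, ∃ ξ ∈ tifnSet K, χ ≠ ξ) {star : (↥(Subgroup.normalizer (K : Set G)) → ℂ) → (G → ℂ)}
    (hstar : Cfsg.IsLinearIsometryOn (Cfsg.zspan (tifnSet K)) star)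
    (hext : ∀ α ∈ Cfsg.zspanOn (tifnSet K) ({1}ᶜ : Set ↥(Subgroup.normalizer (K : Set G))),
      star α = Cfsg.indFun (Subgroup.normalizer (K : Set G)) α)
    {ψ : G → ℂ} (hψ : Cfsg.IsIrrCharacter G ψ) :
    (∃ χ ∈ tifnSet K, ψ = star χ ∨ ψ = -star χ) ↔ ∃ a ∈ K, ∃ b ∈ K, a ≠ 1 ∧ b ≠ 1 ∧ ψ a ≠ ψ b := by
  have hKN : K ≤ Subgroup.normalizer (K : Set G) := Subgroup.le_normalizer
  constructor
  · rintro ⟨χ, hχ, hψ'⟩
    obtain ⟨q, hq⟩ := tifn_diff_const hstar hext hχ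
    obtain ⟨χ₁, h₁, χ₂, h₂, h12⟩ := htwo
    obtain ⟨ξ, hξ, hne⟩ : ∃ ξ ∈ tifnSet K, χ ≠ ξ := by
      by_cases e : χ = χ₁
      · exact ⟨χ₂, h₂, fun e' => h12 (e.symm.trans e')⟩
      · exact ⟨χ₁, h₁, e⟩
    obtain ⟨-, k₀, hk₀, hk₀ne⟩ := id hχ
    have hk₀1 : k₀ ≠ 1 := fun e => hk₀ne (by rw [e])
    obtain ⟨k, hk, hk1, hkne⟩ := tifn_not_const hC hχ hξ hne (χ k₀)
    refine ⟨(k : G), hk, (k₀ : G), hk₀, fun e => hk1 (Subtype.ext e), fun e => hk₀1 (Subtype.ext e), fun e => hkne ?_⟩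
    have h1 := hq k hk hk1
    have h2 := hq k₀ hk₀ hk₀1
    rcases hψ' with rfl | rfl
    · linear_combination h2 - h1 + e
    · simp only [Pi.neg_apply, neg_inj] at e
      linear_combination h2 - h1 + e
  · rintro ⟨a, ha, b, hb, ha1, hb1, hne⟩
    by_contra hno
    push Not at hno
    have hz : ∀ ξ ∈ tifnSet K, Cfsg.classInner (star ξ) ψ = 0 := by
      intro ξ hξ
      obtain ⟨χ', ε, hε, hχ', he⟩ := IsGen.norm_one (hstar.2.2.2 ξ (mem_zspan_self hξ))
        ((hstar.2.2.1 ξ (mem_zspan_self hξ) ξ (mem_zspan_self hξ)).trans (classInner_self_of_irr hξ.1))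
      have hne' : χ' ≠ ψ := fun e => by
        subst e
        rcases hε with rfl | rfl
        · exact (hno ξ hξ).1 (by simpa using he.symm)
        · exact (hno ξ hξ).2 (by rw [he]; simp)
      rw [he, classInner_smul_left, classInner_eq_zero_of_irr hχ' hψ hne', mul_zero]
    obtain ⟨χ₁, h₁, -⟩ := htwo
    obtain ⟨c, hc, -⟩ := tifn_const (Δ := fun x : ↥(Subgroup.normalizer (K : Set G)) => ψ x)
      (IsGen.isClassFunction (IsGen.restrict _ (IsGen.of_irr hψ))) (by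
      intro ξ hξ η hη i j hi hj
      rw [tifn_restrict_inner (IsIrr.isClassFunction hψ), ← hext _ (tifn_combo_mem hξ hη hi hj),
        tifn_star_combo hstar hξ hη, classInner_sub_left, classInner_smul_left, classInner_smul_left,
        hz ξ hξ, hz η hη]
      simp) h₁
    exact hne ((hc ⟨a, hKN ha⟩ ha (fun e => ha1 (congrArg Subtype.val e))).trans
      (hc ⟨b, hKN hb⟩ hb (fun e => hb1 (congrArg Subtype.val e))).symm)

theorem tifn_restriction_value [Fintype ↥(Subgroup.normalizer (K : Set G))]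
    (hTI : ∀ g : G, g ∉ Subgroup.normalizer (K : Set G) → ∀ k ∈ K, g * k * g⁻¹ ∈ K → k = 1)
    (hC : ∀ k ∈ K, k ≠ 1 → Subgroup.centralizer ({k} : Set G) ≤ K)
    (hnon : (tifnSet K).Nonempty) {star : (↥(Subgroup.normalizer (K : Set G)) → ℂ) → (G → ℂ)}
    (hstar : Cfsg.IsLinearIsometryOn (Cfsg.zspan (tifnSet K)) star)
    (hext : ∀ α ∈ Cfsg.zspanOn (tifnSet K) ({1}ᶜ : Set ↥(Subgroup.normalizer (K : Set G))),
      star α = Cfsg.indFun (Subgroup.normalizer (K : Set G)) α) :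
    ∃ m : ℤ, ∀ χ ∈ tifnSet K, ∀ k : ↥(Subgroup.normalizer (K : Set G)), (k : G) ∈ K → k ≠ 1 →
      star χ k - χ k = (m : ℂ) * χ 1 / ((K.subgroupOf (Subgroup.normalizer (K : Set G))).index : ℂ) := by
  classical
  obtain ⟨χ₀, h₀⟩ := hnon
  obtain ⟨-, k₀, hk₀, hk₀ne⟩ := id h₀
  have hk₀1 : k₀ ≠ 1 := fun e => hk₀ne (by rw [e])
  set e := (K.subgroupOf (Subgroup.normalizer (K : Set G))).index with he
  have he0 : (e : ℂ) ≠ 0 := Nat.cast_ne_zero.2 Subgroup.index_ne_zero_of_finite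
  obtain ⟨q₀, hq₀⟩ := tifn_diff_const hstar hext h₀
  obtain ⟨d₀, hd₀, hd₀'⟩ := IsIrr.exists_degree h₀.1
  obtain ⟨m, hm⟩ : ∃ m : ℚ, m = q₀ * (e : ℚ) / (d₀ : ℚ) := ⟨_, rfl⟩
  have hval : ∀ χ ∈ tifnSet K, ∀ k : ↥(Subgroup.normalizer (K : Set G)), (k : G) ∈ K → k ≠ 1 → star χ k - χ k = (m : ℂ) * χ 1 / (e : ℂ) := by
    intro χ hχ k hk hk1
    obtain ⟨d, -, hd⟩ := IsIrr.exists_degree hχ.1
    have hmem := tifn_combo_mem hχ h₀ hd hd₀'
    have h := hext _ hmem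
    rw [tifn_star_combo hstar hχ h₀] at h
    have hv := congrFun h (k : G)
    rw [ti_indFun_eq (tifn_ti_set hTI)
      (IsGen.isClassFunction (zspan_isClassFunction (fun x hx => IsGen.of_irr hx.1) hmem.1))
      (tifn_support hC hmem) ⟨hk, fun e' => hk1 (Subtype.ext e')⟩] at hv
    simp only [Pi.sub_apply, Pi.smul_apply, smul_eq_mul] at hv
    have h2 := hq₀ k hk hk1
    have hd₀0 : (d₀ : ℂ) ≠ 0 := Nat.cast_ne_zero.2 hd₀.ne'
    rw [hm, hd]
    push_cast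
    field_simp
    first
      | linear_combination hv + (d : ℂ) * h2
      | linear_combination (e : ℂ) * hv + (e : ℂ) * (d : ℂ) * h2
      | linear_combination -hv - (d : ℂ) * h2
  have hint : IsIntegral ℤ (m : ℂ) := by
    set N' := K.subgroupOf (Subgroup.normalizer (K : Set G)) with hN'
    have := Fintype.ofFinite (Cfsg.IrrCharacter N')
    have hφint : ∀ φ : Cfsg.IrrCharacter N', (φ : N' → ℂ) ≠ (fun _ => 1) →
        IsIntegral ℤ ((m : ℂ) * (φ : N' → ℂ) 1) := by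
      intro φ hφ
      have hmem := tifn_indFun_mem hC φ.2 hφ
      have h := hval _ hmem k₀ hk₀ hk₀1
      rw [indFun_apply_one N', ← he, mul_left_comm, mul_div_cancel_left₀ _ he0] at h
      rw [← h]
      exact (IsGen.isIntegral (hstar.2.2.2 _ (mem_zspan_self hmem)) _).sub
        (IsGen.isIntegral (IsGen.of_irr hmem.1) _)
    obtain ⟨φ₀, hφ₀, hφ₀1, -⟩ := frob_eq_indFun N' (tifn_cent K hC) h₀.1
      ⟨k₀, Subgroup.mem_subgroupOf.2 hk₀, hk₀ne⟩
    have hmN : IsIntegral ℤ ((m : ℂ) * (Nat.card N' : ℂ)) := by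
      obtain ⟨c, hc⟩ := CfsgLib.CharDegree.charDegree_dvd_card (⟨φ₀, hφ₀⟩ : Cfsg.IrrCharacter N')
      rw [hc, Nat.cast_mul, CfsgLib.CharDegree.cast_irrDegree, ← mul_assoc]
      exact (hφint ⟨φ₀, hφ₀⟩ hφ₀1).mul (by exact_mod_cast isIntegral_algebraMap (R := ℤ) (x := (c : ℤ)))
    have hsq := sum_sq_degree (G := N')
    rw [← Finset.sum_erase_add _ _ (Finset.mem_univ (trivChar N'))] at hsq
    have e1 : (m : ℂ) = (m : ℂ) * (Nat.card N' : ℂ) -
        ∑ φ ∈ univ.erase (trivChar N'), ((m : ℂ) * (φ : N' → ℂ) 1) * (φ : N' → ℂ) 1 := by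
      rw [← hsq, mul_add, trivChar_apply, Finset.mul_sum]
      simp only [one_pow, mul_one, pow_two, ← mul_assoc, add_sub_cancel_left]
    rw [e1]
    refine hmN.sub (IsIntegral.sum _ fun φ hφ => (hφint φ ?_).mul (IsGen.isIntegral (IsGen.of_irr φ.2) _))
    exact fun e => (Finset.mem_erase.1 hφ).1 (Subtype.ext e)
  have hmq : IsIntegral ℤ m := (isIntegral_algebraMap_iff (algebraMap ℚ ℂ).injective).mp (by simpa using hint)
  obtain ⟨M, hM⟩ := IsIntegrallyClosed.isIntegral_iff.mp hmq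
  refine ⟨M, fun χ hχ k hk hk1 => ?_⟩
  rw [hval χ hχ k hk hk1, ← hM]
  simp

end CfsgLib.Char.Exceptional
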